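import Mathlib

set_option autoImplicit false
universe u

namespace Groth.Agent.H2

open TensorProduct

section ArtinRees

variable {A : Type*} [CommRing A] [IsNoetherianRing A] (J : Ideal A)
  {M₁ M₂ M₃ : Type*} [AddCommGroup M₁] [Module A M₁] [AddCommGroup M₂] [Module A M₂]
  [AddCommGroup M₃] [Module A M₃] [Module.Finite A M₂]

/-- Artin–Rees step: if `J` kills the homology of `M₁ → M₂ → M₃`, then cycles deep in the
`J`-adic filtration are boundaries of elements in `J^m M₁`. -/
lemma H2_artinRees_step (d₁ : M₁ →ₗ[A] M₂) (d₂ : M₂ →ₗ[A] M₃)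
    (hJ : ∀ x ∈ J, ∀ z ∈ LinearMap.ker d₂, x • z ∈ LinearMap.range d₁) :
    ∃ c : ℕ, ∀ m : ℕ, ∀ c' : ℕ, c ≤ c' →
      (J ^ (m + c' + 1) • ⊤ : Submodule A M₂) ⊓ LinearMap.ker d₂ ≤
        Submodule.map d₁ (J ^ m • ⊤) := by
  obtain ⟨k, hk⟩ := Ideal.exists_pow_inf_eq_pow_smul J (LinearMap.ker d₂)
  refine ⟨k, fun m c' hc' => ?_⟩
  have hn : m + c' + 1 ≥ k := by omega
  rw [hk _ hn]
  have h1 : J ^ (m + c' + 1 - k) ≤ J ^ (m + 1) := Ideal.pow_le_pow_right (by omega)
  calc J ^ (m + c' + 1 - k) • (J ^ k • ⊤ ⊓ LinearMap.ker d₂)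
      ≤ J ^ (m + 1) • LinearMap.ker d₂ := Submodule.smul_mono h1 inf_le_right
    _ = J ^ m • (J • LinearMap.ker d₂) := by rw [pow_succ, Submodule.mul_smul]
    _ ≤ J ^ m • LinearMap.range d₁ :=
        Submodule.smul_mono le_rfl (Submodule.smul_le.mpr hJ)
    _ = Submodule.map d₁ (J ^ m • ⊤) := by
        rw [Submodule.map_smul'', Submodule.map_top]

end ArtinRees

section Mu

variable {A : Type*} [CommRing A] (I : Ideal A) (M : Type*) [AddCommGroup M] [Module A M]

/-- The multiplication map `I ⊗ M → M`. -/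
noncomputable def H2mu : (I ⊗[A] M) →ₗ[A] M :=
  (TensorProduct.lid A M).toLinearMap ∘ₗ (LinearMap.rTensor M I.subtype)

@[simp]
lemma H2mu_tmul (x : I) (y : M) : H2mu I M (x ⊗ₜ y) = (x : A) • y := by
  simp [H2mu]

lemma H2mu_injective [Module.Flat A M] : Function.Injective (H2mu I M) := by
  unfold H2mu
  rw [LinearMap.coe_comp]
  exact (TensorProduct.lid A M).injective.comp
    (Module.Flat.rTensor_preserves_injective_linearMap _ Subtype.val_injective)

lemma H2mu_mem (t : I ⊗[A] M) : H2mu I M t ∈ (I • ⊤ : Submodule A M) := by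
  induction t using TensorProduct.induction_on with
  | zero => simp
  | tmul x y =>
    rw [H2mu_tmul]
    exact Submodule.smul_mem_smul x.2 Submodule.mem_top
  | add a b ha hb =>
    rw [map_add]
    exact Submodule.add_mem _ ha hb

lemma H2mu_surj (w : M) (hw : w ∈ (I • ⊤ : Submodule A M)) : ∃ t : I ⊗[A] M, H2mu I M t = w := by
  refine Submodule.smul_induction_on (p := fun w => ∃ t : I ⊗[A] M, H2mu I M t = w) hw ?_ ?_
  · intro r hr n _
    exact ⟨(⟨r, hr⟩ : I) ⊗ₜ n, by simp⟩
  · rintro x y ⟨tx, htx⟩ ⟨ty, hty⟩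
    exact ⟨tx + ty, by rw [map_add, htx, hty]⟩

variable {M}

lemma H2mu_naturality {N : Type*} [AddCommGroup N] [Module A N] (f : M →ₗ[A] N) (t : I ⊗[A] M) :
    H2mu I N (LinearMap.lTensor I f t) = f (H2mu I M t) := by
  induction t using TensorProduct.induction_on with
  | zero => simp
  | tmul x y => simp
  | add a b ha hb => rw [map_add, map_add, map_add, map_add, ha, hb]

variable (M)

lemma H2mu_inclusion {I I' : Ideal A} (h : I ≤ I') (t : I ⊗[A] M) :
    H2mu I' M (LinearMap.rTensor M (Submodule.inclusion h) t) = H2mu I M t := by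
  induction t using TensorProduct.induction_on with
  | zero => simp
  | tmul x y => simp
  | add a b ha hb => rw [map_add, map_add, map_add, ha, hb]

end Mu

end Groth.Agent.H2
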