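import Mathlib

set_option autoImplicit false
universe w v u

namespace Groth.Agent.H2

open CategoryTheory Limits Pretriangulated Triangulated DerivedCategory

variable {C : Type u} [Category.{v} C] [Abelian C] [HasDerivedCategory.{w} C]

/-- A morphism between objects of the heart (shifted to degree `b`) that is zero on `H^b`
is zero. -/
lemma H2_heart_hom_eq_zero (b : ℤ) (X Z : DerivedCategory C)
    [X.IsGE b] [X.IsLE b] [Z.IsGE b] [Z.IsLE b] (φ : X ⟶ Z)
    (h : (homologyFunctor C b).map φ = 0) : φ = 0 := by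
  obtain ⟨A, ⟨eX⟩⟩ := exists_iso_singleFunctor_obj_of_isGE_of_isLE X b
  obtain ⟨B, ⟨eZ⟩⟩ := exists_iso_singleFunctor_obj_of_isGE_of_isLE Z b
  obtain ⟨g, hg⟩ := (singleFunctor C b).map_surjective (eX.inv ≫ φ ≫ eZ.hom)
  have hg0 : g = 0 := by
    have e1 := NatIso.naturality_1 (singleFunctorCompHomologyFunctorIso C b) g
    dsimp at e1
    rw [← e1, hg]
    simp only [Functor.map_comp, h, Limits.zero_comp, Limits.comp_zero]
  have : eX.inv ≫ φ ≫ eZ.hom = 0 := by rw [← hg, hg0, Functor.map_zero]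
  have h2 : φ = eX.hom ≫ (eX.inv ≫ φ ≫ eZ.hom) ≫ eZ.inv := by simp
  rw [h2, this, Limits.zero_comp, Limits.comp_zero]

/-- `H^b` of `X ⟶ τ≥b X` is an epimorphism. -/
lemma H2_epi_homology_truncGEπ (b : ℤ) (X : DerivedCategory C) :
    Epi ((homologyFunctor C b).map ((TStructure.t.truncGEπ b).app X)) := by
  have hT := TStructure.t.triangleLTGE_distinguished b X
  have := (HomologySequence.epi_homologyMap_mor₂_iff _ hT b (b + 1) rfl).2 (by
    apply IsZero.eq_of_tgt
    have : ((TStructure.t.triangleLTGE b).obj X).obj₁.IsLE (b - 1) := by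
      infer_instance
    exact isZero_of_isLE _ (b - 1) (b + 1) (by lia))
  exact this

/-- `H^b` of `τ<(b+1) Z ⟶ Z` is a monomorphism. -/
lemma H2_mono_homology_truncLTι (b : ℤ) (Z : DerivedCategory C) :
    Mono ((homologyFunctor C b).map ((TStructure.t.truncLTι (b + 1)).app Z)) := by
  have hT := TStructure.t.triangleLTGE_distinguished (b + 1) Z
  have := (HomologySequence.mono_homologyMap_mor₁_iff _ hT (b - 1) b (by lia)).2 (by
    apply IsZero.eq_of_src
    have : ((TStructure.t.triangleLTGE (b + 1)).obj Z).obj₃.IsGE (b + 1) := by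
      infer_instance
    exact isZero_of_isGE _ (b + 1) (b - 1) (by lia))
  exact this

/-- Key lemma: `X ≤ b`, `Z ≥ b`, `H^b φ = 0` implies `φ = 0`. -/
lemma H2_hom_eq_zero_of_isLE_of_isGE_of_homology (b : ℤ) (X Z : DerivedCategory C)
    [X.IsLE b] [Z.IsGE b] (φ : X ⟶ Z)
    (h : (homologyFunctor C b).map φ = 0) : φ = 0 := by
  let t : TStructure (DerivedCategory C) := TStructure.t
  let φ₁ : (t.truncGE b).obj X ⟶ Z := t.descTruncGE φ b
  have h₁ : (t.truncGEπ b).app X ≫ φ₁ = φ := t.π_descTruncGE φ b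
  let φ₂ : (t.truncGE b).obj X ⟶ (t.truncLT (b + 1)).obj Z := t.liftTruncLT φ₁ b (b + 1) rfl
  have h₂ : φ₂ ≫ (t.truncLTι (b + 1)).app Z = φ₁ := t.liftTruncLT_ι φ₁ b (b + 1) rfl
  have hepi := H2_epi_homology_truncGEπ b X
  have hmono := H2_mono_homology_truncLTι b Z
  have h3 : (homologyFunctor C b).map φ₂ = 0 := by
    rw [← cancel_epi ((homologyFunctor C b).map ((t.truncGEπ b).app X)),
      ← cancel_mono ((homologyFunctor C b).map ((t.truncLTι (b + 1)).app Z))]
    rw [Limits.comp_zero, Limits.zero_comp, Category.assoc, ← Functor.map_comp,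
      ← Functor.map_comp, h₂, h₁, h]
  have : φ₂ = 0 := H2_heart_hom_eq_zero b _ _ φ₂ h3
  rw [← h₁, ← h₂, this, Limits.zero_comp, Limits.comp_zero]

end Groth.Agent.H2

namespace Groth.Agent.H2

open CategoryTheory Limits Pretriangulated Triangulated DerivedCategory

variable {C : Type u} [Category.{v} C] [Abelian C] [HasDerivedCategory.{w} C]

/-- `X ≤ b`, `H^b f = 0` implies `f` factors through `τ<b Y`. -/
lemma H2_factors_truncLT_of_homology_zero (b : ℤ) (X Y : DerivedCategory C)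
    [X.IsLE b] (f : X ⟶ Y) (h : (homologyFunctor C b).map f = 0) :
    ∃ g : X ⟶ (TStructure.t.truncLT b).obj Y, f = g ≫ (TStructure.t.truncLTι b).app Y := by
  let t : TStructure (DerivedCategory C) := TStructure.t
  have h0 : f ≫ (t.truncGEπ b).app Y = 0 := by
    apply H2_hom_eq_zero_of_isLE_of_isGE_of_homology b
    rw [Functor.map_comp, h, Limits.zero_comp]
  exact Triangle.coyoneda_exact₂ _ (t.triangleLTGE_distinguished b Y) f h0

lemma H2_amplitude_chain_factor
    (a : ℤ) (n : ℕ) (K : ℕ ⥤ DerivedCategory C)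
    (hLE : ∀ i : ℕ, i ≤ n + 1 → (K.obj i).IsLE (a + n))
    (hzero : ∀ i : ℕ, i ≤ n → ∀ q : ℤ,
      (DerivedCategory.homologyFunctor C q).map (K.map (homOfLE (Nat.le_succ i))) = 0)
    (j : ℕ) (hj : j ≤ n + 1) :
    ∃ (W : DerivedCategory C) (_ : W.IsLE (a + n - j)) (h : K.obj 0 ⟶ W) (w : W ⟶ K.obj j),
      K.map (homOfLE (Nat.zero_le j)) = h ≫ w := by
  induction j with
  | zero =>
    refine ⟨K.obj 0, ?_, 𝟙 _, 𝟙 _, ?_⟩
    · have := hLE 0 (by lia)
      simpa using this
    · rw [Category.comp_id]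
      exact K.map_id 0
  | succ j ih =>
    obtain ⟨W, hW, h, w, hw⟩ := ih (by lia)
    let t : TStructure (DerivedCategory C) := TStructure.t
    have hz := hzero j (by lia) (a + n - j)
    have hz' : (homologyFunctor C (a + n - j)).map (w ≫ K.map (homOfLE (Nat.le_succ j))) = 0 := by
      rw [Functor.map_comp, hz, Limits.comp_zero]
    obtain ⟨g, hg⟩ := H2_factors_truncLT_of_homology_zero (a + n - j) W _ _ hz'
    refine ⟨(t.truncLT (a + n - j)).obj (K.obj (j + 1)), ?_, h ≫ g,
      (t.truncLTι (a + n - j)).app _, ?_⟩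
    · have e : a + (n : ℤ) - ((j + 1 : ℕ) : ℤ) = (a + n - j) - 1 := by push_cast; ring
      rw [e]
      infer_instance
    · have : homOfLE (Nat.zero_le (j + 1)) = homOfLE (Nat.zero_le j) ≫ homOfLE (Nat.le_succ j) :=
        rfl
      rw [this, K.map_comp, hw, Category.assoc, hg, Category.assoc]

theorem H2_amplitude_chain_zero
    (a : ℤ) (n : ℕ) (K : ℕ ⥤ DerivedCategory C)
    (hGE : ∀ i : ℕ, i ≤ n + 1 → (K.obj i).IsGE a)
    (hLE : ∀ i : ℕ, i ≤ n + 1 → (K.obj i).IsLE (a + n))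
    (hzero : ∀ i : ℕ, i ≤ n → ∀ q : ℤ,
      (DerivedCategory.homologyFunctor C q).map (K.map (homOfLE (Nat.le_succ i))) = 0) :
    K.map (homOfLE (Nat.zero_le (n + 1))) = 0 := by
  obtain ⟨W, hW, h, w, hw⟩ := H2_amplitude_chain_factor a n K hLE hzero (n + 1) le_rfl
  have := hGE (n + 1) le_rfl
  have e : a + (n : ℤ) - ((n + 1 : ℕ) : ℤ) = a - 1 := by push_cast; ring
  rw [e] at hW
  have : w = 0 := TStructure.t.zero_of_isLE_of_isGE w (a - 1) a (by lia) hW this
  rw [hw, this, Limits.comp_zero]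

end Groth.Agent.H2
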