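import Mathlib
import Groth.Agent.Lib.helper2.ARTensor
import Groth.Agent.Lib.helper2.AmpZero

set_option autoImplicit false
universe w u

namespace Groth.Agent.H2

open CategoryTheory Limits MonoidalCategory

section

variable {A : Type u} [CommRing A]

/-- The complex `I ⊗ K`. -/
noncomputable abbrev H2TK (I : Ideal A) (K : CochainComplex (ModuleCat.{u} A) ℤ) :
    CochainComplex (ModuleCat.{u} A) ℤ :=
  (((curriedTensor (ModuleCat.{u} A)).obj (ModuleCat.of A I)).mapHomologicalComplex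
    (ComplexShape.up ℤ)).obj K

/-- The map `I ⊗ K → I' ⊗ K` for `I ≤ I'`. -/
noncomputable abbrev H2TKmap {I I' : Ideal A} (h : I ≤ I')
    (K : CochainComplex (ModuleCat.{u} A) ℤ) : H2TK I K ⟶ H2TK I' K :=
  (NatTrans.mapHomologicalComplex ((curriedTensor (ModuleCat.{u} A)).map
    (ModuleCat.ofHom (Submodule.inclusion h))) (ComplexShape.up ℤ)).app K

lemma H2TK_d_apply (I : Ideal A) (K : CochainComplex (ModuleCat.{u} A) ℤ) (q q' : ℤ)
    (t : TensorProduct A I (K.X q)) :
    ((H2TK I K).d q q').hom t = LinearMap.lTensor I (K.d q q').hom t := rfl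

lemma H2TKmap_f_apply {I I' : Ideal A} (h : I ≤ I') (K : CochainComplex (ModuleCat.{u} A) ℤ)
    (q : ℤ) (t : TensorProduct A I (K.X q)) :
    ((H2TKmap h K).f q).hom t = LinearMap.rTensor (K.X q) (Submodule.inclusion h) t := rfl

lemma H2TKmap_refl (I : Ideal A) (K : CochainComplex (ModuleCat.{u} A) ℤ) :
    H2TKmap (le_refl I) K = 𝟙 _ := by
  have : ModuleCat.ofHom (Submodule.inclusion (le_refl I)) = 𝟙 (ModuleCat.of A I) := rfl
  unfold H2TKmap
  rw [this, CategoryTheory.Functor.map_id, NatTrans.mapHomologicalComplex_id]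
  rfl

lemma H2TKmap_trans {I I' I'' : Ideal A} (h₁ : I ≤ I') (h₂ : I' ≤ I'')
    (K : CochainComplex (ModuleCat.{u} A) ℤ) :
    H2TKmap h₁ K ≫ H2TKmap h₂ K = H2TKmap (h₁.trans h₂) K := by
  have : ModuleCat.ofHom (Submodule.inclusion (h₁.trans h₂)) =
      ModuleCat.ofHom (Submodule.inclusion h₁) ≫ ModuleCat.ofHom (Submodule.inclusion h₂) := rfl
  unfold H2TKmap
  rw [this, Functor.map_comp, NatTrans.mapHomologicalComplex_comp]
  rfl

/-- Criterion for a chain map to induce zero on homology. -/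
lemma H2_homologyMap_eq_zero_of_boundary {K L : CochainComplex (ModuleCat.{u} A) ℤ} (φ : K ⟶ L)
    (q : ℤ)
    (h : ∀ x : K.X q, (K.d q (q + 1)).hom x = 0 →
      ∃ w : L.X (q - 1), (L.d (q - 1) q).hom w = (φ.f q).hom x) :
    HomologicalComplex.homologyMap φ q = 0 := by
  rw [← cancel_epi (K.homologyπ q), HomologicalComplex.homologyπ_naturality, Limits.comp_zero]
  apply ModuleCat.hom_ext
  apply LinearMap.ext
  intro z
  have hx : (K.d q (q + 1)).hom ((K.iCycles q).hom z) = 0 :=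
    ConcreteCategory.congr_hom (K.iCycles_d q (q + 1)) z
  obtain ⟨w, hw⟩ := h _ hx
  have hinj : Function.Injective (L.iCycles q).hom :=
    (ModuleCat.mono_iff_injective _).mp inferInstance
  have h1 : (L.toCycles (q - 1) q).hom w = (HomologicalComplex.cyclesMap φ q).hom z := by
    apply hinj
    have e1 : (L.iCycles q).hom ((L.toCycles (q - 1) q).hom w) = (L.d (q - 1) q).hom w :=
      ConcreteCategory.congr_hom (L.toCycles_i (q - 1) q) w
    have e2 : (L.iCycles q).hom ((HomologicalComplex.cyclesMap φ q).hom z)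
        = (φ.f q).hom ((K.iCycles q).hom z) :=
      ConcreteCategory.congr_hom (HomologicalComplex.cyclesMap_i φ q) z
    rw [e1, e2, hw]
  change (L.homologyπ q).hom ((HomologicalComplex.cyclesMap φ q).hom z) = 0
  rw [← h1]
  exact ConcreteCategory.congr_hom (L.toCycles_comp_homologyπ (q - 1) q) w

/-- If `J` kills the homology then `J • Z ⊆ B`. -/
lemma H2_smul_cycle_mem_range (K : CochainComplex (ModuleCat.{u} A) ℤ) (J : Ideal A) (q : ℤ)
    (hJ : ∀ x ∈ J, ∀ c : ↑(K.homology q), x • c = 0) :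
    ∀ x ∈ J, ∀ z ∈ LinearMap.ker (K.d q (q + 1)).hom,
      x • z ∈ LinearMap.range (K.d (q - 1) q).hom := by
  intro x hx z hz
  have hex1 : (ShortComplex.mk (K.iCycles q) (K.d q (q + 1)) (K.iCycles_d q (q + 1))).Exact :=
    ShortComplex.exact_of_f_is_kernel _ (K.cyclesIsKernel q (q + 1) (by simp))
  obtain ⟨y, hy⟩ := (ShortComplex.moduleCat_exact_iff _).mp hex1 z hz
  have hex2 : (ShortComplex.mk (K.toCycles (q - 1) q) (K.homologyπ q)
      (K.toCycles_comp_homologyπ (q - 1) q)).Exact :=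
    ShortComplex.exact_of_g_is_cokernel _ (K.homologyIsCokernel (q - 1) q (by simp))
  have h0 : (K.homologyπ q).hom (x • y) = 0 := by
    rw [map_smul]
    exact hJ x hx _
  obtain ⟨w, hw⟩ := (ShortComplex.moduleCat_exact_iff _).mp hex2 (x • y) h0
  refine ⟨w, ?_⟩
  have e1 : (K.iCycles q).hom ((K.toCycles (q - 1) q).hom w) = (K.d (q - 1) q).hom w :=
    ConcreteCategory.congr_hom (K.toCycles_i (q - 1) q) w
  have hw' : (K.toCycles (q - 1) q).hom w = x • y := hw
  have hy' : (K.iCycles q).hom y = z := hy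
  rw [← e1, hw', map_smul, hy']

/-- One Artin–Rees step induces zero on the `q`-th homology. -/
lemma H2_step_homologyMap_zero [IsNoetherianRing A] (K : CochainComplex (ModuleCat.{u} A) ℤ)
    (hfin : ∀ q : ℤ, Module.Finite A (K.X q)) (hflat : ∀ q : ℤ, Module.Flat A (K.X q))
    (J : Ideal A) (hJ : ∀ q : ℤ, ∀ x ∈ J, ∀ c : ↑(K.homology q), x • c = 0) (q : ℤ) :
    ∃ c : ℕ, ∀ (m p : ℕ), m + c + 1 ≤ p → ∀ (h : J ^ p ≤ J ^ m),
      HomologicalComplex.homologyMap (H2TKmap h K) q = 0 := by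
  haveI := hfin q
  obtain ⟨c, hc⟩ := H2_artinRees_step J (K.d (q - 1) q).hom (K.d q (q + 1)).hom
    (H2_smul_cycle_mem_range K J q (hJ q))
  refine ⟨c, fun m p hp h => ?_⟩
  apply H2_homologyMap_eq_zero_of_boundary
  intro t ht
  haveI := hflat q
  obtain ⟨c', rfl⟩ : ∃ c', p = m + c' + 1 := ⟨p - m - 1, by omega⟩
  have ht' : LinearMap.lTensor (↥(J ^ (m + c' + 1))) (K.d q (q + 1)).hom t = 0 := ht
  have h1 : H2mu (J ^ (m + c' + 1)) (K.X q) t ∈
      (J ^ (m + c' + 1) • ⊤ : Submodule A (K.X q)) ⊓ LinearMap.ker (K.d q (q + 1)).hom := by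
    refine ⟨H2mu_mem _ _ t, LinearMap.mem_ker.mpr ?_⟩
    rw [← H2mu_naturality, ht', map_zero]
  obtain ⟨w, hw, hdw⟩ := hc m c' (by omega) h1
  obtain ⟨w', hw'⟩ := H2mu_surj (J ^ m) (K.X (q - 1)) w hw
  refine ⟨w', ?_⟩
  apply H2mu_injective (J ^ m) (K.X q)
  rw [H2TK_d_apply, H2mu_naturality, hw', hdw, H2TKmap_f_apply, H2mu_inclusion]

end

section Main

variable {A : Type u} [CommRing A] [HasDerivedCategory.{w} (ModuleCat.{u} A)]

/-- The chain of tensored complexes in the derived category. -/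
noncomputable def H2chainFun (J : Ideal A) (K : CochainComplex (ModuleCat.{u} A) ℤ) (e : ℕ → ℕ)
    (he : Antitone e) : ℕ ⥤ DerivedCategory (ModuleCat.{u} A) where
  obj i := DerivedCategory.Q.obj (H2TK (J ^ e i) K)
  map {i j} f := DerivedCategory.Q.map (H2TKmap (Ideal.pow_le_pow_right (he (leOfHom f))) K)
  map_id i := by
    have := H2TKmap_refl (J ^ e i) K
    rw [show H2TKmap (Ideal.pow_le_pow_right (he (leOfHom (𝟙 i)))) K = 𝟙 _ from this]
    exact CategoryTheory.Functor.map_id _ _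
  map_comp f g := by
    rw [← Functor.map_comp, H2TKmap_trans]

lemma H2TK_isZero (I : Ideal A) (K : CochainComplex (ModuleCat.{u} A) ℤ) (q : ℤ)
    (h : IsZero (K.X q)) : IsZero ((H2TK I K).X q) := by
  change IsZero (MonoidalCategory.tensorObj (ModuleCat.of A I) (K.X q))
  rw [IsZero.iff_id_eq_zero, ← MonoidalCategory.whiskerLeft_id, (IsZero.iff_id_eq_zero _).mp h,
    MonoidalPreadditive.whiskerLeft_zero]

lemma H2_transfer (J : Ideal A) (K : CochainComplex (ModuleCat.{u} A) ℤ) (p p' q q' : ℕ)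
    (hp : p = p') (hq : q = q') (h : J ^ p ≤ J ^ q) (h' : J ^ p' ≤ J ^ q')
    (hz : DerivedCategory.Q.map (H2TKmap h K) = 0) :
    DerivedCategory.Q.map (H2TKmap h' K) = 0 := by
  subst hp hq
  exact hz

lemma H2_homologyFunctor_Q_map_eq_zero {K L : CochainComplex (ModuleCat.{u} A) ℤ} (φ : K ⟶ L)
    (q : ℤ) (h : HomologicalComplex.homologyMap φ q = 0) :
    (DerivedCategory.homologyFunctor (ModuleCat.{u} A) q).map (DerivedCategory.Q.map φ) = 0 := by
  have nat := NatIso.naturality_2 (DerivedCategory.homologyFunctorFactors.{w} (ModuleCat.{u} A) q) φ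
  have h' : (HomologicalComplex.homologyFunctor (ModuleCat.{u} A) (ComplexShape.up ℤ) q).map φ
      = 0 := h
  rw [h', Limits.zero_comp, Limits.comp_zero] at nat
  exact nat.symm

theorem H2_AR_derived_zero [IsNoetherianRing A] (K : CochainComplex (ModuleCat.{u} A) ℤ)
    (a b : ℤ) (hK : ∀ q : ℤ, q < a ∨ b < q → IsZero (K.X q))
    (hfin : ∀ q : ℤ, Module.Finite A (K.X q)) (hproj : ∀ q : ℤ, Module.Projective A (K.X q))
    (J : Ideal A) (hJ : ∀ q : ℤ, ∀ x ∈ J, ∀ c : ↑(K.homology q), x • c = 0) :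
    ∃ n : ℕ, ∀ m : ℕ, 0 < m → ∀ (h : J ^ (n + m) ≤ J ^ m),
      DerivedCategory.Q.map (H2TKmap h K) = 0 := by
  have hflat : ∀ q, Module.Flat A (K.X q) := fun q => by
    haveI := hproj q
    infer_instance
  choose c hc using fun q => H2_step_homologyMap_zero K hfin hflat J hJ q
  let C := ∑ q ∈ Finset.Icc a b, c q
  have hC : ∀ q ∈ Finset.Icc a b, c q ≤ C := fun q hq =>
    Finset.single_le_sum (f := c) (fun _ _ => Nat.zero_le _) hq
  have hstep : ∀ (m p : ℕ), m + C + 1 ≤ p → ∀ (h : J ^ p ≤ J ^ m) (q : ℤ),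
      HomologicalComplex.homologyMap (H2TKmap h K) q = 0 := by
    intro m p hp h q
    by_cases hq : q ∈ Finset.Icc a b
    · exact hc q m p (by have := hC q hq; omega) h
    · have hz : IsZero (K.X q) := hK q (by rw [Finset.mem_Icc] at hq; omega)
      have hz' : IsZero ((H2TK (J ^ p) K).X q) := H2TK_isZero _ _ _ hz
      have : IsZero ((H2TK (J ^ p) K).homology q) :=
        ShortComplex.isZero_homology_of_isZero_X₂ _ hz'
      exact this.eq_of_src _ _
  let N := (b - a).toNat
  have hN : b ≤ a + N := by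
    have := Int.self_le_toNat (b - a)
    omega
  refine ⟨(N + 1) * (C + 1), fun m _ h => ?_⟩
  let e : ℕ → ℕ := fun i => m + (N + 1 - i) * (C + 1)
  have he : Antitone e := fun i j hij => by
    simp only [e]
    exact Nat.add_le_add_left (Nat.mul_le_mul_right _ (Nat.sub_le_sub_left hij _)) _
  have key := H2_amplitude_chain_zero a N (H2chainFun J K e he) ?_ ?_ ?_
  · have he0 : e 0 = (N + 1) * (C + 1) + m := by
      simp only [e, Nat.sub_zero]
      ring
    have heN : e (N + 1) = m := by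
      simp only [e, Nat.sub_self, Nat.zero_mul, Nat.add_zero]
    exact H2_transfer J K _ _ _ _ he0 heN _ h key
  · intro i _
    have : (H2TK (J ^ e i) K).IsStrictlyGE a := by
      rw [CochainComplex.isStrictlyGE_iff]
      intro q hq
      exact H2TK_isZero _ _ _ (hK q (Or.inl hq))
    exact ⟨⟨_, Iso.refl _, this⟩⟩
  · intro i _
    have : (H2TK (J ^ e i) K).IsStrictlyLE (a + N) := by
      rw [CochainComplex.isStrictlyLE_iff]
      intro q hq
      exact H2TK_isZero _ _ _ (hK q (Or.inr (by omega)))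
    exact ⟨⟨_, Iso.refl _, this⟩⟩
  · intro i hi q
    apply H2_homologyFunctor_Q_map_eq_zero
    apply hstep
    simp only [e]
    have h1 : N + 1 - i = (N + 1 - (i + 1)) + 1 := by omega
    have h2 : ((N + 1 - (i + 1)) + 1) * (C + 1) = (N + 1 - (i + 1)) * (C + 1) + (C + 1) := by
      ring
    rw [h1, h2]
    generalize (N + 1 - (i + 1)) * (C + 1) = z
    omega

end Main

end Groth.Agent.H2
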