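import Mathlib

set_option autoImplicit false
universe u v w
open TensorProduct

namespace Groth.Agent.H2

theorem H2_isAdicComplete_of_ofTensorProduct_bijective {A : Type u} [CommRing A] (J : Ideal A)
    [IsAdicComplete J A] (M : Type v) [AddCommGroup M] [Module A M]
    (h : Function.Bijective (AdicCompletion.ofTensorProduct J M)) : IsAdicComplete J M := by
  rw [← AdicCompletion.of_bijective_iff]
  have hA : Function.Bijective (AdicCompletion.of J A) :=
    AdicCompletion.of_bijective_iff.mpr inferInstance
  let eA : A ≃ₗ[A] AdicCompletion J A := LinearEquiv.ofBijective (AdicCompletion.of J A) hA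
  have hcomp : (AdicCompletion.of J M : M → AdicCompletion J M) =
      (AdicCompletion.ofTensorProduct J M) ∘ (LinearEquiv.rTensor M eA) ∘
        (TensorProduct.lid A M).symm := by
    ext1 x
    simp only [Function.comp_apply, TensorProduct.lid_symm_apply, LinearEquiv.rTensor_tmul,
      AdicCompletion.ofTensorProduct_tmul, eA, LinearEquiv.ofBijective_apply]
    have h1 : AdicCompletion.of J A 1 = 1 := by
      ext n
      simp
    rw [h1, one_smul]
  rw [hcomp]
  exact h.comp ((LinearEquiv.rTensor M eA).bijective.comp (TensorProduct.lid A M).symm.bijective)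

theorem H2_isAdicComplete_of_retract {A : Type u} [CommRing A] (J : Ideal A)
    {M : Type v} [AddCommGroup M] [Module A M] {N : Type w} [AddCommGroup N] [Module A N]
    [IsAdicComplete J N] (i : M →ₗ[A] N) (r : N →ₗ[A] M) (hri : r ∘ₗ i = LinearMap.id) :
    IsAdicComplete J M := by
  rw [← AdicCompletion.of_bijective_iff]
  have hN : Function.Bijective (AdicCompletion.of J N) :=
    AdicCompletion.of_bijective_iff.mpr inferInstance
  have hri' : ∀ x, r (i x) = x := fun x => by
    have := congrArg (fun f : M →ₗ[A] M => f x) hri
    simpa using this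
  constructor
  · intro x y hxy
    have h1 : AdicCompletion.of J N (i x) = AdicCompletion.of J N (i y) := by
      rw [← AdicCompletion.map_of, ← AdicCompletion.map_of, hxy]
    have h2 := hN.1 h1
    rw [← hri' x, ← hri' y, h2]
  · intro y
    obtain ⟨z, hz⟩ := hN.2 (AdicCompletion.map J i y)
    refine ⟨r z, ?_⟩
    rw [← AdicCompletion.map_of, hz, AdicCompletion.map_comp_apply, hri, AdicCompletion.map_id]
    rfl

theorem H2_isAdicComplete_of_finite_projective {A : Type u} [CommRing A] (I : Ideal A)
    [IsAdicComplete I A] (M : Type v) [AddCommGroup M] [Module A M] [Module.Finite A M]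
    [Module.Projective A M] : IsAdicComplete I M := by
  obtain ⟨n, f, hf⟩ := Module.Finite.exists_fin' A M
  obtain ⟨g, hg⟩ := Module.projective_lifting_property f LinearMap.id hf
  have : IsAdicComplete I (Fin n → A) :=
    H2_isAdicComplete_of_ofTensorProduct_bijective I (Fin n → A)
      (AdicCompletion.ofTensorProduct_bijective_of_pi_of_fintype I (Fin n))
  exact H2_isAdicComplete_of_retract I g f hg

end Groth.Agent.H2
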