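import Mathlib

set_option autoImplicit false
universe v u
open CategoryTheory MonoidalCategory CartesianMonoidalCategory MonObj GrpObj

namespace Groth.Agent.H2

variable {C : Type u} [Category.{v} C] [CartesianMonoidalCategory C]

lemma H2alb_unit_comp {X : C} (x : 𝟙_ C ⟶ X) : x ≫ toUnit X = 𝟙 _ :=
  toUnit_unique _ _

lemma H2alb_pt_const {X B : C} (x y : 𝟙_ C ⟶ X) (g : X ⟶ B) :
    x ≫ toUnit X ≫ y ≫ g = y ≫ g := by
  rw [← Category.assoc, H2alb_unit_comp, Category.id_comp]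

theorem H2_albanese_change_basepoint {X A : C} [GrpObj A] (x₀ x₁ : 𝟙_ C ⟶ X) (alb : X ⟶ A)
    (halb : x₀ ≫ alb = η[A]) :
    x₁ ≫ (alb * (toUnit X ≫ x₁ ≫ alb)⁻¹) = η[A] ∧
    ∀ (B : C) [GrpObj B],
      (∀ g : X ⟶ B, x₀ ≫ g = η[B] → ∃! h : A ⟶ B, IsMonHom h ∧ alb ≫ h = g) →
      ∀ g : X ⟶ B, x₁ ≫ g = η[B] →
        ∃! h : A ⟶ B, IsMonHom h ∧ (alb * (toUnit X ≫ x₁ ≫ alb)⁻¹) ≫ h = g := by
  constructor
  · rw [MonObj.comp_mul, GrpObj.comp_inv, H2alb_pt_const, _root_.mul_inv_cancel, MonObj.one_eq_one]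
  · intro B _ huniv g hg
    set c : X ⟶ B := toUnit X ≫ x₀ ≫ g with hc
    have hx0 : x₀ ≫ (g * c⁻¹) = η[B] := by
      rw [MonObj.comp_mul, GrpObj.comp_inv, hc, H2alb_pt_const, _root_.mul_inv_cancel,
        MonObj.one_eq_one]
    obtain ⟨h, ⟨hmon, hh⟩, huniq⟩ := huniv (g * c⁻¹) hx0
    have hx1 : x₁ ≫ (g * c⁻¹) = (x₀ ≫ g)⁻¹ := by
      rw [MonObj.comp_mul, GrpObj.comp_inv, hc, H2alb_pt_const, hg, MonObj.one_eq_one, _root_.one_mul]
    refine ⟨h, ⟨hmon, ?_⟩, ?_⟩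
    · have := hmon
      rw [MonObj.mul_comp, GrpObj.inv_comp, Category.assoc, Category.assoc, hh, hx1,
        GrpObj.comp_inv, ← hc, _root_.inv_inv, _root_.inv_mul_cancel_right]
    · rintro h' ⟨hmon', hh'⟩
      have := hmon'
      apply huniq
      refine ⟨hmon', ?_⟩
      rw [MonObj.mul_comp, GrpObj.inv_comp, Category.assoc, Category.assoc] at hh'
      have h1 : x₁ ≫ alb ≫ h' = (x₀ ≫ g)⁻¹ := by
        have : x₀ ≫ (alb ≫ h' * (((toUnit X ≫ x₁ ≫ alb) ≫ h'))⁻¹) = x₀ ≫ g := by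
          rw [Category.assoc, Category.assoc, hh']
        rw [Category.assoc, Category.assoc] at this
        rw [MonObj.comp_mul, GrpObj.comp_inv, H2alb_pt_const, ← Category.assoc x₀, halb,
          IsMonHom.one_hom, MonObj.one_eq_one, _root_.one_mul] at this
        rw [← this, _root_.inv_inv]
      rw [h1, GrpObj.comp_inv, ← hc] at hh'
      rw [← hh', _root_.inv_inv, _root_.mul_inv_cancel_right]

end Groth.Agent.H2
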