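import Mathlib

set_option autoImplicit false
universe v u

namespace Groth.Agent.H2

open CategoryTheory Limits

/-- The arrows of a category, as a sigma type. -/
abbrev H2Arr (J : Type) [SmallCategory J] := Σ (i i' : J), i ⟶ i'

variable {C : Type u} [Category.{v} C] {J : Type} [SmallCategory J] (D : J ⥤ C)

/-- Compatibility of a partial family with a set of arrows. -/
def H2Compat (S : Set J) (E : Set (H2Arr J)) {T : C} (t : ∀ j, j ∈ S → (T ⟶ D.obj j)) : Prop :=
  ∀ a ∈ E, ∀ (h1 : a.1 ∈ S) (h2 : a.2.1 ∈ S), t a.1 h1 ≫ D.map a.2.2 = t a.2.1 h2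

/-- Existence of a partial limit for the objects in `S` and the compatibility conditions `E`. -/
def H2PLim (S : Set J) (E : Set (H2Arr J)) : Prop :=
  ∃ (P : C) (p : ∀ j, j ∈ S → (P ⟶ D.obj j)), H2Compat D S E p ∧
    ∀ (T : C) (t : ∀ j, j ∈ S → (T ⟶ D.obj j)), H2Compat D S E t →
      ∃! u : T ⟶ P, ∀ j hj, u ≫ p j hj = t j hj

lemma H2PLim_singleton (j₀ : J) : H2PLim D {j₀} ∅ := by
  refine ⟨D.obj j₀, fun j hj => eqToHom (by rw [Set.mem_singleton_iff.1 hj]), ?_, ?_⟩
  · intro a ha; exact absurd ha (Set.notMem_empty a)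
  · intro T t _
    refine ⟨t j₀ rfl, ?_, ?_⟩
    · intro j hj
      obtain rfl := Set.mem_singleton_iff.1 hj
      simp
    · intro u hu
      have := hu j₀ rfl
      simpa using this

/-- Adding an equalizer condition. -/
lemma H2PLim_insert_arrow [HasEqualizers C] (S : Set J) (E : Set (H2Arr J))
    (h : H2PLim D S E) (a₀ : H2Arr J) (h1 : a₀.1 ∈ S) (h2 : a₀.2.1 ∈ S) :
    H2PLim D S (insert a₀ E) := by
  obtain ⟨P, p, hp, hP⟩ := h
  refine ⟨equalizer (p a₀.1 h1 ≫ D.map a₀.2.2) (p a₀.2.1 h2),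
    fun j hj => equalizer.ι _ _ ≫ p j hj, ?_, ?_⟩
  · intro a ha k1 k2
    rcases ha with rfl | ha
    · rw [Category.assoc]
      exact equalizer.condition _ _
    · rw [Category.assoc, hp a ha k1 k2]
  · intro T t ht
    have ht' : H2Compat D S E t := fun a ha => ht a (Set.mem_insert_of_mem _ ha)
    obtain ⟨u, hu, huniq⟩ := hP T t ht'
    have hu' : ∀ j hj, u ≫ p j hj = t j hj := hu
    have heq : u ≫ (p a₀.1 h1 ≫ D.map a₀.2.2) = u ≫ p a₀.2.1 h2 := by
      rw [← Category.assoc, hu', hu']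
      exact ht a₀ (Set.mem_insert _ _) h1 h2
    refine ⟨equalizer.lift u heq, ?_, ?_⟩
    · intro j hj
      rw [← Category.assoc, equalizer.lift_ι, hu']
    · intro w hw
      apply equalizer.hom_ext
      rw [equalizer.lift_ι]
      apply huniq
      intro j hj
      rw [Category.assoc]
      exact hw j hj

end Groth.Agent.H2

namespace Groth.Agent.H2

open CategoryTheory Limits

variable {C : Type u} [Category.{v} C] {J : Type} [SmallCategory J] (D : J ⥤ C)

open Classical in
/-- Adding an object, via a pullback. -/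
lemma H2PLim_insert_obj [HasPullbacks C] (S : Set J) (E : Set (H2Arr J))
    (hE : ∀ a ∈ E, a.1 ∈ S ∧ a.2.1 ∈ S)
    (P : C) (p : ∀ j, j ∈ S → (P ⟶ D.obj j)) (hp : H2Compat D S E p)
    (hP : ∀ (T : C) (t : ∀ j, j ∈ S → (T ⟶ D.obj j)), H2Compat D S E t →
      ∃! u : T ⟶ P, ∀ j hj, u ≫ p j hj = t j hj)
    (j' : J) (hj' : j' ∉ S) (a₀ : H2Arr J)
    (hk1 : a₀.1 ∈ insert j' S) (hk2 : a₀.2.1 ∈ insert j' S)
    (X : C) (α : P ⟶ X) (β : D.obj j' ⟶ X)
    (hcond : ∀ (T : C) (r : ∀ i, i ∈ insert j' S → (T ⟶ D.obj i)) (u : T ⟶ P),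
      (∀ i hi, u ≫ p i hi = r i (Set.mem_insert_of_mem _ hi)) →
      (r a₀.1 hk1 ≫ D.map a₀.2.2 = r a₀.2.1 hk2 ↔
        u ≫ α = r j' (Set.mem_insert _ _) ≫ β)) :
    H2PLim D (insert j' S) (insert a₀ E) := by
  let p' : ∀ i, i ∈ insert j' S → (pullback α β ⟶ D.obj i) := fun i hi =>
    if h : i = j' then pullback.snd α β ≫ eqToHom (congrArg D.obj h.symm)
    else pullback.fst α β ≫ p i (hi.resolve_left h)
  have hp'1 : ∀ hi, p' j' hi = pullback.snd α β := by
    intro hi
    simp [p']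
  have hp'2 : ∀ i (hi : i ∈ S), p' i (Set.mem_insert_of_mem _ hi) = pullback.fst α β ≫ p i hi := by
    intro i hi
    have : i ≠ j' := fun h => hj' (h ▸ hi)
    simp [p', this]
  refine ⟨pullback α β, p', ?_, ?_⟩
  · intro a ha k1 k2
    rcases ha with rfl | ha
    · rw [hcond _ p' (pullback.fst α β) (fun i hi => (hp'2 i hi).symm),
        hp'1 (Set.mem_insert _ _)]
      exact pullback.condition
    · obtain ⟨m1, m2⟩ := hE a ha
      have e1 : p' a.1 k1 = pullback.fst α β ≫ p a.1 m1 := hp'2 _ m1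
      have e2 : p' a.2.1 k2 = pullback.fst α β ≫ p a.2.1 m2 := hp'2 _ m2
      rw [e1, e2, Category.assoc, hp a ha m1 m2]
  · intro T r hr
    have hr' : H2Compat D S E (fun i hi => r i (Set.mem_insert_of_mem _ hi)) := by
      intro a ha m1 m2
      exact hr a (Set.mem_insert_of_mem _ ha) _ _
    obtain ⟨u, hu, huniq⟩ := hP T _ hr'
    have hu' : ∀ i hi, u ≫ p i hi = r i (Set.mem_insert_of_mem _ hi) := hu
    have hc : u ≫ α = r j' (Set.mem_insert _ _) ≫ β :=
      (hcond T r u hu').1 (hr a₀ (Set.mem_insert _ _) hk1 hk2)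
    refine ⟨pullback.lift u (r j' (Set.mem_insert _ _)) hc, ?_, ?_⟩
    · intro i hi
      by_cases h : i = j'
      · subst h
        rw [hp'1 hi, pullback.lift_snd]
      · have hiS : i ∈ S := hi.resolve_left h
        have e : p' i hi = pullback.fst α β ≫ p i hiS := hp'2 i hiS
        rw [e, ← Category.assoc, pullback.lift_fst, hu']
    · intro w hw
      apply pullback.hom_ext
      · rw [pullback.lift_fst]
        apply huniq
        intro i hi
        have := hw i (Set.mem_insert_of_mem _ hi)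
        rw [hp'2 i hi, ← Category.assoc] at this
        exact this
      · rw [pullback.lift_snd]
        have := hw j' (Set.mem_insert _ _)
        rw [hp'1 (Set.mem_insert _ _)] at this
        exact this

/-- Adding an object along an arrow leaving `S`. -/
lemma H2PLim_insert_out [HasPullbacks C] (S : Set J) (E : Set (H2Arr J))
    (hE : ∀ a ∈ E, a.1 ∈ S ∧ a.2.1 ∈ S) (h : H2PLim D S E)
    (j j' : J) (f : j ⟶ j') (hj : j ∈ S) (hj' : j' ∉ S) :
    H2PLim D (insert j' S) (insert ⟨j, j', f⟩ E) := by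
  obtain ⟨P, p, hp, hP⟩ := h
  refine H2PLim_insert_obj D S E hE P p hp hP j' hj' ⟨j, j', f⟩
    (Set.mem_insert_of_mem _ hj) (Set.mem_insert _ _) (D.obj j') (p j hj ≫ D.map f) (𝟙 _) ?_
  intro T r u hu
  dsimp only
  rw [Category.comp_id, ← Category.assoc, hu j hj]

/-- Adding an object along an arrow entering `S`. -/
lemma H2PLim_insert_in [HasPullbacks C] (S : Set J) (E : Set (H2Arr J))
    (hE : ∀ a ∈ E, a.1 ∈ S ∧ a.2.1 ∈ S) (h : H2PLim D S E)
    (j j' : J) (f : j' ⟶ j) (hj : j ∈ S) (hj' : j' ∉ S) :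
    H2PLim D (insert j' S) (insert ⟨j', j, f⟩ E) := by
  obtain ⟨P, p, hp, hP⟩ := h
  refine H2PLim_insert_obj D S E hE P p hp hP j' hj' ⟨j', j, f⟩
    (Set.mem_insert _ _) (Set.mem_insert_of_mem _ hj) (D.obj j) (p j hj) (D.map f) ?_
  intro T r u hu
  dsimp only
  rw [hu j hj]
  exact eq_comm

end Groth.Agent.H2

namespace Groth.Agent.H2

open CategoryTheory Limits

variable {C : Type u} [Category.{v} C] {J : Type} [SmallCategory J] (D : J ⥤ C)

lemma H2_exists_crossing [IsConnected J] (S : Set J) (hne : S.Nonempty) (hS : S ≠ Set.univ) :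
    ∃ (j j' : J), j ∈ S ∧ j' ∉ S ∧ (Nonempty (j ⟶ j') ∨ Nonempty (j' ⟶ j)) := by
  by_contra hcon
  push_neg at hcon
  obtain ⟨j₀, hj₀⟩ := hne
  apply hS
  ext j
  simp only [Set.mem_univ, iff_true]
  refine induct_on_objects S hj₀ ?_ j
  intro j₁ j₂ f
  constructor
  · intro h1
    by_contra h2
    exact (hcon j₁ j₂ h1 h2).1.false f
  · intro h2
    by_contra h1
    exact (hcon j₂ j₁ h2 h1).2.false f

lemma H2PLim_grow [HasPullbacks C] [IsConnected J] [Finite J] (n : ℕ) :
    ∀ (S : Set J) (E : Set (H2Arr J)), S.Nonempty → Sᶜ.ncard = n →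
      (∀ a ∈ E, a.1 ∈ S ∧ a.2.1 ∈ S) → H2PLim D S E → ∃ E', H2PLim D Set.univ E' := by
  induction n with
  | zero =>
    intro S E hne hn hE h
    have h1 : Sᶜ = ∅ := (Set.ncard_eq_zero (Set.toFinite _)).1 hn
    have h2 : S = Set.univ := Set.compl_empty_iff.1 h1
    subst h2
    exact ⟨E, h⟩
  | succ n ih =>
    intro S E hne hn hE h
    have hS : S ≠ Set.univ := by
      intro h'
      rw [h', Set.compl_univ, Set.ncard_empty] at hn
      exact absurd hn (by lia)
    obtain ⟨j, j', hj, hj', hf⟩ := H2_exists_crossing S hne hS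
    have hcard : (insert j' S)ᶜ.ncard = n := by
      have h3 : (insert j' S)ᶜ = Sᶜ \ {j'} := by
        ext x
        simp only [Set.mem_compl_iff, Set.mem_insert_iff, not_or, Set.mem_diff,
          Set.mem_singleton_iff]
        tauto
      rw [h3, Set.ncard_diff_singleton_of_mem (show j' ∈ Sᶜ from hj'), hn]
      rfl
    rcases hf with ⟨⟨f⟩⟩ | ⟨⟨f⟩⟩
    · refine ih (insert j' S) (insert ⟨j, j', f⟩ E) (Set.insert_nonempty _ _) hcard ?_
        (H2PLim_insert_out D S E hE h j j' f hj hj')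
      intro a ha
      rcases ha with rfl | ha
      · exact ⟨Set.mem_insert_of_mem _ hj, Set.mem_insert _ _⟩
      · exact ⟨Set.mem_insert_of_mem _ (hE a ha).1, Set.mem_insert_of_mem _ (hE a ha).2⟩
    · refine ih (insert j' S) (insert ⟨j', j, f⟩ E) (Set.insert_nonempty _ _) hcard ?_
        (H2PLim_insert_in D S E hE h j j' f hj hj')
      intro a ha
      rcases ha with rfl | ha
      · exact ⟨Set.mem_insert _ _, Set.mem_insert_of_mem _ hj⟩
      · exact ⟨Set.mem_insert_of_mem _ (hE a ha).1, Set.mem_insert_of_mem _ (hE a ha).2⟩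

lemma H2PLim_fill [HasEqualizers C] (l : List (H2Arr J)) :
    ∀ (E : Set (H2Arr J)), H2PLim D Set.univ E → H2PLim D Set.univ (E ∪ {a | a ∈ l}) := by
  induction l with
  | nil =>
    intro E h
    simpa using h
  | cons a l ih =>
    intro E h
    have := ih (insert a E) (H2PLim_insert_arrow D _ E h a (Set.mem_univ _) (Set.mem_univ _))
    convert this using 1
    ext x
    simp only [List.mem_cons, Set.mem_union, Set.mem_setOf_eq, Set.mem_insert_iff]
    tauto

theorem H2_hasLimit_of_connected [HasEqualizers C] [HasPullbacks C] [FinCategory J]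
    [IsConnected J] : HasLimit D := by
  classical
  obtain ⟨j₀⟩ : Nonempty J := inferInstance
  obtain ⟨E', hE'⟩ := H2PLim_grow D _ {j₀} ∅ ⟨j₀, rfl⟩ rfl (by simp) (H2PLim_singleton D j₀)
  have h := H2PLim_fill D (Finset.univ : Finset (H2Arr J)).toList E' hE'
  have hall : E' ∪ {a | a ∈ (Finset.univ : Finset (H2Arr J)).toList} = Set.univ := by
    ext x
    simp
  rw [hall] at h
  obtain ⟨P, p, hp, hP⟩ := h
  let c : Cone D :=
    { pt := P
      π :=
        { app := fun j => p j (Set.mem_univ j)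
          naturality := fun j j' f => by
            dsimp
            rw [Category.id_comp]
            exact (hp ⟨j, j', f⟩ (Set.mem_univ _) (Set.mem_univ _) (Set.mem_univ _)).symm } }
  refine ⟨⟨⟨c, IsLimit.ofExistsUnique ?_⟩⟩⟩
  intro s
  obtain ⟨u, hu, huniq⟩ := hP s.pt (fun j _ => s.π.app j) (by
    intro a _ _ _
    exact s.w a.2.2)
  exact ⟨u, fun j => hu j (Set.mem_univ j), fun w hw => huniq w (fun j _ => hw j)⟩

theorem H2_hasLimitsOfShape_of_connected (C : Type u) [Category.{v} C] [HasEqualizers C]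
    [HasPullbacks C] (J : Type) [SmallCategory J] [FinCategory J] [IsConnected J] :
    HasLimitsOfShape J C :=
  ⟨fun D => H2_hasLimit_of_connected D⟩

end Groth.Agent.H2
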