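import Mathlib
import Groth.Agent.Lib.helper2.ConnLim

set_option autoImplicit false
universe v u v' u'

namespace Groth.Agent.H2

open CategoryTheory Limits

variable {C : Type u} [Category.{v} C] {J : Type} [SmallCategory J] (D : J ⥤ C)

/-- `(P, p)` is a partial limit for the objects in `S` and the conditions `E`. -/
def H2IsPLim (S : Set J) (E : Set (H2Arr J)) (P : C) (p : ∀ j, j ∈ S → (P ⟶ D.obj j)) : Prop :=
  H2Compat D S E p ∧
    ∀ (T : C) (t : ∀ j, j ∈ S → (T ⟶ D.obj j)), H2Compat D S E t →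
      ∃! u : T ⟶ P, ∀ j hj, u ≫ p j hj = t j hj

lemma H2IsPLim_singleton (j₀ : J) (P : C) (p : ∀ j, j ∈ ({j₀} : Set J) → (P ⟶ D.obj j))
    (hp : IsIso (p j₀ rfl)) : H2IsPLim D {j₀} ∅ P p := by
  refine ⟨?_, ?_⟩
  · intro a ha; exact absurd ha (Set.notMem_empty a)
  · intro T t _
    refine ⟨t j₀ rfl ≫ inv (p j₀ rfl), ?_, ?_⟩
    · intro j hj
      obtain rfl := Set.mem_singleton_iff.1 hj
      simp
    · intro u hu
      have := hu j₀ rfl
      rw [← this]
      simp

lemma H2IsPLim_insert_arrow (S : Set J) (E : Set (H2Arr J)) (P : C)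
    (p : ∀ j, j ∈ S → (P ⟶ D.obj j)) (h : H2IsPLim D S E P p)
    (a₀ : H2Arr J) (h1 : a₀.1 ∈ S) (h2 : a₀.2.1 ∈ S)
    (f g : P ⟶ D.obj a₀.2.1) (hf : f = p a₀.1 h1 ≫ D.map a₀.2.2) (hg : g = p a₀.2.1 h2)
    (Q : C) (ι : Q ⟶ P) (w : ι ≫ f = ι ≫ g) (hQ : IsLimit (Fork.ofι ι w)) :
    H2IsPLim D S (insert a₀ E) Q (fun j hj => ι ≫ p j hj) := by
  subst hf hg
  obtain ⟨hp, hP⟩ := h
  refine ⟨?_, ?_⟩
  · intro a ha k1 k2
    rcases ha with rfl | ha
    · rw [Category.assoc]
      exact w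
    · rw [Category.assoc, hp a ha k1 k2]
  · intro T t ht
    have ht' : H2Compat D S E t := fun a ha => ht a (Set.mem_insert_of_mem _ ha)
    obtain ⟨u, hu, huniq⟩ := hP T t ht'
    have hu' : ∀ j hj, u ≫ p j hj = t j hj := hu
    have heq : u ≫ (p a₀.1 h1 ≫ D.map a₀.2.2) = u ≫ p a₀.2.1 h2 := by
      rw [← Category.assoc, hu', hu']
      exact ht a₀ (Set.mem_insert _ _) h1 h2
    obtain ⟨l, hl⟩ := Fork.IsLimit.lift' hQ u heq
    have hl' : l ≫ ι = u := hl
    refine ⟨l, ?_, ?_⟩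
    · intro j hj
      rw [← Category.assoc, hl', hu']
    · intro w' hw'
      apply Fork.IsLimit.hom_ext hQ
      change w' ≫ ι = l ≫ ι
      rw [hl']
      apply huniq
      intro j hj
      rw [Category.assoc]
      exact hw' j hj

lemma H2IsPLim_insert_obj (S : Set J) (E : Set (H2Arr J))
    (hE : ∀ a ∈ E, a.1 ∈ S ∧ a.2.1 ∈ S)
    (P : C) (p : ∀ j, j ∈ S → (P ⟶ D.obj j)) (h : H2IsPLim D S E P p)
    (j' : J) (hj' : j' ∉ S) (a₀ : H2Arr J)
    (hk1 : a₀.1 ∈ insert j' S) (hk2 : a₀.2.1 ∈ insert j' S)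
    (X : C) (α : P ⟶ X) (β : D.obj j' ⟶ X)
    (hcond : ∀ (T : C) (r : ∀ i, i ∈ insert j' S → (T ⟶ D.obj i)) (u : T ⟶ P),
      (∀ i hi, u ≫ p i hi = r i (Set.mem_insert_of_mem _ hi)) →
      (r a₀.1 hk1 ≫ D.map a₀.2.2 = r a₀.2.1 hk2 ↔
        u ≫ α = r j' (Set.mem_insert _ _) ≫ β))
    (P' : C) (φ : P' ⟶ P) (q : P' ⟶ D.obj j') (w : φ ≫ α = q ≫ β)
    (hP' : IsLimit (PullbackCone.mk φ q w))
    (p' : ∀ i, i ∈ insert j' S → (P' ⟶ D.obj i))
    (hp'1 : p' j' (Set.mem_insert _ _) = q)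
    (hp'2 : ∀ i (hi : i ∈ S), p' i (Set.mem_insert_of_mem _ hi) = φ ≫ p i hi) :
    H2IsPLim D (insert j' S) (insert a₀ E) P' p' := by
  obtain ⟨hp, hP⟩ := h
  refine ⟨?_, ?_⟩
  · intro a ha k1 k2
    rcases ha with rfl | ha
    · rw [hcond _ p' φ (fun i hi => (hp'2 i hi).symm), hp'1]
      exact w
    · obtain ⟨m1, m2⟩ := hE a ha
      have e1 : p' a.1 k1 = φ ≫ p a.1 m1 := hp'2 _ m1
      have e2 : p' a.2.1 k2 = φ ≫ p a.2.1 m2 := hp'2 _ m2
      rw [e1, e2, Category.assoc, hp a ha m1 m2]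
  · intro T r hr
    have hr' : H2Compat D S E (fun i hi => r i (Set.mem_insert_of_mem _ hi)) := by
      intro a ha m1 m2
      exact hr a (Set.mem_insert_of_mem _ ha) _ _
    obtain ⟨u, hu, huniq⟩ := hP T _ hr'
    have hu' : ∀ i hi, u ≫ p i hi = r i (Set.mem_insert_of_mem _ hi) := hu
    have hc : u ≫ α = r j' (Set.mem_insert _ _) ≫ β :=
      (hcond T r u hu').1 (hr a₀ (Set.mem_insert _ _) hk1 hk2)
    obtain ⟨l, hl1, hl2⟩ : ∃ l : T ⟶ P', l ≫ φ = u ∧ l ≫ q = r j' (Set.mem_insert _ _) :=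
      ⟨PullbackCone.IsLimit.lift hP' u (r j' (Set.mem_insert _ _)) hc,
        PullbackCone.IsLimit.lift_fst hP' _ _ _, PullbackCone.IsLimit.lift_snd hP' _ _ _⟩
    refine ⟨l, ?_, ?_⟩
    · intro i hi
      by_cases h : i = j'
      · subst h
        rw [hp'1]
        exact hl2
      · have hiS : i ∈ S := hi.resolve_left h
        have e : p' i hi = φ ≫ p i hiS := hp'2 i hiS
        rw [e, ← Category.assoc, hl1, hu']
    · intro w' hw'
      apply PullbackCone.IsLimit.hom_ext hP'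
      · change w' ≫ φ = l ≫ φ
        rw [hl1]
        apply huniq
        intro i hi
        have := hw' i (Set.mem_insert_of_mem _ hi)
        rw [hp'2 i hi, ← Category.assoc] at this
        exact this
      · change w' ≫ q = l ≫ q
        rw [hl2]
        have := hw' j' (Set.mem_insert _ _)
        rw [hp'1] at this
        exact this

end Groth.Agent.H2

namespace Groth.Agent.H2

open CategoryTheory Limits

variable {C : Type u} [Category.{v} C] {J : Type} [SmallCategory J] (D : J ⥤ C)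
variable {C' : Type u'} [Category.{v'} C'] (G : C ⥤ C')

/-- A partial limit that is preserved by `G`. -/
def H2PLimG (S : Set J) (E : Set (H2Arr J)) : Prop :=
  ∃ (P : C) (p : ∀ j, j ∈ S → (P ⟶ D.obj j)), H2IsPLim D S E P p ∧
    H2IsPLim (D ⋙ G) S E (G.obj P) (fun j hj => G.map (p j hj))

lemma H2PLimG_singleton (j₀ : J) : H2PLimG D G {j₀} ∅ := by
  refine ⟨D.obj j₀, fun j hj => eqToHom (by rw [Set.mem_singleton_iff.1 hj]), ?_, ?_⟩
  · apply H2IsPLim_singleton
    simp only [eqToHom_refl]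
    infer_instance
  · apply H2IsPLim_singleton
    simp only [eqToHom_refl, CategoryTheory.Functor.map_id]
    infer_instance

lemma H2PLimG_insert_arrow [HasEqualizers C] [PreservesLimitsOfShape WalkingParallelPair G]
    (S : Set J) (E : Set (H2Arr J)) (h : H2PLimG D G S E)
    (a₀ : H2Arr J) (h1 : a₀.1 ∈ S) (h2 : a₀.2.1 ∈ S) :
    H2PLimG D G S (insert a₀ E) := by
  obtain ⟨P, p, hC, hC'⟩ := h
  obtain ⟨f, hf⟩ : ∃ f : P ⟶ D.obj a₀.2.1, f = p a₀.1 h1 ≫ D.map a₀.2.2 := ⟨_, rfl⟩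
  obtain ⟨g, hg⟩ : ∃ g : P ⟶ D.obj a₀.2.1, g = p a₀.2.1 h2 := ⟨_, rfl⟩
  refine ⟨equalizer f g, fun j hj => equalizer.ι f g ≫ p j hj, ?_, ?_⟩
  · exact H2IsPLim_insert_arrow D S E P p hC a₀ h1 h2 f g hf hg _ (equalizer.ι f g)
      (equalizer.condition f g) (equalizerIsEqualizer f g)
  · have := H2IsPLim_insert_arrow (D ⋙ G) S E (G.obj P) _ hC' a₀ h1 h2 (G.map f) (G.map g)
      (by rw [hf, G.map_comp]; rfl) (by rw [hg]) _ (G.map (equalizer.ι f g))
      (by rw [← G.map_comp, ← G.map_comp, equalizer.condition])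
      (isLimitOfHasEqualizerOfPreservesLimit G f g)
    convert this using 2
    funext hj
    exact G.map_comp _ _

lemma H2PLimG_insert_obj [HasPullbacks C] [PreservesLimitsOfShape WalkingCospan G]
    (S : Set J) (E : Set (H2Arr J))
    (hE : ∀ a ∈ E, a.1 ∈ S ∧ a.2.1 ∈ S)
    (P : C) (p : ∀ j, j ∈ S → (P ⟶ D.obj j)) (hC : H2IsPLim D S E P p)
    (hC' : H2IsPLim (D ⋙ G) S E (G.obj P) (fun j hj => G.map (p j hj)))
    (j' : J) (hj' : j' ∉ S) (a₀ : H2Arr J)
    (hk1 : a₀.1 ∈ insert j' S) (hk2 : a₀.2.1 ∈ insert j' S)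
    (X : C) (α : P ⟶ X) (β : D.obj j' ⟶ X)
    (hcond : ∀ (T : C) (r : ∀ i, i ∈ insert j' S → (T ⟶ D.obj i)) (u : T ⟶ P),
      (∀ i hi, u ≫ p i hi = r i (Set.mem_insert_of_mem _ hi)) →
      (r a₀.1 hk1 ≫ D.map a₀.2.2 = r a₀.2.1 hk2 ↔
        u ≫ α = r j' (Set.mem_insert _ _) ≫ β))
    (hcond' : ∀ (T : C') (r : ∀ i, i ∈ insert j' S → (T ⟶ (D ⋙ G).obj i)) (u : T ⟶ G.obj P),
      (∀ i hi, u ≫ G.map (p i hi) = r i (Set.mem_insert_of_mem _ hi)) →
      (r a₀.1 hk1 ≫ (D ⋙ G).map a₀.2.2 = r a₀.2.1 hk2 ↔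
        u ≫ G.map α = r j' (Set.mem_insert _ _) ≫ G.map β)) :
    H2PLimG D G (insert j' S) (insert a₀ E) := by
  classical
  let p' : ∀ i, i ∈ insert j' S → (pullback α β ⟶ D.obj i) := fun i hi =>
    if h : i = j' then pullback.snd α β ≫ eqToHom (congrArg D.obj h.symm)
    else pullback.fst α β ≫ p i (hi.resolve_left h)
  have hp'1 : p' j' (Set.mem_insert _ _) = pullback.snd α β := by
    simp [p']
  have hp'2 : ∀ i (hi : i ∈ S), p' i (Set.mem_insert_of_mem _ hi) = pullback.fst α β ≫ p i hi := by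
    intro i hi
    have : i ≠ j' := fun h => hj' (h ▸ hi)
    simp [p', this]
  refine ⟨pullback α β, p', ?_, ?_⟩
  · exact H2IsPLim_insert_obj D S E hE P p hC j' hj' a₀ hk1 hk2 X α β hcond _
      (pullback.fst α β) (pullback.snd α β) pullback.condition (pullbackIsPullback α β)
      p' hp'1 hp'2
  · refine H2IsPLim_insert_obj (D ⋙ G) S E hE (G.obj P) _ hC' j' hj' a₀ hk1 hk2 (G.obj X)
      (G.map α) (G.map β) hcond' _ (G.map (pullback.fst α β)) (G.map (pullback.snd α β))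
      (by rw [← G.map_comp, ← G.map_comp, pullback.condition])
      (isLimitOfHasPullbackOfPreservesLimit G α β) _ ?_ ?_
    · rw [hp'1]
    · intro i hi
      rw [hp'2 i hi, G.map_comp]

lemma H2PLimG_insert_out [HasPullbacks C] [PreservesLimitsOfShape WalkingCospan G]
    (S : Set J) (E : Set (H2Arr J))
    (hE : ∀ a ∈ E, a.1 ∈ S ∧ a.2.1 ∈ S) (h : H2PLimG D G S E)
    (j j' : J) (f : j ⟶ j') (hj : j ∈ S) (hj' : j' ∉ S) :
    H2PLimG D G (insert j' S) (insert ⟨j, j', f⟩ E) := by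
  obtain ⟨P, p, hC, hC'⟩ := h
  refine H2PLimG_insert_obj D G S E hE P p hC hC' j' hj' ⟨j, j', f⟩
    (Set.mem_insert_of_mem _ hj) (Set.mem_insert _ _) (D.obj j') (p j hj ≫ D.map f) (𝟙 _) ?_ ?_
  · intro T r u hu
    dsimp only
    rw [Category.comp_id, ← Category.assoc, hu j hj]
  · intro T r u hu
    have e1 : u ≫ G.map (p j hj ≫ D.map f) =
        r j (Set.mem_insert_of_mem _ hj) ≫ (D ⋙ G).map f := by
      rw [G.map_comp, ← Category.assoc, hu j hj]
      rfl
    have e2 : r j' (Set.mem_insert _ _) ≫ G.map (𝟙 (D.obj j')) = r j' (Set.mem_insert _ _) := by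
      rw [G.map_id]
      exact Category.comp_id _
    dsimp only
    rw [e1, e2]

lemma H2PLimG_insert_in [HasPullbacks C] [PreservesLimitsOfShape WalkingCospan G]
    (S : Set J) (E : Set (H2Arr J))
    (hE : ∀ a ∈ E, a.1 ∈ S ∧ a.2.1 ∈ S) (h : H2PLimG D G S E)
    (j j' : J) (f : j' ⟶ j) (hj : j ∈ S) (hj' : j' ∉ S) :
    H2PLimG D G (insert j' S) (insert ⟨j', j, f⟩ E) := by
  obtain ⟨P, p, hC, hC'⟩ := h
  refine H2PLimG_insert_obj D G S E hE P p hC hC' j' hj' ⟨j', j, f⟩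
    (Set.mem_insert _ _) (Set.mem_insert_of_mem _ hj) (D.obj j) (p j hj) (D.map f) ?_ ?_
  · intro T r u hu
    dsimp only
    rw [hu j hj]
    exact eq_comm
  · intro T r u hu
    dsimp only
    rw [hu j hj]
    exact eq_comm

end Groth.Agent.H2

namespace Groth.Agent.H2

open CategoryTheory Limits

variable {C : Type u} [Category.{v} C] {J : Type} [SmallCategory J] (D : J ⥤ C)
variable {C' : Type u'} [Category.{v'} C'] (G : C ⥤ C')

lemma H2PLimG_grow [HasPullbacks C] [PreservesLimitsOfShape WalkingCospan G]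
    [IsConnected J] [Finite J] (n : ℕ) :
    ∀ (S : Set J) (E : Set (H2Arr J)), S.Nonempty → Sᶜ.ncard = n →
      (∀ a ∈ E, a.1 ∈ S ∧ a.2.1 ∈ S) → H2PLimG D G S E → ∃ E', H2PLimG D G Set.univ E' := by
  induction n with
  | zero =>
    intro S E hne hn hE h
    have h1 : Sᶜ = ∅ := (Set.ncard_eq_zero (Set.toFinite _)).1 hn
    have h2 : S = Set.univ := Set.compl_empty_iff.1 h1
    subst h2
    exact ⟨E, h⟩
  | succ n ih =>
    intro S E hne hn hE h
    have hS : S ≠ Set.univ := by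
      intro h'
      rw [h', Set.compl_univ, Set.ncard_empty] at hn
      exact absurd hn (by lia)
    obtain ⟨j, j', hj, hj', hf⟩ := H2_exists_crossing S hne hS
    have hcard : (insert j' S)ᶜ.ncard = n := by
      have h3 : (insert j' S)ᶜ = Sᶜ \ {j'} := by
        ext x
        simp only [Set.mem_compl_iff, Set.mem_insert_iff, not_or, Set.mem_diff,
          Set.mem_singleton_iff]
        tauto
      rw [h3, Set.ncard_diff_singleton_of_mem (show j' ∈ Sᶜ from hj'), hn]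
      rfl
    rcases hf with ⟨⟨f⟩⟩ | ⟨⟨f⟩⟩
    · refine ih (insert j' S) (insert ⟨j, j', f⟩ E) (Set.insert_nonempty _ _) hcard ?_
        (H2PLimG_insert_out D G S E hE h j j' f hj hj')
      intro a ha
      rcases ha with rfl | ha
      · exact ⟨Set.mem_insert_of_mem _ hj, Set.mem_insert _ _⟩
      · exact ⟨Set.mem_insert_of_mem _ (hE a ha).1, Set.mem_insert_of_mem _ (hE a ha).2⟩
    · refine ih (insert j' S) (insert ⟨j', j, f⟩ E) (Set.insert_nonempty _ _) hcard ?_
        (H2PLimG_insert_in D G S E hE h j j' f hj hj')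
      intro a ha
      rcases ha with rfl | ha
      · exact ⟨Set.mem_insert _ _, Set.mem_insert_of_mem _ hj⟩
      · exact ⟨Set.mem_insert_of_mem _ (hE a ha).1, Set.mem_insert_of_mem _ (hE a ha).2⟩

lemma H2PLimG_fill [HasEqualizers C] [PreservesLimitsOfShape WalkingParallelPair G]
    (l : List (H2Arr J)) :
    ∀ (E : Set (H2Arr J)), H2PLimG D G Set.univ E → H2PLimG D G Set.univ (E ∪ {a | a ∈ l}) := by
  induction l with
  | nil =>
    intro E h
    simpa using h
  | cons a l ih =>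
    intro E h
    have := ih (insert a E) (H2PLimG_insert_arrow D G _ E h a (Set.mem_univ _) (Set.mem_univ _))
    convert this using 1
    ext x
    simp only [List.mem_cons, Set.mem_union, Set.mem_setOf_eq, Set.mem_insert_iff]
    tauto

theorem H2_preservesLimit_of_connected [HasEqualizers C] [HasPullbacks C]
    [PreservesLimitsOfShape WalkingCospan G] [PreservesLimitsOfShape WalkingParallelPair G]
    [FinCategory J] [IsConnected J] : PreservesLimit D G := by
  classical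
  obtain ⟨j₀⟩ : Nonempty J := inferInstance
  obtain ⟨E', hE'⟩ := H2PLimG_grow D G _ {j₀} ∅ ⟨j₀, rfl⟩ rfl (by simp) (H2PLimG_singleton D G j₀)
  have h := H2PLimG_fill D G (Finset.univ : Finset (H2Arr J)).toList E' hE'
  have hall : E' ∪ {a | a ∈ (Finset.univ : Finset (H2Arr J)).toList} = Set.univ := by
    ext x
    simp
  rw [hall] at h
  obtain ⟨P, p, ⟨hp, hP⟩, ⟨hp', hP'⟩⟩ := h
  let c : Cone D :=
    { pt := P
      π :=
        { app := fun j => p j (Set.mem_univ j)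
          naturality := fun j j' f => by
            dsimp
            rw [Category.id_comp]
            exact (hp ⟨j, j', f⟩ (Set.mem_univ _) (Set.mem_univ _) (Set.mem_univ _)).symm } }
  have hc : IsLimit c := by
    refine IsLimit.ofExistsUnique ?_
    intro s
    obtain ⟨u, hu, huniq⟩ := hP s.pt (fun j _ => s.π.app j) (by
      intro a _ _ _
      exact s.w a.2.2)
    exact ⟨u, fun j => hu j (Set.mem_univ j), fun w hw => huniq w (fun j _ => hw j)⟩
  have hc' : IsLimit (G.mapCone c) := by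
    refine IsLimit.ofExistsUnique ?_
    intro s
    obtain ⟨u, hu, huniq⟩ := hP' s.pt (fun j _ => s.π.app j) (by
      intro a _ _ _
      exact s.w a.2.2)
    exact ⟨u, fun j => hu j (Set.mem_univ j), fun w hw => huniq w (fun j _ => hw j)⟩
  exact preservesLimit_of_preserves_limit_cone hc hc'

theorem H2_preservesLimitsOfShape_of_connected [HasEqualizers C] [HasPullbacks C]
    [PreservesLimitsOfShape WalkingCospan G] [PreservesLimitsOfShape WalkingParallelPair G]
    (J : Type) [SmallCategory J] [FinCategory J] [IsConnected J] :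
    PreservesLimitsOfShape J G :=
  ⟨fun {D} => H2_preservesLimit_of_connected D G⟩

end Groth.Agent.H2
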