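import Mathlib
import Groth.Agent.Lib.helper2.ConnLimPres

set_option autoImplicit false
universe v u

namespace Groth.Agent.H2

open CategoryTheory Limits

variable {I : Type v} [SmallCategory I]

lemma H2_eqvGen_colimitTypeRel
    (h1 : ∀ ⦃w x y : I⦄ (a : w ⟶ x) (b : w ⟶ y), ∃ (z : I) (c : x ⟶ z) (d : y ⟶ z),
      a ≫ c = b ≫ d)
    (X : I ⥤ Type v) (p p' : Σ j, X.obj j) (h : Relation.EqvGen X.ColimitTypeRel p p') :
    ∃ (k : I) (f : p.1 ⟶ k) (f' : p'.1 ⟶ k), X.map f p.2 = X.map f' p'.2 := by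
  induction h with
  | rel x y hxy =>
    obtain ⟨f, hf⟩ := hxy
    refine ⟨y.1, f, 𝟙 _, ?_⟩
    rw [hf]
    simp
  | refl x => exact ⟨x.1, 𝟙 _, 𝟙 _, rfl⟩
  | symm x y _ ih =>
    obtain ⟨k, f, f', hf⟩ := ih
    exact ⟨k, f', f, hf.symm⟩
  | trans x y z _ _ ih1 ih2 =>
    obtain ⟨k, f, f', hf⟩ := ih1
    obtain ⟨k', g, g', hg⟩ := ih2
    obtain ⟨m, c, d, hcd⟩ := h1 f' g
    refine ⟨m, f ≫ c, g' ≫ d, ?_⟩
    calc X.map (f ≫ c) x.2 = X.map c (X.map f x.2) := by simp
      _ = X.map c (X.map f' y.2) := by rw [hf]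
      _ = X.map (f' ≫ c) y.2 := by simp
      _ = X.map (g ≫ d) y.2 := by rw [hcd]
      _ = X.map d (X.map g y.2) := by simp
      _ = X.map d (X.map g' z.2) := by rw [hg]
      _ = X.map (g' ≫ d) z.2 := by simp

lemma H2_colimit_ι_eq_iff
    (h1 : ∀ ⦃w x y : I⦄ (a : w ⟶ x) (b : w ⟶ y), ∃ (z : I) (c : x ⟶ z) (d : y ⟶ z),
      a ≫ c = b ≫ d)
    (X : I ⥤ Type v) {i i' : I} (y : X.obj i) (y' : X.obj i') :
    colimit.ι X i y = colimit.ι X i' y' ↔
      ∃ (k : I) (f : i ⟶ k) (f' : i' ⟶ k), X.map f y = X.map f' y' := by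
  constructor
  · intro w
    exact H2_eqvGen_colimitTypeRel h1 X ⟨i, y⟩ ⟨i', y'⟩ (Types.colimit_eq w)
  · rintro ⟨k, f, f', hf⟩
    exact Types.colimit_sound' f f' hf

end Groth.Agent.H2

namespace Groth.Agent.H2

open CategoryTheory Limits

variable {I : Type v} [SmallCategory I]

/-- Pointwise description of an equalizer in a functor category to types. -/
lemma H2_equalizer_app_unique {X Y : I ⥤ Type v} (a b : X ⟶ Y) (i : I) (y : X.obj i)
    (hy : a.app i y = b.app i y) : ∃! x : (equalizer a b).obj i, (equalizer.ι a b).app i x = y := by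
  have hl := isLimitForkMapOfIsLimit ((evaluation I (Type v)).obj i) (equalizer.condition a b)
    (equalizerIsEqualizer a b)
  exact Types.unique_of_type_equalizer _ _ hl y hy

lemma H2_equalizer_app_injective {X Y : I ⥤ Type v} (a b : X ⟶ Y) (i : I) :
    Function.Injective ((equalizer.ι a b).app i) := by
  intro x x' h
  have hc : a.app i ((equalizer.ι a b).app i x) = b.app i ((equalizer.ι a b).app i x) := by
    have h1 := congrArg (fun t : equalizer a b ⟶ Y => t.app i) (equalizer.condition a b)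
    have h2 := ConcreteCategory.congr_hom h1 x
    simpa using h2
  obtain ⟨x₀, _, huniq⟩ := H2_equalizer_app_unique a b i _ hc
  rw [huniq x rfl, huniq x' h.symm]

end Groth.Agent.H2

namespace Groth.Agent.H2

open CategoryTheory Limits

variable {I : Type v} [SmallCategory I]

lemma H2_colim_map_ι {X Y : I ⥤ Type v} (α : X ⟶ Y) (i : I) (x : X.obj i) :
    (colim : (I ⥤ Type v) ⥤ Type v).map α (colimit.ι X i x) = colimit.ι Y i (α.app i x) :=
  ConcreteCategory.congr_hom (colimit.ι_map α i) x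

theorem H2_colim_preservesEqualizers
    (h1 : ∀ ⦃w x y : I⦄ (a : w ⟶ x) (b : w ⟶ y), ∃ (z : I) (c : x ⟶ z) (d : y ⟶ z),
      a ≫ c = b ≫ d)
    (h2 : ∀ ⦃x y : I⦄ (a b : x ⟶ y), ∃ (z : I) (c : y ⟶ z), a ≫ c = b ≫ c) :
    PreservesLimitsOfShape WalkingParallelPair (colim : (I ⥤ Type v) ⥤ Type v) := by
  suffices h : ∀ {X Y : I ⥤ Type v} (a b : X ⟶ Y),
      PreservesLimit (parallelPair a b) (colim : (I ⥤ Type v) ⥤ Type v) from
    ⟨fun {K} => preservesLimit_of_iso_diagram _ (diagramIsoParallelPair K).symm⟩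
  intro X Y a b
  apply preservesLimit_of_preserves_limit_cone (equalizerIsEqualizer a b)
  refine (isLimitMapConeForkEquiv colim (equalizer.condition a b)).symm ?_
  refine ((Types.type_equalizer_iff_unique _ _).2 ?_).some
  intro y hy
  obtain ⟨i, y₀, rfl⟩ := Types.jointly_surjective' y
  rw [H2_colim_map_ι, H2_colim_map_ι, H2_colimit_ι_eq_iff h1] at hy
  obtain ⟨k, f, f', hf⟩ := hy
  obtain ⟨z, c, hc⟩ := h2 f f'
  have hF : Y.map (f ≫ c) (a.app i y₀) = Y.map (f ≫ c) (b.app i y₀) := by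
    calc Y.map (f ≫ c) (a.app i y₀) = Y.map c (Y.map f (a.app i y₀)) := by simp
      _ = Y.map c (Y.map f' (b.app i y₀)) := by rw [hf]
      _ = Y.map (f' ≫ c) (b.app i y₀) := by simp
      _ = Y.map (f ≫ c) (b.app i y₀) := by rw [hc]
  have hF' : a.app z (X.map (f ≫ c) y₀) = b.app z (X.map (f ≫ c) y₀) := by
    rw [FunctorToTypes.naturality, FunctorToTypes.naturality, hF]
  obtain ⟨x₀, hx₀, _⟩ := H2_equalizer_app_unique a b z _ hF'
  refine ⟨colimit.ι (equalizer a b) z x₀, ?_, ?_⟩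
  · change colim.map (equalizer.ι a b) (colimit.ι (equalizer a b) z x₀) = _
    rw [H2_colim_map_ι, hx₀, colimit.w_apply]
  · intro x' hx'
    change colim.map (equalizer.ι a b) x' = _ at hx'
    obtain ⟨i', x₀', rfl⟩ := Types.jointly_surjective' x'
    have e1 : colim.map (equalizer.ι a b) (colimit.ι (equalizer a b) z x₀) =
        colimit.ι X i y₀ := by
      rw [H2_colim_map_ι, hx₀, colimit.w_apply]
    rw [← e1, H2_colim_map_ι, H2_colim_map_ι, H2_colimit_ι_eq_iff h1] at hx'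
    obtain ⟨k', g, g', hg⟩ := hx'
    rw [← FunctorToTypes.naturality, ← FunctorToTypes.naturality] at hg
    have := H2_equalizer_app_injective a b k' hg
    exact Types.colimit_sound' g g' this

end Groth.Agent.H2

namespace Groth.Agent.H2

open CategoryTheory Limits

variable {I : Type v} [SmallCategory I]

theorem H2_colim_preservesPullbacks
    (h1 : ∀ ⦃w x y : I⦄ (a : w ⟶ x) (b : w ⟶ y), ∃ (z : I) (c : x ⟶ z) (d : y ⟶ z),
      a ≫ c = b ≫ d)
    (h2 : ∀ ⦃x y : I⦄ (a b : x ⟶ y), ∃ (z : I) (c : y ⟶ z), a ≫ c = b ≫ c) :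
    PreservesLimitsOfShape WalkingCospan (colim : (I ⥤ Type v) ⥤ Type v) := by
  apply preservesLimitsOfShape_walkingCospan_of_forall_isPullback
  intro X Y Z a b _
  refine ⟨pullback a b, pullback.fst a b, pullback.snd a b, IsPullback.of_hasPullback a b, ?_⟩
  rw [Types.isPullback_iff]
  refine ⟨?_, ?_, ?_⟩
  · rw [← Functor.map_comp, ← Functor.map_comp, pullback.condition]
  · rintro x x' ⟨hx1, hx2⟩
    obtain ⟨i, x₀, rfl⟩ := Types.jointly_surjective' x
    obtain ⟨i', x₀', rfl⟩ := Types.jointly_surjective' x'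
    rw [H2_colim_map_ι, H2_colim_map_ι, H2_colimit_ι_eq_iff h1] at hx1 hx2
    obtain ⟨k, f, f', hf⟩ := hx1
    obtain ⟨l, g, g', hg⟩ := hx2
    obtain ⟨z, c, d, hcd⟩ := h1 f g
    obtain ⟨z', w, hw⟩ := h2 (f' ≫ c) (g' ≫ d)
    apply Types.colimit_sound' (f ≫ c ≫ w) (f' ≫ c ≫ w)
    have hpb := (IsPullback.of_hasPullback a b).app z'
    apply Types.ext_of_isPullback hpb
    · rw [FunctorToTypes.naturality, FunctorToTypes.naturality]
      calc X.map (f ≫ c ≫ w) ((pullback.fst a b).app i x₀)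
          = X.map (c ≫ w) (X.map f ((pullback.fst a b).app i x₀)) := by simp
        _ = X.map (c ≫ w) (X.map f' ((pullback.fst a b).app i' x₀')) := by rw [hf]
        _ = X.map (f' ≫ c ≫ w) ((pullback.fst a b).app i' x₀') := by simp
    · rw [FunctorToTypes.naturality, FunctorToTypes.naturality]
      calc Y.map (f ≫ c ≫ w) ((pullback.snd a b).app i x₀)
          = Y.map ((g ≫ d) ≫ w) ((pullback.snd a b).app i x₀) := by
            rw [← hcd, Category.assoc]
        _ = Y.map (d ≫ w) (Y.map g ((pullback.snd a b).app i x₀)) := by simp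
        _ = Y.map (d ≫ w) (Y.map g' ((pullback.snd a b).app i' x₀')) := by rw [hg]
        _ = Y.map ((g' ≫ d) ≫ w) ((pullback.snd a b).app i' x₀') := by simp
        _ = Y.map ((f' ≫ c) ≫ w) ((pullback.snd a b).app i' x₀') := by rw [hw]
        _ = Y.map (f' ≫ c ≫ w) ((pullback.snd a b).app i' x₀') := by rw [Category.assoc]
  · intro x y hxy
    obtain ⟨i, x₀, rfl⟩ := Types.jointly_surjective' x
    obtain ⟨i', y₀, rfl⟩ := Types.jointly_surjective' y
    rw [H2_colim_map_ι, H2_colim_map_ι, H2_colimit_ι_eq_iff h1] at hxy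
    obtain ⟨k, f, f', hf⟩ := hxy
    have hpb := (IsPullback.of_hasPullback a b).app k
    obtain ⟨p₀, hp1, hp2⟩ := Types.exists_of_isPullback hpb (X.map f x₀) (Y.map f' y₀) (by
      rw [FunctorToTypes.naturality, FunctorToTypes.naturality, hf])
    refine ⟨colimit.ι (pullback a b) k p₀, ?_, ?_⟩
    · rw [H2_colim_map_ι, hp1, colimit.w_apply]
    · rw [H2_colim_map_ι, hp2, colimit.w_apply]

theorem H2_colim_preservesConnected
    (h1 : ∀ ⦃w x y : I⦄ (a : w ⟶ x) (b : w ⟶ y), ∃ (z : I) (c : x ⟶ z) (d : y ⟶ z),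
      a ≫ c = b ≫ d)
    (h2 : ∀ ⦃x y : I⦄ (a b : x ⟶ y), ∃ (z : I) (c : y ⟶ z), a ≫ c = b ≫ c)
    (J : Type) [SmallCategory J] [FinCategory J] [IsConnected J] :
    PreservesLimitsOfShape J (colim : (I ⥤ Type v) ⥤ Type v) := by
  have := H2_colim_preservesPullbacks h1 h2
  have := H2_colim_preservesEqualizers h1 h2
  exact H2_preservesLimitsOfShape_of_connected _ J

end Groth.Agent.H2
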