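import Mathlib

set_option autoImplicit false

namespace Groth.Agent.H2

open CategoryTheory

universe u

variable {Λ : Type u} [CommRing Λ]

/-- alternating trace over `[a,b]` -/
noncomputable def H2altTr (P : CochainComplex (ModuleCat.{u} Λ) ℤ) (a b : ℤ) (f : P ⟶ P) : Λ :=
  ∑ i ∈ Finset.Icc a b, ((i.negOnePow : ℤˣ) : ℤ) • LinearMap.trace Λ (P.X i) (f.f i).hom

lemma H2altTr_comm (P Q : CochainComplex (ModuleCat.{u} Λ) ℤ) (a b : ℤ)
    (hPf : ∀ i : ℤ, Module.Finite Λ (P.X i) ∧ Module.Free Λ (P.X i))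
    (hQf : ∀ i : ℤ, Module.Finite Λ (Q.X i) ∧ Module.Free Λ (Q.X i))
    (φ : P ⟶ Q) (ψ : Q ⟶ P) :
    H2altTr P a b (φ ≫ ψ) = H2altTr Q a b (ψ ≫ φ) := by
  unfold H2altTr
  refine Finset.sum_congr rfl fun i _ => ?_
  congr 1
  haveI := (hPf i).1
  haveI := (hPf i).2
  haveI := (hQf i).1
  haveI := (hQf i).2
  have h1 : ((φ ≫ ψ).f i).hom = (ψ.f i).hom ∘ₗ (φ.f i).hom := by
    rw [HomologicalComplex.comp_f, ModuleCat.hom_comp]
  have h2 : ((ψ ≫ φ).f i).hom = (φ.f i).hom ∘ₗ (ψ.f i).hom := by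
    rw [HomologicalComplex.comp_f, ModuleCat.hom_comp]
  rw [h1, h2]
  exact LinearMap.trace_comp_comm' _ _

end Groth.Agent.H2

namespace Groth.Agent.H2

open CategoryTheory

universe u

variable {Λ : Type u} [CommRing Λ]

lemma H2_trace_eq_zero_of_isZero_src {M : ModuleCat.{u} Λ} (hM : Limits.IsZero M) (f : M ⟶ M) :
    LinearMap.trace Λ M f.hom = 0 := by
  have : f = 0 := hM.eq_of_src _ _
  rw [this]
  simp

lemma H2altTr_eq_of_homotopy (P : CochainComplex (ModuleCat.{u} Λ) ℤ) (a b : ℤ)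
    (hP : ∀ i : ℤ, i < a ∨ b < i → Limits.IsZero (P.X i))
    (hPf : ∀ i : ℤ, Module.Finite Λ (P.X i) ∧ Module.Free Λ (P.X i))
    {u v : P ⟶ P} (h : Homotopy u v) :
    H2altTr P a b u = H2altTr P a b v := by
  let t : ℤ → ℤ → Λ := fun i j => LinearMap.trace Λ (P.X i) (P.d i j ≫ h.hom j i).hom
  let c : ℤ → Λ := fun i => ((i.negOnePow : ℤˣ) : ℤ) • t i (i + 1)
  have hc_lo : ∀ i, i < a → c i = 0 := by
    intro i hi
    simp only [c, t]
    rw [H2_trace_eq_zero_of_isZero_src (hP i (Or.inl hi)), smul_zero]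
  have hc_hi : ∀ i, b ≤ i → c i = 0 := by
    intro i hi
    simp only [c, t]
    have : P.d i (i + 1) ≫ h.hom (i + 1) i = 0 := by
      rw [(hP (i + 1) (Or.inr (by omega))).eq_of_tgt (P.d i (i + 1)) 0, Limits.zero_comp]
    rw [this]
    simp
  have key : ∀ i, ((i.negOnePow : ℤˣ) : ℤ) • LinearMap.trace Λ (P.X i) (u.f i).hom =
      ((i.negOnePow : ℤˣ) : ℤ) • LinearMap.trace Λ (P.X i) (v.f i).hom + (c i - c (i - 1)) := by
    intro i
    haveI := (hPf i).1
    haveI := (hPf i).2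
    haveI := (hPf (i - 1)).1
    haveI := (hPf (i - 1)).2
    have h1 := h.comm i
    rw [dNext_eq h.hom (show (ComplexShape.up ℤ).Rel i (i + 1) from rfl),
      prevD_eq h.hom (show (ComplexShape.up ℤ).Rel (i - 1) i by simp)] at h1
    have h2 : (u.f i).hom = (P.d i (i + 1) ≫ h.hom (i + 1) i).hom +
        (h.hom i (i - 1) ≫ P.d (i - 1) i).hom + (v.f i).hom := by
      rw [h1]; rfl
    have h3 : LinearMap.trace Λ (P.X i) (h.hom i (i - 1) ≫ P.d (i - 1) i).hom = t (i - 1) i := by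
      simp only [t]
      rw [ModuleCat.hom_comp, ModuleCat.hom_comp]
      exact LinearMap.trace_comp_comm' _ _
    have h4 : t (i - 1) i = t (i - 1) (i - 1 + 1) := congrArg (t (i - 1)) (by ring)
    have h5 : ((i.negOnePow : ℤˣ) : ℤ) = -(((i - 1).negOnePow : ℤˣ) : ℤ) := by
      rw [Int.negOnePow_sub, Int.negOnePow_one]
      simp
    have h6 : ((((i - 1).negOnePow : ℤˣ) : ℤ)) • t (i - 1) i =
        -(((i.negOnePow : ℤˣ) : ℤ) • t (i - 1) i) := by
      rw [h5, neg_smul, neg_neg]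
    rw [h2, map_add, map_add, h3]
    simp only [c]
    rw [← h4, h6]
    simp only [smul_add]
    abel
  unfold H2altTr
  rw [Finset.sum_congr rfl (fun i _ => key i), Finset.sum_add_distrib, Finset.sum_sub_distrib]
  have e1 : ∑ i ∈ Finset.Icc a b, c (i - 1) = ∑ j ∈ Finset.Icc (a - 1) (b - 1), c j := by
    refine Finset.sum_nbij' (fun i => i - 1) (fun j => j + 1) ?_ ?_ ?_ ?_ ?_
    · intro i hi; simp only [Finset.mem_Icc] at hi ⊢; omega
    · intro j hj; simp only [Finset.mem_Icc] at hj ⊢; omega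
    · intro i _; ring
    · intro j _; ring
    · intro i _; rfl
  have e2 : ∑ i ∈ Finset.Icc a b, c i = ∑ i ∈ Finset.Icc (a - 1) b, c i := by
    apply Finset.sum_subset
    · intro i hi; simp only [Finset.mem_Icc] at hi ⊢; omega
    · intro i hi hi'
      simp only [Finset.mem_Icc] at hi hi'
      exact hc_lo i (by omega)
  have e3 : ∑ j ∈ Finset.Icc (a - 1) (b - 1), c j = ∑ i ∈ Finset.Icc (a - 1) b, c i := by
    apply Finset.sum_subset
    · intro i hi; simp only [Finset.mem_Icc] at hi ⊢; omega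
    · intro i hi hi'
      simp only [Finset.mem_Icc] at hi hi'
      exact hc_hi i (by omega)
  rw [e1, e2, e3, sub_self, add_zero]

end Groth.Agent.H2

namespace Groth.Agent.H2

open CategoryTheory

universe u

attribute [local instance] HasDerivedCategory.standard

variable {Λ : Type u} [CommRing Λ]

lemma H2_isKProjective_of_bounded_free (P : CochainComplex (ModuleCat.{u} Λ) ℤ) (b : ℤ)
    (hP : ∀ i : ℤ, b < i → Limits.IsZero (P.X i))
    (hPf : ∀ i : ℤ, Module.Finite Λ (P.X i) ∧ Module.Free Λ (P.X i)) :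
    P.IsKProjective := by
  haveI : P.IsStrictlyLE b := by
    rw [CochainComplex.isStrictlyLE_iff]
    exact hP
  haveI : ∀ n : ℤ, Projective (P.X n) := by
    intro n
    haveI := (hPf n).2
    have : Module.Projective Λ (P.X n) := inferInstance
    exact (IsProjective.iff_projective (P.X n)).mp this
  exact CochainComplex.isKProjective_of_projective P b

/-- lift a morphism in the derived category between K-projective complexes to a chain map,
uniquely up to homotopy -/
lemma H2_exists_lift (P Q : CochainComplex (ModuleCat.{u} Λ) ℤ) [P.IsKProjective]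
    (α : DerivedCategory.Q.obj P ⟶ DerivedCategory.Q.obj Q) :
    ∃ φ : P ⟶ Q, DerivedCategory.Q.map φ = α := by
  obtain ⟨φh, hφ⟩ := (CochainComplex.IsKProjective.Qh_map_bijective P
    ((HomotopyCategory.quotient _ _).obj Q)).surjective
    ((DerivedCategory.quotientCompQhIso _).hom.app P ≫ α ≫
      (DerivedCategory.quotientCompQhIso _).inv.app Q)
  obtain ⟨φ, rfl⟩ := (HomotopyCategory.quotient _ _).map_surjective φh
  refine ⟨φ, ?_⟩
  have := (DerivedCategory.quotientCompQhIso (ModuleCat.{u} Λ)).hom.naturality φ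
  simp only [Functor.comp_map] at this
  rw [hφ] at this
  simp only [Category.assoc, Iso.inv_hom_id_app, Category.comp_id] at this
  exact ((cancel_epi _).mp this).symm

lemma H2_homotopy_of_Q_map_eq (P Q : CochainComplex (ModuleCat.{u} Λ) ℤ) [P.IsKProjective]
    (φ ψ : P ⟶ Q) (h : DerivedCategory.Q.map φ = DerivedCategory.Q.map ψ) :
    Nonempty (Homotopy φ ψ) := by
  refine ⟨HomotopyCategory.homotopyOfEq _ _ ?_⟩
  apply (CochainComplex.IsKProjective.Qh_map_bijective P
    ((HomotopyCategory.quotient _ _).obj Q)).injective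
  have h1 := (DerivedCategory.quotientCompQhIso (ModuleCat.{u} Λ)).hom.naturality φ
  have h2 := (DerivedCategory.quotientCompQhIso (ModuleCat.{u} Λ)).hom.naturality ψ
  simp only [Functor.comp_map] at h1 h2
  rw [← cancel_mono ((DerivedCategory.quotientCompQhIso (ModuleCat.{u} Λ)).hom.app Q), h1, h2, h]

theorem H2_altTrace_eq_of_iso (P Q : CochainComplex (ModuleCat.{u} Λ) ℤ) (a b : ℤ)
    (hP : ∀ i : ℤ, i < a ∨ b < i → Limits.IsZero (P.X i))
    (hQ : ∀ i : ℤ, i < a ∨ b < i → Limits.IsZero (Q.X i))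
    (hPf : ∀ i : ℤ, Module.Finite Λ (P.X i) ∧ Module.Free Λ (P.X i))
    (hQf : ∀ i : ℤ, Module.Finite Λ (Q.X i) ∧ Module.Free Λ (Q.X i))
    (f : P ⟶ P) (g : Q ⟶ Q) (α : DerivedCategory.Q.obj P ≅ DerivedCategory.Q.obj Q)
    (h : α.hom ≫ DerivedCategory.Q.map g = DerivedCategory.Q.map f ≫ α.hom) :
    H2altTr P a b f = H2altTr Q a b g := by
  haveI := H2_isKProjective_of_bounded_free P b (fun i hi => hP i (Or.inr hi)) hPf
  haveI := H2_isKProjective_of_bounded_free Q b (fun i hi => hQ i (Or.inr hi)) hQf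
  obtain ⟨φ, hφ⟩ := H2_exists_lift P Q α.hom
  obtain ⟨ψ, hψ⟩ := H2_exists_lift Q P α.inv
  obtain ⟨h1⟩ := H2_homotopy_of_Q_map_eq P P f (φ ≫ g ≫ ψ) (by
    rw [Functor.map_comp, Functor.map_comp, hφ, hψ, ← Category.assoc, h, Category.assoc,
      Iso.hom_inv_id, Category.comp_id])
  obtain ⟨h2⟩ := H2_homotopy_of_Q_map_eq Q Q ((g ≫ ψ) ≫ φ) g (by
    rw [Functor.map_comp, Functor.map_comp, hφ, hψ, Category.assoc, Iso.inv_hom_id,
      Category.comp_id])
  rw [H2altTr_eq_of_homotopy P a b hP hPf h1, H2altTr_comm P Q a b hPf hQf φ (g ≫ ψ),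
    H2altTr_eq_of_homotopy Q a b hQ hQf h2]

end Groth.Agent.H2
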