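import Mathlib
import Groth.Agent.S4186

set_option autoImplicit false

namespace Groth.Agent.H2

open CategoryTheory AlgebraicGeometry Topology TopologicalSpace An

/-- a `ℂ`-point of `Y` whose underlying point is in the range of a morphism locally of finite type
lifts to a `ℂ`-point of the source -/
lemma H2an_exists_lift {X Y : Scheme.{0}} [X.Over An.SC] [Y.Over An.SC] (f : X ⟶ Y)
    [f.IsOver An.SC] [LocallyOfFiniteType f] (y : An.Pts Y) (hy : y.pt ∈ Set.range f) :
    ∃ x : An.Pts X, An.Pts.map f x = y := by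
  obtain ⟨x₀, hx₀⟩ := hy
  let P := Limits.pullback f y.1
  letI : P.Over An.SC := ⟨Limits.pullback.snd f y.1⟩
  haveI : LocallyOfFiniteType (P ↘ An.SC) := by
    change LocallyOfFiniteType (Limits.pullback.snd f y.1)
    infer_instance
  obtain ⟨z, -, -⟩ := Scheme.Pullback.exists_preimage_pullback (f := f) (g := y.1) x₀ An.cpt hx₀
  obtain ⟨q⟩ := (Groth.Agent.S4186.result P).1 ⟨z⟩
  have hq : q.1 ≫ Limits.pullback.snd f y.1 = 𝟙 _ := q.2
  have hxy : (q.1 ≫ Limits.pullback.fst f y.1) ≫ f = y.1 := by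
    rw [Category.assoc, Limits.pullback.condition, ← Category.assoc, hq, Category.id_comp]
  refine ⟨⟨q.1 ≫ Limits.pullback.fst f y.1, ?_⟩, Subtype.ext hxy⟩
  rw [← comp_over f An.SC, ← Category.assoc, hxy]
  exact y.2

lemma H2an_range_map {X Y : Scheme.{0}} [X.Over An.SC] [Y.Over An.SC] (f : X ⟶ Y)
    [f.IsOver An.SC] [LocallyOfFiniteType f] :
    Set.range (An.Pts.map f) = An.Pts.pt ⁻¹' (Set.range f) := by
  ext y
  constructor
  · rintro ⟨x, rfl⟩
    change (An.Pts.map f x).pt ∈ Set.range f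
    rw [An.Pts.pt_map]
    exact ⟨x.pt, rfl⟩
  · intro hy
    exact H2an_exists_lift f y hy

lemma H2an_ev_restrict {X : Scheme.{0}} [X.Over An.SC] (x : An.Pts X) (U W : X.Opens) (hWU : W ≤ U)
    (hW : x.pt ∈ W) (s : Γ(X, U)) :
    x.ev W hW (X.presheaf.map (homOfLE hWU).op s) = x.ev U (hWU hW) s := by
  unfold An.Pts.ev
  congr 1
  have := congrArg (fun t => t.hom s)
    (Scheme.Hom.map_appLE x.1 (An.Pts.top_le_preimage x hW) (homOfLE hWU).op)
  exact this

lemma H2an_basicSet_restrict {X : Scheme.{0}} [X.Over An.SC] (U W : X.Opens) (hWU : W ≤ U)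
    (s : Γ(X, U)) (V : Set ℂ) :
    An.Pts.basicSet W (X.presheaf.map (homOfLE hWU).op s) V =
      An.Pts.basicSet U s V ∩ An.Pts.pt ⁻¹' (W : Set X) := by
  ext x
  constructor
  · rintro ⟨hW, hv⟩
    refine ⟨⟨hWU hW, ?_⟩, hW⟩
    rw [← H2an_ev_restrict x U W hWU hW s]
    exact hv
  · rintro ⟨⟨hU, hv⟩, hW⟩
    refine ⟨hW, ?_⟩
    rw [H2an_ev_restrict x U W hWU hW s]
    exact hv

end Groth.Agent.H2
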