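import Mathlib

/-!
Noetherian domains in which a single nonzero element lies in every nonzero prime
(equivalently: the generic point of the spectrum is open).
-/

namespace Groth.Agent.H2

open Ideal

/-- Key lemma: if `f ≠ 0` lies in every nonzero prime of a Noetherian domain, then every nonzero
prime is minimal over `(f)`. -/
theorem H2_mem_minimalPrimes_span_of_forall_mem {B : Type*} [CommRing B] [IsDomain B]
    [IsNoetherianRing B] (f : B) (hf : f ≠ 0)
    (h : ∀ P : Ideal B, P.IsPrime → P ≠ ⊥ → f ∈ P) (P : Ideal B) [hPp : P.IsPrime] (hP : P ≠ ⊥) :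
    P ∈ (Ideal.span {f}).minimalPrimes := by
  classical
  by_contra hPM
  have hfin : ((Ideal.span {f}).minimalPrimes).Finite :=
    Ideal.finite_minimalPrimes_of_isNoetherianRing B _
  have hfP : Ideal.span {f} ≤ P := by
    rw [Ideal.span_singleton_le_iff_mem]; exact h P hPp hP
  -- P not in the union of minimal primes over (f)
  have hnot : ¬ ((P : Set B) ⊆ ⋃ Q ∈ (Ideal.span {f}).minimalPrimes, (id Q : Ideal B)) := by
    intro hsub
    obtain ⟨Q, hQ, hPQ⟩ := (Ideal.subset_union_prime_finite hfin (f := id) ⊥ ⊥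
      (fun Q hQ _ _ => hQ.1.1)).mp hsub
    have hQP : Q ≤ P := hQ.2 ⟨hPp, hfP⟩ hPQ
    have : P = Q := le_antisymm hPQ hQP
    exact hPM (this ▸ hQ)
  obtain ⟨x, hxP, hx⟩ := Set.not_subset.mp hnot
  simp only [Set.mem_iUnion, not_exists] at hx
  -- minimal prime over (x) inside P
  have hxP' : Ideal.span {x} ≤ P := by
    rw [Ideal.span_singleton_le_iff_mem]; exact hxP
  obtain ⟨P', hP', hP'P⟩ := Ideal.exists_minimalPrimes_le hxP'
  haveI : P'.IsPrime := hP'.1.1
  have hxP'mem : x ∈ P' := hP'.1.2 (Ideal.subset_span rfl)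
  have hx0 : x ≠ 0 := by
    rintro rfl
    obtain ⟨Q, hQ, -⟩ := Ideal.exists_minimalPrimes_le hfP
    exact hx Q hQ (Q.zero_mem)
  have hP'ne : P' ≠ ⊥ := by
    rintro rfl
    exact hx0 (by simpa using hxP'mem)
  have hht : P'.height ≤ 1 :=
    Ideal.height_le_one_of_isPrincipal_of_mem_minimalPrimes (Ideal.span {x}) P' hP'
  have hfP' : Ideal.span {f} ≤ P' := by
    rw [Ideal.span_singleton_le_iff_mem]; exact h P' inferInstance hP'ne
  obtain ⟨Q, hQ, hQP'⟩ := Ideal.exists_minimalPrimes_le hfP'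
  haveI : Q.IsPrime := hQ.1.1
  have hQne : Q ≠ ⊥ := by
    rintro rfl
    exact hf (by simpa using hQ.1.2 (Ideal.subset_span (rfl : f ∈ ({f} : Set B))))
  have hQht : 1 ≤ Q.height := by
    rw [Order.one_le_iff_pos, pos_iff_ne_zero, Ne, Ideal.height_eq_zero_iff_eq_bot]
    exact hQne
  haveI : Q.FiniteHeight := by
    refine ⟨Or.inr ?_⟩
    have : Q.height ≤ 1 := (Ideal.height_mono hQP').trans hht
    exact ne_top_of_le_ne_top (by simp) this
  have hQeq : Q = P' := Ideal.eq_of_le_of_height_le Q hQP' (hht.trans hQht)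
  exact hx Q hQ (hQeq ▸ hxP'mem)

/-- Under the same hypothesis, every nonzero prime is maximal. -/
theorem H2_isMaximal_of_forall_mem {B : Type*} [CommRing B] [IsDomain B]
    [IsNoetherianRing B] (f : B) (hf : f ≠ 0)
    (h : ∀ P : Ideal B, P.IsPrime → P ≠ ⊥ → f ∈ P) (P : Ideal B) [hPp : P.IsPrime] (hP : P ≠ ⊥) :
    P.IsMaximal := by
  obtain ⟨M, hM, hPM⟩ := Ideal.exists_le_maximal P hPp.ne_top
  haveI := hM.isPrime
  have hMne : M ≠ ⊥ := fun hM0 => hP (le_bot_iff.mp (hM0 ▸ hPM))
  have hMmin := H2_mem_minimalPrimes_span_of_forall_mem f hf h M hMne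
  have hfP : Ideal.span {f} ≤ P := by
    rw [Ideal.span_singleton_le_iff_mem]; exact h P hPp hP
  have : M ≤ P := hMmin.2 ⟨hPp, hfP⟩ hPM
  rwa [le_antisymm hPM this]

/-- Under the same hypothesis, the set of prime ideals is finite. -/
theorem H2_finite_primes_of_forall_mem {B : Type*} [CommRing B] [IsDomain B]
    [IsNoetherianRing B] (f : B) (hf : f ≠ 0)
    (h : ∀ P : Ideal B, P.IsPrime → P ≠ ⊥ → f ∈ P) :
    {P : Ideal B | P.IsPrime}.Finite := by
  have hfin : ((Ideal.span {f}).minimalPrimes).Finite :=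
    Ideal.finite_minimalPrimes_of_isNoetherianRing B _
  refine (hfin.union (Set.finite_singleton ⊥)).subset ?_
  intro P hP
  by_cases hP0 : P = ⊥
  · right; exact hP0
  · left
    haveI : P.IsPrime := hP
    exact H2_mem_minimalPrimes_span_of_forall_mem f hf h P hP0

end Groth.Agent.H2
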