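import Mathlib

set_option autoImplicit false

namespace Groth.Agent.H2

variable {D : Type*} [CommRing D] [IsDomain D]

lemma H2_away_injective (g : D) (hg : g ≠ 0) :
    Function.Injective (algebraMap D (Localization.Away g)) :=
  IsLocalization.injective (Localization.Away g)
    (powers_le_nonZeroDivisors_of_noZeroDivisors hg)

/-- F1 -/
theorem H2_isField_away_of_forall_mem (g : D) (hg : g ≠ 0)
    (h : ∀ Q : Ideal D, Q.IsPrime → Q ≠ ⊥ → g ∈ Q) : IsField (Localization.Away g) := by
  haveI : IsDomain (Localization.Away g) :=
    IsLocalization.isDomain_localization (powers_le_nonZeroDivisors_of_noZeroDivisors hg)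
  by_contra hnf
  obtain ⟨q, hq0, hqp⟩ := Ring.not_isField_iff_exists_prime.mp hnf
  have hQp : (q.comap (algebraMap D (Localization.Away g))).IsPrime := inferInstance
  have hQ0 : q.comap (algebraMap D (Localization.Away g)) ≠ ⊥ := by
    intro h0
    apply hq0
    rw [← IsLocalization.map_comap (Submonoid.powers g) (Localization.Away g) q]
    change Ideal.map _ (q.comap (algebraMap D (Localization.Away g))) = ⊥
    rw [h0, Ideal.map_bot]
  have hgQ := h _ hQp hQ0
  have hu : IsUnit (algebraMap D (Localization.Away g) g) :=
    IsLocalization.map_units (Localization.Away g) (⟨g, Submonoid.mem_powers g⟩ : Submonoid.powers g)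
  exact hqp.ne_top (Ideal.eq_top_of_isUnit_mem _ hgQ hu)

/-- F2 -/
theorem H2_forall_mem_of_isField_away (g : D) (hg : g ≠ 0)
    (hF : IsField (Localization.Away g)) (Q : Ideal D) (hQ : Q.IsPrime) (hQ0 : Q ≠ ⊥) : g ∈ Q := by
  by_contra hgQ
  have hdisj : Disjoint (Submonoid.powers g : Set D) (Q : Set D) := by
    rw [Set.disjoint_left]
    rintro _ ⟨n, rfl⟩ hn
    exact hgQ (hQ.mem_of_pow_mem n hn)
  have hcomap := IsLocalization.comap_map_of_isPrime_disjoint (Submonoid.powers g)
    (Localization.Away g) hQ hdisj
  have hprime := IsLocalization.isPrime_of_isPrime_disjoint (Submonoid.powers g)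
    (Localization.Away g) Q hQ hdisj
  letI := hF.toField
  have hbot : Q.map (algebraMap D (Localization.Away g)) = ⊥ :=
    (Ideal.eq_bot_or_top _).resolve_right hprime.ne_top
  apply hQ0
  rw [← hcomap, hbot]
  change Ideal.comap (algebraMap D (Localization.Away g)) ⊥ = ⊥
  rw [← RingHom.ker_eq_comap_bot,
    (RingHom.injective_iff_ker_eq_bot _).mp (H2_away_injective g hg)]

/-- existence of maximally disjoint prime -/
theorem H2_exists_maximally_disjoint_prime {α : Type*} [CommRing α] (I : Ideal α)
    (S : Submonoid α) (disjoint : Disjoint (I : Set α) S) :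
    ∃ p : Ideal α, p.IsPrime ∧ I ≤ p ∧ Disjoint (p : Set α) S ∧
      ∀ J : Ideal α, p < J → ¬ Disjoint (J : Set α) S := by
  have ⟨p, hIp, hp⟩ := zorn_le_nonempty₀ {p : Ideal α | Disjoint (p : Set α) S}
    (fun c hc hc' x hx ↦ ?_) I disjoint
  · exact ⟨p, Ideal.isPrime_of_maximally_disjoint _ _ hp.1 (fun _ ↦ hp.not_prop_of_gt), hIp, hp.1,
      fun _ ↦ hp.not_prop_of_gt⟩
  cases isEmpty_or_nonempty c
  · exact ⟨I, disjoint, fun J hJ ↦ isEmptyElim (⟨J, hJ⟩ : c)⟩
  refine ⟨sSup c, Set.disjoint_left.mpr fun x hx ↦ ?_, fun _ ↦ le_sSup⟩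
  have ⟨p, hp⟩ := (Submodule.mem_iSup_of_directed _ hc'.directed).mp (sSup_eq_iSup' c ▸ hx)
  exact Set.disjoint_left.mp (hc p.2) hp

universe u in
theorem H2_exists_away_isField_of_finiteType_field (B : Type u) [CommRing B] [IsDomain B] (K : Type u) [Field K] [Algebra B K]
    (hinj : Function.Injective (algebraMap B K)) (hft : Algebra.FiniteType B K) :
    ∃ f : B, f ≠ 0 ∧ IsField (Localization.Away f) := by
  classical
  have : FaithfulSMul B K := (faithfulSMul_iff_algebraMap_injective B K).mpr hinj
  let := FractionRing.liftAlgebra B K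
  have : IsScalarTower B (FractionRing B) K := FractionRing.isScalarTower_liftAlgebra B K
  have : Algebra.FiniteType (FractionRing B) K := Algebra.FiniteType.of_restrictScalars_finiteType B _ _
  have : Module.Finite (FractionRing B) K := finite_of_finite_type_of_isJacobsonRing _ _
  have : Algebra.IsAlgebraic (FractionRing B) K := Algebra.IsAlgebraic.of_finite _ _
  have : Algebra.IsAlgebraic B K :=
    (IsFractionRing.comap_isAlgebraic_iff (A := B) (K := FractionRing B) (C := K)).mpr inferInstance
  obtain ⟨s, hs⟩ := hft.out
  obtain ⟨f, hf0, hint⟩ := Algebra.IsAlgebraic.exists_integral_multiples B s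
  refine ⟨f, hf0, ?_⟩
  have hfu : IsUnit (algebraMap B K f) := by
    rw [isUnit_iff_ne_zero]; exact fun h => hf0 (hinj (by rw [h, map_zero]))
  let φ : Localization.Away f →+* K := IsLocalization.Away.lift f hfu
  let : Algebra (Localization.Away f) K := φ.toAlgebra
  have : IsScalarTower B (Localization.Away f) K := IsScalarTower.of_algebraMap_eq fun x => by
    change _ = φ _
    rw [IsLocalization.Away.lift_eq]
  have hφinj : Function.Injective (algebraMap (Localization.Away f) K) := by
    change Function.Injective φ
    rw [IsLocalization.injective_iff_map_algebraMap_eq (Submonoid.powers f)]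
    intro x y
    constructor
    · intro h; rw [h]
    · intro h
      rw [IsLocalization.Away.lift_eq, IsLocalization.Away.lift_eq] at h
      rw [hinj h]
  have hxint : ∀ x ∈ s, IsIntegral (Localization.Away f) x := by
    intro x hx
    have h1 : IsIntegral (Localization.Away f) (f • x) := (hint x hx).tower_top
    have h2 : x = algebraMap (Localization.Away f) K (IsLocalization.Away.invSelf f) * (f • x) := by
      rw [Algebra.smul_def, ← mul_assoc, IsScalarTower.algebraMap_apply B (Localization.Away f) K,
        ← map_mul, mul_comm (IsLocalization.Away.invSelf f), IsLocalization.Away.mul_invSelf,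
        map_one, one_mul]
    rw [h2]
    exact isIntegral_algebraMap.mul h1
  have : Algebra.IsIntegral (Localization.Away f) K := by
    constructor
    intro k
    have hk : k ∈ Algebra.adjoin B (s : Set K) := hs ▸ Algebra.mem_top
    have hle : Algebra.adjoin B (s : Set K) ≤
        (integralClosure (Localization.Away f) K).restrictScalars B := by
      apply Algebra.adjoin_le
      intro x hx
      exact hxint x hx
    exact hle hk
  exact isField_of_isIntegral_of_isField hφinj (Field.toIsField K)

end Groth.Agent.H2
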