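import Mathlib

set_option autoImplicit false

namespace Groth.Agent.H2

open CategoryTheory CategoryTheory.Limits Pretriangulated DerivedCategory

universe w v u

variable {C : Type u} [Category.{v} C] [Abelian C] [HasDerivedCategory.{w} C]

/-- Key lemma: `α : K ⟶ K'` with `H^i(α)` epi for `i ≥ -1` and mono for `i ≥ 0`
(e.g. both in `[-1,0]`, `H^0` iso, `H^{-1}` epi). Then precomposition with `α` is injective on maps to
objects which are `≥ -1`. -/
lemma H2_eq_zero_of_comp_eq_zero {K K' Y : DerivedCategory C} (α : K ⟶ K')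
    (hepi : ∀ i : ℤ, -1 ≤ i → Epi ((homologyFunctor C i).map α))
    (hmono : ∀ i : ℤ, 0 ≤ i → Mono ((homologyFunctor C i).map α))
    [Y.IsGE (-1)] (g : K' ⟶ Y) (hg : α ≫ g = 0) : g = 0 := by
  obtain ⟨Z, β, γ, hT⟩ := distinguished_cocone_triangle α
  have hZ : Z.IsLE (-2) := by
    rw [DerivedCategory.isLE_iff]
    intro i hi
    have h1 : (homologyFunctor C i).map β = 0 :=
      (HomologySequence.epi_homologyMap_mor₁_iff _ hT i).mp (hepi i (by omega))
    have h2 : HomologySequence.δ (Triangle.mk α β γ) i (i + 1) rfl = 0 :=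
      (HomologySequence.mono_homologyMap_mor₁_iff _ hT i (i + 1) rfl).mp (hmono (i + 1) (by omega))
    exact (HomologySequence.exact₃ _ hT i (i + 1) rfl).isZero_X₂ h1 h2
  obtain ⟨g', hg'⟩ := Triangle.yoneda_exact₂ _ hT g hg
  have : g' = 0 := TStructure.t.zero_of_isLE_of_isGE g' (-2) (-1) (by omega) hZ inferInstance
  rw [hg', this]
  exact comp_zero


end Groth.Agent.H2

namespace Groth.Agent.H2

open CategoryTheory CategoryTheory.Limits Pretriangulated DerivedCategory

universe u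

attribute [local instance] HasDerivedCategory.standard

variable {R : Type u} [CommRing R]

lemma H2_isGE_of_subsingleton (K : DerivedCategory (ModuleCat.{u} R)) (n : ℤ)
    (h : ∀ i : ℤ, i < n → Subsingleton ((homologyFunctor (ModuleCat.{u} R) i).obj K)) :
    K.IsGE n := by
  rw [DerivedCategory.isGE_iff]
  intro i hi
  haveI := h i hi
  exact ModuleCat.isZero_of_subsingleton _

lemma H2_isLE_of_subsingleton (K : DerivedCategory (ModuleCat.{u} R)) (n : ℤ)
    (h : ∀ i : ℤ, n < i → Subsingleton ((homologyFunctor (ModuleCat.{u} R) i).obj K)) :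
    K.IsLE n := by
  rw [DerivedCategory.isLE_iff]
  intro i hi
  haveI := h i hi
  exact ModuleCat.isZero_of_subsingleton _

/-- two-term version -/
lemma H2_twoTerm_eq_zero_of_comp_eq_zero {K K' Y : DerivedCategory (ModuleCat.{u} R)} (α : K ⟶ K')
    (hK : ∀ i : ℤ, i ≠ -1 → i ≠ 0 →
      Subsingleton ((homologyFunctor (ModuleCat.{u} R) i).obj K))
    (hK' : ∀ i : ℤ, i ≠ -1 → i ≠ 0 →
      Subsingleton ((homologyFunctor (ModuleCat.{u} R) i).obj K'))
    (h0 : IsIso ((homologyFunctor (ModuleCat.{u} R) 0).map α))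
    (h1 : Epi ((homologyFunctor (ModuleCat.{u} R) (-1)).map α))
    [Y.IsGE (-1)] (g : K' ⟶ Y) (hg : α ≫ g = 0) : g = 0 := by
  refine H2_eq_zero_of_comp_eq_zero α ?_ ?_ g hg
  · intro i hi
    rcases eq_or_lt_of_le hi with rfl | hi'
    · exact h1
    · rcases eq_or_lt_of_le (show (0 : ℤ) ≤ i by omega) with rfl | hi''
      · infer_instance
      · haveI := hK' i (by omega) (by omega)
        exact ⟨fun _ _ _ => (ModuleCat.isZero_of_subsingleton _).eq_of_src _ _⟩
  · intro i hi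
    rcases eq_or_lt_of_le hi with rfl | hi'
    · infer_instance
    · haveI := hK i (by omega) (by omega)
      exact ⟨fun _ _ _ => (ModuleCat.isZero_of_subsingleton _).eq_of_tgt _ _⟩

end Groth.Agent.H2

namespace Groth.Agent.H2

open CategoryTheory CategoryTheory.Limits Pretriangulated DerivedCategory

universe w v u

variable {C : Type u} [Category.{v} C] [Abelian C] [HasDerivedCategory.{w} C]

/-- `H^n` is faithful on objects concentrated in degree `n`. -/
lemma H2_heart_faithful {W Z : DerivedCategory C} (n : ℤ) [W.IsGE n] [W.IsLE n] [Z.IsGE n]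
    [Z.IsLE n] (f : W ⟶ Z) (hf : (homologyFunctor C n).map f = 0) : f = 0 := by
  obtain ⟨A, ⟨eW⟩⟩ := exists_iso_singleFunctor_obj_of_isGE_of_isLE W n
  obtain ⟨B, ⟨eZ⟩⟩ := exists_iso_singleFunctor_obj_of_isGE_of_isLE Z n
  obtain ⟨v, hv⟩ := (singleFunctor C n).map_surjective (eW.inv ≫ f ≫ eZ.hom)
  have h1 : (homologyFunctor C n).map ((singleFunctor C n).map v) = 0 := by
    rw [hv, Functor.map_comp, Functor.map_comp, hf, zero_comp, comp_zero]
  have h2 := (singleFunctorCompHomologyFunctorIso C n).hom.naturality v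
  simp only [Functor.comp_map, Functor.id_map] at h2
  rw [h1, zero_comp] at h2
  have h3 : v = 0 := by
    rw [← cancel_epi ((singleFunctorCompHomologyFunctorIso C n).hom.app A), ← h2, comp_zero]
  have h4 : eW.inv ≫ f ≫ eZ.hom = 0 := by rw [← hv, h3, Functor.map_zero]
  have h5 : f = eW.hom ≫ (eW.inv ≫ f ≫ eZ.hom) ≫ eZ.inv := by simp
  rw [h5, h4, zero_comp, comp_zero]

lemma H2_eq_zero_of_isLE_of_heart {X Z : DerivedCategory C} (n : ℤ) [X.IsLE n] [Z.IsGE n]
    [Z.IsLE n] (f : X ⟶ Z) (hf : (homologyFunctor C n).map f = 0) : f = 0 := by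
  let t := TStructure.t (C := C)
  have hT := t.triangleLEGE_distinguished (n - 1) n (by omega) X
  haveI : (t.truncGE n).obj X |>.IsLE n := (inferInstance : t.IsLE ((t.truncGE n).obj X) n)
  haveI : (t.truncGE n).obj X |>.IsGE n := (inferInstance : t.IsGE ((t.truncGE n).obj X) n)
  have hepi : Epi ((homologyFunctor C n).map ((t.truncGEπ n).app X)) := by
    refine (HomologySequence.epi_homologyMap_mor₂_iff _ hT n (n + 1) rfl).mpr ?_
    haveI : ((t.truncLE (n - 1)).obj X).IsLE (n - 1) :=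
      (inferInstance : t.IsLE ((t.truncLE (n - 1)).obj X) (n - 1))
    exact (isZero_of_isLE ((t.truncLE (n - 1)).obj X) (n - 1) (n + 1) (by omega)).eq_of_tgt _ _
  have h1 : f = (t.truncGEπ n).app X ≫ t.descTruncGE f n := (t.π_descTruncGE f n).symm
  have h2 : (homologyFunctor C n).map (t.descTruncGE f n) = 0 := by
    rw [← cancel_epi ((homologyFunctor C n).map ((t.truncGEπ n).app X)), ← Functor.map_comp,
      ← h1, hf, comp_zero]
  rw [h1, H2_heart_faithful n _ h2, comp_zero]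

lemma H2_eq_zero_of_heart_of_isGE {X Z : DerivedCategory C} (n : ℤ) [X.IsGE n] [X.IsLE n]
    [Z.IsGE n] (f : X ⟶ Z) (hf : (homologyFunctor C n).map f = 0) : f = 0 := by
  let t := TStructure.t (C := C)
  have hT := t.triangleLEGE_distinguished n (n + 1) rfl Z
  haveI : (t.truncLE n).obj Z |>.IsLE n := (inferInstance : t.IsLE ((t.truncLE n).obj Z) n)
  haveI : (t.truncLE n).obj Z |>.IsGE n := (inferInstance : t.IsGE ((t.truncLE n).obj Z) n)
  have hmono : Mono ((homologyFunctor C n).map ((t.truncLEι n).app Z)) := by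
    refine (HomologySequence.mono_homologyMap_mor₁_iff _ hT (n - 1) n (by omega)).mpr ?_
    haveI : ((t.truncGE (n + 1)).obj Z).IsGE (n + 1) :=
      (inferInstance : t.IsGE ((t.truncGE (n + 1)).obj Z) (n + 1))
    exact (isZero_of_isGE ((t.truncGE (n + 1)).obj Z) (n + 1) (n - 1) (by omega)).eq_of_src _ _
  have h1 : f = t.liftTruncLE f n ≫ (t.truncLEι n).app Z := (t.liftTruncLE_ι f n).symm
  have h2 : (homologyFunctor C n).map (t.liftTruncLE f n) = 0 := by
    rw [← cancel_mono ((homologyFunctor C n).map ((t.truncLEι n).app Z)), ← Functor.map_comp,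
      ← h1, hf, zero_comp]
  rw [h1, H2_heart_faithful n _ h2, zero_comp]

/-- `φ : K₁ ⟶ K₂`, `ψ : K₂ ⟶ K₃` with `K₁ ≤ n+1`, `K₂ ∈ [n, n+1]`, `K₃ ≥ n`,
`H^{n+1}(φ) = 0`, `H^n(ψ) = 0`; then `φ ≫ ψ = 0`. -/
lemma H2_comp_eq_zero_of_homology_maps_zero {K₁ K₂ K₃ : DerivedCategory C} (n m : ℤ)
    (hnm : n + 1 = m) [K₁.IsLE m] [K₂.IsGE n] [K₂.IsLE m] [K₃.IsGE n]
    (φ : K₁ ⟶ K₂) (ψ : K₂ ⟶ K₃) (hφ : (homologyFunctor C m).map φ = 0)
    (hψ : (homologyFunctor C n).map ψ = 0) : φ ≫ ψ = 0 := by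
  let t := TStructure.t (C := C)
  have hT := t.triangleLEGE_distinguished n m hnm K₂
  haveI : (t.truncGE m).obj K₂ |>.IsLE m := (inferInstance : t.IsLE ((t.truncGE m).obj K₂) m)
  haveI : (t.truncGE m).obj K₂ |>.IsGE m := (inferInstance : t.IsGE ((t.truncGE m).obj K₂) m)
  haveI : (t.truncLE n).obj K₂ |>.IsLE n := (inferInstance : t.IsLE ((t.truncLE n).obj K₂) n)
  haveI : (t.truncLE n).obj K₂ |>.IsGE n := (inferInstance : t.IsGE ((t.truncLE n).obj K₂) n)
  have hA : φ ≫ (t.truncGEπ m).app K₂ = 0 :=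
    H2_eq_zero_of_isLE_of_heart m _ (by rw [Functor.map_comp, hφ, zero_comp])
  have hB : (t.truncLEι n).app K₂ ≫ ψ = 0 :=
    H2_eq_zero_of_heart_of_isGE n _ (by rw [Functor.map_comp, hψ, comp_zero])
  obtain ⟨φ', hφ'⟩ := Triangle.coyoneda_exact₂ _ hT φ hA
  rw [hφ']
  exact (Category.assoc _ _ _).trans ((congrArg (φ' ≫ ·) hB).trans comp_zero)

end Groth.Agent.H2
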