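import Mathlib
import Groth.Agent.Lib.helper2.TwoTermD

set_option autoImplicit false

namespace Groth.Agent.H2

open CategoryTheory CategoryTheory.Limits Pretriangulated DerivedCategory

universe u

attribute [local instance] HasDerivedCategory.standard

variable {R : Type u} [CommRing R]

lemma H2_isIso_homology_truncLEι (K : DerivedCategory (ModuleCat.{u} R)) (n i : ℤ) (hi : i ≤ n) :
    IsIso ((homologyFunctor (ModuleCat.{u} R) i).map
      (((TStructure.t (C := ModuleCat.{u} R)).truncLEι n).app K)) := by
  let t := TStructure.t (C := ModuleCat.{u} R)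
  have hT := t.triangleLEGE_distinguished n (n + 1) rfl K
  set W := (t.truncGE (n + 1)).obj K with hW
  haveI : W.IsGE (n + 1) := (inferInstance : t.IsGE ((t.truncGE (n + 1)).obj K) (n + 1))
  haveI : Mono ((homologyFunctor (ModuleCat.{u} R) i).map ((t.truncLEι n).app K)) := by
    refine (HomologySequence.mono_homologyMap_mor₁_iff _ hT (i - 1) i (by omega)).mpr ?_
    exact (isZero_of_isGE W (n + 1) (i - 1) (by omega)).eq_of_src _ _
  haveI : Epi ((homologyFunctor (ModuleCat.{u} R) i).map ((t.truncLEι n).app K)) := by
    refine (HomologySequence.epi_homologyMap_mor₁_iff _ hT i).mpr ?_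
    exact (isZero_of_isGE W (n + 1) i (by omega)).eq_of_tgt _ _
  exact isIso_of_mono_of_epi _

lemma H2_isIso_homology_truncGEπ (K : DerivedCategory (ModuleCat.{u} R)) (n i : ℤ) (hi : n ≤ i) :
    IsIso ((homologyFunctor (ModuleCat.{u} R) i).map
      (((TStructure.t (C := ModuleCat.{u} R)).truncGEπ n).app K)) := by
  let t := TStructure.t (C := ModuleCat.{u} R)
  have hT := t.triangleLEGE_distinguished (n - 1) n (by omega) K
  set X := (t.truncLE (n - 1)).obj K with hX
  haveI : X.IsLE (n - 1) := (inferInstance : t.IsLE ((t.truncLE (n - 1)).obj K) (n - 1))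
  haveI : Mono ((homologyFunctor (ModuleCat.{u} R) i).map ((t.truncGEπ n).app K)) := by
    refine (HomologySequence.mono_homologyMap_mor₂_iff _ hT i).mpr ?_
    exact (isZero_of_isLE X (n - 1) i (by omega)).eq_of_src _ _
  haveI : Epi ((homologyFunctor (ModuleCat.{u} R) i).map ((t.truncGEπ n).app K)) := by
    refine (HomologySequence.epi_homologyMap_mor₂_iff _ hT i (i + 1) rfl).mpr ?_
    exact (isZero_of_isLE X (n - 1) (i + 1) (by omega)).eq_of_tgt _ _
  exact isIso_of_mono_of_epi _

lemma H2_isZero_of_homology_isZero (K : DerivedCategory (ModuleCat.{u} R))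
    (h : ∀ i : ℤ, IsZero ((homologyFunctor (ModuleCat.{u} R) i).obj K)) : IsZero K := by
  haveI : K.IsLE 0 := by
    rw [DerivedCategory.isLE_iff]
    exact fun i _ => h i
  haveI : K.IsGE 1 := by
    rw [DerivedCategory.isGE_iff]
    exact fun i _ => h i
  exact TStructure.t.isZero K 0 1 (by omega)

/-- induction on the cohomological amplitude -/
theorem H2_of_bounded_homology (PP : DerivedCategory (ModuleCat.{u} R) → Prop)
    (hiso : ∀ {K K' : DerivedCategory (ModuleCat.{u} R)}, (K ≅ K') → PP K → PP K')
    (hzero : ∀ K : DerivedCategory (ModuleCat.{u} R), IsZero K → PP K)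
    (hshift : ∀ (K : DerivedCategory (ModuleCat.{u} R)) (n : ℤ), PP K → PP (K⟦n⟧))
    (hext : ∀ T : Triangle (DerivedCategory (ModuleCat.{u} R)), T ∈ distTriang _ →
      PP T.obj₁ → PP T.obj₃ → PP T.obj₂)
    (a : ℤ) : ∀ (n : ℕ) (K : DerivedCategory (ModuleCat.{u} R)) (b : ℤ), b - a + 1 ≤ n →
      (∀ i : ℤ, i < a ∨ b < i → IsZero ((homologyFunctor (ModuleCat.{u} R) i).obj K)) →
      (∀ i : ℤ, PP ((singleFunctor (ModuleCat.{u} R) 0).obj
        ((homologyFunctor (ModuleCat.{u} R) i).obj K))) → PP K := by
  intro n
  induction n with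
  | zero =>
    intro K b hb hv _
    apply hzero
    apply H2_isZero_of_homology_isZero
    intro i
    exact hv i (by omega)
  | succ n ih =>
    intro K b hb hv hP
    by_cases hab : b < a
    · apply hzero
      apply H2_isZero_of_homology_isZero
      intro i
      exact hv i (by omega)
    · let t := TStructure.t (C := ModuleCat.{u} R)
      haveI : K.IsLE b := by
        rw [DerivedCategory.isLE_iff]
        exact fun i hi => hv i (Or.inr hi)
      have hT := t.triangleLEGE_distinguished (b - 1) b (by omega) K
      set X := (t.truncLE (b - 1)).obj K with hX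
      set W := (t.truncGE b).obj K with hW
      haveI : W.IsLE b := (inferInstance : t.IsLE ((t.truncGE b).obj K) b)
      haveI : W.IsGE b := (inferInstance : t.IsGE ((t.truncGE b).obj K) b)
      haveI : X.IsLE (b - 1) := (inferInstance : t.IsLE ((t.truncLE (b - 1)).obj K) (b - 1))
      -- the top part
      have hW' : PP W := by
        obtain ⟨A, ⟨eW⟩⟩ := exists_iso_singleFunctor_obj_of_isGE_of_isLE W b
        haveI := H2_isIso_homology_truncGEπ K b b le_rfl
        let eA : (homologyFunctor (ModuleCat.{u} R) b).obj K ≅ A :=
          asIso ((homologyFunctor (ModuleCat.{u} R) b).map ((t.truncGEπ b).app K)) ≪≫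
            (homologyFunctor (ModuleCat.{u} R) b).mapIso eW ≪≫
            (singleFunctorCompHomologyFunctorIso (ModuleCat.{u} R) b).app A
        have h1 : PP ((singleFunctor (ModuleCat.{u} R) 0).obj A) :=
          hiso ((singleFunctor (ModuleCat.{u} R) 0).mapIso eA) (hP b)
        have h2 := hshift _ (-b) h1
        exact hiso ((((singleFunctors (ModuleCat.{u} R)).shiftIso (-b) b 0 (by omega)).app A) ≪≫
          eW.symm) h2
      -- the lower part
      have hX' : PP X := by
        apply ih X (b - 1) (by omega)
        · intro i hi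
          by_cases hib : i ≤ b - 1
          · haveI := H2_isIso_homology_truncLEι K (b - 1) i hib
            exact IsZero.of_iso (hv i (by omega))
              (asIso ((homologyFunctor (ModuleCat.{u} R) i).map ((t.truncLEι (b - 1)).app K)))
          · exact isZero_of_isLE X (b - 1) i (by omega)
        · intro i
          by_cases hib : i ≤ b - 1
          · haveI := H2_isIso_homology_truncLEι K (b - 1) i hib
            exact hiso ((singleFunctor (ModuleCat.{u} R) 0).mapIso
              (asIso ((homologyFunctor (ModuleCat.{u} R) i).map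
                ((t.truncLEι (b - 1)).app K))).symm) (hP i)
          · apply hzero
            exact (singleFunctor (ModuleCat.{u} R) 0).map_isZero
              (isZero_of_isLE X (b - 1) i (by omega))
      exact hext _ hT hX' hW'

end Groth.Agent.H2
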