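import Mathlib

set_option autoImplicit false

namespace Groth.Agent.H2

open CategoryTheory CategoryTheory.Limits Pretriangulated DerivedCategory

universe w v u

variable {A : Type u} [Category.{v} A] [Abelian A] [HasDerivedCategory.{w} A]

lemma H2_isZero_biprod {X Y : A} (hX : IsZero X) (hY : IsZero Y) : IsZero (X ⊞ Y) := by
  rw [IsZero.iff_id_eq_zero]
  apply biprod.hom_ext
  · exact hX.eq_of_tgt _ _
  · exact hY.eq_of_tgt _ _

/-- lift a morphism in the derived category into a K-injective complex to a chain map -/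
lemma H2_exists_lift_inj (P Q : CochainComplex A ℤ) [Q.IsKInjective]
    (α : DerivedCategory.Q.obj P ⟶ DerivedCategory.Q.obj Q) :
    ∃ φ : P ⟶ Q, DerivedCategory.Q.map φ = α := by
  obtain ⟨φh, hφ⟩ := (CochainComplex.IsKInjective.Qh_map_bijective
    ((HomotopyCategory.quotient _ _).obj P) Q).surjective
    ((DerivedCategory.quotientCompQhIso _).hom.app P ≫ α ≫
      (DerivedCategory.quotientCompQhIso _).inv.app Q)
  obtain ⟨φ, rfl⟩ := (HomotopyCategory.quotient _ _).map_surjective φh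
  refine ⟨φ, ?_⟩
  have := (DerivedCategory.quotientCompQhIso A).hom.naturality φ
  simp only [Functor.comp_map] at this
  rw [hφ] at this
  simp only [Category.assoc, Iso.inv_hom_id_app, Category.comp_id] at this
  exact ((cancel_epi _).mp this).symm

theorem H2_bdd_inj_triangle (T : Triangle (DerivedCategory A)) (hT : T ∈ distTriang (DerivedCategory A))
    (h₁ : (∃ (I : CochainComplex A ℤ) (b c : ℤ), I.IsStrictlyGE b ∧ I.IsStrictlyLE c ∧
        (∀ n : ℤ, Injective (I.X n)) ∧ Nonempty (T.obj₁ ≅ DerivedCategory.Q.obj I)))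
    (h₃ : (∃ (I : CochainComplex A ℤ) (b c : ℤ), I.IsStrictlyGE b ∧ I.IsStrictlyLE c ∧
        (∀ n : ℤ, Injective (I.X n)) ∧ Nonempty (T.obj₃ ≅ DerivedCategory.Q.obj I))) :
    (∃ (I : CochainComplex A ℤ) (b c : ℤ), I.IsStrictlyGE b ∧ I.IsStrictlyLE c ∧
        (∀ n : ℤ, Injective (I.X n)) ∧ Nonempty (T.obj₂ ≅ DerivedCategory.Q.obj I)) := by
  obtain ⟨I₁, b₁, c₁, hb₁, hc₁, hI₁, ⟨e₁⟩⟩ := h₁
  obtain ⟨I₃, b₃, c₃, hb₃, hc₃, hI₃, ⟨e₃⟩⟩ := h₃
  haveI : I₁.IsKInjective := CochainComplex.isKInjective_of_injective I₁ b₁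
  let J : CochainComplex A ℤ := I₃⟦(-1 : ℤ)⟧
  let e₃' : T.invRotate.obj₁ ≅ DerivedCategory.Q.obj J :=
    (shiftFunctor (DerivedCategory A) (-1 : ℤ)).mapIso e₃ ≪≫
      ((DerivedCategory.Q.commShiftIso (-1 : ℤ)).app I₃).symm
  obtain ⟨ψ, hψ⟩ := H2_exists_lift_inj J I₁ (e₃'.inv ≫ T.invRotate.mor₁ ≫ e₁.hom)
  have hT' := DerivedCategory.mappingCone_triangle_distinguished ψ
  obtain ⟨e', -, -⟩ := exists_iso_of_arrow_iso T.invRotate _ (inv_rot_of_distTriang T hT) hT'
    (Arrow.isoMk e₃' e₁ (by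
      change e₃'.hom ≫ DerivedCategory.Q.map ψ = T.invRotate.mor₁ ≫ e₁.hom
      rw [hψ]
      simp))
  have hX : ∀ i : ℤ, (CochainComplex.mappingCone ψ).X i ≅ I₃.X (i + 1 + -1) ⊞ I₁.X i :=
    fun i => HomologicalComplex.homotopyCofiber.XIsoBiprod ψ i (i + 1) rfl
  refine ⟨CochainComplex.mappingCone ψ, min b₁ b₃, max c₁ c₃, ?_, ?_, ?_,
    ⟨Triangle.π₃.mapIso e'⟩⟩
  · rw [CochainComplex.isStrictlyGE_iff]
    intro i hi
    have h5 := min_le_left b₁ b₃
    have h6 := min_le_right b₁ b₃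
    exact IsZero.of_iso (H2_isZero_biprod (I₃.isZero_of_isStrictlyGE b₃ _ (by omega))
      (I₁.isZero_of_isStrictlyGE b₁ _ (by omega))) (hX i)
  · rw [CochainComplex.isStrictlyLE_iff]
    intro i hi
    have h5 := le_max_left c₁ c₃
    have h6 := le_max_right c₁ c₃
    exact IsZero.of_iso (H2_isZero_biprod (I₃.isZero_of_isStrictlyLE c₃ _ (by omega))
      (I₁.isZero_of_isStrictlyLE c₁ _ (by omega))) (hX i)
  · intro n
    exact Injective.of_iso (hX n).symm inferInstance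

end Groth.Agent.H2
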