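import Mathlib

set_option autoImplicit false

namespace Groth.Agent.H2

open CategoryTheory CategoryTheory.Limits

universe w v u

section

variable {A : Type u} [Category.{v} A] [Abelian A]

/-- a short complex with zero left term and invertible right map is short exact -/
lemma H2_shortExact_of_isZero_of_isIso (S : ShortComplex A) (h1 : IsZero S.X₁) [IsIso S.g] :
    S.ShortExact := by
  refine ShortComplex.Splitting.shortExact
    { r := 0
      s := inv S.g
      f_r := h1.eq_of_src _ _
      s_g := IsIso.inv_hom_id _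
      id := by rw [zero_comp, zero_add, IsIso.hom_inv_id] }

lemma H2_shortExact_of_isIso_of_isZero (S : ShortComplex A) [IsIso S.f] (h3 : IsZero S.X₃) :
    S.ShortExact := by
  refine ShortComplex.Splitting.shortExact
    { r := inv S.f
      s := 0
      f_r := IsIso.hom_inv_id _
      s_g := h3.eq_of_src _ _
      id := by rw [comp_zero, add_zero, IsIso.inv_hom_id] }

variable (K : CochainComplex A ℤ) (n : ℤ)

/-- the stupid truncation `σ_{≤ n-1} K` -/
noncomputable def H2sigma : CochainComplex A ℤ :=
  K.stupidTrunc (ComplexShape.embeddingUpIntLE (n - 1))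

noncomputable def H2sigmaπ : K ⟶ H2sigma K n :=
  (ComplexShape.embeddingUpIntLE (n - 1)).liftExtend
    (𝟙 (K.restriction (ComplexShape.embeddingUpIntLE (n - 1))))
    (fun _ hj => (hj.false_of_isTruncLE).elim)

lemma H2sigma_isZero (i : ℤ) (hi : n ≤ i) : IsZero ((H2sigma K n).X i) := by
  apply K.isZero_stupidTrunc_X
  rw [ComplexShape.notMem_range_embeddingUpIntLE_iff]
  omega

lemma H2sigmaπ_isIso (i : ℤ) (hi : i < n) : IsIso ((H2sigmaπ K n).f i) := by
  have h : (ComplexShape.embeddingUpIntLE (n - 1)).f (n - 1 - i).toNat = i := by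
    simp only [ComplexShape.embeddingUpIntLE_f]
    omega
  exact ((ComplexShape.embeddingUpIntLE (n - 1)).isIso_liftExtend_f_iff
    (𝟙 (K.restriction (ComplexShape.embeddingUpIntLE (n - 1))))
    (fun _ hj => (hj.false_of_isTruncLE).elim) h).mpr inferInstance

variable (hK : ∀ i : ℤ, n < i → IsZero (K.X i))

noncomputable def H2topι :
    (HomologicalComplex.single A (ComplexShape.up ℤ) n).obj (K.X n) ⟶ K :=
  HomologicalComplex.mkHomFromSingle (𝟙 (K.X n)) (fun k hk =>
    (hK k (by simp at hk; omega)).eq_of_tgt _ _)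

noncomputable def H2topSC : ShortComplex (CochainComplex A ℤ) :=
  ShortComplex.mk (H2topι K n hK) (H2sigmaπ K n) (by
    apply HomologicalComplex.from_single_hom_ext
    exact (H2sigma_isZero K n n le_rfl).eq_of_tgt _ _)

lemma H2topSC_shortExact : (H2topSC K n hK).ShortExact := by
  apply HomologicalComplex.shortExact_of_degreewise_shortExact
  intro i
  by_cases hi : i = n
  · subst hi
    haveI : IsIso ((H2topSC K i hK).map (HomologicalComplex.eval A _ i)).f := by
      change IsIso ((H2topι K i hK).f i)
      rw [H2topι, HomologicalComplex.mkHomFromSingle_f]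
      infer_instance
    exact H2_shortExact_of_isIso_of_isZero _ (H2sigma_isZero K i i le_rfl)
  · haveI : IsIso ((H2topSC K n hK).map (HomologicalComplex.eval A _ i)).g := by
      change IsIso ((H2sigmaπ K n).f i)
      by_cases h : i < n
      · exact H2sigmaπ_isIso K n i h
      · have h1 : IsZero (K.X i) := hK i (by omega)
        have h2 := H2sigma_isZero K n i (by omega)
        exact ⟨⟨0, h1.eq_of_src _ _, h2.eq_of_src _ _⟩⟩
    exact H2_shortExact_of_isZero_of_isIso _
      (HomologicalComplex.isZero_single_obj_X (ComplexShape.up ℤ) n (K.X n) i hi)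

end

section

open Pretriangulated DerivedCategory

variable {A : Type u} [Category.{v} A] [Abelian A] [HasDerivedCategory.{w} A]

/-- the distinguished triangle `K^n[-n] → K → σ_{<n} K →` for a complex vanishing above `n` -/
theorem H2_stupid_top_triangle (K : CochainComplex A ℤ) (n : ℤ)
    (hK : ∀ i : ℤ, n < i → IsZero (K.X i)) :
    ∃ (K' : CochainComplex A ℤ) (T : Triangle (DerivedCategory A)), T ∈ distTriang _ ∧
      Nonempty (T.obj₁ ≅ ((DerivedCategory.singleFunctor A 0).obj (K.X n))⟦-n⟧) ∧
      Nonempty (T.obj₂ ≅ DerivedCategory.Q.obj K) ∧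
      Nonempty (T.obj₃ ≅ DerivedCategory.Q.obj K') ∧
      (∀ i : ℤ, n ≤ i → IsZero (K'.X i)) ∧ (∀ i : ℤ, i < n → Nonempty (K'.X i ≅ K.X i)) := by
  refine ⟨H2sigma K n, triangleOfSES (H2topSC_shortExact K n hK),
    triangleOfSES_distinguished _, ⟨?_⟩, ⟨Iso.refl _⟩, ⟨Iso.refl _⟩, H2sigma_isZero K n,
    fun i hi => ?_⟩
  · exact ((singleFunctorIsoCompQ A n).app (K.X n)).symm ≪≫
      (((singleFunctors A).shiftIso (-n) n 0 (by omega)).app (K.X n)).symm
  · haveI := H2sigmaπ_isIso K n i hi
    exact ⟨(asIso ((H2sigmaπ K n).f i)).symm⟩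

end

end Groth.Agent.H2
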