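import Mathlib
import Groth.Agent.Lib.helper2.BddHomologyInd
import Groth.Agent.Lib.helper2.StupidTop

set_option autoImplicit false

namespace Groth.Agent.H2

open CategoryTheory CategoryTheory.Limits Pretriangulated DerivedCategory

universe u

attribute [local instance] HasDerivedCategory.standard

variable {R : Type u} [CommRing R]

lemma H2_isZero_Q_obj_of_terms (K : CochainComplex (ModuleCat.{u} R) ℤ)
    (h : ∀ i : ℤ, IsZero (K.X i)) : IsZero (DerivedCategory.Q.obj K) := by
  apply H2_isZero_of_homology_isZero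
  intro i
  refine IsZero.of_iso ?_ ((homologyFunctorFactors (ModuleCat.{u} R) i).app K)
  exact (HomologicalComplex.exactAt_iff_isZero_homology K i).mp
    (HomologicalComplex.ExactAt.of_isZero (h i))

/-- induction on the length of a bounded complex -/
theorem H2_of_bounded_termwise (PP : DerivedCategory (ModuleCat.{u} R) → Prop)
    (hiso : ∀ {K K' : DerivedCategory (ModuleCat.{u} R)}, (K ≅ K') → PP K → PP K')
    (hzero : ∀ K : DerivedCategory (ModuleCat.{u} R), IsZero K → PP K)
    (hshift : ∀ (K : DerivedCategory (ModuleCat.{u} R)) (n : ℤ), PP K → PP (K⟦n⟧))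
    (hext : ∀ T : Triangle (DerivedCategory (ModuleCat.{u} R)), T ∈ distTriang _ →
      PP T.obj₁ → PP T.obj₃ → PP T.obj₂)
    (a : ℤ) : ∀ (n : ℕ) (K : CochainComplex (ModuleCat.{u} R) ℤ) (b : ℤ), b - a + 1 ≤ n →
      (∀ i : ℤ, i < a ∨ b < i → IsZero (K.X i)) →
      (∀ i : ℤ, PP ((singleFunctor (ModuleCat.{u} R) 0).obj (K.X i))) →
      PP (DerivedCategory.Q.obj K) := by
  intro n
  induction n with
  | zero =>
    intro K b hb hv _
    exact hzero _ (H2_isZero_Q_obj_of_terms K (fun i => hv i (by omega)))
  | succ n ih =>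
    intro K b hb hv hP
    by_cases hab : b < a
    · exact hzero _ (H2_isZero_Q_obj_of_terms K (fun i => hv i (by omega)))
    · obtain ⟨K', T, hT, ⟨e₁⟩, ⟨e₂⟩, ⟨e₃⟩, hz, hX⟩ :=
        H2_stupid_top_triangle K b (fun i hi => hv i (Or.inr hi))
      have h1 : PP T.obj₁ := hiso e₁.symm (hshift _ (-b) (hP b))
      have h3 : PP T.obj₃ := by
        refine hiso e₃.symm (ih K' (b - 1) (by omega) ?_ ?_)
        · intro i hi
          by_cases hib : i < b
          · obtain ⟨e⟩ := hX i hib
            exact IsZero.of_iso (hv i (by omega)) e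
          · exact hz i (by omega)
        · intro i
          by_cases hib : i < b
          · obtain ⟨e⟩ := hX i hib
            exact hiso ((singleFunctor (ModuleCat.{u} R) 0).mapIso e.symm) (hP i)
          · exact hzero _ ((singleFunctor (ModuleCat.{u} R) 0).map_isZero (hz i (by omega)))
      exact hiso e₂ (hext T hT h1 h3)

end Groth.Agent.H2
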