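import Mathlib

/-! Binomial inversion identity (helper2). -/

set_option autoImplicit false
open Finset

namespace Groth.Agent.H2

lemma H2_alt_sum_choose (d N : ℕ) (hN : d + 1 ≤ N) :
    ∑ i ∈ range N, ((-1 : ℚ) ^ i * (d.choose i : ℚ)) = if d = 0 then 1 else 0 := by
  have h1 : ∑ i ∈ range N, ((-1 : ℚ) ^ i * (d.choose i : ℚ)) =
      ∑ i ∈ range (d + 1), ((-1 : ℚ) ^ i * (d.choose i : ℚ)) := by
    symm
    apply Finset.sum_subset
    · intro i hi
      rw [mem_range] at hi ⊢
      omega
    · intro i _ hi
      rw [mem_range] at hi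
      rw [Nat.choose_eq_zero_of_lt (by omega)]
      simp
  rw [h1]
  have h2 := Int.alternating_sum_range_choose (n := d)
  have h3 := congrArg (fun z : ℤ => (z : ℚ)) h2
  simp only [Int.cast_sum, Int.cast_mul, Int.cast_pow, Int.cast_neg, Int.cast_one,
    Int.cast_natCast] at h3
  rw [h3]
  split_ifs <;> simp

/-- Binomial inversion. -/
lemma H2_binom_inversion (m k n : ℕ) (hmn : m ≤ n) :
    ∑ r ∈ range (n + 1), ((-1 : ℚ) ^ (r + k) * (m.choose r : ℚ) * (r.choose k : ℚ)) =
      if k = m then 1 else 0 := by
  rcases lt_or_ge m k with hk | hk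
  · rw [if_neg (by omega)]
    apply Finset.sum_eq_zero
    intro r _
    rcases lt_or_ge r k with h | h
    · rw [Nat.choose_eq_zero_of_lt h]; simp
    · rw [Nat.choose_eq_zero_of_lt (by omega : m < r)]; simp
  · have hsplit : range (n + 1) = range k ∪ Ico k (n + 1) := by
      ext r
      simp only [mem_range, mem_union, mem_Ico]
      omega
    have hdisj : Disjoint (range k) (Ico k (n + 1)) := by
      rw [Finset.disjoint_left]
      intro r h1 h2
      rw [mem_range] at h1
      rw [mem_Ico] at h2
      omega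
    rw [hsplit, Finset.sum_union hdisj]
    have h0 : ∑ r ∈ range k, ((-1 : ℚ) ^ (r + k) * (m.choose r : ℚ) * (r.choose k : ℚ)) = 0 := by
      apply Finset.sum_eq_zero
      intro r hr
      rw [mem_range] at hr
      rw [Nat.choose_eq_zero_of_lt hr]; simp
    rw [h0, zero_add, Finset.sum_Ico_eq_sum_range]
    have h1 : ∀ i ∈ range (n + 1 - k),
        ((-1 : ℚ) ^ (k + i + k) * (m.choose (k + i) : ℚ) * ((k + i).choose k : ℚ)) =
        (m.choose k : ℚ) * ((-1 : ℚ) ^ i * ((m - k).choose i : ℚ)) := by
      intro i _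
      have e1 : (-1 : ℚ) ^ (k + i + k) = (-1) ^ i := by
        rw [show k + i + k = i + 2 * k by ring, pow_add, pow_mul]
        simp
      have e2 : m.choose (k + i) * (k + i).choose k = m.choose k * (m - k).choose i := by
        rw [Nat.choose_mul (Nat.le_add_right k i), Nat.add_sub_cancel_left]
      have e2' : (m.choose (k + i) : ℚ) * ((k + i).choose k : ℚ) =
          (m.choose k : ℚ) * ((m - k).choose i : ℚ) := by
        exact_mod_cast e2
      rw [e1, mul_assoc, e2']
      ring
    rw [Finset.sum_congr rfl h1, ← Finset.mul_sum, H2_alt_sum_choose (m - k) (n + 1 - k) (by omega)]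
    by_cases hkm : k = m
    · subst hkm
      simp
    · rw [if_neg hkm, if_neg (by omega), mul_zero]

end Groth.Agent.H2
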