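import Mathlib

universe u v w

open CategoryTheory CategoryTheory.Limits CategoryTheory.Category CategoryTheory.Pretriangulated

namespace Groth.Agent.H2

set_option backward.defeqAttrib.useBackward true in
set_option backward.isDefEq.respectTransparency false in
theorem H2_coprodTriangle_distinguished {D : Type u} [Category.{v} D] [Preadditive D]
    [HasZeroObject D] [HasShift D ℤ]
    [∀ n : ℤ, (shiftFunctor D n).Additive] [Pretriangulated D]
    {J : Type w} (T : J → Triangle D) (hT : ∀ j, T j ∈ distinguishedTriangles)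
    [HasCoproduct (fun j => (T j).obj₁)] [HasCoproduct (fun j => (T j).obj₂)]
    [HasCoproduct (fun j => (T j).obj₃)] :
    Triangle.mk (Limits.Sigma.map (fun j => (T j).mor₁)) (Limits.Sigma.map (fun j => (T j).mor₂))
      (Sigma.desc (fun j => (T j).mor₃ ≫
        (shiftFunctor D (1 : ℤ)).map (Sigma.ι (fun j => (T j).obj₁) j))) ∈
        distinguishedTriangles := by
  set S : Triangle D := Triangle.mk (Limits.Sigma.map (fun j => (T j).mor₁))
      (Limits.Sigma.map (fun j => (T j).mor₂))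
      (Sigma.desc (fun j => (T j).mor₃ ≫
        (shiftFunctor D (1 : ℤ)).map (Sigma.ι (fun j => (T j).obj₁) j))) with hS
  let f₁ := Limits.Sigma.map (fun j => (T j).mor₁)
  obtain ⟨Z, f₂, f₃, hT'⟩ := distinguished_cocone_triangle f₁
  let T' := Triangle.mk f₁ f₂ f₃
  change T' ∈ distTriang D at hT'
  let φ : ∀ j, T j ⟶ T' := fun j => completeDistinguishedTriangleMorphism _ _
    (hT j) hT' (Sigma.ι (fun j => (T j).obj₁) j) (Sigma.ι (fun j => (T j).obj₂) j)
      (by simp [f₁, T'])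
  -- shifted coproducts
  have hcX : IsColimit (Cofan.mk ((∐ fun j => (T j).obj₁)⟦(1 : ℤ)⟧)
      (fun j => (Sigma.ι (fun j => (T j).obj₁) j)⟦(1 : ℤ)⟧')) :=
    isColimitCofanMkObjOfIsColimit (shiftFunctor D (1 : ℤ)) _ _
      (coproductIsCoproduct (fun j => (T j).obj₁))
  have hcY : IsColimit (Cofan.mk ((∐ fun j => (T j).obj₂)⟦(1 : ℤ)⟧)
      (fun j => (Sigma.ι (fun j => (T j).obj₂) j)⟦(1 : ℤ)⟧')) :=
    isColimitCofanMkObjOfIsColimit (shiftFunctor D (1 : ℤ)) _ _
      (coproductIsCoproduct (fun j => (T j).obj₂))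
  let φ' : S ⟶ T' :=
    { hom₁ := 𝟙 _
      hom₂ := 𝟙 _
      hom₃ := Sigma.desc (fun j => (φ j).hom₃)
      comm₁ := by simp [S, T', f₁]
      comm₂ := by
        apply Sigma.hom_ext
        intro j
        have := (φ j).comm₂
        simp [S, T', φ] at this ⊢
      comm₃ := by
        apply Sigma.hom_ext
        intro j
        have := (φ j).comm₃
        simp [S, T', φ] at this ⊢
        exact this }
  have h₁ : φ'.hom₁ = 𝟙 _ := rfl
  have h₂ : φ'.hom₂ = 𝟙 _ := rfl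
  have h₃ : ∀ j, Sigma.ι _ j ≫ φ'.hom₃ = (φ j).hom₃ := fun j => by simp [φ']
  have : IsIso φ'.hom₁ := by rw [h₁]; infer_instance
  have : IsIso φ'.hom₂ := by rw [h₂]; infer_instance
  suffices IsIso φ'.hom₃ by
    have : IsIso φ' := by
      apply Triangle.isIso_of_isIsos
      all_goals infer_instance
    exact isomorphic_distinguished _ hT' _ (asIso φ')
  have hφ₁ : ∀ j, (φ j).hom₁ = Sigma.ι (fun j => (T j).obj₁) j := fun j => rfl
  have hφ₂ : ∀ j, (φ j).hom₂ = Sigma.ι (fun j => (T j).obj₂) j := fun j => rfl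
  have hSmor₂ : ∀ j, Sigma.ι (fun j => (T j).obj₂) j ≫ S.mor₂ =
      (T j).mor₂ ≫ Sigma.ι (fun j => (T j).obj₃) j := fun j => by simp [S]
  have hSmor₃ : ∀ j, Sigma.ι (fun j => (T j).obj₃) j ≫ S.mor₃ =
      (T j).mor₃ ≫ (Sigma.ι (fun j => (T j).obj₁) j)⟦(1 : ℤ)⟧' := fun j => by simp [S]
  have hSmor₁ : ∀ j, Sigma.ι (fun j => (T j).obj₁) j ≫ f₁ =
      (T j).mor₁ ≫ Sigma.ι (fun j => (T j).obj₂) j := fun j => by simp [f₁]
  refine isIso_of_coyoneda_map_bijective _ (fun A => ⟨?_, ?_⟩)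
  · suffices Epi φ'.hom₃ by
      intro a₁ a₂ ha
      simpa only [← cancel_epi φ'.hom₃] using ha
    rw [Preadditive.epi_iff_cancel_zero]
    intro A f hf
    have hf' : T'.mor₂ ≫ f = 0 := by
      have := φ'.comm₂
      rw [h₂, id_comp] at this
      rw [← this, assoc, hf, comp_zero]
    obtain ⟨g, hg⟩ := T'.yoneda_exact₃ hT' f hf'
    have hg' : ∀ j, (T j).mor₃ ≫ ((Sigma.ι (fun j => (T j).obj₁) j)⟦(1 : ℤ)⟧' ≫ g) = 0 := by
      intro j
      have := (φ j).comm₃
      rw [hφ₁] at this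
      rw [reassoc_of% this, ← hg, ← h₃, assoc, hf, comp_zero]
    have hg'' : ∀ j, ∃ w : ((T j).obj₂)⟦(1 : ℤ)⟧ ⟶ A,
        (Sigma.ι (fun j => (T j).obj₁) j)⟦(1 : ℤ)⟧' ≫ g = ((T j).mor₁)⟦(1 : ℤ)⟧' ≫ w := by
      intro j
      obtain ⟨w, hw⟩ := (T j).rotate.rotate.yoneda_exact₂
        (rot_of_distTriang _ (rot_of_distTriang _ (hT j))) _ (hg' j)
      refine ⟨-w, ?_⟩
      rw [hw]
      simp
    choose w hw using hg''
    have hg''' : g = f₁⟦(1 : ℤ)⟧' ≫ Cofan.IsColimit.desc hcY w := by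
      refine Cofan.IsColimit.hom_ext hcX _ _ (fun j => ?_)
      dsimp
      rw [hw, ← Functor.map_comp_assoc, hSmor₁, Functor.map_comp_assoc]
      congr 1
      exact (Cofan.IsColimit.fac hcY w j).symm
    rw [hg, hg''']
    exact (comp_distTriang_mor_zero₃₁_assoc _ hT' _).trans (by simp)
  · intro a
    obtain ⟨a', ha'⟩ : ∃ (a' : Z ⟶ A), T'.mor₂ ≫ a' = S.mor₂ ≫ a := by
      have zero : f₁ ≫ S.mor₂ = 0 := by
        apply Sigma.hom_ext
        intro j
        rw [reassoc_of% hSmor₁, hSmor₂, comp_distTriang_mor_zero₁₂_assoc _ (hT j)]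
        simp
      obtain ⟨g, hg⟩ := T'.yoneda_exact₂ hT' (S.mor₂ ≫ a) (by
        change f₁ ≫ _ = 0
        rw [reassoc_of% zero, zero_comp])
      exact ⟨g, hg.symm⟩
    have ha'' := fun (j : J) => (T j).yoneda_exact₃ (hT j)
      (Sigma.ι (fun j => (T j).obj₃) j ≫ (a - φ'.hom₃ ≫ a')) (by
        rw [Preadditive.comp_sub, Preadditive.comp_sub, reassoc_of% h₃, sub_eq_zero]
        have := (φ j).comm₂
        rw [hφ₂] at this
        rw [reassoc_of% this, ha', reassoc_of% hSmor₂])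
    choose b hb using ha''
    have hb' : a - φ'.hom₃ ≫ a' = S.mor₃ ≫ Cofan.IsColimit.desc hcX b := by
      apply Sigma.hom_ext
      intro j
      rw [hb, reassoc_of% hSmor₃]
      congr 1
      exact (Cofan.IsColimit.fac hcX b j).symm
    refine ⟨a' + f₃ ≫ Cofan.IsColimit.desc hcX b, ?_⟩
    dsimp only
    have key : S.mor₃ = φ'.hom₃ ≫ f₃ := by
      have := φ'.comm₃
      rw [h₁] at this
      simp only [CategoryTheory.Functor.map_id] at this
      exact (comp_id _).symm.trans this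
    rw [Preadditive.comp_add, ← reassoc_of% key, ← hb', add_sub_cancel]

set_option backward.defeqAttrib.useBackward true in
set_option backward.isDefEq.respectTransparency false in
/-- Cofan version: any triangle built on colimit cofans of the vertices of a family of
distinguished triangles is distinguished. -/
theorem H2_cofanTriangle_distinguished {D : Type u} [Category.{v} D] [Preadditive D]
    [HasZeroObject D] [HasShift D ℤ]
    [∀ n : ℤ, (shiftFunctor D n).Additive] [Pretriangulated D]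
    {J : Type w} (T : J → Triangle D) (hT : ∀ j, T j ∈ distinguishedTriangles)
    {SX SY SZ : D} (ιX : ∀ j, (T j).obj₁ ⟶ SX) (ιY : ∀ j, (T j).obj₂ ⟶ SY)
    (ιZ : ∀ j, (T j).obj₃ ⟶ SZ)
    (hX : IsColimit (Cofan.mk SX ιX)) (hY : IsColimit (Cofan.mk SY ιY))
    (hZ : IsColimit (Cofan.mk SZ ιZ))
    (f : SX ⟶ SY) (g : SY ⟶ SZ) (h : SZ ⟶ SX⟦(1 : ℤ)⟧)
    (hf : ∀ j, ιX j ≫ f = (T j).mor₁ ≫ ιY j) (hg : ∀ j, ιY j ≫ g = (T j).mor₂ ≫ ιZ j)
    (hh : ∀ j, ιZ j ≫ h = (T j).mor₃ ≫ (ιX j)⟦(1 : ℤ)⟧') :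
    Triangle.mk f g h ∈ distinguishedTriangles := by
  haveI : HasCoproduct (fun j => (T j).obj₁) := ⟨⟨⟨_, hX⟩⟩⟩
  haveI : HasCoproduct (fun j => (T j).obj₂) := ⟨⟨⟨_, hY⟩⟩⟩
  haveI : HasCoproduct (fun j => (T j).obj₃) := ⟨⟨⟨_, hZ⟩⟩⟩
  let eX : (∐ fun j => (T j).obj₁) ≅ SX :=
    (coproductIsCoproduct (fun j => (T j).obj₁)).coconePointUniqueUpToIso hX
  let eY : (∐ fun j => (T j).obj₂) ≅ SY :=
    (coproductIsCoproduct (fun j => (T j).obj₂)).coconePointUniqueUpToIso hY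
  let eZ : (∐ fun j => (T j).obj₃) ≅ SZ :=
    (coproductIsCoproduct (fun j => (T j).obj₃)).coconePointUniqueUpToIso hZ
  have heX : ∀ j, Sigma.ι (fun j => (T j).obj₁) j ≫ eX.hom = ιX j := fun j =>
    IsColimit.comp_coconePointUniqueUpToIso_hom (coproductIsCoproduct _) hX ⟨j⟩
  have heY : ∀ j, Sigma.ι (fun j => (T j).obj₂) j ≫ eY.hom = ιY j := fun j =>
    IsColimit.comp_coconePointUniqueUpToIso_hom (coproductIsCoproduct _) hY ⟨j⟩
  have heZ : ∀ j, Sigma.ι (fun j => (T j).obj₃) j ≫ eZ.hom = ιZ j := fun j =>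
    IsColimit.comp_coconePointUniqueUpToIso_hom (coproductIsCoproduct _) hZ ⟨j⟩
  refine isomorphic_distinguished _ (H2_coprodTriangle_distinguished T hT) _
    (Triangle.isoMk _ _ eX eY eZ ?_ ?_ ?_).symm
  · apply Sigma.hom_ext
    intro j
    dsimp
    rw [Sigma.ι_map_assoc, reassoc_of% heX, hf, heY]
  · apply Sigma.hom_ext
    intro j
    dsimp
    rw [Sigma.ι_map_assoc, reassoc_of% heY, hg, heZ]
  · apply Sigma.hom_ext
    intro j
    dsimp
    rw [Sigma.ι_desc_assoc, reassoc_of% heZ, hh, assoc, ← Functor.map_comp, heX]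

end Groth.Agent.H2
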