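import Mathlib

universe u v w

open CategoryTheory CategoryTheory.Limits CategoryTheory.Category CategoryTheory.Pretriangulated

namespace Groth.Agent.H2

set_option backward.defeqAttrib.useBackward true in
set_option backward.isDefEq.respectTransparency false in
/-- A retract of a distinguished triangle is distinguished. -/
theorem H2_retract_distinguished {D : Type u} [Category.{v} D] [Preadditive D]
    [HasZeroObject D] [HasShift D ℤ]
    [∀ n : ℤ, (shiftFunctor D n).Additive] [Pretriangulated D]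
    (T S : Triangle D) (hS : S ∈ distinguishedTriangles) (i : T ⟶ S) (p : S ⟶ T)
    (hip : i ≫ p = 𝟙 T) : T ∈ distinguishedTriangles := by
  have ip₁ : i.hom₁ ≫ p.hom₁ = 𝟙 _ := by
    have := congrArg TriangleMorphism.hom₁ hip; simpa using this
  have ip₂ : i.hom₂ ≫ p.hom₂ = 𝟙 _ := by
    have := congrArg TriangleMorphism.hom₂ hip; simpa using this
  have ip₃ : i.hom₃ ≫ p.hom₃ = 𝟙 _ := by
    have := congrArg TriangleMorphism.hom₃ hip; simpa using this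
  obtain ⟨Q, g', h', hT₀⟩ := distinguished_cocone_triangle T.mor₁
  let T₀ := Triangle.mk T.mor₁ g' h'
  change T₀ ∈ distTriang D at hT₀
  obtain ⟨α₃, hα₂, hα₃⟩ := complete_distinguished_triangle_morphism T₀ S hT₀ hS i.hom₁ i.hom₂
    i.comm₁
  dsimp [T₀] at α₃ hα₂ hα₃
  let c : Q ⟶ T.obj₃ := α₃ ≫ p.hom₃
  have hc₂ : g' ≫ c = T.mor₂ := by
    dsimp [c]
    rw [reassoc_of% hα₂, p.comm₂, reassoc_of% ip₂]
  have hc₃ : c ≫ T.mor₃ = h' := by
    dsimp [c]
    rw [assoc, ← p.comm₃, ← reassoc_of% hα₃, ← Functor.map_comp, ip₁, CategoryTheory.Functor.map_id, comp_id]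
  -- exactness properties of T
  have e2 : ∀ {A : D} (u : A ⟶ T.obj₂), u ≫ T.mor₂ = 0 → ∃ v : A ⟶ T.obj₁, u = v ≫ T.mor₁ := by
    intro A u hu
    obtain ⟨v₀, hv₀⟩ := S.coyoneda_exact₂ hS (u ≫ i.hom₂) (by
      rw [assoc, ← i.comm₂, reassoc_of% hu, zero_comp])
    refine ⟨v₀ ≫ p.hom₁, ?_⟩
    rw [assoc, ← p.comm₁, ← reassoc_of% hv₀, ip₂, comp_id]
  have e3 : ∀ {A : D} (w : A ⟶ T.obj₃), w ≫ T.mor₃ = 0 → ∃ y : A ⟶ T.obj₂, w = y ≫ T.mor₂ := by
    intro A w hw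
    obtain ⟨y₀, hy₀⟩ := S.coyoneda_exact₃ hS (w ≫ i.hom₃) (by
      rw [assoc, ← i.comm₃, reassoc_of% hw, zero_comp])
    refine ⟨y₀ ≫ p.hom₂, ?_⟩
    rw [assoc, ← p.comm₂, ← reassoc_of% hy₀, ip₃, comp_id]
  have z31 : T.mor₃ ≫ T.mor₁⟦(1 : ℤ)⟧' = 0 := by
    have h1 : T.mor₁ = i.hom₁ ≫ S.mor₁ ≫ p.hom₂ := by
      rw [← reassoc_of% i.comm₁, ip₂, comp_id]
    rw [h1, Functor.map_comp, Functor.map_comp, reassoc_of% i.comm₃,
      comp_distTriang_mor_zero₃₁_assoc _ hS, zero_comp, comp_zero]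
  let φ : T₀ ⟶ T :=
    { hom₁ := 𝟙 _
      hom₂ := 𝟙 _
      hom₃ := c
      comm₁ := by simp [T₀]
      comm₂ := by simp [T₀, hc₂]
      comm₃ := by simp [T₀, hc₃] }
  suffices IsIso c by
    have : IsIso φ.hom₁ := by dsimp [φ]; infer_instance
    have : IsIso φ.hom₂ := by dsimp [φ]; infer_instance
    have : IsIso φ.hom₃ := by dsimp [φ]; infer_instance
    have : IsIso φ := by
      apply Triangle.isIso_of_isIsos
      all_goals infer_instance
    exact isomorphic_distinguished _ hT₀ _ (asIso φ).symm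
  refine isIso_of_yoneda_map_bijective _ (fun A => ⟨?_, ?_⟩)
  · suffices Mono c by
      intro a₁ a₂ ha
      simpa only [← cancel_mono c] using ha
    rw [Preadditive.mono_iff_cancel_zero]
    intro A a ha
    obtain ⟨b, hb⟩ : ∃ b : A ⟶ T.obj₂, a = b ≫ g' := T₀.coyoneda_exact₃ hT₀ a (by
      change a ≫ h' = 0
      rw [← hc₃, reassoc_of% ha, zero_comp])
    obtain ⟨v, hv⟩ := e2 b (by rw [← hc₂, ← reassoc_of% hb, ha])
    rw [hb, hv, assoc]
    exact (congrArg (fun t => v ≫ t) (comp_distTriang_mor_zero₁₂ T₀ hT₀)).trans comp_zero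
  · intro z
    obtain ⟨q, hq⟩ : ∃ q : A ⟶ Q, z ≫ T.mor₃ = q ≫ h' :=
      T₀.coyoneda_exact₁ hT₀ (z ≫ T.mor₃) (by
        change (z ≫ T.mor₃) ≫ T.mor₁⟦(1 : ℤ)⟧' = 0
        rw [assoc, z31, comp_zero])
    obtain ⟨y, hy⟩ := e3 (z - q ≫ c) (by
      rw [Preadditive.sub_comp, assoc, hc₃, hq, sub_self])
    refine ⟨q + y ≫ g', ?_⟩
    dsimp only
    rw [Preadditive.add_comp, assoc, hc₂, ← hy, add_sub_cancel]

end Groth.Agent.H2
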