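import Mathlib
import Groth.Agent.Lib.helper2.CoprodTri
import Groth.Agent.Lib.helper2.TriRetract

universe u v w

open CategoryTheory CategoryTheory.Limits CategoryTheory.Category CategoryTheory.Pretriangulated

namespace Groth.Agent.H2

variable {D : Type u} [Category.{v} D] [Preadditive D]
    [HasZeroObject D] [HasShift D ℤ]
    [∀ n : ℤ, (shiftFunctor D n).Additive] [Pretriangulated D]

/-- the direct sum of two triangles. -/
noncomputable abbrev H2_biprodTriangle (T T' : Triangle D) : Triangle D :=
  Triangle.mk (biprod.map T.mor₁ T'.mor₁) (biprod.map T.mor₂ T'.mor₂)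
    (biprod.desc (T.mor₃ ≫ (shiftFunctor D (1 : ℤ)).map biprod.inl)
      (T'.mor₃ ≫ (shiftFunctor D (1 : ℤ)).map biprod.inr))

set_option backward.defeqAttrib.useBackward true in
set_option backward.isDefEq.respectTransparency false in
theorem H2_biprodTriangle_left (T T' : Triangle D)
    (h : H2_biprodTriangle T T' ∈ distinguishedTriangles) : T ∈ distinguishedTriangles := by
  let i : T ⟶ H2_biprodTriangle T T' :=
    { hom₁ := biprod.inl
      hom₂ := biprod.inl
      hom₃ := biprod.inl
      comm₁ := by simp
      comm₂ := by simp
      comm₃ := by simp }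
  let p : H2_biprodTriangle T T' ⟶ T :=
    { hom₁ := biprod.fst
      hom₂ := biprod.fst
      hom₃ := biprod.fst
      comm₁ := by simp
      comm₂ := by simp
      comm₃ := by
        apply biprod.hom_ext'
        · simp [← Functor.map_comp]
        · simp [← Functor.map_comp] }
  refine H2_retract_distinguished T _ h i p ?_
  ext <;> simp [i, p]

set_option backward.defeqAttrib.useBackward true in
set_option backward.isDefEq.respectTransparency false in
theorem H2_biprodTriangle_right (T T' : Triangle D)
    (h : H2_biprodTriangle T T' ∈ distinguishedTriangles) : T' ∈ distinguishedTriangles := by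
  let i : T' ⟶ H2_biprodTriangle T T' :=
    { hom₁ := biprod.inr
      hom₂ := biprod.inr
      hom₃ := biprod.inr
      comm₁ := by simp
      comm₂ := by simp
      comm₃ := by simp }
  let p : H2_biprodTriangle T T' ⟶ T' :=
    { hom₁ := biprod.snd
      hom₂ := biprod.snd
      hom₃ := biprod.snd
      comm₁ := by simp
      comm₂ := by simp
      comm₃ := by
        apply biprod.hom_ext'
        · simp [← Functor.map_comp]
        · simp [← Functor.map_comp] }
  refine H2_retract_distinguished T' _ h i p ?_
  ext <;> simp [i, p]

set_option backward.defeqAttrib.useBackward true in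
set_option backward.isDefEq.respectTransparency false in
theorem H2_biprodTriangle_distinguished (T T' : Triangle D)
    (hT : T ∈ distinguishedTriangles) (hT' : T' ∈ distinguishedTriangles) :
    H2_biprodTriangle T T' ∈ distinguishedTriangles := by
  let Tf : WalkingPair → Triangle D := fun j => match j with
    | .left => T
    | .right => T'
  have hTf : ∀ j, Tf j ∈ distinguishedTriangles := by
    rintro (_ | _)
    · exact hT
    · exact hT'
  let ιX : ∀ j, (Tf j).obj₁ ⟶ T.obj₁ ⊞ T'.obj₁ := fun j => match j with
    | .left => biprod.inl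
    | .right => biprod.inr
  let ιY : ∀ j, (Tf j).obj₂ ⟶ T.obj₂ ⊞ T'.obj₂ := fun j => match j with
    | .left => biprod.inl
    | .right => biprod.inr
  let ιZ : ∀ j, (Tf j).obj₃ ⟶ T.obj₃ ⊞ T'.obj₃ := fun j => match j with
    | .left => biprod.inl
    | .right => biprod.inr
  have hX : IsColimit (Cofan.mk _ ιX) :=
    mkCofanColimit _ (fun s => biprod.desc (s.inj .left) (s.inj .right))
      (by rintro s (_ | _) <;> simp [ιX, Cofan.inj])
      (by
        intro s m hm
        apply biprod.hom_ext'
        · simpa [ιX, Cofan.inj] using hm .left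
        · simpa [ιX, Cofan.inj] using hm .right)
  have hY : IsColimit (Cofan.mk _ ιY) :=
    mkCofanColimit _ (fun s => biprod.desc (s.inj .left) (s.inj .right))
      (by rintro s (_ | _) <;> simp [ιY, Cofan.inj])
      (by
        intro s m hm
        apply biprod.hom_ext'
        · simpa [ιY, Cofan.inj] using hm .left
        · simpa [ιY, Cofan.inj] using hm .right)
  have hZ : IsColimit (Cofan.mk _ ιZ) :=
    mkCofanColimit _ (fun s => biprod.desc (s.inj .left) (s.inj .right))
      (by rintro s (_ | _) <;> simp [ιZ, Cofan.inj])
      (by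
        intro s m hm
        apply biprod.hom_ext'
        · simpa [ιZ, Cofan.inj] using hm .left
        · simpa [ιZ, Cofan.inj] using hm .right)
  refine H2_cofanTriangle_distinguished Tf hTf ιX ιY ιZ hX hY hZ _ _ _ ?_ ?_ ?_
  · rintro (_ | _) <;> simp [ιX, ιY, Tf]
  · rintro (_ | _) <;> simp [ιY, ιZ, Tf]
  · rintro (_ | _) <;> simp [ιX, ιZ, Tf]

end Groth.Agent.H2
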