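import Mathlib
import Groth.Prelude.Def_CohDer
import Groth.Prelude.Def_DerLim

set_option autoImplicit false
universe w v u
open CategoryTheory CategoryTheory.Limits Opposite

namespace Groth.Agent.H2

open Pretriangulated CategoryTheory.Pretriangulated.Opposite

section prod
variable {D : Type u} [Category.{v} D] (H : Dᵒᵖ ⥤ AddCommGrpCat.{v})

lemma H2_H_map_comp {A B C : D} (f : A ⟶ B) (g : B ⟶ C) (x : H.obj (op C)) :
    H.map (f ≫ g).op x = H.map f.op (H.map g.op x) := by
  rw [op_comp, H.map_comp]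
  rfl

lemma H2_H_map_id {A : D} (x : H.obj (op A)) : H.map (𝟙 A).op x = x := by
  rw [op_id, H.map_id]
  rfl

/-- Elements of `H (∐ Z)` are determined by their restrictions to the summands. -/
lemma H2_H_ext {κ : Type w} [PreservesLimitsOfShape (Discrete κ) H] (Z : κ → D) [HasCoproduct Z]
    (x y : H.obj (op (∐ Z)))
    (h : ∀ k, H.map (Sigma.ι Z k).op x = H.map (Sigma.ι Z k).op y) : x = y := by
  have hlim := isLimitOfPreserves H (Cofan.IsColimit.op (coproductIsCoproduct Z))
  refine Concrete.isLimit_ext _ hlim x y ?_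
  rintro ⟨k⟩
  exact h k

/-- Families of elements of the `H (Z k)` glue to an element of `H (∐ Z)`. -/
lemma H2_H_glue {κ : Type w} [PreservesLimitsOfShape (Discrete κ) H] (Z : κ → D) [HasCoproduct Z]
    (x : ∀ k, H.obj (op (Z k))) :
    ∃ y : H.obj (op (∐ Z)), ∀ k, H.map (Sigma.ι Z k).op y = x k := by
  have hlim := isLimitOfPreserves (forget AddCommGrpCat.{v})
    (isLimitOfPreserves H (Cofan.IsColimit.op (coproductIsCoproduct Z)))
  let s : ((Discrete.functor fun k => op (Z k)) ⋙ H ⋙ forget AddCommGrpCat.{v}).sections :=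
    ⟨fun k => x k.as, by
      rintro ⟨k⟩ ⟨k'⟩ ⟨⟨⟨⟩⟩⟩
      simp⟩
  refine ⟨(Types.isLimitEquivSections hlim).symm s, fun k => ?_⟩
  exact Types.isLimitEquivSections_symm_apply hlim s ⟨k⟩

end prod

section exact
variable {D : Type u} [Category.{v} D] [Preadditive D] [HasZeroObject D] [HasShift D ℤ]
  [∀ n : ℤ, (shiftFunctor D n).Additive] [Pretriangulated D]
  (H : Dᵒᵖ ⥤ AddCommGrpCat.{v}) [H.IsHomological]

/-- Exactness of a cohomological functor at the middle term of a distinguished triangle. -/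
lemma H2_H_exact (T : Triangle D) (hT : T ∈ distTriang D) (x : H.obj (op T.obj₂))
    (hx : H.map T.mor₁.op x = 0) : ∃ y : H.obj (op T.obj₃), H.map T.mor₂.op y = x := by
  have ex := H.map_distinguished_exact _ (op_distinguished T hT)
  rw [ShortComplex.ab_exact_iff] at ex
  exact ex x hx

lemma H2_H_map_zero {A B : D} (x : H.obj (op B)) : H.map (0 : A ⟶ B).op x = 0 := by
  rw [op_zero, H.map_zero]
  rfl

lemma H2_H_map_add {A B : D} (f g : A ⟶ B) (x : H.obj (op B)) :
    H.map (f + g).op x = H.map f.op x + H.map g.op x := by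
  rw [op_add, H.map_add]
  rfl

lemma H2_H_map_sub {A B : D} (f g : A ⟶ B) (x : H.obj (op B)) :
    H.map (f - g).op x = H.map f.op x - H.map g.op x := by
  rw [op_sub, H.map_sub]
  rfl

lemma H2_H_map_neg {A B : D} (f : A ⟶ B) (x : H.obj (op B)) :
    H.map (-f).op x = - H.map f.op x := by
  rw [op_neg, H.map_neg]
  rfl

end exact

end Groth.Agent.H2
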