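import Mathlib
import Groth.Prelude.Def_DerLim

set_option autoImplicit false
universe v u
open CategoryTheory CategoryTheory.Limits DerLim

namespace Groth.Agent.H2

section basic
variable {A : Type u} [Category.{v} A]

@[reassoc]
lemma H2_ι_shiftMap (K : ℕ → A) (f : ∀ n, K n ⟶ K (n + 1)) [HasCoproduct K] (n : ℕ) :
    Sigma.ι K n ≫ shiftMap K f = f n ≫ Sigma.ι K (n + 1) := by
  simp [shiftMap]

end basic

section pre
variable {A : Type u} [Category.{v} A] [Preadditive A]

@[reassoc]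
lemma H2_shiftMap_π_zero (K : ℕ → A) (f : ∀ n, K n ⟶ K (n + 1)) [HasCoproduct K] :
    shiftMap K f ≫ Sigma.π K 0 = 0 := by
  apply Sigma.hom_ext
  intro m
  rw [H2_ι_shiftMap_assoc, Sigma.ι_π_of_ne K (Nat.succ_ne_zero m), comp_zero, comp_zero]

@[reassoc]
lemma H2_shiftMap_π_succ (K : ℕ → A) (f : ∀ n, K n ⟶ K (n + 1)) [HasCoproduct K] (n : ℕ) :
    shiftMap K f ≫ Sigma.π K (n + 1) = Sigma.π K n ≫ f n := by
  apply Sigma.hom_ext
  intro m
  rw [H2_ι_shiftMap_assoc]
  by_cases h : m = n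
  · subst h
    rw [Sigma.ι_π_eq_id, Sigma.ι_π_eq_id_assoc, Category.comp_id]
  · rw [Sigma.ι_π_of_ne K (show m + 1 ≠ n + 1 by omega), Sigma.ι_π_of_ne_assoc K h, comp_zero,
      zero_comp]

/-- A morphism killed by `1 - shift` has all its components zero. -/
lemma H2_comp_π_eq_zero (K : ℕ → A) (f : ∀ n, K n ⟶ K (n + 1)) [HasCoproduct K] {Z : A}
    (k : Z ⟶ ∐ K) (hk : k ≫ (𝟙 (∐ K) - shiftMap K f) = 0) (n : ℕ) : k ≫ Sigma.π K n = 0 := by
  have hk' : k = k ≫ shiftMap K f := by
    rw [Preadditive.comp_sub, Category.comp_id, sub_eq_zero] at hk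
    exact hk
  induction n with
  | zero => rw [hk', Category.assoc, H2_shiftMap_π_zero, comp_zero]
  | succ n ih => rw [hk', Category.assoc, H2_shiftMap_π_succ, reassoc_of% ih, zero_comp]

end pre

section ab
variable {A : Type u} [Category.{v} A] [Abelian A]

/-- The endomorphism of `∐ K` killing the `m`-th summand. -/
noncomputable def H2_kill (K : ℕ → A) [HasCoproduct K] (m : ℕ) : (∐ K) ⟶ ∐ K :=
  𝟙 _ - Sigma.π K m ≫ Sigma.ι K m

lemma H2_ι_kill_self (K : ℕ → A) [HasCoproduct K] (m : ℕ) :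
    Sigma.ι K m ≫ H2_kill K m = 0 := by
  rw [H2_kill, Preadditive.comp_sub, Category.comp_id, Sigma.ι_π_eq_id_assoc, sub_self]

lemma H2_ι_kill_ne (K : ℕ → A) [HasCoproduct K] {n m : ℕ} (h : n ≠ m) :
    Sigma.ι K n ≫ H2_kill K m = Sigma.ι K n := by
  rw [H2_kill, Preadditive.comp_sub, Category.comp_id, Sigma.ι_π_of_ne_assoc K h, zero_comp,
    sub_zero]

set_option backward.isDefEq.respectTransparency false in
lemma H2_ι_killSeq (K : ℕ → A) [HasCoproduct K] (n j : ℕ) (hj : j ≤ n) :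
    Sigma.ι K n ≫ (Functor.ofSequence (H2_kill K)).map (homOfLE (Nat.zero_le j)) =
      Sigma.ι K n := by
  induction j with
  | zero =>
    have : (homOfLE (Nat.zero_le 0) : (0 : ℕ) ⟶ 0) = 𝟙 _ := Subsingleton.elim _ _
    rw [this, CategoryTheory.Functor.map_id]
    exact Category.comp_id _
  | succ j ih =>
    have : (homOfLE (Nat.zero_le (j + 1)) : (0 : ℕ) ⟶ j + 1) =
        homOfLE (Nat.zero_le j) ≫ homOfLE (Nat.le_add_right j 1) := Subsingleton.elim _ _
    rw [this, Functor.map_comp, Functor.ofSequence_map_homOfLE_succ]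
    have h1 := ih (by omega)
    rw [reassoc_of% h1]
    exact H2_ι_kill_ne K (by omega)

set_option backward.isDefEq.respectTransparency false in
lemma H2_colimit_ι_killSeq_zero (K : ℕ → A) [HasCoproduct K] [HasColimitsOfShape ℕ A] :
    colimit.ι (Functor.ofSequence (H2_kill K)) 0 = 0 := by
  apply Sigma.hom_ext
  intro n
  rw [comp_zero]
  have hw := colimit.w (Functor.ofSequence (H2_kill K)) (homOfLE (Nat.zero_le (n + 1)))
  rw [← hw]
  have : (homOfLE (Nat.zero_le (n + 1)) : (0 : ℕ) ⟶ n + 1) =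
      homOfLE (Nat.zero_le n) ≫ homOfLE (Nat.le_add_right n 1) := Subsingleton.elim _ _
  rw [this, Functor.map_comp, Functor.ofSequence_map_homOfLE_succ]
  have h1 := H2_ι_killSeq K n n le_rfl
  rw [Category.assoc, reassoc_of% h1]
  have h2 := H2_ι_kill_self K n
  rw [reassoc_of% h2, zero_comp]

set_option backward.isDefEq.respectTransparency false in
/-- In an abelian category with exact `ℕ`-colimits, a mono into `∐ K` whose components all vanish
is zero. -/
lemma H2_eq_zero_of_comp_π (K : ℕ → A) [HasCoproduct K] [HasColimitsOfShape ℕ A]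
    [HasExactColimitsOfShape ℕ A] {Z : A} (k : Z ⟶ ∐ K) [Mono k]
    (hk : ∀ n, k ≫ Sigma.π K n = 0) : k = 0 := by
  let T : ℕ ⥤ A := Functor.ofSequence (H2_kill K)
  let α : (Functor.const ℕ).obj Z ⟶ T := NatTrans.ofSequence (fun _ => k) (by
    intro n
    show 𝟙 Z ≫ k = k ≫ T.map (homOfLE (Nat.le_add_right n 1))
    rw [Functor.ofSequence_map_homOfLE_succ, H2_kill, Preadditive.comp_sub, Category.comp_id,
      Category.id_comp, reassoc_of% (hk n), zero_comp, sub_zero])
  have : ∀ n, Mono (α.app n) := fun n => by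
    show Mono k
    infer_instance
  have : Mono α := NatTrans.mono_of_mono_app α
  have : Mono (colim.map α) := inferInstance
  have h1 : colimit.ι ((Functor.const ℕ).obj Z) 0 ≫ colim.map α = 0 := by
    rw [colim_map, ι_colimMap]
    show k ≫ colimit.ι (Functor.ofSequence (H2_kill K)) 0 = 0
    rw [H2_colimit_ι_killSeq_zero, comp_zero]
  have h2 : colimit.ι ((Functor.const ℕ).obj Z) 0 = 0 := by
    rw [← cancel_mono (colim.map α), h1, zero_comp]
  have h3 : 𝟙 Z = 0 := by
    have := colimit.ι_desc (F := (Functor.const ℕ).obj Z) ⟨Z, 𝟙 _⟩ 0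
    rw [h2, zero_comp] at this
    exact this.symm
  rw [← Category.id_comp k, h3, zero_comp]

lemma H2_mono_one_sub_shiftMap (K : ℕ → A) (f : ∀ n, K n ⟶ K (n + 1)) [HasCoproduct K]
    [HasColimitsOfShape ℕ A] [HasExactColimitsOfShape ℕ A] :
    Mono (𝟙 (∐ K) - shiftMap K f) := by
  apply Preadditive.mono_of_kernel_zero
  apply H2_eq_zero_of_comp_π
  intro n
  exact H2_comp_π_eq_zero K f _ (kernel.condition _) n

end ab

section coker
variable {A : Type u} [Category.{v} A] [Preadditive A]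

lemma H2_seq_w (F : ℕ ⥤ A) [HasCoproduct F.obj] [HasColimit F] :
    (𝟙 (∐ F.obj) - shiftMap F.obj (fun n => F.map (homOfLE (Nat.le_succ n)))) ≫
      Sigma.desc (fun n => colimit.ι F n) = 0 := by
  apply Sigma.hom_ext
  intro n
  rw [comp_zero, Preadditive.sub_comp, Preadditive.comp_sub, Category.id_comp, Sigma.ι_desc,
    H2_ι_shiftMap_assoc, Sigma.ι_desc, colimit.w, sub_self]

lemma H2_seq_cocone_nat (F : ℕ ⥤ A) [HasCoproduct F.obj] {Z : A} (g : (∐ F.obj) ⟶ Z)
    (hg : (𝟙 (∐ F.obj) - shiftMap F.obj (fun n => F.map (homOfLE (Nat.le_succ n)))) ≫ g = 0)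
    (n : ℕ) : F.map (homOfLE (Nat.le_succ n)) ≫ Sigma.ι F.obj (n + 1) ≫ g = Sigma.ι F.obj n ≫ g := by
  have := congrArg (fun t => Sigma.ι F.obj n ≫ t) hg
  simp only [Preadditive.sub_comp, Preadditive.comp_sub, Category.id_comp, comp_zero,
    H2_ι_shiftMap_assoc] at this
  rw [sub_eq_zero] at this
  exact this.symm

/-- The cocone on `F` with point `Z` induced by a map `g : ∐ F ⟶ Z` killed by `1 - shift`. -/
noncomputable def H2_seq_cocone (F : ℕ ⥤ A) [HasCoproduct F.obj] {Z : A} (g : (∐ F.obj) ⟶ Z)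
    (hg : (𝟙 (∐ F.obj) - shiftMap F.obj (fun n => F.map (homOfLE (Nat.le_succ n)))) ≫ g = 0) :
    Cocone F where
  pt := Z
  ι := NatTrans.ofSequence (fun n => Sigma.ι F.obj n ≫ g) (by
    intro n
    show F.map (homOfLE (Nat.le_add_right n 1)) ≫ Sigma.ι F.obj (n + 1) ≫ g =
      (Sigma.ι F.obj n ≫ g) ≫ 𝟙 Z
    rw [Category.comp_id]
    exact H2_seq_cocone_nat F g hg n)

/-- `colim F` is the cokernel of `1 - shift` on `∐ F`. -/
noncomputable def H2_seq_isColimit (F : ℕ ⥤ A) [HasCoproduct F.obj] [HasColimit F] :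
    IsColimit (CokernelCofork.ofπ (Sigma.desc (fun n => colimit.ι F n)) (H2_seq_w F)) :=
  CokernelCofork.IsColimit.ofπ _ _ (fun g hg => colimit.desc F (H2_seq_cocone F g hg))
    (fun g hg => by
      apply Sigma.hom_ext
      intro n
      rw [Sigma.ι_desc_assoc]
      exact colimit.ι_desc (H2_seq_cocone F g hg) n)
    (fun g hg m hm => by
      apply colimit.hom_ext
      intro n
      refine Eq.trans ?_ (colimit.ι_desc (H2_seq_cocone F g hg) n).symm
      show _ = Sigma.ι F.obj n ≫ g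
      rw [← hm, Sigma.ι_desc_assoc])

/-- Variant of `H2_seq_isColimit` where the transition maps are given separately. -/
noncomputable def H2_seq_isColimit' (F : ℕ ⥤ A) [HasCoproduct F.obj] [HasColimit F]
    (f' : ∀ n, F.obj n ⟶ F.obj (n + 1)) (hf : ∀ n, f' n = F.map (homOfLE (Nat.le_succ n)))
    (w : (𝟙 (∐ F.obj) - shiftMap F.obj f') ≫ Sigma.desc (fun n => colimit.ι F n) = 0) :
    IsColimit (CokernelCofork.ofπ (Sigma.desc (fun n => colimit.ι F n)) w) := by
  obtain rfl : f' = fun n => F.map (homOfLE (Nat.le_succ n)) := funext hf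
  exact H2_seq_isColimit F

lemma H2_ofSeq_w (K : ℕ → A) (f : ∀ n, K n ⟶ K (n + 1)) [HasCoproduct K]
    [HasColimit (Functor.ofSequence f)] :
    (𝟙 (∐ K) - shiftMap K f) ≫
      Sigma.desc (fun n => colimit.ι (Functor.ofSequence f) n) = 0 := by
  haveI : HasCoproduct (Functor.ofSequence f).obj := ‹HasCoproduct K›
  have := H2_seq_w (Functor.ofSequence f)
  have e : (fun n => (Functor.ofSequence f).map (homOfLE (Nat.le_succ n))) = f :=
    funext fun n => Functor.ofSequence_map_homOfLE_succ f n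
  rw [e] at this
  exact this

/-- `colim (ofSequence f)` is the cokernel of `1 - shift` on `∐ K`. -/
noncomputable def H2_ofSeq_isColimit (K : ℕ → A) (f : ∀ n, K n ⟶ K (n + 1)) [HasCoproduct K]
    [HasColimit (Functor.ofSequence f)] :
    IsColimit (CokernelCofork.ofπ (f := 𝟙 (∐ K) - shiftMap K f)
      (Sigma.desc (fun n => colimit.ι (Functor.ofSequence f) n) : (∐ K) ⟶ _)
      (H2_ofSeq_w K f)) :=
  haveI : HasCoproduct (Functor.ofSequence f).obj := ‹HasCoproduct K›
  H2_seq_isColimit' (Functor.ofSequence f) f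
    (fun n => (Functor.ofSequence_map_homOfLE_succ f n).symm) (H2_ofSeq_w K f)

lemma H2_sigmaComparison_shift {D : Type*} [Category D] [Preadditive D] (G : D ⥤ A) [G.Additive]
    (K : ℕ → D) (f : ∀ n, K n ⟶ K (n + 1)) [HasCoproduct K]
    [HasCoproduct fun n => G.obj (K n)] :
    sigmaComparison G K ≫ G.map (𝟙 (∐ K) - shiftMap K f) =
      (𝟙 _ - shiftMap (fun n => G.obj (K n)) (fun n => G.map (f n))) ≫ sigmaComparison G K := by
  apply Sigma.hom_ext
  intro n
  rw [ι_comp_sigmaComparison_assoc, ← G.map_comp, Preadditive.comp_sub, Category.comp_id,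
    H2_ι_shiftMap, Preadditive.sub_comp, Preadditive.comp_sub, Category.id_comp,
    ι_comp_sigmaComparison, H2_ι_shiftMap_assoc, ι_comp_sigmaComparison, G.map_sub, G.map_comp]

end coker

section ses
variable {A : Type u} [Category.{v} A] [Abelian A]

theorem H2_seq_shortExact [HasColimitsOfShape ℕ A] [HasExactColimitsOfShape ℕ A] (F : ℕ ⥤ A)
    [HasCoproduct F.obj] :
    (ShortComplex.mk _ _ (H2_seq_w F)).ShortExact := by
  have : Mono (ShortComplex.mk _ _ (H2_seq_w F)).f :=
    H2_mono_one_sub_shiftMap F.obj (fun n => F.map (homOfLE (Nat.le_succ n)))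
  have : Epi (ShortComplex.mk _ _ (H2_seq_w F)).g :=
    Cofork.IsColimit.epi (H2_seq_isColimit F)
  exact ShortComplex.ShortExact.mk (ShortComplex.exact_of_g_is_cokernel _ (H2_seq_isColimit F))

end ses

end Groth.Agent.H2
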