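import Mathlib
import Groth.Prelude.Def_CohDer
import Groth.Prelude.Def_DerLim
import Groth.Agent.Lib.helper2.BrownBasic
import Groth.Agent.Lib.helper2.SeqColim

set_option autoImplicit false
universe v u
open CategoryTheory CategoryTheory.Limits Opposite DerLim

namespace Groth.Agent.H2

open Pretriangulated CategoryTheory.Pretriangulated.Opposite

section
variable {D : Type u} [Category.{v} D] [Preadditive D] [HasZeroObject D] [HasShift D ℤ]
  [∀ n : ℤ, (shiftFunctor D n).Additive] [Pretriangulated D] [HasCoproducts.{v} D]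
  {ι : Type v} (E : ι → D)
  (H : Dᵒᵖ ⥤ AddCommGrpCat.{v}) [H.IsHomological]
  [∀ (κ : Type v), PreservesLimitsOfShape (Discrete κ) H]

/-- A stage of the Brown tower: an object with an element of `H`. -/
structure H2_BStage where
  K : D
  ξ : H.obj (op K)

/-- One step of the Brown tower. -/
structure H2_BStep (s : H2_BStage H) where
  next : H2_BStage H
  f : s.K ⟶ next.K
  fac : H.map f.op next.ξ = s.ξ
  Y : D
  y : Y ⟶ s.K
  z : next.K ⟶ (shiftFunctor D (1 : ℤ)).obj Y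
  dist : Triangle.mk y f z ∈ distTriang D
  hy : H.map y.op s.ξ = 0
  lift : ∀ (i : ι) (α : E i ⟶ s.K), H.map α.op s.ξ = 0 → ∃ α' : E i ⟶ Y, α' ≫ y = α

variable {H}

lemma H2_BStep.kill {s : H2_BStage H} (t : H2_BStep E H s) (i : ι) (α : E i ⟶ s.K)
    (hα : H.map α.op s.ξ = 0) : α ≫ t.f = 0 := by
  obtain ⟨α', rfl⟩ := t.lift i α hα
  have : t.y ≫ t.f = 0 := comp_distTriang_mor_zero₁₂ _ t.dist
  rw [Category.assoc, this, comp_zero]

variable (H)

lemma H2_exists_BStep (s : H2_BStage H) : Nonempty (H2_BStep E H s) := by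
  let κ : Type v := Σ (i : ι), {α : E i ⟶ s.K // H.map α.op s.ξ = 0}
  let Y : D := ∐ fun k : κ => E k.1
  let y : Y ⟶ s.K := Sigma.desc (fun k => k.2.1)
  have hy : H.map y.op s.ξ = 0 := by
    apply H2_H_ext H (fun k : κ => E k.1)
    intro k
    rw [← H2_H_map_comp, Sigma.ι_desc, map_zero]
    exact k.2.2
  obtain ⟨K', f, z, hT⟩ := distinguished_cocone_triangle y
  obtain ⟨ξ', hξ'⟩ := H2_H_exact H _ hT s.ξ hy
  refine ⟨⟨⟨K', ξ'⟩, f, hξ', Y, y, z, hT, hy, ?_⟩⟩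
  intro i α hα
  exact ⟨Sigma.ι (fun k : κ => E k.1) ⟨i, α, hα⟩,
    Sigma.ι_desc (f := fun k : κ => E k.1) (fun k : κ => k.2.1) ⟨i, α, hα⟩⟩

/-- The chosen step. -/
noncomputable def H2_bstep (s : H2_BStage H) : H2_BStep E H s :=
  Classical.choice (H2_exists_BStep E H s)

/-- The sequence of stages starting from `s₀`. -/
noncomputable def H2_bstages (s₀ : H2_BStage H) : ℕ → H2_BStage H :=
  fun n => Nat.rec s₀ (fun _ s => (H2_bstep E H s).next) n

/-- The canonical initial stage: the coproduct of all `E i` over all elements of `H (E i)`. -/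
lemma H2_exists_initial : ∃ s₀ : H2_BStage H,
    ∀ (i : ι) (x : H.obj (op (E i))), ∃ α : E i ⟶ s₀.K, H.map α.op s₀.ξ = x := by
  let κ : Type v := Σ (i : ι), H.obj (op (E i))
  obtain ⟨ξ, hξ⟩ := H2_H_glue H (fun k : κ => E k.1) (fun k => k.2)
  exact ⟨⟨∐ fun k : κ => E k.1, ξ⟩, fun i x => ⟨Sigma.ι (fun k : κ => E k.1) ⟨i, x⟩, hξ ⟨i, x⟩⟩⟩

/-- A Brown tower. -/
structure H2_BTower where
  K : ℕ → D
  f : ∀ n, K n ⟶ K (n + 1)
  ξ : ∀ n, H.obj (op (K n))
  fac : ∀ n, H.map (f n).op (ξ (n + 1)) = ξ n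
  surj0 : ∀ (i : ι) (x : H.obj (op (E i))), ∃ α : E i ⟶ K 0, H.map α.op (ξ 0) = x
  Y : ℕ → D
  y : ∀ n, Y n ⟶ K n
  z : ∀ n, K (n + 1) ⟶ (shiftFunctor D (1 : ℤ)).obj (Y n)
  dist : ∀ n, Triangle.mk (y n) (f n) (z n) ∈ distTriang D
  hy : ∀ n, H.map (y n).op (ξ n) = 0
  lift : ∀ (n : ℕ) (i : ι) (α : E i ⟶ K n), H.map α.op (ξ n) = 0 →
    ∃ α' : E i ⟶ Y n, α' ≫ y n = α

/-- The Brown tower starting from a given initial stage. -/
noncomputable def H2_towerOf (s₀ : H2_BStage H)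
    (h0 : ∀ (i : ι) (x : H.obj (op (E i))), ∃ α : E i ⟶ s₀.K, H.map α.op s₀.ξ = x) :
    H2_BTower E H where
  K n := (H2_bstages E H s₀ n).K
  f n := (H2_bstep E H (H2_bstages E H s₀ n)).f
  ξ n := (H2_bstages E H s₀ n).ξ
  fac n := (H2_bstep E H (H2_bstages E H s₀ n)).fac
  surj0 := h0
  Y n := (H2_bstep E H (H2_bstages E H s₀ n)).Y
  y n := (H2_bstep E H (H2_bstages E H s₀ n)).y
  z n := (H2_bstep E H (H2_bstages E H s₀ n)).z
  dist n := (H2_bstep E H (H2_bstages E H s₀ n)).dist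
  hy n := (H2_bstep E H (H2_bstages E H s₀ n)).hy
  lift n := (H2_bstep E H (H2_bstages E H s₀ n)).lift

variable {E H}

lemma H2_BTower.kill (T : H2_BTower E H) (n : ℕ) (i : ι) (α : E i ⟶ T.K n)
    (hα : H.map α.op (T.ξ n) = 0) : α ≫ T.f n = 0 := by
  obtain ⟨α', rfl⟩ := T.lift n i α hα
  have : T.y n ≫ T.f n = 0 := comp_distTriang_mor_zero₁₂ _ (T.dist n)
  rw [Category.assoc, this, comp_zero]

variable [HasColimitsOfShape (Discrete ℕ) D] [PreservesLimitsOfShape (Discrete ℕ) H]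

/-- A homotopy colimit of a Brown tower together with a compatible element. -/
structure H2_BHocolim (T : H2_BTower E H) where
  X : D
  p : (∐ T.K) ⟶ X
  c : X ⟶ (shiftFunctor D (1 : ℤ)).obj (∐ T.K)
  dist : Triangle.mk (𝟙 (∐ T.K) - shiftMap T.K T.f) p c ∈ distTriang D
  ξ : H.obj (op X)
  hξ : ∀ n, H.map (Sigma.ι T.K n ≫ p).op ξ = T.ξ n

lemma H2_exists_BHocolim (T : H2_BTower E H) : Nonempty (H2_BHocolim T) := by
  obtain ⟨X, p, c, hT⟩ := distinguished_cocone_triangle (𝟙 (∐ T.K) - shiftMap T.K T.f)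
  obtain ⟨u, hu⟩ := H2_H_glue H T.K T.ξ
  have hd : H.map (𝟙 (∐ T.K) - shiftMap T.K T.f).op u = 0 := by
    apply H2_H_ext H T.K
    intro n
    rw [← H2_H_map_comp, map_zero, Preadditive.comp_sub, Category.comp_id, H2_ι_shiftMap,
      H2_H_map_sub, H2_H_map_comp, hu, hu, T.fac, sub_self]
  obtain ⟨ξ, hξ⟩ := H2_H_exact H _ hT u hd
  refine ⟨⟨X, p, c, hT, ξ, fun n => ?_⟩⟩
  rw [H2_H_map_comp]
  have : H.map p.op ξ = u := hξ
  rw [this, hu]

/-- The comparison map `Hom(A, X) → H(A)`. -/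
def H2_BHocolim.Φ {T : H2_BTower E H} (L : H2_BHocolim T) {A : D} (g : A ⟶ L.X) :
    H.obj (op A) := H.map g.op L.ξ

lemma H2_BHocolim.surjective {T : H2_BTower E H} (L : H2_BHocolim T) (i : ι)
    (x : H.obj (op (E i))) : ∃ g : E i ⟶ L.X, H.map g.op L.ξ = x := by
  obtain ⟨α, hα⟩ := T.surj0 i x
  refine ⟨α ≫ Sigma.ι T.K 0 ≫ L.p, ?_⟩
  rw [H2_H_map_comp, L.hξ, hα]

variable (E H)

/-- The injectivity property for Brown towers. -/
def H2_BInj : Prop :=
  ∀ (T : H2_BTower E H) (L : H2_BHocolim T) (i : ι) (g : E i ⟶ L.X), H.map g.op L.ξ = 0 → g = 0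

variable {E H}

lemma H2_BHocolim.bijective (hinj : H2_BInj E H) {T : H2_BTower E H} (L : H2_BHocolim T)
    (i : ι) : Function.Bijective (fun g : E i ⟶ L.X => H.map g.op L.ξ) := by
  refine ⟨fun g g' h => ?_, fun x => L.surjective i x⟩
  dsimp only at h
  rw [← sub_eq_zero]
  apply hinj T L i
  rw [H2_H_map_sub, h, sub_self]

end

end Groth.Agent.H2
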