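import Mathlib
import Groth.Prelude.Def_CohDer
import Groth.Prelude.Def_DerLim
import Groth.Agent.Lib.helper2.BrownTower

set_option autoImplicit false
universe v u
open CategoryTheory CategoryTheory.Limits Opposite DerLim

namespace Groth.Agent.H2

open Pretriangulated CategoryTheory.Pretriangulated.Opposite

section
variable {D : Type u} [Category.{v} D] [Preadditive D] [HasZeroObject D] [HasShift D ℤ]
  [∀ n : ℤ, (shiftFunctor D n).Additive] [Pretriangulated D] [HasCoproducts.{v} D]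
  {ι : Type v} {E : ι → D}
  {H : Dᵒᵖ ⥤ AddCommGrpCat.{v}} [H.IsHomological]
  [∀ (κ : Type v), PreservesLimitsOfShape (Discrete κ) H]
  [HasColimitsOfShape (Discrete ℕ) D] [PreservesLimitsOfShape (Discrete ℕ) H]

set_option backward.isDefEq.respectTransparency false in
/-- Relative construction: any element of `H Y` is represented by a map to the hocolim. -/
lemma H2_brown_surj
    (hdet : ∀ {X X' : D} (lam : X ⟶ X'),
      (∀ i, Function.Bijective (fun g : E i ⟶ X => g ≫ lam)) → IsIso lam)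
    (hinj : H2_BInj E H) {T : H2_BTower E H} (L : H2_BHocolim T) (Y : D) (y : H.obj (op Y)) :
    ∃ φ : Y ⟶ L.X, H.map φ.op L.ξ = y := by
  let s₀' : H2_BStage H := ⟨L.X ⊞ Y, H.map (biprod.fst : L.X ⊞ Y ⟶ L.X).op L.ξ +
    H.map (biprod.snd : L.X ⊞ Y ⟶ Y).op y⟩
  have hinl : H.map (biprod.inl : L.X ⟶ L.X ⊞ Y).op s₀'.ξ = L.ξ := by
    show H.map (biprod.inl : L.X ⟶ L.X ⊞ Y).op (H.map (biprod.fst : L.X ⊞ Y ⟶ L.X).op L.ξ +
      H.map (biprod.snd : L.X ⊞ Y ⟶ Y).op y) = L.ξ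
    rw [map_add, ← H2_H_map_comp, ← H2_H_map_comp, biprod.inl_fst, biprod.inl_snd, H2_H_map_id,
      H2_H_map_zero, add_zero]
  have hinr : H.map (biprod.inr : Y ⟶ L.X ⊞ Y).op s₀'.ξ = y := by
    show H.map (biprod.inr : Y ⟶ L.X ⊞ Y).op (H.map (biprod.fst : L.X ⊞ Y ⟶ L.X).op L.ξ +
      H.map (biprod.snd : L.X ⊞ Y ⟶ Y).op y) = y
    rw [map_add, ← H2_H_map_comp, ← H2_H_map_comp, biprod.inr_fst, biprod.inr_snd, H2_H_map_id,
      H2_H_map_zero, zero_add]
  have h0' : ∀ (i : ι) (x : H.obj (op (E i))), ∃ α : E i ⟶ s₀'.K, H.map α.op s₀'.ξ = x := by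
    intro i x
    obtain ⟨g, hg⟩ := L.surjective i x
    exact ⟨g ≫ biprod.inl, by rw [H2_H_map_comp, hinl, hg]⟩
  let T' := H2_towerOf E H s₀' h0'
  obtain ⟨L'⟩ := H2_exists_BHocolim T'
  let lam : L.X ⟶ L'.X := (biprod.inl : L.X ⟶ L.X ⊞ Y) ≫ Sigma.ι T'.K 0 ≫ L'.p
  let mu : Y ⟶ L'.X := (biprod.inr : Y ⟶ L.X ⊞ Y) ≫ Sigma.ι T'.K 0 ≫ L'.p
  have hlam : H.map lam.op L'.ξ = L.ξ := by
    show H.map ((biprod.inl : L.X ⟶ L.X ⊞ Y) ≫ Sigma.ι T'.K 0 ≫ L'.p).op L'.ξ = L.ξ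
    rw [H2_H_map_comp]
    exact (congrArg _ (L'.hξ 0)).trans hinl
  have hmu : H.map mu.op L'.ξ = y := by
    show H.map ((biprod.inr : Y ⟶ L.X ⊞ Y) ≫ Sigma.ι T'.K 0 ≫ L'.p).op L'.ξ = y
    rw [H2_H_map_comp]
    exact (congrArg _ (L'.hξ 0)).trans hinr
  have hb := L.bijective hinj
  have hb' := L'.bijective hinj
  haveI : IsIso lam := by
    apply hdet
    intro i
    constructor
    · intro g g' h
      dsimp only at h
      apply (hb i).1
      dsimp only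
      rw [← hlam, ← H2_H_map_comp, ← H2_H_map_comp, h]
    · intro g'
      obtain ⟨g, hg⟩ := (hb i).2 (H.map g'.op L'.ξ)
      dsimp only at hg
      refine ⟨g, (hb' i).1 ?_⟩
      dsimp only
      rw [H2_H_map_comp, hlam, hg]
  refine ⟨mu ≫ inv lam, ?_⟩
  rw [H2_H_map_comp, ← hlam, ← H2_H_map_comp H (inv lam) lam, IsIso.inv_hom_id, H2_H_map_id, hmu]

lemma H2_brown_inj
    (hdet : ∀ {X X' : D} (lam : X ⟶ X'),
      (∀ i, Function.Bijective (fun g : E i ⟶ X => g ≫ lam)) → IsIso lam)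
    (hinj : H2_BInj E H) {T : H2_BTower E H} (L : H2_BHocolim T) (Y : D) (φ : Y ⟶ L.X)
    (hφ : H.map φ.op L.ξ = 0) : φ = 0 := by
  obtain ⟨Z, ψ, δ, hT⟩ := distinguished_cocone_triangle φ
  obtain ⟨ζ, hζ⟩ := H2_H_exact H _ hT L.ξ hφ
  obtain ⟨θ, hθ⟩ := H2_brown_surj hdet hinj L Z ζ
  have hb := L.bijective hinj
  have hχ : H.map (ψ ≫ θ).op L.ξ = L.ξ := by
    rw [H2_H_map_comp, hθ]
    exact hζ
  haveI : IsIso (ψ ≫ θ) := by
    apply hdet
    intro i
    have : (fun g : E i ⟶ L.X => g ≫ ψ ≫ θ) = id := by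
      funext g
      apply (hb i).1
      dsimp only
      rw [H2_H_map_comp, hχ]
      rfl
    rw [this]
    exact Function.bijective_id
  have h1 : φ ≫ ψ = 0 := comp_distTriang_mor_zero₁₂ _ hT
  rw [← cancel_mono (ψ ≫ θ), reassoc_of% h1, zero_comp, zero_comp]

/-- Brown representability, given detection of isomorphisms by the family `E` and the
injectivity property for Brown towers. -/
theorem H2_brown_representable
    (hdet : ∀ {X X' : D} (lam : X ⟶ X'),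
      (∀ i, Function.Bijective (fun g : E i ⟶ X => g ≫ lam)) → IsIso lam)
    (hinj : H2_BInj E H) : (H ⋙ forget AddCommGrpCat.{v}).IsRepresentable := by
  obtain ⟨s₀, h0⟩ := H2_exists_initial E H
  let T := H2_towerOf E H s₀ h0
  obtain ⟨L⟩ := H2_exists_BHocolim T
  have hbij : ∀ Y : D, Function.Bijective (fun φ : Y ⟶ L.X => H.map φ.op L.ξ) := by
    intro Y
    refine ⟨fun φ φ' h => ?_, fun y => H2_brown_surj hdet hinj L Y y⟩
    dsimp only at h
    rw [← sub_eq_zero]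
    apply H2_brown_inj hdet hinj L Y
    rw [H2_H_map_sub, h, sub_self]
  refine ⟨L.X, ⟨{ homEquiv := fun {Y} => Equiv.ofBijective _ (hbij Y), homEquiv_comp := ?_ }⟩⟩
  intro Y Y' f g
  exact H2_H_map_comp H f g L.ξ

end

end Groth.Agent.H2
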