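import Mathlib
import Groth.Prelude.Def_CohDer

set_option autoImplicit false
universe w v u
open CategoryTheory CategoryTheory.Limits CohDer

namespace Groth.Agent.H2

section proj
variable {D : Type u} [Category.{v} D] [Preadditive D]

open Classical in
/-- The projection of a coproduct onto a summand. -/
noncomputable def H2_π {ι : Type w} (X : ι → D) [HasCoproduct X] (i : ι) : (∐ X) ⟶ X i :=
  Sigma.π X i

@[reassoc (attr := simp)]
lemma H2_ι_π_self {ι : Type w} (X : ι → D) [HasCoproduct X] (i : ι) :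
    Sigma.ι X i ≫ H2_π X i = 𝟙 _ := by
  classical
  exact Sigma.ι_π_eq_id X i

@[reassoc]
lemma H2_ι_π_ne {ι : Type w} (X : ι → D) [HasCoproduct X] {i j : ι} (h : i ≠ j) :
    Sigma.ι X i ≫ H2_π X j = 0 := by
  classical
  exact Sigma.ι_π_of_ne X h

/-- The idempotent of `∐ X` projecting onto the summands in the finite set `s`. -/
noncomputable def H2_proj {ι : Type w} (X : ι → D) [HasCoproduct X] (s : Finset ι) :
    (∐ X) ⟶ ∐ X :=
  ∑ i ∈ s, H2_π X i ≫ Sigma.ι X i

lemma H2_ι_proj_mem {ι : Type w} (X : ι → D) [HasCoproduct X] {s : Finset ι} {i : ι}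
    (h : i ∈ s) : Sigma.ι X i ≫ H2_proj X s = Sigma.ι X i := by
  classical
  rw [H2_proj, Preadditive.comp_sum, Finset.sum_eq_single i]
  · rw [H2_ι_π_self_assoc]
  · intro j _ hj
    rw [H2_ι_π_ne_assoc X (Ne.symm hj), zero_comp]
  · intro h'
    exact absurd h h'

lemma H2_ι_proj_not_mem {ι : Type w} (X : ι → D) [HasCoproduct X] {s : Finset ι} {i : ι}
    (h : i ∉ s) : Sigma.ι X i ≫ H2_proj X s = 0 := by
  rw [H2_proj, Preadditive.comp_sum]
  apply Finset.sum_eq_zero
  intro j hj
  have : i ≠ j := fun e => h (e ▸ hj)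
  rw [H2_ι_π_ne_assoc X this, zero_comp]

lemma H2_proj_proj {ι : Type w} (X : ι → D) [HasCoproduct X] {s t : Finset ι} (h : s ⊆ t) :
    H2_proj X s ≫ H2_proj X t = H2_proj X s := by
  apply Sigma.hom_ext
  intro i
  by_cases hi : i ∈ s
  · rw [reassoc_of% (H2_ι_proj_mem X hi), H2_ι_proj_mem X (h hi), H2_ι_proj_mem X hi]
  · rw [reassoc_of% (H2_ι_proj_not_mem X hi), zero_comp, H2_ι_proj_not_mem X hi]

lemma H2_proj_π_mem {ι : Type w} (X : ι → D) [HasCoproduct X] {s : Finset ι} {i : ι}
    (h : i ∈ s) : H2_proj X s ≫ H2_π X i = H2_π X i := by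
  apply Sigma.hom_ext
  intro j
  by_cases hj : j ∈ s
  · rw [reassoc_of% (H2_ι_proj_mem X hj)]
  · rw [reassoc_of% (H2_ι_proj_not_mem X hj), zero_comp]
    have : j ≠ i := fun e => hj (e ▸ h)
    rw [H2_ι_π_ne X this]

lemma H2_comp_proj {ι : Type w} (X : ι → D) [HasCoproduct X] {K : D} (φ : K ⟶ ∐ X)
    (s : Finset ι) : φ ≫ H2_proj X s = ∑ i ∈ s, (φ ≫ H2_π X i) ≫ Sigma.ι X i := by
  rw [H2_proj, Preadditive.comp_sum]
  simp only [Category.assoc]

end proj

section compact
variable {D : Type u} [Category.{v} D] [Preadditive D]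

open Classical in
lemma H2_homSum_of (K : D) {ι : Type v} (X : ι → D) [HasCoproduct X] (i : ι) (a : K ⟶ X i) :
    homSumToHomCoprod K X (DirectSum.of _ i a) = a ≫ Sigma.ι X i := by
  classical
  simp only [homSumToHomCoprod, DirectSum.toAddMonoid_of]
  rfl

lemma H2_homSum_π (K : D) {ι : Type v} (X : ι → D) [HasCoproduct X]
    (x : DirectSum ι (fun i => K ⟶ X i)) (i : ι) :
    homSumToHomCoprod K X x ≫ H2_π X i = x i := by
  classical
  induction x using DirectSum.induction_on with
  | zero =>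
    rw [map_zero, Limits.zero_comp]
    rfl
  | of j a =>
    rw [H2_homSum_of, Category.assoc]
    by_cases h : j = i
    · subst h
      rw [H2_ι_π_self, Category.comp_id, DirectSum.of_eq_same]
    · rw [H2_ι_π_ne X h, comp_zero, DirectSum.of_eq_of_ne _ _ _ (Ne.symm h)]
  | add x y hx hy =>
    rw [map_add, Preadditive.add_comp, hx, hy]
    rfl

lemma H2_homSum_injective (K : D) {ι : Type v} (X : ι → D) [HasCoproduct X] :
    Function.Injective (homSumToHomCoprod K X) := by
  rw [injective_iff_map_eq_zero]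
  intro x hx
  ext i
  rw [← H2_homSum_π, hx, zero_comp]
  rfl

lemma H2_homSum_exists_proj (K : D) {ι : Type v} (X : ι → D) [HasCoproduct X]
    (x : DirectSum ι (fun i => K ⟶ X i)) :
    ∃ s : Finset ι, homSumToHomCoprod K X x ≫ H2_proj X s = homSumToHomCoprod K X x := by
  classical
  induction x using DirectSum.induction_on with
  | zero => exact ⟨∅, by rw [map_zero, Limits.zero_comp]⟩
  | of j a =>
    refine ⟨{j}, ?_⟩
    rw [H2_homSum_of, Category.assoc, H2_ι_proj_mem X (Finset.mem_singleton_self j)]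
  | add x y hx hy =>
    obtain ⟨s, hs⟩ := hx
    obtain ⟨t, ht⟩ := hy
    refine ⟨s ∪ t, ?_⟩
    rw [map_add, Preadditive.add_comp]
    conv_lhs => rw [← hs, ← ht]
    rw [Category.assoc, Category.assoc, H2_proj_proj X Finset.subset_union_left,
      H2_proj_proj X Finset.subset_union_right, hs, ht]

open Classical in
lemma H2_homSum_of_proj (K : D) {ι : Type v} (X : ι → D) [HasCoproduct X] (φ : K ⟶ ∐ X)
    (s : Finset ι) (h : φ ≫ H2_proj X s = φ) :
    ∃ x, homSumToHomCoprod K X x = φ := by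
  classical
  refine ⟨∑ i ∈ s, DirectSum.of (fun i => K ⟶ X i) i (φ ≫ H2_π X i), ?_⟩
  rw [map_sum]
  simp only [H2_homSum_of]
  rw [← H2_comp_proj, h]

/-- Compactness: every map into a coproduct factors through a finite sub-coproduct. -/
theorem H2_compact_iff [HasCoproducts.{v} D] (K : D) :
    IsCompactObject K ↔ ∀ (ι : Type v) (X : ι → D) (φ : K ⟶ ∐ X),
      ∃ s : Finset ι, φ ≫ H2_proj X s = φ := by
  constructor
  · intro hK ι X φ
    obtain ⟨x, rfl⟩ := (hK ι X).2 φ
    exact H2_homSum_exists_proj K X x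
  · intro h ι X
    refine ⟨H2_homSum_injective K X, fun φ => ?_⟩
    obtain ⟨s, hs⟩ := h ι X φ
    exact H2_homSum_of_proj K X φ s hs

end compact

end Groth.Agent.H2

namespace Groth.Agent.H2

section closure
variable {D : Type u} [Category.{v} D] [Preadditive D] [HasCoproducts.{v} D]

lemma H2_compact_of_isZero {K : D} (hK : IsZero K) : IsCompactObject K := by
  rw [H2_compact_iff]
  intro ι X φ
  exact ⟨∅, hK.eq_of_src _ _⟩

lemma H2_compact_of_retract {K K' : D} (r : Retract K' K) (hK : IsCompactObject K) :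
    IsCompactObject K' := by
  rw [H2_compact_iff] at hK ⊢
  intro ι X φ
  obtain ⟨s, hs⟩ := hK ι X (r.r ≫ φ)
  refine ⟨s, ?_⟩
  have := congrArg (fun t => r.i ≫ t) hs
  simpa using this

lemma H2_compact_of_iso {K K' : D} (e : K ≅ K') (hK : IsCompactObject K) :
    IsCompactObject K' :=
  H2_compact_of_retract ⟨e.inv, e.hom, e.inv_hom_id⟩ hK

end closure

section adj
variable {D : Type u} [Category.{v} D] [Preadditive D]
  {D' : Type*} [Category.{v} D'] [Preadditive D']

lemma H2_sigmaComparison_proj (G : D' ⥤ D) [G.Additive] {ι : Type w} (X : ι → D')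
    [HasCoproduct X] [HasCoproduct fun i => G.obj (X i)] (s : Finset ι) :
    H2_proj (fun i => G.obj (X i)) s ≫ sigmaComparison G X =
      sigmaComparison G X ≫ G.map (H2_proj X s) := by
  apply Sigma.hom_ext
  intro i
  rw [ι_comp_sigmaComparison_assoc, ← G.map_comp]
  by_cases hi : i ∈ s
  · rw [reassoc_of% (H2_ι_proj_mem (fun i => G.obj (X i)) hi), H2_ι_proj_mem X hi,
      ι_comp_sigmaComparison]
  · rw [reassoc_of% (H2_ι_proj_not_mem (fun i => G.obj (X i)) hi), H2_ι_proj_not_mem X hi,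
      zero_comp, G.map_zero]

/-- A left adjoint whose right adjoint preserves coproducts preserves compact objects. -/
lemma H2_compact_of_adj [HasCoproducts.{v} D] [HasCoproducts.{v} D'] {F : D ⥤ D'} {G : D' ⥤ D}
    (adj : F ⊣ G) [G.Additive] [∀ (κ : Type v), PreservesColimitsOfShape (Discrete κ) G]
    {K : D} (hK : IsCompactObject K) : IsCompactObject (F.obj K) := by
  rw [H2_compact_iff] at hK ⊢
  intro ι X φ
  obtain ⟨s, hs⟩ := hK ι (fun i => G.obj (X i)) (adj.homEquiv K (∐ X) φ ≫ inv (sigmaComparison G X))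
  refine ⟨s, ?_⟩
  apply (adj.homEquiv K (∐ X)).injective
  rw [Adjunction.homEquiv_naturality_right]
  have h1 := congrArg (fun t => t ≫ sigmaComparison G X) hs
  simp only [Category.assoc, IsIso.inv_hom_id, Category.comp_id] at h1
  rw [H2_sigmaComparison_proj, IsIso.inv_hom_id_assoc] at h1
  exact h1

end adj

section tri
variable {D : Type u} [Category.{v} D] [Preadditive D] [HasZeroObject D] [HasShift D ℤ]
  [∀ n : ℤ, (shiftFunctor D n).Additive] [Pretriangulated D] [HasCoproducts.{v} D]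

open Pretriangulated ZeroObject

lemma H2_compact_shift {K : D} (hK : IsCompactObject K) (n : ℤ) :
    IsCompactObject ((shiftFunctor D n).obj K) := by
  haveI : (shiftEquiv D n).inverse.Additive := (inferInstance : (shiftFunctor D (-n)).Additive)
  exact H2_compact_of_adj (shiftEquiv D n).toAdjunction hK

lemma H2_compact_ext₂ (T : Triangle D) (hT : T ∈ distTriang D) (h₁ : IsCompactObject T.obj₁)
    (h₃ : IsCompactObject T.obj₃) : IsCompactObject T.obj₂ := by
  classical
  rw [H2_compact_iff] at h₁ h₃ ⊢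
  intro ι X φ
  obtain ⟨s₁, hs₁⟩ := h₁ ι X (T.mor₁ ≫ φ)
  have h0 : T.mor₁ ≫ (φ - φ ≫ H2_proj X s₁) = 0 := by
    rw [Preadditive.comp_sub, sub_eq_zero, ← Category.assoc, hs₁]
  obtain ⟨ψ, hψ⟩ := Triangle.yoneda_exact₂ T hT _ h0
  obtain ⟨s₃, hs₃⟩ := h₃ ι X ψ
  refine ⟨s₁ ∪ s₃, ?_⟩
  have h1 : φ = φ ≫ H2_proj X s₁ + T.mor₂ ≫ ψ ≫ H2_proj X s₃ := by
    rw [hs₃, ← hψ]
    abel
  conv_lhs => rw [h1]
  rw [Preadditive.add_comp, Category.assoc, Category.assoc, Category.assoc,
    H2_proj_proj X Finset.subset_union_left, H2_proj_proj X Finset.subset_union_right, ← h1]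

instance H2_compact_isTriangulated :
    ObjectProperty.IsTriangulated (fun K : D => IsCompactObject K) where
  exists_zero := ⟨0, isZero_zero D, H2_compact_of_isZero (isZero_zero D)⟩
  isStableUnderShiftBy n := ⟨fun K hK => H2_compact_shift hK n⟩
  ext₂' T hT h₁ h₃ := ObjectProperty.le_isoClosure _ _ (H2_compact_ext₂ T hT h₁ h₃)

instance H2_compact_isStableUnderRetracts :
    ObjectProperty.IsStableUnderRetracts (fun K : D => IsCompactObject K) where
  of_retract r h := H2_compact_of_retract r h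

end tri

end Groth.Agent.H2
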