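import Mathlib
import Groth.Prelude.Def_CohDer
import Groth.Agent.Lib.helper2.Compact

set_option autoImplicit false
universe w v u
open CategoryTheory CategoryTheory.Limits CohDer

namespace Groth.Agent.H2

section gen
variable {D : Type u} [Category.{v} D] [Preadditive D] [HasZeroObject D] [HasShift D ℤ]
  [∀ n : ℤ, (shiftFunctor D n).Additive] [Pretriangulated D]

open Pretriangulated

/-- If post-composition with `f⟦n+1⟧'` is injective on `Hom(S, -)`, so is post-composition with
`(f⟦n⟧')⟦1⟧'`. -/
lemma H2_inj_shift_shift {S X Y : D} (f : X ⟶ Y) (n : ℤ)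
    (hinj : ∀ (g : S ⟶ (shiftFunctor D (n + 1)).obj X),
      g ≫ (shiftFunctor D (n + 1)).map f = 0 → g = 0)
    (δ : S ⟶ (shiftFunctor D (1 : ℤ)).obj ((shiftFunctor D n).obj X))
    (hδ : δ ≫ (shiftFunctor D (1 : ℤ)).map ((shiftFunctor D n).map f) = 0) : δ = 0 := by
  have h1 := hinj (δ ≫ (shiftFunctorAdd' D n 1 (n + 1) rfl).inv.app X) (by
    have nat := (shiftFunctorAdd' D n 1 (n + 1) rfl).inv.naturality f
    dsimp at nat
    rw [Category.assoc, ← nat, reassoc_of% hδ, zero_comp])
  have h2 := congrArg (fun t => t ≫ (shiftFunctorAdd' D n 1 (n + 1) rfl).hom.app X) h1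
  simpa using h2

set_option backward.isDefEq.respectTransparency false in
/-- A morphism inducing bijections on `Hom(S i, -⟦n⟧)` for a generating family is an
isomorphism. -/
theorem H2_isIso_of_generates {ι : Type w} (S : ι → D) (hS : Generates S) {X Y : D} (f : X ⟶ Y)
    (hf : ∀ (i : ι) (n : ℤ), Function.Bijective
      (fun g : S i ⟶ (shiftFunctor D n).obj X => g ≫ (shiftFunctor D n).map f)) : IsIso f := by
  obtain ⟨Z, g, h, hT⟩ := distinguished_cocone_triangle f
  have hZ : IsZero Z := by
    apply hS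
    intro i n α
    have hT' : Triangle.mk (n.negOnePow • (shiftFunctor D n).map f)
        (n.negOnePow • (shiftFunctor D n).map g)
        (n.negOnePow • (shiftFunctor D n).map h ≫ (shiftFunctorComm D 1 n).hom.app X) ∈
        distTriang D := Triangle.shift_distinguished _ hT n
    have hα : α ≫ (n.negOnePow • (shiftFunctor D n).map h ≫
        (shiftFunctorComm D 1 n).hom.app X) = 0 := by
      have z : (n.negOnePow • (shiftFunctor D n).map h ≫ (shiftFunctorComm D 1 n).hom.app X) ≫
          (shiftFunctor D (1 : ℤ)).map (n.negOnePow • (shiftFunctor D n).map f) = 0 :=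
        comp_distTriang_mor_zero₃₁ _ hT'
      have z' : (α ≫ (n.negOnePow • (shiftFunctor D n).map h ≫
          (shiftFunctorComm D 1 n).hom.app X)) ≫
          (shiftFunctor D (1 : ℤ)).map ((shiftFunctor D n).map f) = 0 := by
        rw [Functor.map_units_smul, Linear.comp_units_smul, smul_eq_zero_iff_eq] at z
        rw [Category.assoc, z, comp_zero]
      refine H2_inj_shift_shift f n (fun g hg => ?_) _ z'
      apply (hf i (n + 1)).1
      dsimp only
      rw [hg, zero_comp]
    obtain ⟨β, hβ⟩ : ∃ β : S i ⟶ (shiftFunctor D n).obj Y,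
        α = β ≫ (n.negOnePow • (shiftFunctor D n).map g) :=
      Triangle.coyoneda_exact₃ _ hT' α hα
    obtain ⟨γ, hγ⟩ := (hf i n).2 β
    dsimp only at hγ
    rw [hβ, ← hγ]
    have z12 : f ≫ g = 0 := comp_distTriang_mor_zero₁₂ _ hT
    rw [Linear.comp_units_smul, Category.assoc, ← Functor.map_comp,
      z12, Functor.map_zero, comp_zero, smul_zero]
  exact (Triangle.isZero₃_iff_isIso₁ _ hT).1 hZ

set_option backward.isDefEq.respectTransparency false in
/-- Variant of `H2_isIso_of_generates` testing with maps out of the shifts of the generators. -/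
theorem H2_isIso_of_generates' {ι : Type w} (S : ι → D) (hS : Generates S) {X Y : D} (f : X ⟶ Y)
    (hf : ∀ (i : ι) (n : ℤ), Function.Bijective
      (fun g : (shiftFunctor D n).obj (S i) ⟶ X => g ≫ f)) : IsIso f := by
  apply H2_isIso_of_generates S hS
  intro i n
  let adj := (shiftEquiv' D (-n) n (by omega)).toAdjunction
  have h1 : (fun g : S i ⟶ (shiftFunctor D n).obj X => g ≫ (shiftFunctor D n).map f) =
      (adj.homEquiv (S i) Y) ∘ (fun g : (shiftFunctor D (-n)).obj (S i) ⟶ X => g ≫ f) ∘
        (adj.homEquiv (S i) X).symm := by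
    funext g
    dsimp only [Function.comp]
    rw [Adjunction.homEquiv_naturality_right, Equiv.apply_symm_apply]
    rfl
  rw [h1]
  exact (adj.homEquiv (S i) Y).bijective.comp ((hf i (-n)).comp (adj.homEquiv (S i) X).symm.bijective)

end gen

section adjcoprod
variable {D : Type u} [Category.{v} D] [Preadditive D]
  {D' : Type*} [Category.{v} D'] [Preadditive D']

lemma H2_sigmaComparison_π (G : D' ⥤ D) [G.Additive] {κ : Type w} (X : κ → D')
    [HasCoproduct X] [HasCoproduct fun i => G.obj (X i)] (j : κ) :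
    sigmaComparison G X ≫ G.map (H2_π X j) = H2_π (fun i => G.obj (X i)) j := by
  apply Sigma.hom_ext
  intro i
  rw [ι_comp_sigmaComparison_assoc, ← G.map_comp]
  by_cases h : i = j
  · subst h
    rw [H2_ι_π_self, H2_ι_π_self, G.map_id]
  · rw [H2_ι_π_ne X h, H2_ι_π_ne _ h, G.map_zero]

lemma H2_bijective_comp_sigmaComparison [HasCoproducts.{v} D] [HasCoproducts.{v} D']
    {F : D ⥤ D'} {G : D' ⥤ D} (adj : F ⊣ G) [F.Additive] [G.Additive]
    {C : D} (hC : IsCompactObject C) (hFC : IsCompactObject (F.obj C)) {κ : Type v}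
    (X : κ → D') :
    Function.Bijective (fun g : C ⟶ ∐ (fun j => G.obj (X j)) => g ≫ sigmaComparison G X) := by
  rw [H2_compact_iff] at hC hFC
  constructor
  · intro g g' hg
    dsimp only at hg
    rw [← sub_eq_zero]
    have hd : (g - g') ≫ sigmaComparison G X = 0 := by
      rw [Preadditive.sub_comp, hg, sub_self]
    obtain ⟨s, hs⟩ := hC κ _ (g - g')
    rw [← hs, H2_comp_proj]
    apply Finset.sum_eq_zero
    intro j _
    rw [← H2_sigmaComparison_π G X j, reassoc_of% hd, zero_comp, zero_comp]
  · intro ψ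
    obtain ⟨s, hs⟩ := hFC κ X ((adj.homEquiv C (∐ X)).symm ψ)
    refine ⟨∑ j ∈ s, adj.homEquiv C (X j) ((adj.homEquiv C (∐ X)).symm ψ ≫ H2_π X j) ≫
      Sigma.ι (fun j => G.obj (X j)) j, ?_⟩
    dsimp only
    rw [Preadditive.sum_comp]
    have h1 : ∀ j ∈ s, (adj.homEquiv C (X j) ((adj.homEquiv C (∐ X)).symm ψ ≫ H2_π X j) ≫
        Sigma.ι (fun j => G.obj (X j)) j) ≫ sigmaComparison G X =
        adj.homAddEquiv C (∐ X) (((adj.homEquiv C (∐ X)).symm ψ ≫ H2_π X j) ≫ Sigma.ι X j) := by
      intro j _
      rw [Category.assoc, ι_comp_sigmaComparison, Adjunction.homAddEquiv_apply]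
      simp only [Adjunction.homEquiv_naturality_right, Category.assoc, Functor.map_comp]
    rw [Finset.sum_congr rfl h1, ← map_sum, ← H2_comp_proj, hs, Adjunction.homAddEquiv_apply,
      Equiv.apply_symm_apply]

end adjcoprod

end Groth.Agent.H2
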