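import Mathlib
import Groth.Prelude.Def_CohDer
import Groth.Prelude.Def_DerLim
import Groth.Agent.Lib.helper2.Compact
import Groth.Agent.Lib.helper2.CompactGen
import Groth.Agent.Lib.helper2.SeqColim

set_option autoImplicit false
universe w v u
open CategoryTheory CategoryTheory.Limits CohDer DerLim

namespace Groth.Agent.H2

section pre
variable {D : Type u} [Category.{v} D] [Preadditive D]

lemma H2_π_eq {ι : Type w} [DecidableEq ι] (X : ι → D) [HasCoproduct X] (i : ι) :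
    H2_π X i = Sigma.π X i := by
  unfold H2_π
  congr
  apply Subsingleton.elim

/-- Compact objects also see countable coproducts indexed by `ℕ`. -/
lemma H2_compact_nat [HasCoproducts.{v} D] {C : D} (hC : IsCompactObject C) (K : ℕ → D)
    [HasCoproduct K] (φ : C ⟶ ∐ K) : ∃ s : Finset ℕ, φ ≫ H2_proj K s = φ := by
  classical
  let ε : ULift.{v} ℕ ≃ ℕ := Equiv.ulift
  let r := Sigma.reindex ε K
  obtain ⟨s', hs'⟩ := (H2_compact_iff C).1 hC (ULift.{v} ℕ) (K ∘ ε) (φ ≫ r.inv)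
  refine ⟨s'.image ε, ?_⟩
  have key : H2_proj (K ∘ ε) s' ≫ r.hom = r.hom ≫ H2_proj K (s'.image ε) := by
    apply Sigma.hom_ext
    intro b
    rw [Sigma.ι_reindex_hom_assoc]
    by_cases hb : b ∈ s'
    · rw [reassoc_of% (H2_ι_proj_mem (K ∘ ε) hb), Sigma.ι_reindex_hom,
        H2_ι_proj_mem K (Finset.mem_image_of_mem ε hb)]
    · have hb' : ε b ∉ s'.image ε := by
        intro h
        obtain ⟨b', hb', e⟩ := Finset.mem_image.1 h
        exact hb (ε.injective e ▸ hb')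
      rw [reassoc_of% (H2_ι_proj_not_mem (K ∘ ε) hb), zero_comp, H2_ι_proj_not_mem K hb']
  have h1 := congrArg (fun t => t ≫ r.hom) hs'
  simp only [Category.assoc, Iso.inv_hom_id, Category.comp_id] at h1
  rw [key, Iso.inv_hom_id_assoc] at h1
  exact h1

/-- A map from a compact object into `∐ K` killed by `1 - shift` is zero. -/
lemma H2_eq_zero_of_comp_one_sub_shift [HasCoproducts.{v} D] {C : D} (hC : IsCompactObject C)
    (K : ℕ → D) (f : ∀ n, K n ⟶ K (n + 1)) [HasCoproduct K] (k : C ⟶ ∐ K)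
    (hk : k ≫ (𝟙 (∐ K) - shiftMap K f) = 0) : k = 0 := by
  obtain ⟨s, hs⟩ := H2_compact_nat hC K k
  rw [← hs, H2_comp_proj]
  apply Finset.sum_eq_zero
  intro n _
  rw [H2_π_eq, H2_comp_π_eq_zero K f k hk n, zero_comp]

lemma H2_ι_comp_of_one_sub_shift (K : ℕ → D) (f : ∀ n, K n ⟶ K (n + 1)) [HasCoproduct K] {L : D}
    (p : (∐ K) ⟶ L) (hp : (𝟙 (∐ K) - shiftMap K f) ≫ p = 0) (n : ℕ) :
    Sigma.ι K n ≫ p = f n ≫ Sigma.ι K (n + 1) ≫ p := by
  have := congrArg (fun t => Sigma.ι K n ≫ t) hp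
  simp only [Preadditive.sub_comp, Preadditive.comp_sub, Category.id_comp, comp_zero,
    H2_ι_shiftMap_assoc] at this
  rwa [sub_eq_zero] at this

lemma H2_push_stage (K : ℕ → D) (f : ∀ n, K n ⟶ K (n + 1)) [HasCoproduct K] {L : D}
    (p : (∐ K) ⟶ L) (hp : (𝟙 (∐ K) - shiftMap K f) ≫ p = 0) {C : D} (N : ℕ) (g' : C ⟶ ∐ K)
    (hg' : g' ≫ H2_proj K (Finset.range N) = g') :
    ∃ a : C ⟶ K N, g' ≫ p = a ≫ Sigma.ι K N ≫ p := by
  induction N generalizing g' with
  | zero =>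
    refine ⟨0, ?_⟩
    rw [← hg', H2_proj, Finset.range_zero, Finset.sum_empty, comp_zero, zero_comp, zero_comp]
  | succ N ih =>
    obtain ⟨a'', ha''⟩ := ih (g' ≫ H2_proj K (Finset.range N)) (by
      rw [Category.assoc, H2_proj_proj K (Finset.Subset.refl _)])
    refine ⟨(a'' + g' ≫ H2_π K N) ≫ f N, ?_⟩
    have h1 : g' = g' ≫ H2_proj K (Finset.range N) + (g' ≫ H2_π K N) ≫ Sigma.ι K N := by
      conv_lhs => rw [← hg']
      rw [H2_proj, Finset.sum_range_succ, Preadditive.comp_add, Category.assoc]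
      rfl
    conv_lhs => rw [h1]
    rw [Preadditive.add_comp, ha'']
    have h2 := H2_ι_comp_of_one_sub_shift K f p hp N
    rw [Category.assoc (a'' + g' ≫ H2_π K N), ← h2, Preadditive.add_comp]
    simp only [Category.assoc]

end pre

section tri
variable {D : Type u} [Category.{v} D] [Preadditive D] [HasZeroObject D] [HasShift D ℤ]
  [∀ n : ℤ, (shiftFunctor D n).Additive] [Pretriangulated D] [HasCoproducts.{v} D]

open Pretriangulated

/-- Shifted version of `H2_eq_zero_of_comp_one_sub_shift`. -/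
lemma H2_eq_zero_of_comp_one_sub_shift' {C : D} (hC : IsCompactObject C)
    (K : ℕ → D) (f : ∀ n, K n ⟶ K (n + 1)) [HasCoproduct K]
    (h : C ⟶ (shiftFunctor D (1 : ℤ)).obj (∐ K))
    (hh : h ≫ (shiftFunctor D (1 : ℤ)).map (𝟙 (∐ K) - shiftMap K f) = 0) : h = 0 := by
  let adj : shiftFunctor D (-1 : ℤ) ⊣ shiftFunctor D (1 : ℤ) :=
    (shiftEquiv' D (-1) 1 (by omega)).toAdjunction
  have hC' : IsCompactObject ((shiftFunctor D (-1 : ℤ)).obj C) := H2_compact_shift hC (-1)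
  have h1 : (adj.homEquiv C (∐ K)).symm h = 0 := by
    apply H2_eq_zero_of_comp_one_sub_shift hC' K f
    apply (adj.homEquiv C (∐ K)).injective
    rw [Adjunction.homEquiv_naturality_right, Equiv.apply_symm_apply]
    rw [Adjunction.homAddEquiv_zero]
    exact hh
  have h2 := congrArg (adj.homEquiv C (∐ K)) h1
  rw [Equiv.apply_symm_apply] at h2
  rw [h2]
  exact Adjunction.homAddEquiv_zero adj _ _

/-- Maps from a compact object to a homotopy colimit factor through a finite stage. -/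
lemma H2_hocolim_factor (K : ℕ → D) (f : ∀ n, K n ⟶ K (n + 1)) [HasCoproduct K] {L : D}
    (p : (∐ K) ⟶ L) (c : L ⟶ (shiftFunctor D (1 : ℤ)).obj (∐ K))
    (hT : Triangle.mk (𝟙 (∐ K) - shiftMap K f) p c ∈ distTriang D)
    {C : D} (hC : IsCompactObject C) (g : C ⟶ L) :
    ∃ (N : ℕ) (a : C ⟶ K N), g = a ≫ Sigma.ι K N ≫ p := by
  have hp : (𝟙 (∐ K) - shiftMap K f) ≫ p = 0 := comp_distTriang_mor_zero₁₂ _ hT
  have hgc : g ≫ c = 0 := by
    apply H2_eq_zero_of_comp_one_sub_shift' hC K f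
    have z : c ≫ (shiftFunctor D (1 : ℤ)).map (𝟙 (∐ K) - shiftMap K f) = 0 :=
      comp_distTriang_mor_zero₃₁ _ hT
    rw [Category.assoc, z, comp_zero]
  obtain ⟨g', hg'⟩ : ∃ g' : C ⟶ ∐ K, g = g' ≫ p := Triangle.coyoneda_exact₃ _ hT g hgc
  obtain ⟨t, ht⟩ := H2_compact_nat hC K g'
  have hsub : t ⊆ Finset.range (t.sup id + 1) := by
    intro n hn
    rw [Finset.mem_range]
    exact Nat.lt_succ_of_le (Finset.le_sup (f := id) hn)
  obtain ⟨a, ha⟩ := H2_push_stage K f p hp (t.sup id + 1) g' (by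
    rw [← ht, Category.assoc, H2_proj_proj K hsub])
  exact ⟨_, a, hg'.trans ha⟩

end tri

end Groth.Agent.H2
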