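import Mathlib
import Groth.Prelude.Def_CohDer
import Groth.Prelude.Def_DerLim
import Groth.Agent.Lib.helper2.BrownMain
import Groth.Agent.Lib.helper2.HocolimCompact
import Groth.Agent.Lib.helper2.CompactGen

set_option autoImplicit false
universe v u
open CategoryTheory CategoryTheory.Limits Opposite DerLim CohDer

namespace Groth.Agent.H2

open Pretriangulated CategoryTheory.Pretriangulated.Opposite

section
variable {D : Type u} [Category.{v} D] [Preadditive D] [HasZeroObject D] [HasShift D ℤ]
  [∀ n : ℤ, (shiftFunctor D n).Additive] [Pretriangulated D] [HasCoproducts.{v} D]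

lemma H2_hasCoproducts_nat : HasColimitsOfShape (Discrete ℕ) D :=
  hasColimitsOfShape_of_equivalence (Discrete.equivalence (Equiv.ulift.{v, 0} (α := ℕ)))

lemma H2_preservesProducts_nat (H : Dᵒᵖ ⥤ AddCommGrpCat.{v})
    [∀ (κ : Type v), PreservesLimitsOfShape (Discrete κ) H] :
    PreservesLimitsOfShape (Discrete ℕ) H :=
  preservesLimitsOfShape_of_equiv (Discrete.equivalence (Equiv.ulift.{v, 0} (α := ℕ))) H

/-- Brown representability for compactly generated triangulated categories. -/
theorem H2_brown_compact (hD : IsCompactlyGenerated D) (H : Dᵒᵖ ⥤ AddCommGrpCat.{v})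
    [H.IsHomological] [∀ (κ : Type v), PreservesLimitsOfShape (Discrete κ) H] :
    (H ⋙ forget AddCommGrpCat.{v}).IsRepresentable := by
  obtain ⟨ι, E, hc, hg⟩ := hD
  haveI : HasColimitsOfShape (Discrete ℕ) D := H2_hasCoproducts_nat
  haveI : PreservesLimitsOfShape (Discrete ℕ) H := H2_preservesProducts_nat H
  let E' : ι × ℤ → D := fun k => (shiftFunctor D k.2).obj (E k.1)
  refine H2_brown_representable (E := E') ?_ ?_
  · intro X X' lam h
    exact H2_isIso_of_generates' E hg lam (fun i n => h (i, n))
  · intro T L k g hg0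
    have hC : IsCompactObject (E' k) := H2_compact_shift (hc k.1) k.2
    obtain ⟨N, a, ha⟩ := H2_hocolim_factor T.K T.f L.p L.c L.dist hC g
    have h1 : H.map a.op (T.ξ N) = 0 := by
      rw [← L.hξ N, ← H2_H_map_comp, ← ha, hg0]
    have h2 := T.kill N k a h1
    have hp : (𝟙 (∐ T.K) - shiftMap T.K T.f) ≫ L.p = 0 := comp_distTriang_mor_zero₁₂ _ L.dist
    rw [ha, H2_ι_comp_of_one_sub_shift T.K T.f L.p hp N, reassoc_of% h2, zero_comp]

end

end Groth.Agent.H2
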