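import Mathlib
import Groth.Prelude.Def_CohDer
import Groth.Agent.Lib.helper2.BrownCompact

set_option autoImplicit false
universe v u u'
open CategoryTheory CategoryTheory.Limits Opposite CohDer

namespace Groth.Agent.H2

open Pretriangulated CategoryTheory.Pretriangulated.Opposite

section
variable {D : Type u} [Category.{v} D] [Preadditive D] [HasZeroObject D] [HasShift D ℤ]
  [∀ n : ℤ, (shiftFunctor D n).Additive] [Pretriangulated D] [HasCoproducts.{v} D]
  {D' : Type u'} [Category.{v} D'] [Preadditive D'] [HasZeroObject D'] [HasShift D' ℤ]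
  [∀ n : ℤ, (shiftFunctor D' n).Additive] [Pretriangulated D']

/-- If every cohomological product-preserving functor on `D` is representable, then every
coproduct-preserving triangulated functor out of `D` is a left adjoint. -/
theorem H2_isLeftAdjoint_of_brown
    (hB : ∀ (H : Dᵒᵖ ⥤ AddCommGrpCat.{v}) [H.IsHomological]
      [∀ (κ : Type v), PreservesLimitsOfShape (Discrete κ) H],
      (H ⋙ forget AddCommGrpCat.{v}).IsRepresentable)
    (F : D ⥤ D') [F.CommShift ℤ] [F.IsTriangulated]
    [∀ (κ : Type v), PreservesColimitsOfShape (Discrete κ) F] : F.IsLeftAdjoint := by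
  apply Functor.isLeftAdjoint_of_rightAdjointObjIsDefined_eq_top
  ext Y
  simp only [Pi.top_apply, Prop.top_eq_true, iff_true]
  show Functor.IsRepresentable (F.op ⋙ yoneda.obj Y)
  have : ∀ (κ : Type v), PreservesLimitsOfShape (Discrete κ) F.op :=
    fun κ => preservesLimitsOfShape_op (Discrete κ) F
  have : ∀ (κ : Type v), PreservesLimitsOfShape (Discrete κ)
      (F.op ⋙ preadditiveYoneda.obj Y) := fun κ => inferInstance
  exact hB (F.op ⋙ preadditiveYoneda.obj Y)

end

end Groth.Agent.H2
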