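import Mathlib
import Groth.Prelude.Def_DerLim
import Groth.Agent.Lib.helper2.SeqColim

set_option autoImplicit false
universe w v u
open CategoryTheory CategoryTheory.Limits DerLim

namespace Groth.Agent.H2

open Pretriangulated

section sigma
variable {D : Type u} [Category.{v} D] [Preadditive D]

lemma H2_sigma_map_add {κ : Type w} {f g : κ → D} [HasCoproduct f] [HasCoproduct g]
    (p q : ∀ k, f k ⟶ g k) : Limits.Sigma.map (fun k => p k + q k) = Limits.Sigma.map p + Limits.Sigma.map q := by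
  apply Sigma.hom_ext
  intro k
  rw [Sigma.ι_map, Preadditive.comp_add, Sigma.ι_map, Sigma.ι_map, Preadditive.add_comp]

end sigma

section CE
variable {D : Type u} [Category.{v} D] [Preadditive D] [HasZeroObject D] [HasShift D ℤ]
  [∀ n : ℤ, (shiftFunctor D n).Additive] [Pretriangulated D]

/-- Exactness of a coproduct of distinguished triangles, at the middle term. -/
lemma H2_coprod_exact {κ : Type w} (W M K : κ → D) [HasCoproduct W] [HasCoproduct M]
    [HasCoproduct K] (j : ∀ k, W k ⟶ M k) (q : ∀ k, M k ⟶ K k)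
    (w : ∀ k, K k ⟶ (shiftFunctor D (1 : ℤ)).obj (W k))
    (hT : ∀ k, Triangle.mk (j k) (q k) (w k) ∈ distTriang D) {A : D} (a : A ⟶ ∐ M)
    (ha : a ≫ Limits.Sigma.map q = 0) : ∃ a' : A ⟶ ∐ W, a = a' ≫ Limits.Sigma.map j := by
  obtain ⟨Z, ρ, τ, hZ⟩ := distinguished_cocone_triangle (Limits.Sigma.map j)
  have hJρ : Limits.Sigma.map j ≫ ρ = 0 := comp_distTriang_mor_zero₁₂ _ hZ
  have ht : ∀ k, ∃ t : K k ⟶ Z, Sigma.ι M k ≫ ρ = q k ≫ t := by
    intro k
    refine Triangle.yoneda_exact₂ _ (hT k) (Sigma.ι M k ≫ ρ) ?_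
    show j k ≫ Sigma.ι M k ≫ ρ = 0
    rw [← Sigma.ι_map_assoc, hJρ, comp_zero]
  choose t ht using ht
  have hρ : ρ = Limits.Sigma.map q ≫ Sigma.desc t := by
    apply Sigma.hom_ext
    intro k
    rw [Sigma.ι_map_assoc, Sigma.ι_desc, ht]
  have haρ : a ≫ ρ = 0 := by rw [hρ, reassoc_of% ha, zero_comp]
  exact Triangle.coyoneda_exact₂ _ hZ a haρ

end CE

section retract
variable {D : Type u} [Category.{v} D] [Preadditive D] [HasBinaryBiproducts D]

/-- The tower `M n = A ⊞ Y n` with transition maps `fst ≫ inl`. -/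
noncomputable def H2_Mσ (A : D) (Y : ℕ → D) (n : ℕ) : (A ⊞ Y n) ⟶ (A ⊞ Y (n + 1)) :=
  biprod.fst ≫ biprod.inl

/-- The retraction of `1 - shift` on the tower `A ⊞ Y n`. -/
noncomputable def H2_MR (A : D) (Y : ℕ → D) [HasCoproduct fun n => A ⊞ Y n] :
    (∐ fun n => A ⊞ Y n) ⟶ ∐ fun n => A ⊞ Y n :=
  Sigma.desc (fun m => (biprod.snd ≫ biprod.inr) ≫ Sigma.ι (fun n => A ⊞ Y n) m -
    ∑ n ∈ Finset.range m, (biprod.fst ≫ biprod.inl) ≫ Sigma.ι (fun n => A ⊞ Y n) n)

lemma H2_MR_spec (A : D) (Y : ℕ → D) [HasCoproduct fun n => A ⊞ Y n] :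
    (𝟙 _ - shiftMap (fun n => A ⊞ Y n) (H2_Mσ A Y)) ≫ H2_MR A Y = 𝟙 _ := by
  apply Sigma.hom_ext
  intro m
  rw [Preadditive.sub_comp, Preadditive.comp_sub, Category.id_comp, H2_MR, Sigma.ι_desc,
    H2_ι_shiftMap_assoc, Sigma.ι_desc, Category.comp_id, Finset.sum_range_succ, H2_Mσ]
  simp only [Preadditive.comp_sub, Preadditive.comp_add, Preadditive.comp_sum, Category.assoc,
    biprod.inl_snd_assoc, biprod.inl_fst_assoc, zero_comp, comp_zero]
  have h1 : (biprod.snd ≫ biprod.inr : (A ⊞ Y m) ⟶ A ⊞ Y m) =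
      𝟙 _ - biprod.fst ≫ biprod.inl := by
    rw [eq_sub_iff_add_eq, add_comm, biprod.total]
  rw [← Category.assoc, h1, Preadditive.sub_comp, Category.id_comp, Category.assoc]
  abel

end retract

end Groth.Agent.H2
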