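import Mathlib
import Groth.Prelude.Def_CohDer
import Groth.Prelude.Def_DerLim
import Groth.Agent.Lib.helper2.BrownTower
import Groth.Agent.Lib.helper2.BrownKrauseA
import Groth.Agent.Lib.helper2.HocolimCompact

set_option autoImplicit false
universe v u
open CategoryTheory CategoryTheory.Limits Opposite DerLim

namespace Groth.Agent.H2

open Pretriangulated CategoryTheory.Pretriangulated.Opposite

section
variable {D : Type u} [Category.{v} D] [Preadditive D] [HasZeroObject D] [HasShift D ℤ]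
  [∀ n : ℤ, (shiftFunctor D n).Additive] [Pretriangulated D] [HasCoproducts.{v} D]
  {ι : Type v} {E : ι → D}
  {H : Dᵒᵖ ⥤ AddCommGrpCat.{v}} [H.IsHomological]
  [∀ (κ : Type v), PreservesLimitsOfShape (Discrete κ) H]

/-- The perfectness condition (2): maps into countable coproducts factor diagonally. -/
def H2_Perf [HasColimitsOfShape (Discrete ℕ) D] (E : ι → D) : Prop :=
  ∀ (X : ℕ → D) (i : ι) (α : E i ⟶ ∐ X), ∃ (j : ℕ → ι) (β : ∀ n, E (j n) ⟶ X n)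
    (γ : E i ⟶ ∐ (fun n => E (j n))), α = γ ≫ Limits.Sigma.map β

/-- The composite `K 0 ⟶ K n` in a Brown tower. -/
noncomputable def H2_BTower.b (T : H2_BTower E H) : ∀ n, T.K 0 ⟶ T.K n
  | 0 => 𝟙 _
  | n + 1 => H2_BTower.b T n ≫ T.f n

lemma H2_BTower.b_zero (T : H2_BTower E H) : T.b 0 = 𝟙 _ := rfl

lemma H2_BTower.b_succ (T : H2_BTower E H) (n : ℕ) : T.b (n + 1) = T.b n ≫ T.f n := rfl

lemma H2_BTower.b_ξ (T : H2_BTower E H) (n : ℕ) : H.map (T.b n).op (T.ξ n) = T.ξ 0 := by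
  induction n with
  | zero => rw [T.b_zero, H2_H_map_id]
  | succ n ih => rw [T.b_succ, H2_H_map_comp, T.fac, ih]

lemma H2_BTower.y_f (T : H2_BTower E H) (n : ℕ) : T.y n ≫ T.f n = 0 :=
  comp_distTriang_mor_zero₁₂ _ (T.dist n)

lemma H2_BTower.comp_b_eq_zero (T : H2_BTower E H) {A : D} (u : A ⟶ T.K 0)
    (hu : u ≫ T.f 0 = 0) (m : ℕ) (hm : 1 ≤ m) : u ≫ T.b m = 0 := by
  induction m with
  | zero => omega
  | succ m ih =>
    rw [T.b_succ]
    rcases Nat.eq_zero_or_pos m with h | h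
    · subst h
      rw [T.b_zero, Category.id_comp, hu]
    · rw [reassoc_of% (ih h), zero_comp]

/-- Every map from a test object to `K n` decomposes through `K 0` and `Y n`. -/
lemma H2_BTower.lift2 (T : H2_BTower E H) (n : ℕ) (i : ι) (α : E i ⟶ T.K n) :
    ∃ (αB : E i ⟶ T.K 0) (αK : E i ⟶ T.Y n), α = αB ≫ T.b n + αK ≫ T.y n := by
  obtain ⟨αB, hαB⟩ := T.surj0 i (H.map α.op (T.ξ n))
  have h1 : H.map (α - αB ≫ T.b n).op (T.ξ n) = 0 := by
    rw [H2_H_map_sub, H2_H_map_comp, T.b_ξ, hαB, sub_self]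
  obtain ⟨αK, hαK⟩ := T.lift n i _ h1
  exact ⟨αB, αK, by rw [hαK]; abel⟩

variable [HasColimitsOfShape (Discrete ℕ) D]

lemma H2_BTower.lift3 (hP : H2_Perf E) (T : H2_BTower E H) (i : ι) (g : E i ⟶ ∐ T.K) :
    ∃ (gB : E i ⟶ ∐ (fun _ : ℕ => T.K 0)) (gK : E i ⟶ ∐ T.Y),
      g = gB ≫ Limits.Sigma.map T.b + gK ≫ Limits.Sigma.map T.y := by
  obtain ⟨j, β, γ, hg⟩ := hP T.K i g
  choose βB βK hβ using fun n => T.lift2 n (j n) (β n)
  refine ⟨γ ≫ Limits.Sigma.map βB, γ ≫ Limits.Sigma.map βK, ?_⟩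
  rw [hg, Category.assoc, Category.assoc, Limits.Sigma.map_comp_map, Limits.Sigma.map_comp_map,
    ← Preadditive.comp_add, ← H2_sigma_map_add]
  congr 2
  funext n
  exact hβ n

/-- The comparison map `K 0 ⊞ Y n ⟶ K n`. -/
noncomputable def H2_BTower.q (T : H2_BTower E H) (n : ℕ) : (T.K 0 ⊞ T.Y n) ⟶ T.K n :=
  biprod.desc (T.b n) (T.y n)

@[reassoc]
lemma H2_BTower.inl_q (T : H2_BTower E H) (n : ℕ) :
    (biprod.inl : T.K 0 ⟶ T.K 0 ⊞ T.Y n) ≫ T.q n = T.b n := biprod.inl_desc _ _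

@[reassoc]
lemma H2_BTower.inr_q (T : H2_BTower E H) (n : ℕ) :
    (biprod.inr : T.Y n ⟶ T.K 0 ⊞ T.Y n) ≫ T.q n = T.y n := biprod.inr_desc _ _

lemma H2_BTower.q_f (T : H2_BTower E H) (n : ℕ) :
    T.q n ≫ T.f n = H2_Mσ (T.K 0) T.Y n ≫ T.q (n + 1) := by
  apply biprod.hom_ext'
  · rw [T.inl_q_assoc, H2_Mσ, Category.assoc, biprod.inl_fst_assoc, T.inl_q, T.b_succ]
  · rw [T.inr_q_assoc, H2_Mσ, Category.assoc, biprod.inr_fst_assoc, zero_comp, T.y_f]

lemma H2_BTower.Q_d (T : H2_BTower E H) :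
    Limits.Sigma.map T.q ≫ (𝟙 (∐ T.K) - shiftMap T.K T.f) =
      (𝟙 (∐ fun n => T.K 0 ⊞ T.Y n) - shiftMap (fun n => T.K 0 ⊞ T.Y n) (H2_Mσ (T.K 0) T.Y)) ≫
        Limits.Sigma.map T.q := by
  apply Sigma.hom_ext
  intro n
  rw [Sigma.ι_map_assoc, Preadditive.comp_sub, Preadditive.comp_sub, Category.comp_id,
    H2_ι_shiftMap, reassoc_of% (T.q_f n)]
  rw [Preadditive.sub_comp, Preadditive.comp_sub, Category.id_comp, Sigma.ι_map,
    H2_ι_shiftMap_assoc, Sigma.ι_map]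

set_option maxHeartbeats 1600000 in
/-- Sub-claim 1: `1 - shift` is injective on maps from test objects into `∐ K`. -/
lemma H2_krause_SC1 (hP : H2_Perf E) (T : H2_BTower E H) (i : ι) (h : E i ⟶ ∐ T.K)
    (hh : h ≫ (𝟙 (∐ T.K) - shiftMap T.K T.f) = 0) : h = 0 := by
  -- lift `h`
  obtain ⟨gB, gK, hg⟩ := T.lift3 hP i h
  let ht : E i ⟶ ∐ fun n => T.K 0 ⊞ T.Y n :=
    gB ≫ Limits.Sigma.map (fun n => (biprod.inl : T.K 0 ⟶ T.K 0 ⊞ T.Y n)) +
    gK ≫ Limits.Sigma.map (fun n => (biprod.inr : T.Y n ⟶ T.K 0 ⊞ T.Y n))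
  have hht : ht ≫ Limits.Sigma.map T.q = h := by
    rw [hg, Preadditive.add_comp, Category.assoc, Category.assoc, Limits.Sigma.map_comp_map,
      Limits.Sigma.map_comp_map]
    congr 3
    · funext n
      exact T.inl_q n
    · funext n
      exact T.inr_q n
  have ha : (ht ≫ (𝟙 (∐ fun n => T.K 0 ⊞ T.Y n) -
      shiftMap (fun n => T.K 0 ⊞ T.Y n) (H2_Mσ (T.K 0) T.Y))) ≫ Limits.Sigma.map T.q = 0 := by
    rw [Category.assoc, ← T.Q_d, reassoc_of% hht, hh]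
  -- the fibres of `q n`
  choose W j w hW using fun n => distinguished_cocone_triangle₁ (T.q n)
  obtain ⟨a', ha'⟩ := H2_coprod_exact W (fun n => T.K 0 ⊞ T.Y n) T.K j T.q w hW _ ha
  obtain ⟨jj, ω, γ, hγ⟩ := hP W i a'
  -- components
  obtain ⟨ν, hνdef⟩ : ∃ ν : ∀ n, E (jj n) ⟶ T.K 0 ⊞ T.Y n, ∀ n, ν n = ω n ≫ j n :=
    ⟨_, fun _ => rfl⟩
  have hν : ∀ n, ν n ≫ T.q n = 0 := by
    intro n
    have : j n ≫ T.q n = 0 := comp_distTriang_mor_zero₁₂ _ (hW n)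
    rw [hνdef, Category.assoc, this, comp_zero]
  obtain ⟨u, hu⟩ : ∃ u : ∀ n, E (jj n) ⟶ T.K 0, ∀ n, u n = ν n ≫ biprod.fst :=
    ⟨_, fun _ => rfl⟩
  obtain ⟨v, hv⟩ : ∃ v : ∀ n, E (jj n) ⟶ T.Y n, ∀ n, v n = ν n ≫ biprod.snd :=
    ⟨_, fun _ => rfl⟩
  have huv : ∀ n, u n ≫ T.b n + v n ≫ T.y n = 0 := by
    intro n
    have h1 : (ν n ≫ biprod.fst) ≫ (biprod.inl ≫ T.q n) +
        (ν n ≫ biprod.snd) ≫ (biprod.inr ≫ T.q n) = 0 := by
      rw [Category.assoc, Category.assoc, ← Preadditive.comp_add,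
        ← Category.assoc biprod.fst, ← Category.assoc biprod.snd, ← Preadditive.add_comp,
        biprod.total, Category.id_comp, hν]
    rw [T.inl_q, T.inr_q, ← hu, ← hv] at h1
    exact h1
  have hu0 : ∀ n, H.map (u n).op (T.ξ 0) = 0 := by
    intro n
    have h1 : u n ≫ T.b n = -(v n ≫ T.y n) := eq_neg_of_add_eq_zero_left (huv n)
    rw [← T.b_ξ n, ← H2_H_map_comp, h1, H2_H_map_neg, H2_H_map_comp, T.hy, map_zero, neg_zero]
  have hub : ∀ n m, 1 ≤ m → u n ≫ T.b m = 0 := fun n m hm =>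
    T.comp_b_eq_zero (u n) (T.kill 0 _ _ (hu0 n)) m hm
  -- the key computation
  have hR : ∀ m, Sigma.ι (fun n => T.K 0 ⊞ T.Y n) m ≫ H2_MR (T.K 0) T.Y ≫ Limits.Sigma.map T.q =
      biprod.snd ≫ T.y m ≫ Sigma.ι T.K m -
        ∑ n ∈ Finset.range m, biprod.fst ≫ T.b n ≫ Sigma.ι T.K n := by
    intro m
    rw [H2_MR, Sigma.ι_desc_assoc, Preadditive.sub_comp, Preadditive.sum_comp]
    congr 1
    · rw [Category.assoc, Category.assoc, Sigma.ι_map, T.inr_q_assoc]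
    · apply Finset.sum_congr rfl
      intro n _
      rw [Category.assoc, Category.assoc, Sigma.ι_map, T.inl_q_assoc]
  have key : ∀ m, ν m ≫ Sigma.ι (fun n => T.K 0 ⊞ T.Y n) m ≫ H2_MR (T.K 0) T.Y ≫
      Limits.Sigma.map T.q = -(u m ≫ Sigma.ι T.K 0) := by
    intro m
    rw [hR, Preadditive.comp_sub, Preadditive.comp_sum]
    have e1 : ν m ≫ biprod.snd ≫ T.y m ≫ Sigma.ι T.K m = (v m ≫ T.y m) ≫ Sigma.ι T.K m := by
      simp only [hv, Category.assoc]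
    have e2 : ∀ n, ν m ≫ biprod.fst ≫ T.b n ≫ Sigma.ι T.K n =
        (u m ≫ T.b n) ≫ Sigma.ι T.K n := by
      intro n
      simp only [hu, Category.assoc]
    rw [e1]
    simp only [e2]
    have h1 : v m ≫ T.y m = -(u m ≫ T.b m) := eq_neg_of_add_eq_zero_right (huv m)
    cases m with
    | zero =>
      rw [Finset.range_zero, Finset.sum_empty, sub_zero, h1, T.b_zero,
        Category.comp_id, Preadditive.neg_comp]
    | succ m =>
      rw [h1, hub _ _ (Nat.succ_le_succ (Nat.zero_le m)), neg_zero, zero_comp,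
        zero_sub, Finset.sum_range_succ', T.b_zero, Category.comp_id]
      have : ∑ k ∈ Finset.range m, (u (m + 1) ≫ T.b (k + 1)) ≫ Sigma.ι T.K (k + 1) = 0 := by
        apply Finset.sum_eq_zero
        intro k _
        rw [hub _ _ (Nat.succ_le_succ (Nat.zero_le k)), zero_comp]
      rw [this, zero_add]
  -- conclusion: `h` is supported on the zeroth summand
  have hsupp : h = (γ ≫ Sigma.desc (fun m => -u m)) ≫ Sigma.ι T.K 0 := by
    have h1 : ht = (ht ≫ (𝟙 (∐ fun n => T.K 0 ⊞ T.Y n) -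
        shiftMap (fun n => T.K 0 ⊞ T.Y n) (H2_Mσ (T.K 0) T.Y))) ≫ H2_MR (T.K 0) T.Y := by
      rw [Category.assoc, H2_MR_spec, Category.comp_id]
    rw [← hht, h1, ha', hγ, Category.assoc, Category.assoc, Category.assoc, Category.assoc]
    congr 1
    apply Sigma.hom_ext
    intro m
    rw [Sigma.ι_map_assoc, Sigma.ι_map_assoc, Sigma.ι_desc_assoc, Preadditive.neg_comp,
      ← Category.assoc (ω m), ← hνdef]
    exact key m
  -- finally use `hh` again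
  have hfin : γ ≫ Sigma.desc (fun m => -u m) = 0 := by
    have h2 : Sigma.ι T.K 0 ≫ (𝟙 (∐ T.K) - shiftMap T.K T.f) ≫ H2_π T.K 0 = 𝟙 _ := by
      rw [Preadditive.sub_comp, Preadditive.comp_sub, Category.id_comp, H2_ι_π_self,
        H2_ι_shiftMap_assoc, H2_ι_π_ne T.K (Nat.succ_ne_zero 0), comp_zero, sub_zero]
    have h1 : (h ≫ (𝟙 (∐ T.K) - shiftMap T.K T.f)) ≫ H2_π T.K 0 = 0 := by rw [hh, zero_comp]
    rw [hsupp, Category.assoc, Category.assoc, h2, Category.comp_id] at h1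
    exact h1
  rw [hsupp, hfin, zero_comp]

variable [PreservesLimitsOfShape (Discrete ℕ) H]

lemma H2_BHocolim.hp {T : H2_BTower E H} (L : H2_BHocolim T) :
    (𝟙 (∐ T.K) - shiftMap T.K T.f) ≫ L.p = 0 :=
  comp_distTriang_mor_zero₁₂ _ L.dist

lemma H2_BHocolim.b_ι_p {T : H2_BTower E H} (L : H2_BHocolim T) (n : ℕ) :
    T.b n ≫ Sigma.ι T.K n ≫ L.p = Sigma.ι T.K 0 ≫ L.p := by
  induction n with
  | zero => rw [T.b_zero, Category.id_comp]
  | succ n ih =>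
    rw [T.b_succ, Category.assoc, ← H2_ι_comp_of_one_sub_shift T.K T.f L.p L.hp n, ih]

/-- Step (II): a map factoring through `∐ K` and killed by `Φ` is zero. -/
lemma H2_krause_II (hP : H2_Perf E) {T : H2_BTower E H} (L : H2_BHocolim T) (i : ι)
    (g' : E i ⟶ ∐ T.K) (hg : H.map (g' ≫ L.p).op L.ξ = 0) : g' ≫ L.p = 0 := by
  obtain ⟨gB, gK, hg'⟩ := T.lift3 hP i g'
  have h1 : Limits.Sigma.map T.y ≫ L.p = 0 := by
    apply Sigma.hom_ext
    intro n
    rw [Sigma.ι_map_assoc, comp_zero, H2_ι_comp_of_one_sub_shift T.K T.f L.p L.hp n,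
      reassoc_of% (T.y_f n), zero_comp]
  have h2 : Limits.Sigma.map T.b ≫ L.p =
      Sigma.desc (fun _ : ℕ => 𝟙 (T.K 0)) ≫ Sigma.ι T.K 0 ≫ L.p := by
    apply Sigma.hom_ext
    intro n
    rw [Sigma.ι_map_assoc, Sigma.ι_desc_assoc, Category.id_comp, L.b_ι_p]
  have h3 : g' ≫ L.p = (gB ≫ Sigma.desc (fun _ : ℕ => 𝟙 (T.K 0))) ≫ Sigma.ι T.K 0 ≫ L.p := by
    rw [hg', Preadditive.add_comp, Category.assoc, Category.assoc, h1, comp_zero, add_zero, h2,
      Category.assoc]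
  have h4 : H.map (gB ≫ Sigma.desc (fun _ : ℕ => 𝟙 (T.K 0))).op (T.ξ 0) = 0 := by
    rw [← L.hξ 0, ← H2_H_map_comp, ← h3, hg]
  have h5 := T.kill 0 i _ h4
  rw [h3, H2_ι_comp_of_one_sub_shift T.K T.f L.p L.hp 0, ← Category.assoc, h5, zero_comp]

/-- The injectivity property for Brown towers under the perfectness condition. -/
theorem H2_krause_BInj (hP : H2_Perf E)
    (hS : ∀ i, ∃ i', Nonempty (E i' ≅ (shiftFunctor D (-1 : ℤ)).obj (E i))) : H2_BInj E H := by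
  intro T L i g hg
  have hgc : g ≫ L.c = 0 := by
    let adj : shiftFunctor D (-1 : ℤ) ⊣ shiftFunctor D (1 : ℤ) :=
      (shiftEquiv' D (-1) 1 (by omega)).toAdjunction
    obtain ⟨i', ⟨e⟩⟩ := hS i
    have z : L.c ≫ (shiftFunctor D (1 : ℤ)).map (𝟙 (∐ T.K) - shiftMap T.K T.f) = 0 :=
      comp_distTriang_mor_zero₃₁ _ L.dist
    have h0 : (adj.homEquiv (E i) (∐ T.K)).symm (g ≫ L.c) ≫
        (𝟙 (∐ T.K) - shiftMap T.K T.f) = 0 := by
      apply (adj.homEquiv _ _).injective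
      rw [Adjunction.homEquiv_naturality_right, Equiv.apply_symm_apply,
        Adjunction.homAddEquiv_zero, Category.assoc, z, comp_zero]
    have h1 : e.hom ≫ (adj.homEquiv (E i) (∐ T.K)).symm (g ≫ L.c) = 0 := by
      apply H2_krause_SC1 hP T i'
      rw [Category.assoc, h0, comp_zero]
    have h2 : (adj.homEquiv (E i) (∐ T.K)).symm (g ≫ L.c) = 0 := by
      rw [← cancel_epi e.hom, h1, comp_zero]
    have h3 := congrArg (adj.homEquiv (E i) (∐ T.K)) h2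
    rw [Equiv.apply_symm_apply, Adjunction.homAddEquiv_zero] at h3
    exact h3
  obtain ⟨g', hg'⟩ : ∃ g' : E i ⟶ ∐ T.K, g = g' ≫ L.p :=
    Triangle.coyoneda_exact₃ _ L.dist g hgc
  rw [hg']
  apply H2_krause_II hP L i g'
  rw [← hg']
  exact hg

end

end Groth.Agent.H2
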