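import Mathlib
import Groth.Prelude.Def_CohDer
import Groth.Prelude.Def_DerLim
import Groth.Agent.Lib.helper2.BrownMain
import Groth.Agent.Lib.helper2.BrownCompact
import Groth.Agent.Lib.helper2.BrownKrauseB
import Groth.Agent.Lib.helper2.CompactGen

set_option autoImplicit false
universe v u
open CategoryTheory CategoryTheory.Limits Opposite DerLim CohDer

namespace Groth.Agent.H2

open Pretriangulated CategoryTheory.Pretriangulated.Opposite

section
variable {D : Type u} [Category.{v} D] [Preadditive D] [HasZeroObject D] [HasShift D ℤ]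
  [∀ n : ℤ, (shiftFunctor D n).Additive] [Pretriangulated D] [HasCoproducts.{v} D]
  [HasColimitsOfShape (Discrete ℕ) D] {ι : Type v} {E : ι → D}

set_option backward.isDefEq.respectTransparency false in
/-- The perfectness condition passes to the family of all shifts. -/
lemma H2_Perf_shift (h2 : H2_Perf E) :
    H2_Perf (fun k : ι × ℤ => (shiftFunctor D k.2).obj (E k.1)) := by
  rintro X ⟨i, n⟩ α
  let adj : shiftFunctor D n ⊣ shiftFunctor D (-n) := (shiftEquiv D n).toAdjunction
  obtain ⟨j₀, β₀, γ₀, h⟩ := h2 (fun m => (shiftFunctor D (-n)).obj (X m)) i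
    (adj.homEquiv (E i) (∐ X) α ≫ inv (sigmaComparison (shiftFunctor D (-n)) X))
  let β : ∀ m, (shiftFunctor D n).obj (E (j₀ m)) ⟶ X m :=
    fun m => (adj.homEquiv (E (j₀ m)) (X m)).symm (β₀ m)
  have hβ : ∀ m, β₀ m = adj.unit.app (E (j₀ m)) ≫ (shiftFunctor D (-n)).map (β m) := by
    intro m
    exact ((adj.homEquiv (E (j₀ m)) (X m)).apply_symm_apply (β₀ m)).symm.trans
      (adj.homEquiv_unit _ _ _)
  let δ : E i ⟶ (shiftFunctor D (-n)).obj (∐ fun m => (shiftFunctor D n).obj (E (j₀ m))) :=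
    γ₀ ≫ Limits.Sigma.map (fun m => adj.unit.app (E (j₀ m))) ≫
      sigmaComparison (shiftFunctor D (-n)) (fun m => (shiftFunctor D n).obj (E (j₀ m)))
  refine ⟨fun m => (j₀ m, n), β,
    (adj.homEquiv (E i) (∐ fun m => (shiftFunctor D n).obj (E (j₀ m)))).symm δ, ?_⟩
  apply (adj.homEquiv (E i) (∐ X)).injective
  rw [Adjunction.homEquiv_naturality_right, Equiv.apply_symm_apply]
  have h' := congrArg (fun t => t ≫ sigmaComparison (shiftFunctor D (-n)) X) h
  simp only [Category.assoc, IsIso.inv_hom_id, Category.comp_id] at h'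
  rw [h']
  show γ₀ ≫ Limits.Sigma.map β₀ ≫ sigmaComparison (shiftFunctor D (-n)) X =
    (γ₀ ≫ Limits.Sigma.map (fun m => adj.unit.app (E (j₀ m))) ≫
      sigmaComparison (shiftFunctor D (-n)) (fun m => (shiftFunctor D n).obj (E (j₀ m)))) ≫
      (shiftFunctor D (-n)).map (Limits.Sigma.map β)
  rw [Category.assoc, Category.assoc]
  congr 1
  apply Sigma.hom_ext
  intro m
  have e1 : Sigma.ι (fun m => (shiftFunctor D (-n)).obj (X m)) m ≫
      sigmaComparison (shiftFunctor D (-n)) X = (shiftFunctor D (-n)).map (Sigma.ι X m) :=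
    ι_comp_sigmaComparison _ _ m
  have e2 : Sigma.ι (fun m => (shiftFunctor D (-n)).obj ((shiftFunctor D n).obj (E (j₀ m)))) m ≫
      sigmaComparison (shiftFunctor D (-n)) (fun m => (shiftFunctor D n).obj (E (j₀ m))) =
      (shiftFunctor D (-n)).map (Sigma.ι (fun m => (shiftFunctor D n).obj (E (j₀ m))) m) :=
    ι_comp_sigmaComparison _ _ m
  rw [Sigma.ι_map_assoc, e1, Sigma.ι_map_assoc]
  show β₀ m ≫ (shiftFunctor D (-n)).map (Sigma.ι X m) = adj.unit.app (E (j₀ m)) ≫
    Sigma.ι (fun m => (shiftFunctor D (-n)).obj ((shiftFunctor D n).obj (E (j₀ m)))) m ≫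
      sigmaComparison (shiftFunctor D (-n)) (fun m => (shiftFunctor D n).obj (E (j₀ m))) ≫
        (shiftFunctor D (-n)).map (Limits.Sigma.map β)
  rw [reassoc_of% e2, ← Functor.map_comp, Sigma.ι_map, Functor.map_comp, hβ, Category.assoc]

end

section
variable {D : Type u} [Category.{v} D] [Preadditive D] [HasZeroObject D] [HasShift D ℤ]
  [∀ n : ℤ, (shiftFunctor D n).Additive] [Pretriangulated D] [HasCoproducts.{v} D]
  [HasColimitsOfShape (Discrete ℕ) D] {ι : Type v}

/-- Brown representability for perfectly generated triangulated categories. -/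
theorem H2_brown_krause (E : ι → D)
    (h1 : ∀ X : D, ¬ IsZero X → ∃ (i : ι) (f : E i ⟶ X), f ≠ 0)
    (h2 : ∀ (X : ℕ → D) (i : ι) (α : E i ⟶ ∐ X), ∃ (j : ℕ → ι) (β : ∀ n, E (j n) ⟶ X n)
      (γ : E i ⟶ ∐ (fun n => E (j n))), α = γ ≫ Limits.Sigma.map β)
    (H : Dᵒᵖ ⥤ AddCommGrpCat.{v}) [H.IsHomological]
    [∀ (κ : Type v), PreservesLimitsOfShape (Discrete κ) H] :
    (H ⋙ forget AddCommGrpCat.{v}).IsRepresentable := by
  have : PreservesLimitsOfShape (Discrete ℕ) H := H2_preservesProducts_nat H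
  have hgen : Generates E := by
    intro K hK
    by_contra hZ
    obtain ⟨i, f, hf⟩ := h1 K hZ
    apply hf
    have := hK i 0 (f ≫ (shiftFunctorZero D ℤ).inv.app K)
    have h3 := congrArg (fun t => t ≫ (shiftFunctorZero D ℤ).hom.app K) this
    simpa using h3
  refine H2_brown_representable (E := fun k : ι × ℤ => (shiftFunctor D k.2).obj (E k.1)) ?_ ?_
  · intro X X' lam h
    exact H2_isIso_of_generates' E hgen lam (fun i n => h (i, n))
  · apply H2_krause_BInj (H2_Perf_shift h2)
    rintro ⟨i, n⟩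
    exact ⟨(i, n + -1), ⟨(shiftFunctorAdd' D n (-1) (n + -1) rfl).app (E i)⟩⟩

end

end Groth.Agent.H2
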