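import Mathlib
import Groth.Agent.Lib.helper2.CiTsenLang

set_option autoImplicit false
universe u v

namespace Groth.Agent.H2

open Polynomial

section Main

variable (k : Type u) [Field k] (m : ℕ) (hk : Curves.IsCi k m)

include hk in
theorem H2_isCi_add_aux : ∀ (j : ℕ) (K : Type v) [Field K] [Algebra k K] (x : Fin j → K),
    (∀ z : K, IsAlgebraic (IntermediateField.adjoin k (Set.range x)) z) →
    Curves.IsCi K (m + j) := by
  intro j
  induction j with
  | zero =>
    intro K _ _ x hx
    have : Algebra.IsAlgebraic k K := ⟨fun z =>
      H2_isAlgebraic_of_range (A := IntermediateField.adjoin k (Set.range x))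
        (algebraMap (IntermediateField.adjoin k (Set.range x)) K).injective
        (fun a => by
          have h1 : Set.range x = ∅ := Set.range_eq_empty x
          have h3 : ∀ (S : Set K), S = ∅ → ∀ b : K, b ∈ IntermediateField.adjoin k S →
              b ∈ (⊥ : IntermediateField k K) := by
            intro S hS b hb
            subst hS
            rwa [IntermediateField.adjoin_empty] at hb
          have h2 : a.1 ∈ (⊥ : IntermediateField k K) := h3 _ h1 a.1 a.2
          obtain ⟨b, hb⟩ := IntermediateField.mem_bot.mp h2
          exact ⟨b, hb⟩)
        (hx z)⟩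
    exact H2_isCi_of_isAlgebraic (K := k) hk
  | succ j ih =>
    intro K _ _ x hx
    let K₀ : IntermediateField k K :=
      IntermediateField.adjoin k (Set.range (x ∘ Fin.castSucc))
    let y : Fin j → K₀ := fun i =>
      ⟨x (Fin.castSucc i), IntermediateField.subset_adjoin _ _ ⟨i, rfl⟩⟩
    have htop : IntermediateField.adjoin k (Set.range y) = ⊤ := by
      apply (IntermediateField.lift_inj _ _).mp
      rw [IntermediateField.lift_adjoin, IntermediateField.lift_top]
      congr 1
      rw [← Set.range_comp]
      rfl
    have hK₀ : Curves.IsCi K₀ (m + j) := by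
      apply ih K₀ y
      intro z
      have hz : z ∈ IntermediateField.adjoin k (Set.range y) := by
        rw [htop]
        exact IntermediateField.mem_top
      exact isAlgebraic_algebraMap (⟨z, hz⟩ : IntermediateField.adjoin k (Set.range y))
    let t : K := x (Fin.last j)
    have hle : ∀ a ∈ IntermediateField.adjoin k (Set.range x),
        a ∈ IntermediateField.adjoin K₀ {t} := by
      have : IntermediateField.adjoin k (Set.range x) ≤
          (IntermediateField.adjoin K₀ {t}).restrictScalars k := by
        apply IntermediateField.adjoin_le_iff.mpr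
        rintro _ ⟨i, rfl⟩
        change x i ∈ IntermediateField.adjoin K₀ {t}
        induction i using Fin.lastCases with
        | last => exact IntermediateField.mem_adjoin_simple_self K₀ t
        | cast i =>
          exact (IntermediateField.adjoin K₀ {t}).algebraMap_mem (y i)
      exact fun a ha => this ha
    have hE : ∀ z : K, IsAlgebraic (IntermediateField.adjoin K₀ {t}) z := fun z =>
      H2_isAlgebraic_of_range (A := IntermediateField.adjoin k (Set.range x))
        (algebraMap (IntermediateField.adjoin k (Set.range x)) K).injective
        (fun a => ⟨⟨a.1, hle a.1 a.2⟩, rfl⟩)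
        (hx z)
    by_cases ht : Transcendental K₀ t
    · exact H2_isCi_succ_of_transcendental t ht hE hK₀
    · have ht' : IsAlgebraic K₀ t := not_not.mp ht
      have : Algebra.IsAlgebraic K₀ (IntermediateField.adjoin K₀ {t}) :=
        IntermediateField.isAlgebraic_adjoin_simple ht'.isIntegral
      have : Algebra.IsAlgebraic (IntermediateField.adjoin K₀ {t}) K := ⟨hE⟩
      have : Algebra.IsAlgebraic K₀ K :=
        Algebra.IsAlgebraic.trans K₀ (IntermediateField.adjoin K₀ {t}) K
      exact H2_isCi_succ (H2_isCi_of_isAlgebraic hK₀)

include hk in
theorem H2_isCi_add_of_isTranscendenceBasis (K : Type v) [Field K] [Algebra k K] (t : ℕ)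
    (x : Fin t → K) (hx : IsTranscendenceBasis k x) : Curves.IsCi K (m + t) := by
  apply H2_isCi_add_aux k m hk t K x
  exact hx.isAlgebraic_field.isAlgebraic

end Main

end Groth.Agent.H2
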