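import Mathlib

set_option autoImplicit false
universe v

namespace Groth.Agent.H2

open CategoryTheory CategoryTheory.Limits

/-- Equality in a colimit of types over an index category with the span-completion property. -/
theorem H2_colimit_eq_of_span {I : Type v} [SmallCategory I]
    (hI : ∀ ⦃x y z : I⦄ (f : x ⟶ y) (g : x ⟶ z), ∃ (w : I) (f' : y ⟶ w) (g' : z ⟶ w),
      f ≫ f' = g ≫ g')
    (F : I ⥤ Type v) {i j : I} {a : F.obj i} {b : F.obj j}
    (h : colimit.ι F i a = colimit.ι F j b) :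
    ∃ (w : I) (f : i ⟶ w) (g : j ⟶ w), F.map f a = F.map g b := by
  have key : ∀ p q : (Σ j, F.obj j), Relation.EqvGen F.ColimitTypeRel p q →
      ∃ (w : I) (f : p.1 ⟶ w) (g : q.1 ⟶ w), F.map f p.2 = F.map g q.2 := by
    intro p q hpq
    induction hpq with
    | rel p q hr =>
      obtain ⟨f, hf⟩ := hr
      exact ⟨q.1, f, 𝟙 _, by simp [hf]⟩
    | refl p => exact ⟨p.1, 𝟙 _, 𝟙 _, rfl⟩
    | symm p q _ ih =>
      obtain ⟨w, f, g, h⟩ := ih
      exact ⟨w, g, f, h.symm⟩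
    | trans p q r _ _ ih1 ih2 =>
      obtain ⟨w₁, f₁, g₁, e₁⟩ := ih1
      obtain ⟨w₂, f₂, g₂, e₂⟩ := ih2
      obtain ⟨w, f', g', e⟩ := hI g₁ f₂
      refine ⟨w, f₁ ≫ f', g₂ ≫ g', ?_⟩
      rw [FunctorToTypes.map_comp_apply, FunctorToTypes.map_comp_apply, e₁, ← e₂,
        ← FunctorToTypes.map_comp_apply, ← FunctorToTypes.map_comp_apply, e]
  exact key ⟨i, a⟩ ⟨j, b⟩ (Types.colimit_eq h)

end Groth.Agent.H2
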