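import Mathlib
import Groth.Prelude.Def_CohDer
import Groth.Agent.Lib.helper2.Compact

set_option autoImplicit false
universe w v u
open CategoryTheory CategoryTheory.Limits CohDer

namespace Groth.Agent.H2

open Pretriangulated ZeroObject

section
variable {D : Type u} [Category.{v} D] [Preadditive D] [HasZeroObject D] [HasShift D ℤ]
  [∀ n : ℤ, (shiftFunctor D n).Additive] [Pretriangulated D] [IsTriangulated D]
  {ι : Type w} (E : ι → D)

/-- Objects in the triangulated envelope of finitely many members of `E`. -/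
def H2_FinEnv (Z : D) : Prop :=
  ∃ s : Finset ι, ObjectProperty.triangEnvelope (fun Y : D => ∃ i ∈ s, Y = E i) Z

variable {E}

lemma H2_env_mono {s t : Finset ι} (h : s ⊆ t) :
    ObjectProperty.triangEnvelope (fun Y : D => ∃ i ∈ s, Y = E i) ≤
      ObjectProperty.triangEnvelope (fun Y : D => ∃ i ∈ t, Y = E i) :=
  ObjectProperty.monotone_triangEnvelope (fun _ ⟨i, hi, e⟩ => ⟨i, h hi, e⟩)

lemma H2_FinEnv_of_mem (i : ι) : H2_FinEnv E (E i) :=
  ⟨{i}, ObjectProperty.le_triangEnvelope _ _ ⟨i, Finset.mem_singleton_self i, rfl⟩⟩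

lemma H2_FinEnv_shift {Z : D} (h : H2_FinEnv E Z) (n : ℤ) :
    H2_FinEnv E ((shiftFunctor D n).obj Z) := by
  obtain ⟨s, hs⟩ := h
  exact ⟨s, (ObjectProperty.triangEnvelope (fun Y : D => ∃ i ∈ s, Y = E i)).le_shift n _ hs⟩

lemma H2_FinEnv_retract {Z Z' : D} (r : Retract Z' Z) (h : H2_FinEnv E Z) : H2_FinEnv E Z' := by
  obtain ⟨s, hs⟩ := h
  exact ⟨s, (ObjectProperty.triangEnvelope (fun Y : D => ∃ i ∈ s, Y = E i)).prop_of_retract r hs⟩

lemma H2_FinEnv_iso {Z Z' : D} (e : Z ≅ Z') (h : H2_FinEnv E Z) : H2_FinEnv E Z' :=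
  H2_FinEnv_retract ⟨e.inv, e.hom, e.inv_hom_id⟩ h

lemma H2_FinEnv_ext₂ (T : Triangle D) (hT : T ∈ distTriang D) (h₁ : H2_FinEnv E T.obj₁)
    (h₃ : H2_FinEnv E T.obj₃) : H2_FinEnv E T.obj₂ := by
  classical
  obtain ⟨s, hs⟩ := h₁
  obtain ⟨t, ht⟩ := h₃
  refine ⟨s ∪ t, ?_⟩
  exact (ObjectProperty.triangEnvelope
    (fun Y : D => ∃ i ∈ s ∪ t, Y = E i)).ext_of_isTriangulatedClosed₂ T hT
    (H2_env_mono Finset.subset_union_left _ hs) (H2_env_mono Finset.subset_union_right _ ht)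

lemma H2_FinEnv_ext₃ (T : Triangle D) (hT : T ∈ distTriang D) (h₁ : H2_FinEnv E T.obj₁)
    (h₂ : H2_FinEnv E T.obj₂) : H2_FinEnv E T.obj₃ :=
  H2_FinEnv_ext₂ T.rotate (rot_of_distTriang _ hT) h₂ (H2_FinEnv_shift h₁ 1)

lemma H2_FinEnv_biprod {Z₁ Z₂ : D} (h₁ : H2_FinEnv E Z₁) (h₂ : H2_FinEnv E Z₂) :
    H2_FinEnv E (Z₁ ⊞ Z₂) :=
  H2_FinEnv_ext₂ _ (binaryBiproductTriangle_distinguished Z₁ Z₂) h₁ h₂

lemma H2_FinEnv_zero [Nonempty ι] {Z : D} (hZ : IsZero Z) : H2_FinEnv E Z := by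
  obtain ⟨i⟩ := ‹Nonempty ι›
  have := H2_FinEnv_ext₃ _ (contractible_distinguished (E i)) (H2_FinEnv_of_mem i)
    (H2_FinEnv_of_mem i)
  exact H2_FinEnv_iso (IsZero.iso (isZero_zero D) hZ) this

lemma H2_FinEnv_compact [HasCoproducts.{v} D] (hc : ∀ i, IsCompactObject (E i)) {Z : D}
    (h : H2_FinEnv E Z) : IsCompactObject Z := by
  obtain ⟨s, hs⟩ := h
  have := (ObjectProperty.triangEnvelope_le_iff (P := fun Y : D => ∃ i ∈ s, Y = E i)
    (Q := fun K : D => IsCompactObject K)).2 (fun Y ⟨i, _, e⟩ => e ▸ hc i)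
  exact this _ hs

variable (E)

/-- A morphism factors through an object of the finite envelope. -/
def H2_Factors {C Z : D} (φ : C ⟶ Z) : Prop :=
  ∃ (E' : D) (g : C ⟶ E') (h : E' ⟶ Z), H2_FinEnv E E' ∧ g ≫ h = φ

variable {E}

lemma H2_Factors_comp {C Z Z' : D} {φ : C ⟶ Z} (h : H2_Factors E φ) (ψ : Z ⟶ Z') :
    H2_Factors E (φ ≫ ψ) := by
  obtain ⟨E', g, k, hE, rfl⟩ := h
  exact ⟨E', g, k ≫ ψ, hE, (Category.assoc _ _ _).symm⟩

lemma H2_Factors_mid {C F Z : D} (α : C ⟶ F) (β : F ⟶ Z) (hF : H2_FinEnv E F) :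
    H2_Factors E (α ≫ β) :=
  ⟨F, α, β, hF, rfl⟩

lemma H2_Factors_add {C Z : D} {α β : C ⟶ Z} (h₁ : H2_Factors E α) (h₂ : H2_Factors E β) :
    H2_Factors E (α + β) := by
  obtain ⟨E₁, g₁, k₁, hE₁, rfl⟩ := h₁
  obtain ⟨E₂, g₂, k₂, hE₂, rfl⟩ := h₂
  exact ⟨E₁ ⊞ E₂, biprod.lift g₁ g₂, biprod.desc k₁ k₂, H2_FinEnv_biprod hE₁ hE₂,
    biprod.lift_desc⟩

lemma H2_Factors_neg {C Z : D} {α : C ⟶ Z} (h₁ : H2_Factors E α) : H2_Factors E (-α) := by
  obtain ⟨E₁, g₁, k₁, hE₁, rfl⟩ := h₁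
  exact ⟨E₁, -g₁, k₁, hE₁, Preadditive.neg_comp _ _⟩

lemma H2_Factors_sub {C Z : D} {α β : C ⟶ Z} (h₁ : H2_Factors E α) (h₂ : H2_Factors E β) :
    H2_Factors E (α - β) := by
  rw [sub_eq_add_neg]
  exact H2_Factors_add h₁ (H2_Factors_neg h₂)

lemma H2_Factors_zero [Nonempty ι] (C Z : D) : H2_Factors E (0 : C ⟶ Z) :=
  ⟨0, 0, 0, H2_FinEnv_zero (isZero_zero D), zero_comp⟩

lemma H2_Factors_sum [Nonempty ι] {κ : Type*} {C Z : D} (t : Finset κ) (f : κ → (C ⟶ Z))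
    (h : ∀ k ∈ t, H2_Factors E (f k)) : H2_Factors E (∑ k ∈ t, f k) := by
  classical
  induction t using Finset.induction_on with
  | empty => simpa using H2_Factors_zero C Z
  | insert a t ha ih =>
    rw [Finset.sum_insert ha]
    exact H2_Factors_add (h a (Finset.mem_insert_self a t))
      (ih (fun k hk => h k (Finset.mem_insert_of_mem hk)))

variable (E)

/-- Every map from a compact object to `Z` factors through the finite envelope. -/
def H2_PFact [HasCoproducts.{v} D] (Z : D) : Prop :=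
  ∀ (C : D), IsCompactObject C → ∀ φ : C ⟶ Z, H2_Factors E φ

variable {E}

lemma H2_PFact_iso [HasCoproducts.{v} D] {Z Z' : D} (e : Z ≅ Z') (h : H2_PFact E Z) :
    H2_PFact E Z' := by
  intro C hC φ
  have := H2_Factors_comp (h C hC (φ ≫ e.inv)) e.hom
  simpa using this

lemma H2_PFact_coprod [HasCoproducts.{v} D] [Nonempty ι] {κ : Type v} (X : κ → D)
    (hX : ∀ k, H2_FinEnv E (X k)) : H2_PFact E (∐ X) := by
  intro C hC φ
  obtain ⟨s, hs⟩ := (H2_compact_iff C).1 hC κ X φ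
  rw [← hs, H2_comp_proj]
  exact H2_Factors_sum s _ (fun k _ => H2_Factors_mid _ _ (hX k))

set_option backward.isDefEq.respectTransparency false in
/-- The class `H2_PFact` is closed under cones. -/
lemma H2_PFact_cone [HasCoproducts.{v} D] (hc : ∀ i, IsCompactObject (E i)) (T : Triangle D)
    (hT : T ∈ distTriang D) (h₂ : H2_PFact E T.obj₂)
    (h₁ : H2_PFact E ((shiftFunctor D (1 : ℤ)).obj T.obj₁)) : H2_PFact E T.obj₃ := by
  intro C hC φ
  obtain ⟨F, a, b, hF, hab⟩ := h₁ C hC (φ ≫ T.mor₃)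
  obtain ⟨C', u, v, hTC⟩ := distinguished_cocone_triangle₁ a
  have hC' : IsCompactObject C' :=
    H2_compact_ext₂ _ (inv_rot_of_distTriang _ hTC)
      (H2_compact_shift (H2_FinEnv_compact hc hF) (-1)) hC
  obtain ⟨ψ, hψ₁, hψ₂⟩ : ∃ ψ : C' ⟶ T.obj₂, u ≫ φ = ψ ≫ T.mor₂ ∧
      v ≫ (shiftFunctor D (1 : ℤ)).map ψ = b ≫ (-(shiftFunctor D (1 : ℤ)).map T.mor₁) :=
    complete_distinguished_triangle_morphism₁ _ _ hTC (rot_of_distTriang _ hT) φ b hab
  obtain ⟨F', c, d, hF', hcd⟩ := h₂ C' hC' ψ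
  obtain ⟨P, p, q, hTP⟩ := distinguished_cocone_triangle₂ (v ≫ (shiftFunctor D (1 : ℤ)).map c)
  have hP : H2_FinEnv E P := H2_FinEnv_ext₂ _ hTP hF' hF
  obtain ⟨g, hg₁, hg₂⟩ : ∃ g : C ⟶ P, u ≫ g = c ≫ p ∧ a ≫ 𝟙 F = g ≫ q :=
    complete_distinguished_triangle_morphism₂ _ _ hTC hTP c (𝟙 F) (by
      show v ≫ (shiftFunctor D (1 : ℤ)).map c = 𝟙 F ≫ (v ≫ (shiftFunctor D (1 : ℤ)).map c)
      rw [Category.id_comp])
  obtain ⟨h, hh₁, hh₂⟩ : ∃ h : P ⟶ T.obj₃, p ≫ h = d ≫ T.mor₂ ∧ q ≫ b = h ≫ T.mor₃ :=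
    complete_distinguished_triangle_morphism₂ _ _ hTP (rot_of_distTriang _ hT) d b (by
      show (v ≫ (shiftFunctor D (1 : ℤ)).map c) ≫ (shiftFunctor D (1 : ℤ)).map d =
        b ≫ (-(shiftFunctor D (1 : ℤ)).map T.mor₁)
      rw [Category.assoc, ← Functor.map_comp, hcd, hψ₂])
  have hzero : u ≫ (g ≫ h - φ) = 0 := by
    rw [Preadditive.comp_sub, reassoc_of% hg₁, hh₁, ← Category.assoc, hcd, hψ₁, sub_self]
  obtain ⟨θ, hθ⟩ : ∃ θ : F ⟶ T.obj₃, g ≫ h - φ = a ≫ θ :=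
    Triangle.yoneda_exact₂ _ hTC _ hzero
  have e : φ = g ≫ h - a ≫ θ := by
    rw [← hθ]
    abel
  rw [e]
  exact H2_Factors_sub (H2_Factors_mid g h hP) (H2_Factors_mid a θ hF)

/-- All stages of a tower built from direct sums of shifts of the `E i` are in `H2_PFact`. -/
lemma H2_PFact_stages {ι : Type v} {E : ι → D} [HasCoproducts.{v} D] [Nonempty ι]
    (hc : ∀ i, IsCompactObject (E i))
    (K : ℕ → D) (f : ∀ n, K n ⟶ K (n + 1))
    (h0 : ∃ (κ : Type v) (a : κ → ι) (m : κ → ℤ),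
      Nonempty (K 0 ≅ ∐ (fun k => (shiftFunctor D (m k)).obj (E (a k)))))
    (hstep : ∀ n, ∃ (κ : Type v) (a : κ → ι) (m : κ → ℤ)
      (y : (∐ fun k => (shiftFunctor D (m k)).obj (E (a k))) ⟶ K n)
      (z : K (n + 1) ⟶ (shiftFunctor D (1 : ℤ)).obj
        (∐ fun k => (shiftFunctor D (m k)).obj (E (a k)))),
      Triangle.mk y (f n) z ∈ distinguishedTriangles) (n : ℕ) : H2_PFact E (K n) := by
  induction n with
  | zero =>
    obtain ⟨κ, a, m, ⟨e⟩⟩ := h0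
    exact H2_PFact_iso e.symm (H2_PFact_coprod _
      (fun k => H2_FinEnv_shift (H2_FinEnv_of_mem (a k)) (m k)))
  | succ n ih =>
    obtain ⟨κ, a, m, y, z, hT⟩ := hstep n
    refine H2_PFact_cone hc (Triangle.mk y (f n) z) hT ih ?_
    let e : (∐ fun k => (shiftFunctor D (1 : ℤ)).obj ((shiftFunctor D (m k)).obj (E (a k)))) ≅
        (shiftFunctor D (1 : ℤ)).obj (∐ fun k => (shiftFunctor D (m k)).obj (E (a k))) :=
      asIso (sigmaComparison (shiftFunctor D (1 : ℤ))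
        (fun k => (shiftFunctor D (m k)).obj (E (a k))))
    exact H2_PFact_iso e (H2_PFact_coprod _
      (fun k => H2_FinEnv_shift (H2_FinEnv_shift (H2_FinEnv_of_mem (a k)) (m k)) 1))

end

section orth
variable {D : Type u} [Category.{v} D] [Preadditive D] [HasZeroObject D] [HasShift D ℤ]
  [∀ n : ℤ, (shiftFunctor D n).Additive] [Pretriangulated D]

/-- The left orthogonal of all shifts of `K`. -/
def H2_LOrth (K : D) : ObjectProperty D :=
  fun X => ∀ (n : ℤ) (α : X ⟶ (shiftFunctor D n).obj K), α = 0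

instance H2_LOrth_retracts (K : D) : (H2_LOrth K).IsStableUnderRetracts where
  of_retract r h n α := by
    have := h n (r.r ≫ α)
    have h2 := congrArg (fun t => r.i ≫ t) this
    simpa using h2

set_option backward.isDefEq.respectTransparency false in
instance H2_LOrth_isTriangulated (K : D) : (H2_LOrth K).IsTriangulated where
  exists_zero := ⟨0, isZero_zero D, fun _ _ => (isZero_zero D).eq_of_src _ _⟩
  isStableUnderShiftBy m := ⟨fun X hX n α => by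
    let adj : shiftFunctor D m ⊣ shiftFunctor D (-m) := (shiftEquiv D m).toAdjunction
    have h1 : adj.homEquiv X _ α ≫ (shiftFunctorAdd' D n (-m) (n + -m) rfl).inv.app K = 0 :=
      hX _ _
    have h2 : adj.homEquiv X _ α = 0 := by
      have := congrArg (fun t => t ≫ (shiftFunctorAdd' D n (-m) (n + -m) rfl).hom.app K) h1
      simpa using this
    apply (adj.homEquiv X _).injective
    rw [h2]
    exact (Adjunction.homAddEquiv_zero adj _ _).symm⟩
  ext₂' T hT h₁ h₃ := by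
    apply ObjectProperty.le_isoClosure
    intro n α
    obtain ⟨β, hβ⟩ := Triangle.yoneda_exact₂ T hT α (h₁ n _)
    rw [hβ, h₃ n β, comp_zero]

end orth

end Groth.Agent.H2
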