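import Mathlib

set_option autoImplicit false

namespace Groth.Agent.H2

open CategoryTheory CategoryTheory.Limits Category ChainComplex HomologicalComplex

universe v u

section

variable {C : Type u} [Category.{v} C] [Abelian C]
  {N : C} (Nc : ChainComplex C ℕ) (εN : Nc ⟶ (ChainComplex.single₀ C).obj N) [QuasiIso εN]

include εN in
lemma H2res_exactAt_succ (n : ℕ) : Nc.ExactAt (n + 1) := by
  rw [← quasiIsoAt_iff_exactAt' εN (n + 1) (exactAt_succ_single_obj _ _)]
  infer_instance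

include εN in
lemma H2res_exact_succ (n : ℕ) :
    (ShortComplex.mk _ _ (Nc.d_comp_d (n + 2) (n + 1) n)).Exact :=
  ((HomologicalComplex.exactAt_iff' _ (n + 2) (n + 1) n) (by simp only [prev]; rfl)
    (by simp)).1 (H2res_exactAt_succ Nc εN n)

lemma H2res_π_f_succ (n : ℕ) : εN.f (n + 1) = 0 :=
  (isZero_single_obj_X _ _ _ _ (by simp)).eq_of_tgt _ _

lemma H2res_d_comp_π : Nc.d 1 0 ≫ εN.f 0 = 0 := by
  rw [← εN.comm 1 0, single_obj_d, comp_zero]

set_option backward.isDefEq.respectTransparency.types false in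
set_option backward.defeqAttrib.useBackward true in
noncomputable def H2res_isColimit :
    IsColimit (CokernelCofork.ofπ _ (H2res_d_comp_π Nc εN)) := by
  refine IsColimit.ofIsoColimit (Nc.opcyclesIsCokernel 1 0 (by simp)) ?_
  refine Cofork.ext (Nc.isoHomologyι₀.symm ≪≫ isoOfQuasiIsoAt εN 0 ≪≫
    singleObjHomologySelfIso _ _ _) ?_
  rw [← cancel_mono (singleObjHomologySelfIso (ComplexShape.down ℕ) 0 _).inv,
    ← cancel_mono (isoHomologyι₀ _).hom]
  dsimp
  simp only [isoHomologyι₀_inv_naturality_assoc, p_opcyclesMap_assoc, single₀_obj_zero, assoc,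
    Iso.hom_inv_id, comp_id, isoHomologyι_inv_hom_id, singleObjHomologySelfIso_inv_homologyι,
    singleObjOpcyclesSelfIso_hom, single₀ObjXSelf, Iso.refl_inv, id_comp]

end

section Lift

variable {C : Type u} [Category.{v} C] [Abelian C]
  {M N : C} (F : ChainComplex C ℕ) [∀ n, Projective (F.X n)]
  (εF : F ⟶ (ChainComplex.single₀ C).obj M)
  (Nc : ChainComplex C ℕ) (εN : Nc ⟶ (ChainComplex.single₀ C).obj N) [QuasiIso εN]
  (g : M ⟶ N)

omit [∀ n, Projective (F.X n)] in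
lemma H2aug_d_comp : F.d 1 0 ≫ εF.f 0 = 0 := by
  rw [← εF.comm 1 0, single_obj_d, comp_zero]

lemma H2res_exact₀ : (ShortComplex.mk _ _ (H2res_d_comp_π Nc εN)).Exact :=
  ShortComplex.exact_of_g_is_cokernel _ (H2res_isColimit Nc εN)

lemma H2res_epi : Epi (εN.f 0) :=
  epi_of_isColimit_cofork (H2res_isColimit Nc εN)

set_option backward.isDefEq.respectTransparency false in
noncomputable def H2liftFZero : F.X 0 ⟶ Nc.X 0 :=
  haveI := H2res_epi Nc εN
  Projective.factorThru (εF.f 0 ≫ g) (εN.f 0)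

set_option backward.isDefEq.respectTransparency false in
lemma H2liftFZero_comp : H2liftFZero F εF Nc εN g ≫ εN.f 0 = εF.f 0 ≫ g := by
  haveI := H2res_epi Nc εN
  exact Projective.factorThru_comp _ _

set_option backward.isDefEq.respectTransparency false in
noncomputable def H2liftFOne : F.X 1 ⟶ Nc.X 1 :=
  (H2res_exact₀ Nc εN).liftFromProjective (F.d 1 0 ≫ H2liftFZero F εF Nc εN g) (by
    dsimp
    rw [assoc, H2liftFZero_comp, ← assoc, H2aug_d_comp F εF, zero_comp])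

set_option backward.isDefEq.respectTransparency false in
lemma H2liftFOne_zero_comm :
    H2liftFOne F εF Nc εN g ≫ Nc.d 1 0 = F.d 1 0 ≫ H2liftFZero F εF Nc εN g := by
  apply (H2res_exact₀ Nc εN).liftFromProjective_comp

include εN in
noncomputable def H2liftFSucc (n : ℕ)
    (g₀ : F.X n ⟶ Nc.X n) (g' : F.X (n + 1) ⟶ Nc.X (n + 1))
    (w : g' ≫ Nc.d (n + 1) n = F.d (n + 1) n ≫ g₀) :
    Σ' g'' : F.X (n + 2) ⟶ Nc.X (n + 2),
      g'' ≫ Nc.d (n + 2) (n + 1) = F.d (n + 2) (n + 1) ≫ g' :=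
  ⟨(H2res_exact_succ Nc εN n).liftFromProjective
    (F.d (n + 2) (n + 1) ≫ g') (by simp [w]),
      (H2res_exact_succ Nc εN n).liftFromProjective_comp _ _⟩

noncomputable def H2lift : F ⟶ Nc :=
  ChainComplex.mkHom _ _ (H2liftFZero F εF Nc εN g) (H2liftFOne F εF Nc εN g)
    (H2liftFOne_zero_comm F εF Nc εN g)
    fun n ⟨g₀, g', w⟩ => ⟨(H2liftFSucc F Nc εN n g₀ g' w).1, (H2liftFSucc F Nc εN n g₀ g' w).2⟩

set_option backward.isDefEq.respectTransparency false in
theorem H2lift_commutes :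
    H2lift F εF Nc εN g ≫ εN = εF ≫ (ChainComplex.single₀ C).map g := by
  ext
  simp [H2lift, H2liftFZero_comp]

variable {F Nc}

set_option backward.isDefEq.respectTransparency false in
noncomputable def H2liftHomotopyZeroZero (f : F ⟶ Nc) (comm : f ≫ εN = 0) : F.X 0 ⟶ Nc.X 1 :=
  (H2res_exact₀ Nc εN).liftFromProjective (f.f 0)
    (congr_fun (congr_arg HomologicalComplex.Hom.f comm) 0)

set_option backward.isDefEq.respectTransparency false in
lemma H2liftHomotopyZeroZero_comp (f : F ⟶ Nc) (comm : f ≫ εN = 0) :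
    H2liftHomotopyZeroZero εN f comm ≫ Nc.d 1 0 = f.f 0 :=
  (H2res_exact₀ Nc εN).liftFromProjective_comp _ _

noncomputable def H2liftHomotopyZeroOne (f : F ⟶ Nc) (comm : f ≫ εN = 0) :
    F.X 1 ⟶ Nc.X 2 :=
  (H2res_exact_succ Nc εN 0).liftFromProjective (f.f 1 - F.d 1 0 ≫ H2liftHomotopyZeroZero εN f comm)
    (by rw [Preadditive.sub_comp, assoc, HomologicalComplex.Hom.comm,
              H2liftHomotopyZeroZero_comp, sub_self])

lemma H2liftHomotopyZeroOne_comp (f : F ⟶ Nc) (comm : f ≫ εN = 0) :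
    H2liftHomotopyZeroOne εN f comm ≫ Nc.d 2 1 =
      f.f 1 - F.d 1 0 ≫ H2liftHomotopyZeroZero εN f comm :=
  (H2res_exact_succ Nc εN 0).liftFromProjective_comp _ _

include εN in
noncomputable def H2liftHomotopyZeroSucc (f : F ⟶ Nc) (n : ℕ) (g₀ : F.X n ⟶ Nc.X (n + 1))
    (g' : F.X (n + 1) ⟶ Nc.X (n + 2))
    (w : f.f (n + 1) = F.d (n + 1) n ≫ g₀ + g' ≫ Nc.d (n + 2) (n + 1)) :
    F.X (n + 2) ⟶ Nc.X (n + 3) :=
  (H2res_exact_succ Nc εN (n + 1)).liftFromProjective (f.f (n + 2) - F.d _ _ ≫ g') (by simp [w])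

lemma H2liftHomotopyZeroSucc_comp (f : F ⟶ Nc) (n : ℕ) (g₀ : F.X n ⟶ Nc.X (n + 1))
    (g' : F.X (n + 1) ⟶ Nc.X (n + 2))
    (w : f.f (n + 1) = F.d (n + 1) n ≫ g₀ + g' ≫ Nc.d (n + 2) (n + 1)) :
    H2liftHomotopyZeroSucc εN f n g₀ g' w ≫ Nc.d (n + 3) (n + 2) =
      f.f (n + 2) - F.d _ _ ≫ g' :=
  (H2res_exact_succ Nc εN (n + 1)).liftFromProjective_comp _ _

noncomputable def H2liftHomotopyZero (f : F ⟶ Nc) (comm : f ≫ εN = 0) : Homotopy f 0 :=
  Homotopy.mkInductive _ (H2liftHomotopyZeroZero εN f comm)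
    (by simp [H2liftHomotopyZeroZero_comp])
    (H2liftHomotopyZeroOne εN f comm) (by simp [H2liftHomotopyZeroOne_comp]) fun n ⟨g₀, g', w⟩ =>
    ⟨H2liftHomotopyZeroSucc εN f n g₀ g' w, by simp [H2liftHomotopyZeroSucc_comp]⟩

noncomputable def H2liftHomotopy (a b : F ⟶ Nc)
    (ha : a ≫ εN = εF ≫ (ChainComplex.single₀ C).map g)
    (hb : b ≫ εN = εF ≫ (ChainComplex.single₀ C).map g) : Homotopy a b :=
  Homotopy.equivSubZero.invFun (H2liftHomotopyZero εN _ (by simp [ha, hb]))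

end Lift

end Groth.Agent.H2
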