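import Mathlib

set_option autoImplicit false
universe u
open AlgebraicGeometry CategoryTheory CategoryTheory.Limits

namespace Groth.Agent.H2

theorem H2_isClosedEmbedding_inl (X Y : Scheme.{u}) :
    Topology.IsClosedEmbedding (coprod.inl : X ⟶ X ⨿ Y) := by
  refine ⟨(coprod.inl : X ⟶ X ⨿ Y).isOpenEmbedding.isEmbedding, ?_⟩
  have h := isCompl_range_inl_inr X Y
  rw [← isOpen_compl_iff, h.compl_eq]
  exact (coprod.inr : Y ⟶ X ⨿ Y).isOpenEmbedding.isOpen_range

theorem H2_isClosedEmbedding_inr (X Y : Scheme.{u}) :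
    Topology.IsClosedEmbedding (coprod.inr : Y ⟶ X ⨿ Y) := by
  refine ⟨(coprod.inr : Y ⟶ X ⨿ Y).isOpenEmbedding.isEmbedding, ?_⟩
  have h := isCompl_range_inl_inr X Y
  rw [← isOpen_compl_iff, h.symm.compl_eq]
  exact (coprod.inl : X ⟶ X ⨿ Y).isOpenEmbedding.isOpen_range

instance H2_quasiCompact_inl (X Y : Scheme.{u}) : QuasiCompact (coprod.inl : X ⟶ X ⨿ Y) :=
  ⟨fun _ _ hU => (H2_isClosedEmbedding_inl X Y).isCompact_preimage hU⟩

instance H2_quasiCompact_inr (X Y : Scheme.{u}) : QuasiCompact (coprod.inr : Y ⟶ X ⨿ Y) :=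
  ⟨fun _ _ hU => (H2_isClosedEmbedding_inr X Y).isCompact_preimage hU⟩

theorem H2_preimage_coprod_desc {X' X'' Y : Scheme.{u}} (f' : X' ⟶ Y) (f'' : X'' ⟶ Y)
    (U : Set Y) :
    (coprod.desc f' f'') ⁻¹' U =
      (coprod.inl : X' ⟶ X' ⨿ X'') '' (f' ⁻¹' U) ∪ (coprod.inr : X'' ⟶ X' ⨿ X'') '' (f'' ⁻¹' U) := by
  have h1 : ∀ a : X', (coprod.desc f' f'') ((coprod.inl : X' ⟶ X' ⨿ X'') a) = f' a := by
    intro a
    rw [← Scheme.Hom.comp_apply, coprod.inl_desc]
  have h2 : ∀ a : X'', (coprod.desc f' f'') ((coprod.inr : X'' ⟶ X' ⨿ X'') a) = f'' a := by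
    intro a
    rw [← Scheme.Hom.comp_apply, coprod.inr_desc]
  ext x
  have hx : x ∈ Set.range (coprod.inl : X' ⟶ X' ⨿ X'') ∪ Set.range (coprod.inr : X'' ⟶ X' ⨿ X'') := by
    have := (isCompl_range_inl_inr X' X'').sup_eq_top
    change _ ∪ _ = Set.univ at this
    rw [this]; trivial
  constructor
  · intro hxU
    rcases hx with ⟨a, rfl⟩ | ⟨a, rfl⟩
    · left
      refine ⟨a, ?_, rfl⟩
      change f' a ∈ U
      rw [← h1]; exact hxU
    · right
      refine ⟨a, ?_, rfl⟩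
      change f'' a ∈ U
      rw [← h2]; exact hxU
  · rintro (⟨a, ha, rfl⟩ | ⟨a, ha, rfl⟩)
    · change (coprod.desc f' f'') _ ∈ U
      rw [h1]; exact ha
    · change (coprod.desc f' f'') _ ∈ U
      rw [h2]; exact ha

theorem H2_quasiCompact_coprod_desc_iff {X' X'' Y : Scheme.{u}} (f' : X' ⟶ Y) (f'' : X'' ⟶ Y) :
    QuasiCompact (coprod.desc f' f'') ↔ QuasiCompact f' ∧ QuasiCompact f'' := by
  constructor
  · intro h
    constructor
    · rw [← coprod.inl_desc f' f'']; infer_instance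
    · rw [← coprod.inr_desc f' f'']; infer_instance
  · rintro ⟨h1, h2⟩
    refine ⟨fun U hU hUc => ?_⟩
    rw [H2_preimage_coprod_desc]
    exact ((h1.1 U hU hUc).image (coprod.inl : X' ⟶ X' ⨿ X'').continuous).union
      ((h2.1 U hU hUc).image (coprod.inr : X'' ⟶ X' ⨿ X'').continuous)

end Groth.Agent.H2

namespace Groth.Agent.H2

theorem H2_isQuasiSeparated_union {T : Type*} [TopologicalSpace T] {s t C : Set T}
    (hC : IsClopen C) (hs : IsQuasiSeparated s) (ht : IsQuasiSeparated t)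
    (hsC : s ⊆ C) (htC : t ⊆ Cᶜ) : IsQuasiSeparated (s ∪ t) := by
  intro V W hV hVo hVc hW hWo hWc
  have e : V ∩ W = ((V ∩ C) ∩ (W ∩ C)) ∪ ((V ∩ Cᶜ) ∩ (W ∩ Cᶜ)) := by
    ext x
    by_cases hx : x ∈ C <;> simp [hx]
  have sub1 : ∀ {V : Set T}, V ⊆ s ∪ t → V ∩ C ⊆ s := by
    intro V hV x hx
    rcases hV hx.1 with h | h
    · exact h
    · exact absurd hx.2 (htC h)
  have sub2 : ∀ {V : Set T}, V ⊆ s ∪ t → V ∩ Cᶜ ⊆ t := by
    intro V hV x hx
    rcases hV hx.1 with h | h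
    · exact absurd (hsC h) hx.2
    · exact h
  rw [e]
  refine (hs _ _ (sub1 hV) (hVo.inter hC.isOpen) (hVc.inter_right hC.isClosed)
    (sub1 hW) (hWo.inter hC.isOpen) (hWc.inter_right hC.isClosed)).union
    (ht _ _ (sub2 hV) (hVo.inter hC.compl.isOpen) (hVc.inter_right hC.compl.isClosed)
    (sub2 hW) (hWo.inter hC.compl.isOpen) (hWc.inter_right hC.compl.isClosed))

theorem H2_quasiSeparated_coprod_desc_iff {X' X'' Y : Scheme.{u}} (f' : X' ⟶ Y) (f'' : X'' ⟶ Y) :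
    QuasiSeparated (coprod.desc f' f'') ↔ QuasiSeparated f' ∧ QuasiSeparated f'' := by
  constructor
  · intro h
    constructor
    · rw [← coprod.inl_desc f' f'']; infer_instance
    · rw [← coprod.inr_desc f' f'']; infer_instance
  · rintro ⟨h1, h2⟩
    rw [HasAffineProperty.eq_targetAffineLocally (P := @QuasiSeparated)]
    intro U
    change QuasiSeparatedSpace ↥((coprod.desc f' f'') ⁻¹ᵁ U.1)
    refine (isQuasiSeparated_iff_quasiSeparatedSpace _ ((coprod.desc f' f'') ⁻¹ᵁ U.1).2).mp ?_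
    change IsQuasiSeparated ((coprod.desc f' f'') ⁻¹' (U.1 : Set Y))
    rw [H2_preimage_coprod_desc]
    have hC : IsClopen (Set.range (coprod.inl : X' ⟶ X' ⨿ X'')) :=
      ⟨(H2_isClosedEmbedding_inl X' X'').isClosed_range,
        (coprod.inl : X' ⟶ X' ⨿ X'').isOpenEmbedding.isOpen_range⟩
    refine H2_isQuasiSeparated_union hC ?_ ?_ (Set.image_subset_range _ _) ?_
    · exact (f'.isQuasiSeparated_preimage U.2.isQuasiSeparated).image_of_isEmbedding
        (coprod.inl : X' ⟶ X' ⨿ X'').isOpenEmbedding.isEmbedding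
    · exact (f''.isQuasiSeparated_preimage U.2.isQuasiSeparated).image_of_isEmbedding
        (coprod.inr : X'' ⟶ X' ⨿ X'').isOpenEmbedding.isEmbedding
    · rw [(isCompl_range_inl_inr X' X'').compl_eq]
      exact Set.image_subset_range _ _

end Groth.Agent.H2
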