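import Mathlib

/-! Coproducts of cochain complexes (explicit model), quasi-isomorphisms under AB4. -/

set_option autoImplicit false
universe w v u
open CategoryTheory CategoryTheory.Limits

namespace Groth.Agent.H2

section SC

variable {A : Type u} [Category.{v} A] [Abelian A] {J : Type w}

/-- The short complex in the functor category attached to a family of short complexes. -/
def H2_famSC (S : J → ShortComplex A) : ShortComplex (Discrete J ⥤ A) :=
  ShortComplex.mk
    (Discrete.natTrans (fun j => (S j.as).f) :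
      Discrete.functor (fun j => (S j).X₁) ⟶ Discrete.functor (fun j => (S j).X₂))
    (Discrete.natTrans (fun j => (S j.as).g) :
      Discrete.functor (fun j => (S j).X₂) ⟶ Discrete.functor (fun j => (S j).X₃))
    (by ext ⟨j⟩; simp)

/-- The morphism of short complexes in the functor category attached to a family. -/
def H2_famSCMap {S' S : J → ShortComplex A} (φ : ∀ j, S' j ⟶ S j) :
    H2_famSC S' ⟶ H2_famSC S where
  τ₁ := Discrete.natTrans (fun j => (φ j.as).τ₁)
  τ₂ := Discrete.natTrans (fun j => (φ j.as).τ₂)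
  τ₃ := Discrete.natTrans (fun j => (φ j.as).τ₃)
  comm₁₂ := by ext ⟨j⟩; simp [H2_famSC, (φ j).comm₁₂]
  comm₂₃ := by ext ⟨j⟩; simp [H2_famSC, (φ j).comm₂₃]

lemma H2_famSCMap_quasiIso {S' S : J → ShortComplex A} (φ : ∀ j, S' j ⟶ S j)
    (h : ∀ j, ShortComplex.QuasiIso (φ j)) : ShortComplex.QuasiIso (H2_famSCMap φ) := by
  have γ : ShortComplex.LeftHomologyMapData (H2_famSCMap φ) (H2_famSC S').leftHomologyData
    (H2_famSC S).leftHomologyData := default
  rw [γ.quasiIso_iff, NatTrans.isIso_iff_isIso_app]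
  intro d
  have h1 := γ.quasiIso_map_iff (F := (evaluation (Discrete J) A).obj d)
  have h2 : ShortComplex.QuasiIso
      (((evaluation (Discrete J) A).obj d).mapShortComplex.map (H2_famSCMap φ)) := h d.as
  exact h1.1 h2

variable [HasColimitsOfShape (Discrete J) A] [HasExactColimitsOfShape (Discrete J) A]

lemma H2_colim_famSCMap_quasiIso {S' S : J → ShortComplex A} (φ : ∀ j, S' j ⟶ S j)
    (h : ∀ j, ShortComplex.QuasiIso (φ j)) :
    ShortComplex.QuasiIso
      ((colim : (Discrete J ⥤ A) ⥤ A).mapShortComplex.map (H2_famSCMap φ)) := by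
  have := H2_famSCMap_quasiIso φ h
  infer_instance

end SC

end Groth.Agent.H2

namespace Groth.Agent.H2

open CochainComplex HomComplex

section Cx

variable {A : Type u} [Category.{v} A] [Abelian A] {J : Type w}
  [HasColimitsOfShape (Discrete J) A]

/-- Explicit coproduct of a family of cochain complexes. -/
noncomputable def H2_sigmaCx (K : J → CochainComplex A ℤ) : CochainComplex A ℤ where
  X n := ∐ fun j => (K j).X n
  d n m := Limits.Sigma.map fun j => (K j).d n m
  shape n m h := by
    apply Limits.Sigma.hom_ext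
    intro j
    simp [(K j).shape n m h]
  d_comp_d' n m k _ _ := by
    apply Limits.Sigma.hom_ext
    intro j
    simp

noncomputable def H2_sigmaCx_ι (K : J → CochainComplex A ℤ) (j : J) : K j ⟶ H2_sigmaCx K where
  f n := Limits.Sigma.ι (fun j => (K j).X n) j
  comm' n m _ := by simp [H2_sigmaCx]

noncomputable def H2_sigmaCx_desc {K : J → CochainComplex A ℤ} {L : CochainComplex A ℤ}
    (g : ∀ j, K j ⟶ L) : H2_sigmaCx K ⟶ L where
  f n := Limits.Sigma.desc fun j => (g j).f n
  comm' n m _ := by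
    apply Limits.Sigma.hom_ext
    intro j
    simp [H2_sigmaCx]

@[reassoc (attr := simp)]
lemma H2_sigmaCx_ι_desc {K : J → CochainComplex A ℤ} {L : CochainComplex A ℤ}
    (g : ∀ j, K j ⟶ L) (j : J) : H2_sigmaCx_ι K j ≫ H2_sigmaCx_desc g = g j := by
  ext n
  exact Limits.Sigma.ι_desc _ _

lemma H2_sigmaCx_hom_ext {K : J → CochainComplex A ℤ} {L : CochainComplex A ℤ}
    {f g : H2_sigmaCx K ⟶ L} (h : ∀ j, H2_sigmaCx_ι K j ≫ f = H2_sigmaCx_ι K j ≫ g) : f = g := by
  ext n
  apply Limits.Sigma.hom_ext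
  intro j
  exact congrArg (fun φ => φ.f n) (h j)

noncomputable def H2_sigmaCx_map {K' K : J → CochainComplex A ℤ} (s : ∀ j, K' j ⟶ K j) :
    H2_sigmaCx K' ⟶ H2_sigmaCx K where
  f n := Limits.Sigma.map fun j => (s j).f n
  comm' n m _ := by
    apply Limits.Sigma.hom_ext
    intro j
    simp [H2_sigmaCx]

@[reassoc (attr := simp)]
lemma H2_sigmaCx_ι_map {K' K : J → CochainComplex A ℤ} (s : ∀ j, K' j ⟶ K j) (j : J) :
    H2_sigmaCx_ι K' j ≫ H2_sigmaCx_map s = s j ≫ H2_sigmaCx_ι K j := by
  ext n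
  exact Limits.Sigma.ι_map (fun j => (s j).f n) j

/-- Cochains out of the coproduct are determined by restrictions. -/
lemma H2_sigmaCx_cochain_ext {K : J → CochainComplex A ℤ} {L : CochainComplex A ℤ} {d : ℤ}
    (x y : Cochain (H2_sigmaCx K) L d)
    (h : ∀ j, (Cochain.ofHom (H2_sigmaCx_ι K j)).comp x (zero_add _) =
      (Cochain.ofHom (H2_sigmaCx_ι K j)).comp y (zero_add _)) : x = y := by
  ext p q hpq
  apply Limits.Sigma.hom_ext
  intro j
  have := Cochain.congr_v (h j) p q hpq
  simp only [Cochain.zero_cochain_comp_v, Cochain.ofHom_v] at this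
  exact this

/-- Assemble a family of cochains. -/
noncomputable def H2_sigmaCx_cochain {K : J → CochainComplex A ℤ} {L : CochainComplex A ℤ}
    {d : ℤ} (a : ∀ j, Cochain (K j) L d) : Cochain (H2_sigmaCx K) L d :=
  Cochain.mk fun p q hpq => Limits.Sigma.desc fun j => (a j).v p q hpq

lemma H2_sigmaCx_ι_cochain {K : J → CochainComplex A ℤ} {L : CochainComplex A ℤ}
    {d : ℤ} (a : ∀ j, Cochain (K j) L d) (j : J) :
    (Cochain.ofHom (H2_sigmaCx_ι K j)).comp (H2_sigmaCx_cochain a) (zero_add _) = a j := by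
  ext p q hpq
  simp only [Cochain.zero_cochain_comp_v, Cochain.ofHom_v]
  exact Limits.Sigma.ι_desc _ _

/-- A morphism out of the coproduct which is null-homotopic on each summand is null-homotopic. -/
lemma H2_sigmaCx_homotopy_zero {K : J → CochainComplex A ℤ} {L : CochainComplex A ℤ}
    (g : H2_sigmaCx K ⟶ L) (h : ∀ j, Nonempty (Homotopy (H2_sigmaCx_ι K j ≫ g) 0)) :
    Nonempty (Homotopy g 0) := by
  have h' : ∀ j, ∃ a : Cochain (K j) L (-1),
      Cochain.ofHom (H2_sigmaCx_ι K j ≫ g) = δ (-1) 0 a := by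
    intro j
    obtain ⟨ho⟩ := h j
    obtain ⟨a, ha⟩ := Cochain.equivHomotopy _ _ ho
    exact ⟨a, by simpa using ha⟩
  choose a ha using h'
  refine ⟨(Cochain.equivHomotopy g 0).symm ⟨H2_sigmaCx_cochain a, ?_⟩⟩
  rw [Cochain.ofHom_zero, add_zero]
  apply H2_sigmaCx_cochain_ext
  intro j
  rw [← δ_ofHom_comp, H2_sigmaCx_ι_cochain, ← ha j, Cochain.ofHom_comp]

variable [HasExactColimitsOfShape (Discrete J) A]

lemma H2_sigmaCx_map_quasiIso {K' K : J → CochainComplex A ℤ} (s : ∀ j, K' j ⟶ K j)
    (hs : ∀ j, QuasiIso (s j)) : QuasiIso (H2_sigmaCx_map s) := by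
  rw [quasiIso_iff]
  intro n
  rw [quasiIsoAt_iff]
  have := H2_colim_famSCMap_quasiIso
    (fun j => (HomologicalComplex.shortComplexFunctor A (ComplexShape.up ℤ) n).map (s j))
    (fun j => by
      have := hs j
      rw [← quasiIsoAt_iff]
      infer_instance)
  exact this

end Cx

end Groth.Agent.H2
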