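import Mathlib
import Groth.Agent.Lib.helper2.SigmaCx

/-! Coproducts in the derived category of an AB4 abelian category. -/

set_option autoImplicit false
universe w' w v u
open CategoryTheory CategoryTheory.Limits DerivedCategory

namespace Groth.Agent.H2

variable {A : Type u} [Category.{v} A] [Abelian A] [HasDerivedCategory.{w'} A]

lemma H2_Q_map_eq_zero {M N : CochainComplex A ℤ} (h : M ⟶ N) (hh : Q.map h = 0) :
    ∃ (M' : CochainComplex A ℤ) (s : M' ⟶ M), QuasiIso s ∧ Nonempty (Homotopy (s ≫ h) 0) := by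
  have h1 : Qh.map ((HomotopyCategory.quotient _ _).map h) = Qh.map 0 := by
    rw [Functor.map_zero]
    exact hh
  rw [MorphismProperty.map_eq_iff_precomp Qh
    (HomotopyCategory.quasiIso A (ComplexShape.up ℤ))] at h1
  obtain ⟨X, s, hs, fac⟩ := h1
  obtain ⟨M', rfl⟩ := HomotopyCategory.quotient_obj_surjective X
  obtain ⟨s, rfl⟩ := (HomotopyCategory.quotient _ _).map_surjective s
  rw [HomotopyCategory.quotient_map_mem_quasiIso_iff] at hs
  refine ⟨M', s, hs, ?_⟩
  rw [← HomotopyCategory.quotient_map_eq_zero_iff, Functor.map_comp, fac, Limits.comp_zero]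

variable {J : Type w} [HasColimitsOfShape (Discrete J) A]
  [HasExactColimitsOfShape (Discrete J) A]

lemma H2_Q_sigmaCx_exists (K : J → CochainComplex A ℤ) {Y : DerivedCategory A}
    (φ : ∀ j, Q.obj (K j) ⟶ Y) :
    ∃ d : Q.obj (H2_sigmaCx K) ⟶ Y, ∀ j, Q.map (H2_sigmaCx_ι K j) ≫ d = φ j := by
  obtain ⟨L, ⟨e⟩⟩ : ∃ L : CochainComplex A ℤ, Nonempty (Q.obj L ≅ Y) :=
    ⟨_, ⟨Q.objObjPreimageIso Y⟩⟩
  choose K' s hs g' hg using fun j => right_fac (φ j ≫ e.inv)
  have hqs : ∀ j, QuasiIso (s j) := fun j => (isIso_Q_map_iff_quasiIso A (s j)).1 (hs j)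
  have hq : QuasiIso (H2_sigmaCx_map s) := H2_sigmaCx_map_quasiIso s hqs
  have : IsIso (Q.map (H2_sigmaCx_map s)) := (isIso_Q_map_iff_quasiIso A _).2 hq
  refine ⟨inv (Q.map (H2_sigmaCx_map s)) ≫ Q.map (H2_sigmaCx_desc g') ≫ e.hom, fun j => ?_⟩
  have := hs j
  have h1 : Q.map (H2_sigmaCx_ι K j) ≫ inv (Q.map (H2_sigmaCx_map s)) =
      inv (Q.map (s j)) ≫ Q.map (H2_sigmaCx_ι K' j) := by
    rw [IsIso.comp_inv_eq, Category.assoc, IsIso.eq_inv_comp, ← Functor.map_comp,
      ← Functor.map_comp, H2_sigmaCx_ι_map]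
  rw [reassoc_of% h1, ← Functor.map_comp_assoc, H2_sigmaCx_ι_desc, ← Category.assoc, ← hg j,
    Category.assoc, Iso.inv_hom_id, Category.comp_id]

lemma H2_Q_sigmaCx_eq_zero (K : J → CochainComplex A ℤ) {Y : DerivedCategory A}
    (m : Q.obj (H2_sigmaCx K) ⟶ Y) (hm : ∀ j, Q.map (H2_sigmaCx_ι K j) ≫ m = 0) : m = 0 := by
  obtain ⟨L, ⟨e⟩⟩ : ∃ L : CochainComplex A ℤ, Nonempty (Q.obj L ≅ Y) :=
    ⟨_, ⟨Q.objObjPreimageIso Y⟩⟩
  obtain ⟨L', g, t, ht, hg⟩ := left_fac (m ≫ e.inv)
  have h0 : ∀ j, Q.map (H2_sigmaCx_ι K j ≫ g) = 0 := by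
    intro j
    have : Q.map g = (m ≫ e.inv) ≫ Q.map t := by
      rw [hg, Category.assoc, IsIso.inv_hom_id, Category.comp_id]
    rw [Functor.map_comp, this, ← Category.assoc, ← Category.assoc, hm j, Limits.zero_comp,
      Limits.zero_comp]
  choose K' s hs hh using fun j => H2_Q_map_eq_zero _ (h0 j)
  have hq : QuasiIso (H2_sigmaCx_map s) := H2_sigmaCx_map_quasiIso s hs
  have : IsIso (Q.map (H2_sigmaCx_map s)) := (isIso_Q_map_iff_quasiIso A _).2 hq
  have h1 : Nonempty (Homotopy (H2_sigmaCx_map s ≫ g) 0) := by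
    apply H2_sigmaCx_homotopy_zero
    intro j
    rw [H2_sigmaCx_ι_map_assoc]
    exact hh j
  obtain ⟨ho⟩ := h1
  have h2 : Q.map (H2_sigmaCx_map s) ≫ Q.map g = 0 := by
    rw [← Functor.map_comp, Q_map_eq_of_homotopy A ho, Functor.map_zero]
  have h3 : Q.map g = 0 := by
    rw [← cancel_epi (Q.map (H2_sigmaCx_map s)), h2, Limits.comp_zero]
  have h4 : m ≫ e.inv = 0 := by rw [hg, h3, Limits.zero_comp]
  rw [← cancel_mono e.inv, h4, Limits.zero_comp]

/-- `Q` of the explicit coproduct complex is a coproduct in the derived category. -/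
noncomputable def H2_Q_sigmaCx_isColimit (K : J → CochainComplex A ℤ) :
    IsColimit (Cofan.mk (Q.obj (H2_sigmaCx K)) (fun j => Q.map (H2_sigmaCx_ι K j))) :=
  Cofan.IsColimit.mk _
    (fun t => (H2_Q_sigmaCx_exists K (fun j => t.inj j)).choose)
    (fun t j => (H2_Q_sigmaCx_exists K (fun j => t.inj j)).choose_spec j)
    (fun t m hm => by
      rw [← sub_eq_zero]
      apply H2_Q_sigmaCx_eq_zero K
      intro j
      rw [Preadditive.comp_sub, sub_eq_zero]
      exact (hm j).trans ((H2_Q_sigmaCx_exists K (fun j => t.inj j)).choose_spec j).symm)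

/-- The explicit coproduct complex is a coproduct in the category of complexes. -/
noncomputable def H2_sigmaCx_isColimit (K : J → CochainComplex A ℤ) :
    IsColimit (Cofan.mk (H2_sigmaCx K) (H2_sigmaCx_ι K)) :=
  Cofan.IsColimit.mk _ (fun t => H2_sigmaCx_desc (fun j => t.inj j))
    (fun t j => H2_sigmaCx_ι_desc _ j)
    (fun t m hm => H2_sigmaCx_hom_ext (fun j => by
      rw [H2_sigmaCx_ι_desc]
      exact hm j))

/-- `Q` preserves coproducts (of shape `J`, under AB4 for `J`). -/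
lemma H2_Q_preservesCoproduct (K : J → CochainComplex A ℤ) :
    PreservesColimit (Discrete.functor K) (Q : CochainComplex A ℤ ⥤ DerivedCategory A) :=
  preservesColimit_of_preserves_colimit_cocone (H2_sigmaCx_isColimit K)
    ((isColimitMapCoconeCofanMkEquiv _ _ _).symm (H2_Q_sigmaCx_isColimit K))

lemma H2_hasCoproduct_derivedCategory (X : J → DerivedCategory A) : HasCoproduct X := by
  let K : J → CochainComplex A ℤ := fun j => Q.objPreimage (X j)
  have : HasCoproduct (fun j => Q.obj (K j)) := ⟨⟨⟨_, H2_Q_sigmaCx_isColimit K⟩⟩⟩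
  exact hasColimit_of_iso (F := Discrete.functor (fun j => Q.obj (K j)))
    (Discrete.natIso (fun j => (Q.objObjPreimageIso (X j.as)).symm))

lemma H2_hasCoproductsOfShape_derivedCategory :
    HasColimitsOfShape (Discrete J) (DerivedCategory A) :=
  ⟨fun F => by
    have := H2_hasCoproduct_derivedCategory (A := A) (F.obj ∘ Discrete.mk)
    exact hasColimit_of_iso Discrete.natIsoFunctor⟩

end Groth.Agent.H2
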