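import Mathlib

/-! Products of K-injective complexes and products in the derived category. -/

set_option autoImplicit false
universe w' w v u
open CategoryTheory CategoryTheory.Limits DerivedCategory

namespace Groth.Agent.H2

open CochainComplex HomComplex

section
variable {A : Type u} [Category.{v} A] [Abelian A] {T : Type w}

/-- A morphism to a product of complexes all of whose components are null-homotopic is
null-homotopic. -/
lemma H2_homotopy_zero_of_pi (I : T → CochainComplex A ℤ) [HasProduct I]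
    {K : CochainComplex A ℤ} (f : K ⟶ ∏ᶜ I)
    (hcomp : ∀ t, Nonempty (Homotopy (f ≫ Pi.π I t) 0)) : Nonempty (Homotopy f 0) := by
  let α : ∀ t, Cochain K (I t) (-1) := fun t => Cochain.ofHomotopy (hcomp t).some
  have hα : ∀ t, δ (-1) 0 (α t) = Cochain.ofHom (𝟙 K ≫ (f ≫ Pi.π I t)) := by
    intro t
    have := ((Cochain.equivHomotopy _ _) (hcomp t).some).2
    simp only [Cochain.equivHomotopy_apply_coe, Cochain.ofHom_zero, add_zero] at this
    rw [Category.id_comp]
    exact this.symm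
  let g : ∀ t, mappingCone (𝟙 K) ⟶ I t := fun t =>
    mappingCone.desc (𝟙 K) (α t) (f ≫ Pi.π I t) (hα t)
  let G : mappingCone (𝟙 K) ⟶ ∏ᶜ I := Pi.lift g
  have hG : mappingCone.inr (𝟙 K) ≫ G = f := by
    apply Pi.hom_ext
    intro t
    simp only [G, Category.assoc, Pi.lift_π, g, mappingCone.inr_desc]
  let β : Cochain K (∏ᶜ I) (-1) := (mappingCone.inl (𝟙 K)).comp (Cochain.ofHom G) (add_zero _)
  have hβ : Cochain.ofHom f = δ (-1) 0 β + Cochain.ofHom (0 : K ⟶ ∏ᶜ I) := by
    simp only [β, δ_comp_ofHom, mappingCone.δ_inl, Category.id_comp, Cochain.ofHom_zero, add_zero,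
      ← Cochain.ofHom_comp, hG]
  exact ⟨(Cochain.equivHomotopy f 0).symm ⟨β, hβ⟩⟩

lemma H2_isKInjective_pi (I : T → CochainComplex A ℤ) [HasProduct I]
    (h : ∀ t, (I t).IsKInjective) : (∏ᶜ I).IsKInjective :=
  ⟨fun f hK => H2_homotopy_zero_of_pi I f (fun t => (h t).nonempty_homotopy_zero _ hK)⟩

variable [HasDerivedCategory.{w'} A]

/-- Maps in the derived category to a K-injective complex are represented by chain maps. -/
lemma H2_exists_Q_map_of_isKInjective (X L : CochainComplex A ℤ) [L.IsKInjective]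
    (φ : Q.obj X ⟶ Q.obj L) : ∃ g : X ⟶ L, Q.map g = φ := by
  obtain ⟨g', hg'⟩ := (CochainComplex.IsKInjective.Qh_map_bijective
    ((HomotopyCategory.quotient _ _).obj X) L).2 φ
  obtain ⟨g, rfl⟩ := (HomotopyCategory.quotient _ _).map_surjective g'
  exact ⟨g, hg'⟩

lemma H2_homotopy_zero_of_Q_map_eq_zero (X L : CochainComplex A ℤ) [L.IsKInjective]
    (g : X ⟶ L) (hg : Q.map g = 0) : Nonempty (Homotopy g 0) := by
  rw [← HomotopyCategory.quotient_map_eq_zero_iff]
  apply (CochainComplex.IsKInjective.Qh_map_bijective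
    ((HomotopyCategory.quotient _ _).obj X) L).1
  rw [Functor.map_zero]
  exact hg

/-- `Q` of a product of K-injective complexes is a product in the derived category. -/
noncomputable def H2_Q_pi_isLimit (I : T → CochainComplex A ℤ) [HasProduct I]
    (h : ∀ t, (I t).IsKInjective) :
    IsLimit (Fan.mk (Q.obj (∏ᶜ I)) (fun t => Q.map (Pi.π I t))) := by
  haveI := H2_isKInjective_pi I h
  have hex : ∀ (Y : DerivedCategory A) (φ : ∀ t, Y ⟶ Q.obj (I t)),
      ∃ d : Y ⟶ Q.obj (∏ᶜ I), ∀ t, d ≫ Q.map (Pi.π I t) = φ t := by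
    intro Y φ
    obtain ⟨X, ⟨e⟩⟩ : ∃ X : CochainComplex A ℤ, Nonempty (Q.obj X ≅ Y) :=
      ⟨_, ⟨Q.objObjPreimageIso Y⟩⟩
    have := fun t => (haveI := h t; H2_exists_Q_map_of_isKInjective X (I t) (e.hom ≫ φ t))
    choose g hg using this
    refine ⟨e.inv ≫ Q.map (Pi.lift g), fun t => ?_⟩
    rw [Category.assoc, ← Functor.map_comp, Pi.lift_π, hg, Iso.inv_hom_id_assoc]
  have hun : ∀ (Y : DerivedCategory A) (ψ : Y ⟶ Q.obj (∏ᶜ I)),
      (∀ t, ψ ≫ Q.map (Pi.π I t) = 0) → ψ = 0 := by
    intro Y ψ hψ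
    obtain ⟨X, ⟨e⟩⟩ : ∃ X : CochainComplex A ℤ, Nonempty (Q.obj X ≅ Y) :=
      ⟨_, ⟨Q.objObjPreimageIso Y⟩⟩
    obtain ⟨g, hg⟩ := H2_exists_Q_map_of_isKInjective X (∏ᶜ I) (e.hom ≫ ψ)
    have h1 : Nonempty (Homotopy g 0) := by
      apply H2_homotopy_zero_of_pi
      intro t
      haveI := h t
      apply H2_homotopy_zero_of_Q_map_eq_zero
      rw [Functor.map_comp, hg, Category.assoc, hψ t, comp_zero]
    obtain ⟨ho⟩ := h1
    have h2 : e.hom ≫ ψ = 0 := by
      rw [← hg, Q_map_eq_of_homotopy A ho, Functor.map_zero]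
    rw [← cancel_epi e.hom, h2, comp_zero]
  exact Fan.IsLimit.mk _ (fun t => (hex t.pt (fun j => t.proj j)).choose)
    (fun t j => (hex t.pt (fun j => t.proj j)).choose_spec j)
    (fun t m hm => by
      rw [← sub_eq_zero]
      apply hun
      intro j
      rw [Preadditive.sub_comp, sub_eq_zero]
      exact (hm j).trans ((hex t.pt (fun j => t.proj j)).choose_spec j).symm)

end

end Groth.Agent.H2

namespace Groth.Agent.H2

section
variable {A : Type u} [Category.{v} A] [Abelian A] [HasDerivedCategory.{w'} A] {T : Type w}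

/-- A bounded below object of the derived category is represented by a K-injective complex
(when there are enough injectives). -/
lemma H2_exists_iso_Q_obj_kInjective [EnoughInjectives A] (X : DerivedCategory A)
    (hX : ∃ a : ℤ, X.IsGE a) :
    ∃ (L : CochainComplex A ℤ), L.IsKInjective ∧ Nonempty (X ≅ Q.obj L) := by
  obtain ⟨a, ha⟩ := hX
  obtain ⟨X', hX', ⟨e⟩⟩ := X.exists_iso_Q_obj_of_isGE a
  obtain ⟨L, i, hi, hL, hL'⟩ :=
    CochainComplex.Plus.modelCategoryQuillen.exists_quasiIso_injective X' a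
  haveI : IsIso (Q.map i) := (isIso_Q_map_iff_quasiIso A i).2 hi
  exact ⟨L, CochainComplex.isKInjective_of_injective L a, ⟨e ≪≫ asIso (Q.map i)⟩⟩

lemma H2_hasProduct_of_isGE [EnoughInjectives A] [HasLimitsOfShape (Discrete T) A]
    (K : T → DerivedCategory A) (hK : ∀ t, ∃ a : ℤ, (K t).IsGE a) : HasProduct K := by
  choose I hI e using fun t => H2_exists_iso_Q_obj_kInjective (K t) (hK t)
  haveI : HasProduct (fun t => Q.obj (I t)) := ⟨⟨⟨_, H2_Q_pi_isLimit I hI⟩⟩⟩
  exact hasLimit_of_iso (F := Discrete.functor (fun t => Q.obj (I t)))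
    (Discrete.natIso (fun t => (e t.as).some.symm))

end

end Groth.Agent.H2
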