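import Mathlib
import Groth.Prelude.Def_CohDer
import Groth.Prelude.Def_DerLim
import Groth.Agent.Lib.helper2.Compact
import Groth.Agent.Lib.helper2.SeqColim
import Groth.Agent.Lib.helper2.HocolimCompact

/-! Countable compactness and maps to homotopy colimits (no global coproduct hypotheses). -/

set_option autoImplicit false
universe w v u
open CategoryTheory CategoryTheory.Limits CohDer DerLim

namespace Groth.Agent.H2

section pre
variable {D : Type u} [Category.{v} D] [Preadditive D]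

/-- Countable compactness: maps into `ℕ`-indexed coproducts have finite support. -/
def H2_NatCompact (C : D) : Prop :=
  ∀ (K : ℕ → D) [HasCoproduct K] (φ : C ⟶ ∐ K), ∃ s : Finset ℕ, φ ≫ H2_proj K s = φ

lemma H2_proj_π_not_mem {ι : Type w} (X : ι → D) [HasCoproduct X] {s : Finset ι} {i : ι}
    (h : i ∉ s) : H2_proj X s ≫ H2_π X i = 0 := by
  apply Sigma.hom_ext
  intro j
  rw [comp_zero]
  by_cases hj : j ∈ s
  · rw [reassoc_of% (H2_ι_proj_mem X hj)]
    have : j ≠ i := fun e => h (e ▸ hj)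
    rw [H2_ι_π_ne X this]
  · rw [reassoc_of% (H2_ι_proj_not_mem X hj), zero_comp]

/-- Transport of finite support along the reindexing `ULift ℕ ≃ ℕ`. -/
lemma H2_natCompact_of_ulift {C : D}
    (hC : ∀ (E : ℕ → D) [HasCoproduct fun i : ULift.{v} ℕ => E i.down],
      Function.Bijective (homSumToHomCoprod C (fun i : ULift.{v} ℕ => E i.down))) :
    H2_NatCompact C := by
  classical
  intro K _ φ
  let ε : ULift.{v} ℕ ≃ ℕ := Equiv.ulift
  haveI : HasCoproduct (fun i : ULift.{v} ℕ => K i.down) :=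
    hasCoproduct_of_equiv_of_iso K _ ε (fun _ => Iso.refl _)
  haveI : HasCoproduct (K ∘ ε) := ‹HasCoproduct (fun i : ULift.{v} ℕ => K i.down)›
  let r := Sigma.reindex ε K
  obtain ⟨x, hx⟩ := (hC K).2 (φ ≫ r.inv)
  obtain ⟨s', hs'⟩ := H2_homSum_exists_proj C (fun i : ULift.{v} ℕ => K i.down) x
  rw [hx] at hs'
  have hs'' : (φ ≫ r.inv) ≫ H2_proj (K ∘ ε) s' = φ ≫ r.inv := hs'
  refine ⟨s'.image ε, ?_⟩
  have key : H2_proj (K ∘ ε) s' ≫ r.hom = r.hom ≫ H2_proj K (s'.image ε) := by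
    apply Sigma.hom_ext
    intro b
    rw [Sigma.ι_reindex_hom_assoc]
    by_cases hb : b ∈ s'
    · rw [reassoc_of% (H2_ι_proj_mem (K ∘ ε) hb), Sigma.ι_reindex_hom,
        H2_ι_proj_mem K (Finset.mem_image_of_mem ε hb)]
    · have hb' : ε b ∉ s'.image ε := by
        intro h
        obtain ⟨b', hb', e⟩ := Finset.mem_image.1 h
        exact hb (ε.injective e ▸ hb')
      rw [reassoc_of% (H2_ι_proj_not_mem (K ∘ ε) hb), zero_comp, H2_ι_proj_not_mem K hb']
  have h1 := congrArg (fun t => t ≫ r.hom) hs''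
  simp only [Category.assoc, Iso.inv_hom_id, Category.comp_id] at h1
  rw [key, Iso.inv_hom_id_assoc] at h1
  exact h1

lemma H2_NatCompact.eq_zero_of_comp_one_sub_shift {C : D} (hC : H2_NatCompact C)
    (K : ℕ → D) (f : ∀ n, K n ⟶ K (n + 1)) [HasCoproduct K] (k : C ⟶ ∐ K)
    (hk : k ≫ (𝟙 (∐ K) - shiftMap K f) = 0) : k = 0 := by
  obtain ⟨s, hs⟩ := hC K k
  rw [← hs, H2_comp_proj]
  apply Finset.sum_eq_zero
  intro n _
  rw [H2_π_eq, H2_comp_π_eq_zero K f k hk n, zero_comp]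

/-- The kernel of `p` (for `p` a weak cokernel of `1 - shift`) seen from a countably compact
object: a map to a stage that dies in the colimit dies at a finite stage. -/
lemma H2_NatCompact.stage_eq_zero {C : D} (hC : H2_NatCompact C)
    (K : ℕ → D) (f : ∀ n, K n ⟶ K (n + 1)) [HasCoproduct K]
    (F : ∀ n m : ℕ, n ≤ m → (K n ⟶ K m)) (hF0 : ∀ n, F n n le_rfl = 𝟙 _)
    (hF1 : ∀ (n m : ℕ) (h : n ≤ m), F n (m + 1) (h.trans (Nat.le_succ m)) = F n m h ≫ f m)
    (n : ℕ) (y : C ⟶ K n) (z : C ⟶ ∐ K)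
    (hz : y ≫ Sigma.ι K n = z ≫ (𝟙 (∐ K) - shiftMap K f)) :
    ∃ (m : ℕ) (h : n ≤ m), y ≫ F n m h = 0 := by
  classical
  obtain ⟨s, hs⟩ := hC K z
  have e0 : y ≫ Sigma.ι K n ≫ Sigma.π K 0 = z ≫ Sigma.π K 0 := by
    rw [← Category.assoc, hz, Category.assoc, Preadditive.sub_comp, Category.id_comp,
      H2_shiftMap_π_zero, sub_zero]
  have e1 : ∀ i, y ≫ Sigma.ι K n ≫ Sigma.π K (i + 1) =
      z ≫ Sigma.π K (i + 1) - (z ≫ Sigma.π K i) ≫ f i := by
    intro i
    rw [← Category.assoc, hz, Category.assoc, Preadditive.sub_comp, Category.id_comp,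
      H2_shiftMap_π_succ, Preadditive.comp_sub, Category.assoc]
  -- components below n vanish
  have hA : ∀ i, i < n → z ≫ Sigma.π K i = 0 := by
    intro i
    induction i with
    | zero =>
      intro h
      rw [← e0, Sigma.ι_π_of_ne K (by omega : n ≠ 0), comp_zero]
    | succ i ih =>
      intro h
      have := e1 i
      rw [Sigma.ι_π_of_ne K (by omega : n ≠ i + 1), comp_zero, ih (by omega), zero_comp,
        sub_zero] at this
      exact this.symm
  have hB : z ≫ Sigma.π K n = y := by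
    cases n with
    | zero =>
      rw [← e0, Sigma.ι_π_eq_id, Category.comp_id]
    | succ k =>
      have := e1 k
      rw [Sigma.ι_π_eq_id, Category.comp_id, hA k (by omega), zero_comp, sub_zero] at this
      exact this.symm
  have hCm : ∀ (m : ℕ) (h : n ≤ m), z ≫ Sigma.π K m = y ≫ F n m h := by
    intro m h
    induction m, h using Nat.le_induction with
    | base => rw [hB, hF0, Category.comp_id]
    | succ m h ih =>
      have := e1 m
      rw [Sigma.ι_π_of_ne K (by omega : n ≠ m + 1), comp_zero, ih] at this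
      rw [hF1 n m h, ← Category.assoc]
      exact (sub_eq_zero.1 this.symm)
  refine ⟨max n (s.sup id + 1), le_max_left _ _, ?_⟩
  rw [← hCm]
  have hm : max n (s.sup id + 1) ∉ s := by
    intro h
    have : max n (s.sup id + 1) ≤ s.sup id := Finset.le_sup (f := id) h
    have := le_max_right n (s.sup id + 1)
    omega
  rw [← hs, Category.assoc, ← H2_π_eq, H2_proj_π_not_mem K hm, comp_zero]

end pre

section tri
variable {D : Type u} [Category.{v} D] [Preadditive D] [HasZeroObject D] [HasShift D ℤ]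
  [∀ n : ℤ, (shiftFunctor D n).Additive] [Pretriangulated D]

open Pretriangulated

lemma H2_NatCompact.eq_zero_of_comp_one_sub_shift' {C : D} (hC : H2_NatCompact C)
    (K : ℕ → D) (f : ∀ n, K n ⟶ K (n + 1)) [HasCoproduct K]
    (h : C ⟶ (shiftFunctor D (1 : ℤ)).obj (∐ K))
    (hh : h ≫ (shiftFunctor D (1 : ℤ)).map (𝟙 (∐ K) - shiftMap K f) = 0) : h = 0 := by
  haveI : PreservesColimit (Discrete.functor K) (shiftFunctor D (1 : ℤ)) := inferInstance
  haveI : HasCoproduct (fun n => (shiftFunctor D (1 : ℤ)).obj (K n)) :=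
    ⟨⟨⟨_, isColimitOfHasCoproductOfPreservesColimit (shiftFunctor D (1 : ℤ)) K⟩⟩⟩
  have hσ := H2_sigmaComparison_shift (shiftFunctor D (1 : ℤ)) K f
  have h1 : h ≫ inv (sigmaComparison (shiftFunctor D (1 : ℤ)) K) = 0 := by
    apply hC.eq_zero_of_comp_one_sub_shift (fun n => (shiftFunctor D (1 : ℤ)).obj (K n))
      (fun n => (shiftFunctor D (1 : ℤ)).map (f n))
    have h2 : inv (sigmaComparison (shiftFunctor D (1 : ℤ)) K) ≫
        (𝟙 _ - shiftMap (fun n => (shiftFunctor D (1 : ℤ)).obj (K n))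
          (fun n => (shiftFunctor D (1 : ℤ)).map (f n))) =
        (shiftFunctor D (1 : ℤ)).map (𝟙 (∐ K) - shiftMap K f) ≫
          inv (sigmaComparison (shiftFunctor D (1 : ℤ)) K) := by
      rw [IsIso.inv_comp_eq, ← Category.assoc, hσ, Category.assoc, IsIso.hom_inv_id,
        Category.comp_id]
    rw [Category.assoc, h2, ← Category.assoc, hh, zero_comp]
  have := congrArg (fun t => t ≫ sigmaComparison (shiftFunctor D (1 : ℤ)) K) h1
  simpa using this

lemma H2_NatCompact.hocolim_factor {C : D} (hC : H2_NatCompact C)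
    (K : ℕ → D) (f : ∀ n, K n ⟶ K (n + 1)) [HasCoproduct K] {L : D}
    (p : (∐ K) ⟶ L) (c : L ⟶ (shiftFunctor D (1 : ℤ)).obj (∐ K))
    (hT : Triangle.mk (𝟙 (∐ K) - shiftMap K f) p c ∈ distTriang D) (g : C ⟶ L) :
    ∃ (N : ℕ) (a : C ⟶ K N), g = a ≫ Sigma.ι K N ≫ p := by
  have hp : (𝟙 (∐ K) - shiftMap K f) ≫ p = 0 := comp_distTriang_mor_zero₁₂ _ hT
  have hgc : g ≫ c = 0 := by
    apply hC.eq_zero_of_comp_one_sub_shift' K f
    have z : c ≫ (shiftFunctor D (1 : ℤ)).map (𝟙 (∐ K) - shiftMap K f) = 0 :=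
      comp_distTriang_mor_zero₃₁ _ hT
    rw [Category.assoc, z, comp_zero]
  obtain ⟨g', hg'⟩ : ∃ g' : C ⟶ ∐ K, g = g' ≫ p := Triangle.coyoneda_exact₃ _ hT g hgc
  obtain ⟨t, ht⟩ := hC K g'
  have hsub : t ⊆ Finset.range (t.sup id + 1) := by
    intro n hn
    rw [Finset.mem_range]
    exact Nat.lt_succ_of_le (Finset.le_sup (f := id) hn)
  obtain ⟨a, ha⟩ := H2_push_stage K f p hp (t.sup id + 1) g' (by
    rw [← ht, Category.assoc, H2_proj_proj K hsub])
  exact ⟨_, a, hg'.trans ha⟩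

lemma H2_NatCompact.hocolim_stage_eq_zero {C : D} (hC : H2_NatCompact C)
    (K : ℕ → D) (f : ∀ n, K n ⟶ K (n + 1)) [HasCoproduct K] {L : D}
    (p : (∐ K) ⟶ L) (c : L ⟶ (shiftFunctor D (1 : ℤ)).obj (∐ K))
    (hT : Triangle.mk (𝟙 (∐ K) - shiftMap K f) p c ∈ distTriang D)
    (F : ∀ n m : ℕ, n ≤ m → (K n ⟶ K m)) (hF0 : ∀ n, F n n le_rfl = 𝟙 _)
    (hF1 : ∀ (n m : ℕ) (h : n ≤ m), F n (m + 1) (h.trans (Nat.le_succ m)) = F n m h ≫ f m)
    (n : ℕ) (y : C ⟶ K n) (hy : y ≫ Sigma.ι K n ≫ p = 0) :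
    ∃ (m : ℕ) (h : n ≤ m), y ≫ F n m h = 0 := by
  obtain ⟨z, hz⟩ : ∃ z : C ⟶ ∐ K, y ≫ Sigma.ι K n = z ≫ (𝟙 (∐ K) - shiftMap K f) :=
    Triangle.coyoneda_exact₂ _ hT (y ≫ Sigma.ι K n) ((Category.assoc _ _ _).trans hy)
  exact hC.stage_eq_zero K f F hF0 hF1 n y z hz

end tri

end Groth.Agent.H2
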