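import Mathlib
import Groth.Prelude.Def_CohDer
import Groth.Prelude.Def_DerLim
import Groth.Agent.Lib.helper2.HocolimN
import Groth.Agent.Lib.helper2.DCoprod
import Groth.Agent.S0985

/-! Maps from countably compact objects of `D(A)` to sequential colimits of complexes. -/

set_option autoImplicit false
universe w v u
open CategoryTheory CategoryTheory.Limits CohDer DerLim DerivedCategory

namespace Groth.Agent.H2

variable {A : Type u} [Category.{v} A] [Abelian A] [HasDerivedCategory.{w} A]
  [HasColimitsOfShape ℕ A] [HasExactColimitsOfShape ℕ A]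
  [HasColimitsOfShape (Discrete ℕ) A] [HasExactColimitsOfShape (Discrete ℕ) A]

theorem H2_natCompact_seqColim {C : DerivedCategory A} (hC : H2_NatCompact C)
    (L : ℕ ⥤ CochainComplex A ℤ) (c : Cocone L) (hc : IsColimit c) :
    (∀ x : C ⟶ Q.obj c.pt, ∃ (n : ℕ) (y : C ⟶ Q.obj (L.obj n)),
        y ≫ Q.map (c.ι.app n) = x) ∧
      (∀ (n : ℕ) (y : C ⟶ Q.obj (L.obj n)), y ≫ Q.map (c.ι.app n) = 0 →
        ∃ (m : ℕ) (h : n ≤ m), y ≫ Q.map (L.map (homOfLE h)) = 0) := by
  haveI : PreservesColimit (Discrete.functor L.obj)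
      (Q : CochainComplex A ℤ ⥤ DerivedCategory A) := H2_Q_preservesCoproduct L.obj
  haveI : HasCoproduct (fun n => Q.obj (L.obj n)) :=
    ⟨⟨⟨_, isColimitOfHasCoproductOfPreservesColimit Q L.obj⟩⟩⟩
  obtain ⟨δ, hT⟩ := Groth.Agent.S0985.result L
  let e : c.pt ≅ colimit L := IsColimit.coconePointUniqueUpToIso hc (colimit.isColimit L)
  have he : ∀ n, c.ι.app n ≫ e.hom = colimit.ι L n := fun n =>
    IsColimit.comp_coconePointUniqueUpToIso_hom hc (colimit.isColimit L) n
  constructor
  · intro x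
    obtain ⟨N, a, ha⟩ := hC.hocolim_factor (fun n => Q.obj (L.obj n))
      (fun n => Q.map (L.map (homOfLE (Nat.le_succ n)))) _ δ hT (x ≫ Q.map e.hom)
    refine ⟨N, a, ?_⟩
    rw [Sigma.ι_desc, ← he N, Functor.map_comp, ← Category.assoc] at ha
    exact ((cancel_mono (Q.map e.hom)).1 ha).symm
  · intro n y hy
    refine hC.hocolim_stage_eq_zero (fun n => Q.obj (L.obj n))
      (fun n => Q.map (L.map (homOfLE (Nat.le_succ n)))) _ δ hT
      (fun n m h => Q.map (L.map (homOfLE h))) ?_ ?_ n y ?_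
    · intro n
      rw [show (homOfLE (le_refl n)) = 𝟙 n from Subsingleton.elim _ _, L.map_id, Q.map_id]
    · intro n m h
      rw [← Functor.map_comp, ← Functor.map_comp, homOfLE_comp]
    · rw [Sigma.ι_desc, ← he n, Functor.map_comp, ← Category.assoc, hy, zero_comp]

end Groth.Agent.H2

namespace Groth.Agent.H2

open CategoryTheory CategoryTheory.Limits

lemma H2_moduleCat_hasExactColimitsOfShape_nat (R : Type u) [Ring R] :
    HasExactColimitsOfShape ℕ (ModuleCat.{u} R) := by
  have h5 := AB5OfSize_of_univLE.{0, 0, u, u} (ModuleCat.{u} R)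
  exact h5.ofShape ℕ

end Groth.Agent.H2
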