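import Mathlib

set_option autoImplicit false

namespace Groth.Agent.H2

open CategoryTheory CategoryTheory.Limits HomologicalComplex CochainComplex CochainComplex.HomComplex

universe v u

variable {C : Type u} [Category.{v} C] [Preadditive C]

lemma H2_cochain_ofHom_homOfDegreewiseSplit (S : ShortComplex (CochainComplex C ℤ))
    (σ : ∀ n : ℤ, (S.map (HomologicalComplex.eval C (ComplexShape.up ℤ) n)).Splitting) :
    Cochain.ofHom (CochainComplex.homOfDegreewiseSplit S σ) =
      (CochainComplex.cocycleOfDegreewiseSplit S σ).1.rightShift 1 0 (zero_add 1) := by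
  unfold CochainComplex.homOfDegreewiseSplit
  rw [Cocycle.equivHom_symm_apply, Cocycle.cochain_ofHom_homOf_eq_coe]
  rfl

set_option backward.defeqAttrib.useBackward true in
set_option backward.isDefEq.respectTransparency false in
lemma H2_delta_gamma (S : ShortComplex (CochainComplex C ℤ))
    (σ σ' : ∀ n : ℤ, (S.map (HomologicalComplex.eval C (ComplexShape.up ℤ) n)).Splitting) :
    δ 0 1 (Cochain.ofHoms (fun p => (σ p).s ≫ (σ' p).r) : Cochain S.X₃ S.X₁ 0) =
      (CochainComplex.cocycleOfDegreewiseSplit S σ).1 -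
        (CochainComplex.cocycleOfDegreewiseSplit S σ').1 := by
  ext p q hpq
  have := mono_of_mono_fac (σ q).f_r
  have r_f := fun n => (σ n).r_f
  have s_g := fun n => (σ n).s_g
  have r_f' := fun n => (σ' n).r_f
  have s_g' := fun n => (σ' n).s_g
  dsimp at this r_f s_g r_f' s_g' ⊢
  rw [δ_v 0 1 (zero_add 1) _ p q hpq p q (by omega) hpq]
  simp only [Cochain.ofHoms_v, CochainComplex.cocycleOfDegreewiseSplit, Cocycle.mk_coe,
    Cochain.mk_v, Int.negOnePow_one, Units.neg_smul, one_smul]
  rw [← cancel_mono (S.f.f q)]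
  simp only [Preadditive.add_comp, Preadditive.sub_comp, Preadditive.neg_comp, Category.assoc,
    r_f, r_f', Preadditive.comp_sub, Category.comp_id]
  rw [← S.f.comm p q, reassoc_of% (r_f' p)]
  simp only [Preadditive.sub_comp, Preadditive.comp_sub, Category.assoc, Category.id_comp,
    reassoc_of% (s_g p)]
  rw [← S.g.comm_assoc p q, ← S.g.comm_assoc p q, reassoc_of% (s_g p), reassoc_of% (s_g' p)]
  simp only [reassoc_of% (s_g q)]
  abel

end Groth.Agent.H2

namespace Groth.Agent.H2

open CategoryTheory CategoryTheory.Limits HomologicalComplex CochainComplex CochainComplex.HomComplex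

universe v u

variable {C : Type u} [Category.{v} C] [Preadditive C]

theorem H2_homotopy_homOfDegreewiseSplit (S : ShortComplex (CochainComplex C ℤ))
    (σ σ' : ∀ n : ℤ, (S.map (HomologicalComplex.eval C (ComplexShape.up ℤ) n)).Splitting) :
    Nonempty (Homotopy (CochainComplex.homOfDegreewiseSplit S σ)
      (CochainComplex.homOfDegreewiseSplit S σ')) := by
  refine ⟨(Cochain.equivHomotopy _ _).symm
    ⟨-((Cochain.ofHoms (fun p => (σ p).s ≫ (σ' p).r) : Cochain S.X₃ S.X₁ 0).rightShift 1 (-1)
      (by omega)), ?_⟩⟩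
  rw [H2_cochain_ofHom_homOfDegreewiseSplit, H2_cochain_ofHom_homOfDegreewiseSplit, δ_neg,
    Cochain.δ_rightShift _ 1 (-1) 0 (by omega) 1 (by omega), H2_delta_gamma S σ σ']
  simp only [Int.negOnePow_one, Units.neg_smul, one_smul, neg_neg]
  rw [sub_eq_add_neg, Cochain.rightShift_add, Cochain.rightShift_neg]
  abel

end Groth.Agent.H2
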