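import Mathlib

set_option autoImplicit false
universe u

namespace Groth.Agent.H2

/-- Over a Noetherian local ring, for a finite module `N`: no element of the maximal ideal is
`N`-regular iff the maximal ideal is an associated prime of `N`. -/
theorem H2_forall_not_regular_iff_mem_ass (A : Type u) [CommRing A] [IsLocalRing A]
    [IsNoetherianRing A] (N : Type u) [AddCommGroup N] [Module A N] [Module.Finite A N] :
    (∀ x ∈ IsLocalRing.maximalIdeal A, ¬ IsSMulRegular N x) ↔
      IsLocalRing.maximalIdeal A ∈ associatedPrimes A N := by
  classical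
  have hzd := biUnion_associatedPrimes_eq_zero_divisors A N
  constructor
  · intro h
    have hsub : ((IsLocalRing.maximalIdeal A : Ideal A) : Set A) ⊆
        ⋃ p ∈ ((associatedPrimes.finite A N).toFinset : Set (Ideal A)), ((id p : Ideal A) : Set A) := by
      intro r hr
      have : r ∈ ⋃ p ∈ associatedPrimes A N, (p : Set A) := by
        rw [hzd]
        by_contra hcon
        have hreg : IsSMulRegular N r := by
          rw [isSMulRegular_iff_right_eq_zero_of_smul]
          intro x hx
          by_contra hx0
          exact hcon ⟨x, hx0, hx⟩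
        exact h r hr hreg
      simpa using this
    rw [Ideal.subset_union_prime (⊥ : Ideal A) ⊥] at hsub
    · obtain ⟨p, hp, hmp⟩ := hsub
      have hp' : p ∈ associatedPrimes A N := by simpa using hp
      have hpp : p.IsPrime := IsAssociatedPrime.isPrime hp'
      have : p = IsLocalRing.maximalIdeal A :=
        le_antisymm (IsLocalRing.le_maximalIdeal hpp.ne_top) hmp
      rw [← this]; exact hp'
    · intro p hp _ _
      have hp' : p ∈ associatedPrimes A N := by simpa using hp
      exact IsAssociatedPrime.isPrime hp'
  · intro hm r hrm hr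
    have : r ∈ ⋃ p ∈ associatedPrimes A N, (p : Set A) := Set.mem_biUnion hm hrm
    rw [hzd] at this
    obtain ⟨x, hx0, hx⟩ := this
    exact hx0 ((isSMulRegular_iff_right_eq_zero_of_smul.mp hr) x hx)

/-- the maximal ideal is an associated prime iff there is a nonzero map from the residue field -/
theorem H2_mem_ass_iff_nontrivial_hom (A : Type u) [CommRing A] [IsLocalRing A]
    [IsNoetherianRing A] (N : Type u) [AddCommGroup N] [Module A N] :
    IsLocalRing.maximalIdeal A ∈ associatedPrimes A N ↔
      Nontrivial (IsLocalRing.ResidueField A →ₗ[A] N) := by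
  constructor
  · intro h
    rw [AssociatedPrimes.mem_iff, isAssociatedPrime_iff_exists_injective_linearMap] at h
    obtain ⟨-, f, hf⟩ := h
    obtain ⟨g, hg⟩ : ∃ g : IsLocalRing.ResidueField A →ₗ[A] N, Function.Injective g := ⟨f, hf⟩
    refine ⟨⟨g, 0, ?_⟩⟩
    intro h0
    have h1 : g 1 = g 0 := by
      rw [h0, LinearMap.zero_apply, LinearMap.zero_apply]
    have := hg h1
    exact one_ne_zero (α := IsLocalRing.ResidueField A) this
  · intro h
    obtain ⟨f, hf⟩ := exists_ne (0 : IsLocalRing.ResidueField A →ₗ[A] N)
    rw [AssociatedPrimes.mem_iff, isAssociatedPrime_iff]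
    refine ⟨inferInstance, f 1, ?_⟩
    have hy : f 1 ≠ 0 := by
      intro h0
      apply hf
      ext z
      obtain ⟨r, rfl⟩ := Ideal.Quotient.mk_surjective z
      have : (Ideal.Quotient.mk (IsLocalRing.maximalIdeal A) r : IsLocalRing.ResidueField A) =
          r • (1 : IsLocalRing.ResidueField A) := by
        rw [Algebra.smul_def, mul_one]; rfl
      rw [this, map_smul, h0, smul_zero]; rfl
    apply (IsLocalRing.maximalIdeal.isMaximal A).eq_of_le
    · intro htop
      have : (1 : A) ∈ (⊥ : Submodule A N).colon {f 1} := by rw [htop]; trivial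
      rw [Submodule.mem_colon_singleton] at this
      simp at this
      exact hy this
    · intro r hr
      rw [Submodule.mem_colon_singleton, Submodule.mem_bot, ← map_smul]
      have : r • (1 : IsLocalRing.ResidueField A) = 0 := by
        rw [Algebra.smul_def, mul_one]
        exact Ideal.Quotient.eq_zero_iff_mem.mpr hr
      rw [this, map_zero]

end Groth.Agent.H2
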