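import Mathlib

set_option autoImplicit false
universe w v u

namespace Groth.Agent.H2

open CategoryTheory Limits

section

variable {A : Type u} [Category.{v} A] [Abelian A]

/-- The chain map from `N` placed in degree `b` into a complex vanishing above `b`. -/
noncomputable def H2fromSingle (M : CochainComplex A ℤ) (b : ℤ) [M.IsStrictlyLE b] {N : A}
    (p : N ⟶ M.X b) : (HomologicalComplex.single A (ComplexShape.up ℤ) b).obj N ⟶ M :=
  HomologicalComplex.mkHomFromSingle p (by
    intro k hk
    have hk' : b + 1 = k := hk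
    exact (M.isZero_of_isStrictlyLE b k (by omega)).eq_of_tgt _ _)

lemma H2fromSingle_f (M : CochainComplex A ℤ) (b : ℤ) [M.IsStrictlyLE b] {N : A}
    (p : N ⟶ M.X b) :
    (H2fromSingle M b p).f b = (HomologicalComplex.singleObjXSelf (ComplexShape.up ℤ) b N).hom ≫ p :=
  HomologicalComplex.mkHomFromSingle_f _ _

lemma H2_isIso_iCycles_top (M : CochainComplex A ℤ) (b : ℤ) [M.IsStrictlyLE b] :
    IsIso (M.iCycles b) :=
  HomologicalComplex.isIso_iCycles M b (b + 1) (by simp)
    ((M.isZero_of_isStrictlyLE b (b + 1) (by omega)).eq_of_tgt _ _)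

lemma H2_epi_homologyMap_fromSingle (M : CochainComplex A ℤ) (b : ℤ) [M.IsStrictlyLE b] {N : A}
    (p : N ⟶ M.X b) [Epi p] : Epi (HomologicalComplex.homologyMap (H2fromSingle M b p) b) := by
  let S := (HomologicalComplex.single A (ComplexShape.up ℤ) b).obj N
  let c := H2fromSingle M b p
  have h1 : S.homologyπ b ≫ HomologicalComplex.homologyMap c b
      = HomologicalComplex.cyclesMap c b ≫ M.homologyπ b :=
    HomologicalComplex.homologyπ_naturality c b
  have h2 : HomologicalComplex.cyclesMap c b ≫ M.iCycles b = S.iCycles b ≫ c.f b :=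
    HomologicalComplex.cyclesMap_i c b
  haveI : IsIso (M.iCycles b) := H2_isIso_iCycles_top M b
  haveI : IsIso (S.iCycles b) :=
    HomologicalComplex.isIso_iCycles S b (b + 1) (by simp) rfl
  have h3 : Epi (c.f b) := by
    rw [show c.f b = _ from H2fromSingle_f M b p]
    infer_instance
  have h4 : Epi (HomologicalComplex.cyclesMap c b) := by
    have : HomologicalComplex.cyclesMap c b = (S.iCycles b ≫ c.f b) ≫ inv (M.iCycles b) := by
      rw [← h2, Category.assoc, IsIso.hom_inv_id, Category.comp_id]
    rw [this]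
    infer_instance
  have h5 : Epi (S.homologyπ b ≫ HomologicalComplex.homologyMap c b) := by
    rw [h1]
    infer_instance
  exact epi_of_epi (S.homologyπ b) _

end

section Main

variable {A : Type u} [Category.{v} A] [Abelian A] [HasDerivedCategory.{w} A]

/-- The comparison iso between homology of a complex and of its image in the derived category. -/
noncomputable def H2homIso (M : CochainComplex A ℤ) (b : ℤ) :
    M.homology b ≅ (DerivedCategory.homologyFunctor A b).obj (DerivedCategory.Q.obj M) :=
  ((DerivedCategory.homologyFunctorFactors A b).app M).symm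

lemma H2homIso_naturality {S M : CochainComplex A ℤ} (c : S ⟶ M) (b : ℤ) :
    HomologicalComplex.homologyMap c b ≫ (H2homIso M b).hom
      = (H2homIso S b).hom ≫ (DerivedCategory.homologyFunctor A b).map (DerivedCategory.Q.map c) :=
  (DerivedCategory.homologyFunctorFactors A b).inv.naturality c

lemma H2_epi_of_comp_iso {C : Type*} [Category C] {X Y Z : C} (f : X ⟶ Y) (g : Y ⟶ Z) [IsIso g]
    (h : Epi (f ≫ g)) : Epi f := by
  have : f = (f ≫ g) ≫ inv g := by simp
  rw [this]
  infer_instance

open DerivedCategory in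
theorem H2_exists_negative_single_map
    (hneg : ∀ X : A, ∃ (N : A) (p : N ⟶ X), Epi p ∧ ∀ f : X ⟶ N, f = 0)
    (X X' : DerivedCategory A) (f : X ⟶ X') (b : ℤ) [X.IsLE b] [X'.IsLE (b - 1)] :
    ∃ (N : A) (g : (DerivedCategory.singleFunctor A b).obj N ⟶ X),
      Epi ((DerivedCategory.homologyFunctor A b).map g) ∧
        (∀ φ : (DerivedCategory.homologyFunctor A b).obj X ⟶ N, φ = 0) ∧ g ≫ f = 0 := by
  obtain ⟨K, hK, ⟨eX⟩⟩ := X.exists_iso_Q_obj_of_isLE b
  obtain ⟨L, hL, ⟨eX'⟩⟩ := X'.exists_iso_Q_obj_of_isLE (b - 1)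
  obtain ⟨M, hM, s, hs, t, hfac⟩ :=
    DerivedCategory.right_fac_of_isStrictlyLE (eX.inv ≫ f ≫ eX'.hom) b
  obtain ⟨N, p, hp, hN⟩ := hneg (M.X b)
  let c : (CochainComplex.singleFunctor A b).obj N ⟶ M := H2fromSingle M b p
  let g : (DerivedCategory.singleFunctor A b).obj N ⟶ X :=
    (DerivedCategory.singleFunctorIsoCompQ A b).hom.app N ≫ Q.map c ≫ Q.map s ≫ eX.inv
  have i1 : IsIso ((DerivedCategory.homologyFunctor A b).map (Q.map s)) :=
    Functor.map_isIso _ (Q.map s)
  have i2 : IsIso ((DerivedCategory.homologyFunctor A b).map eX.inv) :=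
    Functor.map_isIso _ eX.inv
  have i3 : IsIso ((DerivedCategory.homologyFunctor A b).map
      ((DerivedCategory.singleFunctorIsoCompQ A b).hom.app N)) := Functor.map_isIso _ _
  refine ⟨N, g, ?_, ?_, ?_⟩
  · have hc : Epi ((DerivedCategory.homologyFunctor A b).map (Q.map c)) := by
      have e1 : Epi (HomologicalComplex.homologyMap c b) := H2_epi_homologyMap_fromSingle M b p
      have e2 : Epi (HomologicalComplex.homologyMap c b ≫ (H2homIso M b).hom) := epi_comp _ _
      rw [H2homIso_naturality] at e2
      exact epi_of_epi (H2homIso _ b).hom _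
    have h1 : (DerivedCategory.homologyFunctor A b).map g
        = (DerivedCategory.homologyFunctor A b).map
            ((DerivedCategory.singleFunctorIsoCompQ A b).hom.app N)
          ≫ (DerivedCategory.homologyFunctor A b).map (Q.map c)
          ≫ (DerivedCategory.homologyFunctor A b).map (Q.map s)
          ≫ (DerivedCategory.homologyFunctor A b).map eX.inv := by
      simp only [g, Functor.map_comp]
    rw [h1]
    have e3 : Epi ((DerivedCategory.homologyFunctor A b).map (Q.map s)
          ≫ (DerivedCategory.homologyFunctor A b).map eX.inv) := epi_comp _ _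
    have e4 : Epi ((DerivedCategory.homologyFunctor A b).map (Q.map c)
          ≫ (DerivedCategory.homologyFunctor A b).map (Q.map s)
          ≫ (DerivedCategory.homologyFunctor A b).map eX.inv) := epi_comp _ _
    exact epi_comp _ _
  · intro ψ
    have i4 : IsIso (M.iCycles b) := H2_isIso_iCycles_top M b
    let q : M.X b ⟶ (DerivedCategory.homologyFunctor A b).obj X :=
      inv (M.iCycles b) ≫ M.homologyπ b ≫ (H2homIso M b).hom
        ≫ (DerivedCategory.homologyFunctor A b).map (Q.map s)
        ≫ (DerivedCategory.homologyFunctor A b).map eX.inv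
    have e3 : Epi ((DerivedCategory.homologyFunctor A b).map (Q.map s)
          ≫ (DerivedCategory.homologyFunctor A b).map eX.inv) := epi_comp _ _
    have e5 : Epi ((H2homIso M b).hom ≫ (DerivedCategory.homologyFunctor A b).map (Q.map s)
          ≫ (DerivedCategory.homologyFunctor A b).map eX.inv) := epi_comp _ _
    have e6 : Epi (M.homologyπ b ≫ (H2homIso M b).hom
          ≫ (DerivedCategory.homologyFunctor A b).map (Q.map s)
          ≫ (DerivedCategory.homologyFunctor A b).map eX.inv) := epi_comp _ _
    have e7 : Epi q := epi_comp _ _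
    rw [← cancel_epi q, hN (q ≫ ψ), comp_zero]
  · have hct : c ≫ t = 0 := by
      apply HomologicalComplex.from_single_hom_ext
      exact (L.isZero_of_isStrictlyLE (b - 1) b (by omega)).eq_of_tgt _ _
    have hf : f = eX.hom ≫ (eX.inv ≫ f ≫ eX'.hom) ≫ eX'.inv := by
      simp
    rw [hf, hfac]
    simp only [g, Category.assoc, Iso.inv_hom_id_assoc, IsIso.hom_inv_id_assoc]
    rw [← Functor.map_comp_assoc, hct, Functor.map_zero, zero_comp, comp_zero]

end Main

end Groth.Agent.H2
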