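import Mathlib

set_option autoImplicit false
universe v₁ u₁
open CategoryTheory CategoryTheory.Limits

namespace Groth.Agent.H2

variable {C : Type u₁} [Category.{v₁} C]

theorem H2_effectiveEpi_comp [HasPullbacks C]
    {U T S : C} (v : U ⟶ T) (u : T ⟶ S) [EffectiveEpi u] [EffectiveEpi v]
    (hv : MorphismProperty.universally (MorphismProperty.epimorphisms C) v) :
    EffectiveEpi (v ≫ u) := by
  have h1 : ∀ {W : C} (e : U ⟶ W)
      (_ : ∀ {Z : C} (g₁ g₂ : Z ⟶ U), g₁ ≫ v ≫ u = g₂ ≫ v ≫ u → g₁ ≫ e = g₂ ≫ e),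
      ∀ {Z : C} (g₁ g₂ : Z ⟶ U), g₁ ≫ v = g₂ ≫ v → g₁ ≫ e = g₂ ≫ e := by
    intro W e h Z g₁ g₂ hg
    apply h
    rw [← Category.assoc, hg, Category.assoc]
  have h2 : ∀ {W : C} (e : U ⟶ W)
      (h : ∀ {Z : C} (g₁ g₂ : Z ⟶ U), g₁ ≫ v ≫ u = g₂ ≫ v ≫ u → g₁ ≫ e = g₂ ≫ e),
      ∀ {Z : C} (a b : Z ⟶ T), a ≫ u = b ≫ u →
        a ≫ EffectiveEpi.desc v e (h1 e h) = b ≫ EffectiveEpi.desc v e (h1 e h) := by
    intro W e h Z a b hab
    set g' := EffectiveEpi.desc v e (h1 e h) with hg'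
    have hfac : v ≫ g' = e := EffectiveEpi.fac v e (h1 e h)
    let p₁ := pullback.fst a v
    let q₁ := pullback.snd a v
    have c₁ : p₁ ≫ a = q₁ ≫ v := pullback.condition
    have e₁ : Epi p₁ := hv q₁ a p₁ (IsPullback.of_hasPullback a v)
    let p₂ := pullback.fst (p₁ ≫ b) v
    let q₂ := pullback.snd (p₁ ≫ b) v
    have c₂ : p₂ ≫ p₁ ≫ b = q₂ ≫ v := pullback.condition
    have e₂ : Epi p₂ := hv q₂ (p₁ ≫ b) p₂ (IsPullback.of_hasPullback (p₁ ≫ b) v)
    have e₃ : Epi (p₂ ≫ p₁) := epi_comp p₂ p₁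
    have hα : (p₂ ≫ q₁) ≫ v = (p₂ ≫ p₁) ≫ a := by
      rw [Category.assoc, Category.assoc, c₁]
    have hβ : q₂ ≫ v = (p₂ ≫ p₁) ≫ b := by
      rw [Category.assoc, c₂]
    have h3 : (p₂ ≫ q₁) ≫ e = q₂ ≫ e := by
      apply h
      rw [← Category.assoc, hα, ← Category.assoc q₂, hβ]
      simp only [Category.assoc, hab]
    rw [← hfac, ← Category.assoc, hα, ← Category.assoc q₂, hβ] at h3
    simp only [Category.assoc] at h3
    rw [← Category.assoc, ← Category.assoc p₂] at h3
    exact (cancel_epi (p₂ ≫ p₁)).mp h3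
  refine ⟨⟨{ desc := fun e h => EffectiveEpi.desc u (EffectiveEpi.desc v e (h1 e h)) (h2 e h)
             fac := ?_
             uniq := ?_ }⟩⟩
  · intro W e h
    rw [Category.assoc, EffectiveEpi.fac, EffectiveEpi.fac]
  · intro W e h m hm
    apply EffectiveEpi.uniq
    apply EffectiveEpi.uniq
    rw [← Category.assoc]
    exact hm

/-- universally effective epimorphisms -/
abbrev H2_UEE (C : Type u₁) [Category.{v₁} C] : MorphismProperty C :=
  MorphismProperty.universally (fun (A B : C) (p : A ⟶ B) => EffectiveEpi p)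

theorem H2_UEE_le_universally_epi :
    H2_UEE C ≤ MorphismProperty.universally (MorphismProperty.epimorphisms C) := by
  apply MorphismProperty.universally_mono
  intro A B p hp
  have : EffectiveEpi p := hp
  show Epi p
  infer_instance

theorem H2_UEE_effectiveEpi {X Y : C} {f : X ⟶ Y} (hf : H2_UEE C f) : EffectiveEpi f :=
  MorphismProperty.universally_le _ _ hf

theorem H2_UEE_of_isPullback {X Y X' Y' : C} {f : X ⟶ Y} {f' : X' ⟶ Y'} {i₁ : X' ⟶ X}
    {i₂ : Y' ⟶ Y} (h : IsPullback f' i₁ i₂ f) (hf : H2_UEE C f) : H2_UEE C f' :=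
  MorphismProperty.of_isPullback h.flip hf

theorem H2_UEE_comp [HasPullbacks C] {U T S : C} (v : U ⟶ T) (u : T ⟶ S)
    (hu : H2_UEE C u) (hv : H2_UEE C v) : H2_UEE C (v ≫ u) := by
  intro X' S' i₁ i₂ f' hpb
  have t : IsPullback (pullback.fst i₂ u) (pullback.snd i₂ u) i₂ u := IsPullback.of_hasPullback i₂ u
  have hl := IsPullback.of_right' hpb t
  have w : f' ≫ i₂ = (i₁ ≫ v) ≫ u := by rw [hpb.w, Category.assoc]
  have hu' : H2_UEE C (pullback.fst i₂ u) := H2_UEE_of_isPullback t hu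
  have hv' : H2_UEE C (t.lift f' (i₁ ≫ v) w) :=
    H2_UEE_of_isPullback hl hv
  have : EffectiveEpi (pullback.fst i₂ u) := H2_UEE_effectiveEpi hu'
  have : EffectiveEpi (t.lift f' (i₁ ≫ v) w) :=
    H2_UEE_effectiveEpi hv'
  have key := H2_effectiveEpi_comp (t.lift f' (i₁ ≫ v) w)
    (pullback.fst i₂ u) (H2_UEE_le_universally_epi _ hv')
  rw [t.lift_fst] at key
  exact key

/-- if `v ≫ u` is a universally effective epi then `u` is an effective epi -/
theorem H2_effectiveEpi_of_UEE_comp [HasPullbacks C] {U T S : C} (v : U ⟶ T) (u : T ⟶ S)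
    (h : H2_UEE C (v ≫ u)) : EffectiveEpi u := by
  have hw : EffectiveEpi (v ≫ u) := H2_UEE_effectiveEpi h
  -- base change of `v ≫ u` along `u`
  have t : IsPullback (pullback.fst u (v ≫ u)) (pullback.snd u (v ≫ u)) u (v ≫ u) :=
    IsPullback.of_hasPullback u (v ≫ u)
  have hw' : EffectiveEpi (pullback.fst u (v ≫ u)) := H2_UEE_effectiveEpi (H2_UEE_of_isPullback t h)
  have h1 : ∀ {W : C} (e : T ⟶ W)
      (_ : ∀ {Z : C} (g₁ g₂ : Z ⟶ T), g₁ ≫ u = g₂ ≫ u → g₁ ≫ e = g₂ ≫ e),
      ∀ {Z : C} (g₁ g₂ : Z ⟶ U), g₁ ≫ v ≫ u = g₂ ≫ v ≫ u → g₁ ≫ v ≫ e = g₂ ≫ v ≫ e := by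
    intro W e he Z g₁ g₂ hg
    rw [← Category.assoc, ← Category.assoc g₂]
    apply he
    simpa using hg
  refine ⟨⟨{ desc := fun e he => EffectiveEpi.desc (v ≫ u) (v ≫ e) (h1 e he)
             fac := ?_
             uniq := ?_ }⟩⟩
  · intro W e he
    have hfac : (v ≫ u) ≫ EffectiveEpi.desc (v ≫ u) (v ≫ e) (h1 e he) = v ≫ e :=
      EffectiveEpi.fac (v ≫ u) (v ≫ e) (h1 e he)
    set d := EffectiveEpi.desc (v ≫ u) (v ≫ e) (h1 e he) with hd
    have h2 : pullback.fst u (v ≫ u) ≫ e = (pullback.snd u (v ≫ u) ≫ v) ≫ e := by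
      apply he
      rw [t.w, Category.assoc]
    have h3 : pullback.fst u (v ≫ u) ≫ (u ≫ d) = pullback.fst u (v ≫ u) ≫ e := by
      rw [h2, ← Category.assoc, t.w, Category.assoc, hfac, Category.assoc]
    exact (cancel_epi (pullback.fst u (v ≫ u))).mp h3
  · intro W e he m hm
    apply EffectiveEpi.uniq
    rw [Category.assoc, hm]

theorem H2_UEE_of_comp [HasPullbacks C] {U T S : C} (v : U ⟶ T) (u : T ⟶ S)
    (h : H2_UEE C (v ≫ u)) : H2_UEE C u := by
  intro T' S' i₁ i₂ u' hpb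
  -- base change of `v` along `i₁`
  have t : IsPullback (pullback.fst i₁ v) (pullback.snd i₁ v) i₁ v := IsPullback.of_hasPullback i₁ v
  have hbig : IsPullback (pullback.fst i₁ v ≫ u') (pullback.snd i₁ v) i₂ (v ≫ u) :=
    t.paste_horiz hpb
  exact H2_effectiveEpi_of_UEE_comp (pullback.fst i₁ v) u' (H2_UEE_of_isPullback hbig h)

theorem H2_UEE_iff_baseChange [HasPullbacks C] {S' S T : C} (g : S' ⟶ S) (hg : H2_UEE C g)
    (u : T ⟶ S) : H2_UEE C u ↔ H2_UEE C (pullback.snd u g) := by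
  constructor
  · intro hu
    exact H2_UEE_of_isPullback (IsPullback.of_hasPullback u g).flip hu
  · intro hu'
    have h1 : H2_UEE C (pullback.snd u g ≫ g) := H2_UEE_comp _ _ hg hu'
    rw [← pullback.condition] at h1
    exact H2_UEE_of_comp _ _ h1

theorem H2_exists_cover_pair [HasPullbacks C] {S' S Z : C} (f : S' ⟶ S)
    (hf : MorphismProperty.universally (MorphismProperty.epimorphisms C) f) (a b : Z ⟶ S) :
    ∃ (Z' : C) (π : Z' ⟶ Z) (α β : Z' ⟶ S'), Epi π ∧ α ≫ f = π ≫ a ∧ β ≫ f = π ≫ b := by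
  let p₁ := pullback.fst a f
  let q₁ := pullback.snd a f
  have c₁ : p₁ ≫ a = q₁ ≫ f := pullback.condition
  have e₁ : Epi p₁ := hf q₁ a p₁ (IsPullback.of_hasPullback a f)
  let p₂ := pullback.fst (p₁ ≫ b) f
  let q₂ := pullback.snd (p₁ ≫ b) f
  have c₂ : p₂ ≫ p₁ ≫ b = q₂ ≫ f := pullback.condition
  have e₂ : Epi p₂ := hf q₂ (p₁ ≫ b) p₂ (IsPullback.of_hasPullback (p₁ ≫ b) f)
  refine ⟨_, p₂ ≫ p₁, p₂ ≫ q₁, q₂, epi_comp p₂ p₁, ?_, ?_⟩
  · rw [Category.assoc, Category.assoc, c₁]
  · rw [Category.assoc, c₂]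

theorem H2_mono_of_isIso_mapDesc [HasPullbacks C] {S' S T : C} (f : S' ⟶ S) (hf : H2_UEE C f)
    (g : S ⟶ T) [IsIso (pullback.mapDesc f f g)] : Mono g := by
  constructor
  intro Z a b hab
  obtain ⟨Z', π, α, β, hπ, hα, hβ⟩ := H2_exists_cover_pair f (H2_UEE_le_universally_epi _ hf) a b
  have hαβ : α ≫ f ≫ g = β ≫ f ≫ g := by
    rw [← Category.assoc, hα, ← Category.assoc β, hβ, Category.assoc, Category.assoc, hab]
  let l : Z' ⟶ pullback (f ≫ g) (f ≫ g) := pullback.lift α β hαβ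
  obtain ⟨γ, hγ⟩ : ∃ γ : Z' ⟶ pullback f f, γ ≫ pullback.mapDesc f f g = l :=
    ⟨l ≫ inv (pullback.mapDesc f f g), by simp⟩
  have e1 : pullback.mapDesc f f g ≫ pullback.fst (f ≫ g) (f ≫ g) = pullback.fst f f := by
    simp only [pullback.mapDesc, pullback.map, pullback.lift_fst, Category.comp_id]
  have e2 : pullback.mapDesc f f g ≫ pullback.snd (f ≫ g) (f ≫ g) = pullback.snd f f := by
    simp only [pullback.mapDesc, pullback.map, pullback.lift_snd, Category.comp_id]
  have h1 : γ ≫ pullback.fst f f = α := by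
    rw [← e1, ← Category.assoc, hγ]
    exact pullback.lift_fst _ _ _
  have h2 : γ ≫ pullback.snd f f = β := by
    rw [← e2, ← Category.assoc, hγ]
    exact pullback.lift_snd _ _ _
  have h3 : α ≫ f = β ≫ f := by
    calc α ≫ f = (γ ≫ pullback.fst f f) ≫ f := by rw [h1]
      _ = (γ ≫ pullback.snd f f) ≫ f := by
        rw [Category.assoc, pullback.condition, ← Category.assoc]
      _ = β ≫ f := by rw [h2]
  rw [hα, hβ] at h3
  exact (cancel_epi π).mp h3

theorem H2_nonempty_hom_iff_pullback [HasPullbacks C] {S' S : C} (f : S' ⟶ S) (hf : H2_UEE C f)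
    (X Y : Over S) [Mono Y.hom] :
    Nonempty (X ⟶ Y) ↔ Nonempty ((Over.pullback f).obj X ⟶ (Over.pullback f).obj Y) := by
  constructor
  · rintro ⟨h⟩
    exact ⟨(Over.pullback f).map h⟩
  · rintro ⟨h'⟩
    -- p : X' → X is a universally effective epi
    have t : IsPullback (pullback.fst X.hom f) (pullback.snd X.hom f) X.hom f :=
      IsPullback.of_hasPullback X.hom f
    have hp : H2_UEE C (pullback.fst X.hom f) := H2_UEE_of_isPullback t hf
    have : EffectiveEpi (pullback.fst X.hom f) := H2_UEE_effectiveEpi hp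
    obtain ⟨k, hk⟩ : ∃ k : pullback X.hom f ⟶ Y.left,
        k ≫ Y.hom = pullback.fst X.hom f ≫ X.hom := by
      refine ⟨h'.left ≫ pullback.fst Y.hom f, ?_⟩
      have hw := Over.w h'
      simp only [Over.pullback_obj_left, Over.pullback_obj_hom] at hw
      simp only [Category.assoc, pullback.condition]
      rw [← Category.assoc, hw]
    have hrel : ∀ {Z : C} (g₁ g₂ : Z ⟶ pullback X.hom f),
        g₁ ≫ pullback.fst X.hom f = g₂ ≫ pullback.fst X.hom f → g₁ ≫ k = g₂ ≫ k := by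
      intro Z g₁ g₂ hg
      rw [← cancel_mono Y.hom, Category.assoc, Category.assoc, hk, ← Category.assoc,
        ← Category.assoc, hg]
    let h : X.left ⟶ Y.left := EffectiveEpi.desc (pullback.fst X.hom f) k hrel
    have hfac : pullback.fst X.hom f ≫ h = k := EffectiveEpi.fac _ _ _
    refine ⟨Over.homMk h ?_⟩
    rw [← cancel_epi (pullback.fst X.hom f), ← Category.assoc, hfac, hk]

theorem H2_UEE_of_isIso {X Y : C} (f : X ⟶ Y) [IsIso f] : H2_UEE C f := by
  intro X' Y' i₁ i₂ f' hpb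
  have : IsIso f' := hpb.flip.isIso_snd_of_isIso
  infer_instance

theorem H2_mono_of_isPullback_of_mono [HasPullbacks C] {X' Y' X Y : C} {g' : X' ⟶ Y'}
    {pX : X' ⟶ X} {pY : Y' ⟶ Y} {g₀ : X ⟶ Y} (h : IsPullback g' pX pY g₀)
    (hpY : MorphismProperty.universally (MorphismProperty.epimorphisms C) pY) [Mono g'] :
    Mono g₀ := by
  constructor
  intro Z a b hab
  let π := pullback.fst (a ≫ g₀) pY
  let γ := pullback.snd (a ≫ g₀) pY
  have hc : π ≫ a ≫ g₀ = γ ≫ pY := pullback.condition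
  have hπ : Epi π := hpY γ (a ≫ g₀) π (IsPullback.of_hasPullback (a ≫ g₀) pY)
  have ha : γ ≫ pY = (π ≫ a) ≫ g₀ := by rw [Category.assoc, hc]
  have hb : γ ≫ pY = (π ≫ b) ≫ g₀ := by rw [Category.assoc, ← hab, hc]
  have h1 : h.lift γ (π ≫ a) ha = h.lift γ (π ≫ b) hb := by
    rw [← cancel_mono g', h.lift_fst, h.lift_fst]
  have h2 := congrArg (fun k => k ≫ pX) h1
  simp only [h.lift_snd] at h2
  exact (cancel_epi π).mp h2

theorem H2_isIso_of_isPullback_of_isIso [HasPullbacks C] {X' Y' X Y : C} {g' : X' ⟶ Y'}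
    {pX : X' ⟶ X} {pY : Y' ⟶ Y} {g₀ : X ⟶ Y} (h : IsPullback g' pX pY g₀)
    (hpY : H2_UEE C pY) [IsIso g'] : IsIso g₀ := by
  have hm : Mono g₀ := H2_mono_of_isPullback_of_mono h (H2_UEE_le_universally_epi _ hpY)
  have h1 : H2_UEE C (g' ≫ pY) := H2_UEE_comp g' pY hpY (H2_UEE_of_isIso g')
  rw [h.w] at h1
  have h2 : H2_UEE C g₀ := H2_UEE_of_comp pX g₀ h1
  have : EffectiveEpi g₀ := H2_UEE_effectiveEpi h2
  exact isIso_of_mono_of_strongEpi g₀

theorem H2_isIso_mono_iff_pullback [HasPullbacks C] {S' S : C} (f : S' ⟶ S) (hf : H2_UEE C f)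
    {X Y : Over S} (g : X ⟶ Y) :
    (IsIso g ↔ IsIso ((Over.pullback f).map g)) ∧ (Mono g ↔ Mono ((Over.pullback f).map g)) := by
  have tY : IsPullback (pullback.fst Y.hom f) (pullback.snd Y.hom f) Y.hom f :=
    IsPullback.of_hasPullback Y.hom f
  have tX : IsPullback (pullback.fst X.hom f) (pullback.snd X.hom f) X.hom f :=
    IsPullback.of_hasPullback X.hom f
  have hpY : H2_UEE C (pullback.fst Y.hom f) := H2_UEE_of_isPullback tY hf
  have e : ((Over.pullback f).map g).left ≫ pullback.snd Y.hom f = pullback.snd X.hom f := by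
    simp only [Over.pullback_map_left]
    exact pullback.lift_snd _ _ _
  have e' : ((Over.pullback f).map g).left ≫ pullback.fst Y.hom f =
      pullback.fst X.hom f ≫ g.left := by
    simp only [Over.pullback_map_left]
    exact pullback.lift_fst _ _ _
  -- the left square is a pullback
  have hsq : IsPullback ((Over.pullback f).map g).left (pullback.fst X.hom f)
      (pullback.fst Y.hom f) g.left := by
    have hw : g.left ≫ Y.hom = X.hom := Over.w g
    have tX' : IsPullback (pullback.snd X.hom f) (pullback.fst X.hom f) f (g.left ≫ Y.hom) := by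
      rw [hw]; exact tX.flip
    have := IsPullback.of_right (h₁₁ := ((Over.pullback f).map g).left)
      (h₁₂ := pullback.snd Y.hom f) (v₁₁ := pullback.fst X.hom f) (v₁₂ := pullback.fst Y.hom f)
      (v₁₃ := f) (h₂₁ := g.left) (h₂₂ := Y.hom) (by
        rw [e]
        exact tX') e' tY.flip
    exact this
  constructor
  · constructor
    · intro h
      infer_instance
    · intro h
      have : IsIso ((Over.pullback f).map g).left :=
        (Over.forget S').map_isIso ((Over.pullback f).map g)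
      have h3 : IsIso g.left := H2_isIso_of_isPullback_of_isIso hsq hpY
      have : IsIso ((Over.forget S).map g) := h3
      exact isIso_of_reflects_iso g (Over.forget S)
  · constructor
    · intro h
      have : Mono g.left := inferInstance
      have : Mono ((Over.pullback f).map g).left := by
        constructor
        intro Z a b hab
        apply pullback.hom_ext
        · rw [← cancel_mono g.left, Category.assoc, Category.assoc, ← hsq.w, ← Category.assoc,
            hab, Category.assoc]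
        · rw [← e, ← Category.assoc, hab, Category.assoc]
      exact Over.mono_of_mono_left _
    · intro h
      have : Mono ((Over.pullback f).map g).left := inferInstance
      have : Mono g.left :=
        H2_mono_of_isPullback_of_mono hsq (H2_UEE_le_universally_epi _ hpY)
      exact Over.mono_of_mono_left g

end Groth.Agent.H2
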