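import Mathlib
import Groth.Agent.Lib.helper2.DescCat

set_option autoImplicit false
universe v₁ u₁
open CategoryTheory CategoryTheory.Limits

namespace Groth.Agent.H2

variable {C : Type u₁} [Category.{v₁} C]

set_option backward.defeqAttrib.useBackward true in
set_option backward.isDefEq.respectTransparency false in
theorem H2_isPullback_prod_snd_with_id {A B : C} (f : A ⟶ B) (X : C) [HasBinaryProduct X A]
    [HasBinaryProduct X B] :
    IsPullback prod.snd (prod.map (𝟙 X) f) f prod.snd where
  w := by simp
  isLimit' := ⟨PullbackCone.isLimitAux' _ (fun s ↦ by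
    refine ⟨prod.lift (s.snd ≫ prod.fst) s.fst, ?_, ?_, ?_⟩
    · simp
    · ext
      · simp
      · simp [PullbackCone.condition]
    · intro m h₁ h₂
      dsimp at m h₁ h₂ ⊢
      ext
      · simp [← h₂]
      · simpa using h₁)⟩

theorem H2_UEE_prod_map [HasPullbacks C] [HasBinaryProducts C]
    {X Y X' Y' : C} (u : X ⟶ Y) (u' : X' ⟶ Y') (hu : H2_UEE C u) (hu' : H2_UEE C u') :
    H2_UEE C (prod.map u u') := by
  have e : prod.map u u' = prod.map u (𝟙 X') ≫ prod.map (𝟙 Y) u' := by
    simp
  rw [e]
  apply H2_UEE_comp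
  · exact H2_UEE_of_isPullback (H2_isPullback_prod_snd_with_id u' Y).flip hu'
  · exact H2_UEE_of_isPullback (IsPullback.of_prod_fst_with_id u X').flip hu

end Groth.Agent.H2
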