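import Mathlib

/-!
Descent of "geometrically P" along a surjective base change, for properties `P` of schemes that
pass to images under surjective morphisms.
-/

namespace Groth.Agent.H2

open CategoryTheory CategoryTheory.Limits AlgebraicGeometry

universe u

/-- A morphism from a nonempty scheme to the spectrum of a field is surjective. -/
theorem H2_surjective_to_spec_field {K : Type u} [Field K] {Z : Scheme.{u}} [Nonempty Z]
    (l : Z ⟶ Spec (CommRingCat.of K)) : Surjective l := by
  refine ⟨fun p => ?_⟩
  obtain ⟨z⟩ := ‹Nonempty Z›
  exact ⟨z, Subsingleton.elim (α := PrimeSpectrum K) _ _⟩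

theorem H2_geometrically_of_surjective_baseChange (P : ObjectProperty Scheme.{u})
    [P.IsClosedUnderIsomorphisms]
    (hP : ∀ {Z' Z : Scheme.{u}} (φ : Z' ⟶ Z), Surjective φ → P Z' → P Z)
    {X Y Y' : Scheme.{u}} (f : X ⟶ Y) (g : Y' ⟶ Y) [Surjective g]
    (h : geometrically P (pullback.snd f g)) : geometrically P f := by
  rw [geometrically_iff_of_isClosedUnderIsomorphisms]
  intro K _ y
  -- a point of Y' over the image of y
  let pt : Spec (CommRingCat.of K) := IsLocalRing.closedPoint K
  obtain ⟨y', hy'⟩ := (inferInstance : Surjective g).surj (y pt)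
  obtain ⟨z, -, -⟩ := Scheme.Pullback.exists_preimage_pullback (f := y) (g := g) pt y' hy'.symm
  -- the field L = κ(z) with its maps to K and Y'
  let W := pullback y g
  let ι : Spec (W.residueField z) ⟶ W := W.fromSpecResidueField z
  let l : Spec (W.residueField z) ⟶ Spec (CommRingCat.of K) := ι ≫ pullback.fst y g
  let g' : Spec (W.residueField z) ⟶ Y' := ι ≫ pullback.snd y g
  have hcomp : l ≫ y = g' ≫ g := by
    simp only [l, g', Category.assoc, pullback.condition]
  -- X_L has P
  have h1 : P (pullback (pullback.snd f g) g') :=
    pullback_of_geometrically h (W.residueField z) g'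
  have h2 : P (pullback f (g' ≫ g)) :=
    P.prop_of_iso (pullbackLeftPullbackSndIso f g g') h1
  have h3 : P (pullback f (l ≫ y)) :=
    P.prop_of_iso (pullback.congrHom rfl hcomp.symm) h2
  have h4 : P (pullback (pullback.snd f y) l) :=
    P.prop_of_iso (pullbackLeftPullbackSndIso f y l).symm h3
  haveI : Surjective l := H2_surjective_to_spec_field l
  exact hP (pullback.fst (pullback.snd f y) l) inferInstance h4


/-- Variant: it suffices that `P` descends along base change by an extension of fields. -/
theorem H2_geometrically_of_surjective_baseChange' (P : ObjectProperty Scheme.{u})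
    [P.IsClosedUnderIsomorphisms]
    (hP : ∀ (K L : Type u) [Field K] [Field L] (Z : Scheme.{u}) (a : Z ⟶ Spec (CommRingCat.of K))
      (l : Spec (CommRingCat.of L) ⟶ Spec (CommRingCat.of K)), P (pullback a l) → P Z)
    {X Y Y' : Scheme.{u}} (f : X ⟶ Y) (g : Y' ⟶ Y) [Surjective g]
    (h : geometrically P (pullback.snd f g)) : geometrically P f := by
  rw [geometrically_iff_of_isClosedUnderIsomorphisms]
  intro K _ y
  let pt : Spec (CommRingCat.of K) := IsLocalRing.closedPoint K
  obtain ⟨y', hy'⟩ := (inferInstance : Surjective g).surj (y pt)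
  obtain ⟨z, -, -⟩ := Scheme.Pullback.exists_preimage_pullback (f := y) (g := g) pt y' hy'.symm
  let W := pullback y g
  let ι : Spec (CommRingCat.of (W.residueField z)) ⟶ W := W.fromSpecResidueField z
  let l : Spec (CommRingCat.of (W.residueField z)) ⟶ Spec (CommRingCat.of K) := ι ≫ pullback.fst y g
  let g' : Spec (CommRingCat.of (W.residueField z)) ⟶ Y' := ι ≫ pullback.snd y g
  have hcomp : l ≫ y = g' ≫ g := by
    simp only [l, g', Category.assoc, pullback.condition]
  have h1 : P (pullback (pullback.snd f g) g') :=
    pullback_of_geometrically h (W.residueField z) g'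
  have h2 : P (pullback f (g' ≫ g)) :=
    P.prop_of_iso (pullbackLeftPullbackSndIso f g g') h1
  have h3 : P (pullback f (l ≫ y)) :=
    P.prop_of_iso (pullback.congrHom rfl hcomp.symm) h2
  have h4 : P (pullback (pullback.snd f y) l) :=
    P.prop_of_iso (pullbackLeftPullbackSndIso f y l).symm h3
  exact hP K (W.residueField z) _ (pullback.snd f y) l h4

/-- Reducedness descends along base change by a field extension. -/
theorem H2_isReduced_of_pullback_field (K L : Type u) [Field K] [Field L] (Z : Scheme.{u})
    (a : Z ⟶ Spec (CommRingCat.of K)) (l : Spec (CommRingCat.of L) ⟶ Spec (CommRingCat.of K))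
    (h : AlgebraicGeometry.IsReduced (pullback a l)) : AlgebraicGeometry.IsReduced Z := by
  haveI : Surjective l := H2_surjective_to_spec_field l
  haveI : IsDominant l := inferInstance
  haveI : IsSchemeTheoreticallyDominant l := .of_isDominant l
  haveI : Flat a := inferInstance
  exact IsSchemeTheoreticallyDominant.isReduced (pullback.fst a l)

theorem H2_surjective_pullback_fst_field (K L : Type u) [Field K] [Field L] (Z : Scheme.{u})
    (a : Z ⟶ Spec (CommRingCat.of K)) (l : Spec (CommRingCat.of L) ⟶ Spec (CommRingCat.of K)) :
    Surjective (pullback.fst a l) := by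
  haveI : Surjective l := H2_surjective_to_spec_field l
  infer_instance

end Groth.Agent.H2
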