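import Mathlib

set_option autoImplicit false

namespace Groth.Agent.H2

/-- dimension of a quasi-sober T0 space via the specialization order on points -/
theorem H2_topologicalKrullDim_eq (T : Type*) [TopologicalSpace T] [QuasiSober T] [T0Space T] :
    topologicalKrullDim T = @Order.krullDim T (specializationOrder T).toPreorder :=
  @Order.krullDim_eq_of_orderIso _ T _ (specializationOrder T).toPreorder
    (irreducibleSetEquivPoints (α := T))

theorem H2_topologicalKrullDim_le_of_specializes_inj {T T' : Type*} [TopologicalSpace T]
    [TopologicalSpace T'] [QuasiSober T] [T0Space T] [QuasiSober T'] [T0Space T']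
    (f : T → T') (hf : Continuous f)
    (hinj : ∀ x x' : T, x ⤳ x' → f x = f x' → x = x') :
    topologicalKrullDim T ≤ topologicalKrullDim T' := by
  rw [H2_topologicalKrullDim_eq T, H2_topologicalKrullDim_eq T']
  refine @Order.krullDim_le_of_strictMono T T' (specializationOrder T).toPreorder
    (specializationOrder T').toPreorder f ?_
  intro a b hab
  have hle : b ⤳ a := (@le_of_lt T (specializationOrder T).toPreorder a b hab)
  have hne : a ≠ b := by
    intro h
    exact (@lt_irrefl T (specializationOrder T).toPreorder a) (h ▸ hab)
  have h1 : f b ⤳ f a := hle.map hf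
  refine @lt_of_le_of_ne T' (specializationOrder T') (f a) (f b) h1 ?_
  intro h
  exact hne (hinj b a hle h.symm).symm

end Groth.Agent.H2
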