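import Mathlib

set_option autoImplicit false
universe u v w

namespace Groth.Agent.H2

open TensorProduct

/-- Base change of an epimorphism of rings is an epimorphism. -/
theorem H2_isEpi_baseChange (R : Type u) (A : Type v) (S : Type w) [CommRing R] [CommRing A]
    [CommRing S] [Algebra R A] [Algebra R S] [Algebra.IsEpi R S] :
    Algebra.IsEpi A (A ⊗[R] S) := by
  rw [Algebra.isEpi_iff_forall_one_tmul_eq]
  intro x
  induction x using TensorProduct.induction_on with
  | zero => simp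
  | add x y hx hy => rw [tmul_add, add_tmul, hx, hy]
  | tmul a s =>
    let ι : S →ₗ[R] A ⊗[R] S := (Algebra.TensorProduct.includeRight (R := R) (A := A) (B := S)).toLinearMap
    let ψ : S ⊗[R] S →ₗ[R] (A ⊗[R] S) ⊗[A] (A ⊗[R] S) :=
      ((TensorProduct.mapOfCompatibleSMul A R A (A ⊗[R] S) (A ⊗[R] S)).restrictScalars R) ∘ₗ
        TensorProduct.map ι ι
    have key := congrArg ψ ((Algebra.isEpi_iff_forall_one_tmul_eq R S).mp inferInstance s)
    have h1 : ψ (1 ⊗ₜ[R] s) = (1 : A ⊗[R] S) ⊗ₜ[A] ((1 : A) ⊗ₜ[R] s) := by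
      simp [ψ, ι, Algebra.TensorProduct.one_def]
    have h2 : ψ (s ⊗ₜ[R] 1) = ((1 : A) ⊗ₜ[R] s) ⊗ₜ[A] (1 : A ⊗[R] S) := by
      simp [ψ, ι, Algebra.TensorProduct.one_def]
    rw [h1, h2] at key
    have h3 : a ⊗ₜ[R] s = a • ((1 : A) ⊗ₜ[R] s) := by
      rw [TensorProduct.smul_tmul', smul_eq_mul, mul_one]
    rw [h3, tmul_smul, key, ← smul_tmul']

end Groth.Agent.H2
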