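import Mathlib

universe u v w

open CategoryTheory CategoryTheory.Limits CategoryTheory.Category CategoryTheory.Pretriangulated

namespace Groth.Agent.H2

variable {D : Type u} [Category.{v} D] [Preadditive D]
    [HasZeroObject D] [HasShift D ℤ]
    [∀ n : ℤ, (shiftFunctor D n).Additive] [Pretriangulated D]

set_option backward.defeqAttrib.useBackward true in
set_option backward.isDefEq.respectTransparency false in
/-- A mono in a pretriangulated category is the inclusion of a direct summand. -/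
theorem H2_mono_split_form {K X : D} (k : K ⟶ X) [Mono k] :
    ∃ (Z : D) (e : X ≅ K ⊞ Z), k ≫ e.hom = biprod.inl := by
  obtain ⟨Z, π, δ, hT⟩ := distinguished_cocone_triangle k
  have h0 : (Triangle.mk k π δ).mor₃ = 0 :=
    Triangle.mor₃_eq_zero_of_mono₁ _ hT (by dsimp; infer_instance)
  obtain ⟨e, he₁, _⟩ := exists_iso_binaryBiproduct_of_distTriang _ hT h0
  exact ⟨Z, e, he₁⟩

set_option backward.defeqAttrib.useBackward true in
set_option backward.isDefEq.respectTransparency false in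
theorem H2_hasKernel_split_form {X Y : D} (f : X ⟶ Y) [HasKernel f] :
    ∃ (K Z Q : D) (e₁ : X ≅ K ⊞ Z) (e₂ : Y ≅ Z ⊞ Q),
      f = e₁.hom ≫ biprod.snd ≫ biprod.inl ≫ e₂.inv := by
  obtain ⟨Z, e₁, he₁⟩ := H2_mono_split_form (kernel.ι f)
  have hk : kernel.ι f = biprod.inl ≫ e₁.inv := by
    rw [← he₁, assoc, e₁.hom_inv_id, comp_id]
  let f' : Z ⟶ Y := biprod.inr ≫ e₁.inv ≫ f
  have hf : f = e₁.hom ≫ biprod.snd ≫ f' := by
    rw [← cancel_epi e₁.inv, e₁.inv_hom_id_assoc]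
    apply biprod.hom_ext'
    · rw [← assoc, ← hk, kernel.condition, biprod.inl_snd_assoc, zero_comp]
    · rw [biprod.inr_snd_assoc]
  have : Mono f' := by
    rw [Preadditive.mono_iff_cancel_zero]
    intro W z hz
    have h1 : (z ≫ biprod.inr ≫ e₁.inv) ≫ f = 0 := by
      simpa [f'] using hz
    have h2 : z ≫ biprod.inr ≫ e₁.inv = kernel.lift f _ h1 ≫ kernel.ι f :=
      (kernel.lift_ι f _ h1).symm
    have h3 := congrArg (fun t => t ≫ e₁.hom ≫ biprod.snd) h2
    simp only [assoc, e₁.inv_hom_id_assoc, biprod.inr_snd, comp_id] at h3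
    rw [h3, hk]
    simp
  obtain ⟨Q, e₂, he₂⟩ := H2_mono_split_form f'
  refine ⟨kernel f, Z, Q, e₁, e₂, ?_⟩
  rw [← he₂, assoc, e₂.hom_inv_id, comp_id]
  exact hf

theorem H2_hasKernel_of_split_form {X Y : D} (f : X ⟶ Y) (K Z Q : D) (e₁ : X ≅ K ⊞ Z)
    (e₂ : Y ≅ Z ⊞ Q) (hf : f = e₁.hom ≫ biprod.snd ≫ biprod.inl ≫ e₂.inv) : HasKernel f := by
  have w : (biprod.inl ≫ e₁.inv : K ⟶ X) ≫ f = 0 := by
    rw [hf]; simp
  refine ⟨⟨⟨KernelFork.ofι (biprod.inl ≫ e₁.inv) w,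
    KernelFork.IsLimit.ofι _ _ (fun g _ => g ≫ e₁.hom ≫ biprod.fst) ?_ ?_⟩⟩⟩
  · intro W g hg
    have h1 : g ≫ e₁.hom ≫ biprod.snd = 0 := by
      have : Mono (biprod.inl ≫ e₂.inv : Z ⟶ Y) := mono_comp _ _
      rw [← cancel_mono (biprod.inl ≫ e₂.inv : Z ⟶ Y), zero_comp]
      rw [hf] at hg
      simpa using hg
    rw [← cancel_mono e₁.hom]
    apply biprod.hom_ext
    · simp
    · simp [h1]
  · intro W g hg m hm
    rw [← hm]
    simp

end Groth.Agent.H2
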