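import Mathlib
import Groth.Prelude
import Groth.Agent.Lib.helper2.KerSplit

universe u v w

open CategoryTheory CategoryTheory.Limits CategoryTheory.Category CategoryTheory.Pretriangulated
  Opposite

namespace Groth.Agent.H2

variable {D : Type u} [Category.{v} D] [Preadditive D]
    [HasZeroObject D] [HasShift D ℤ]
    [∀ n : ℤ, (shiftFunctor D n).Additive] [Pretriangulated D]

/-- A split mono with a given retraction is the inclusion of a summand, with the retraction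
becoming the projection. -/
theorem H2_splitMono_form {A X : D} (c : A ⟶ X) (r : X ⟶ A) (h : c ≫ r = 𝟙 A) :
    ∃ (Z : D) (e : X ≅ A ⊞ Z), c ≫ e.hom = biprod.inl ∧ e.hom ≫ biprod.fst = r := by
  have : Mono c := mono_of_mono_fac h
  obtain ⟨Z, e₀, he₀⟩ := H2_mono_split_form c
  have hc : c = biprod.inl ≫ e₀.inv := by rw [← he₀, assoc, e₀.hom_inv_id, comp_id]
  let t : Z ⟶ A := biprod.inr ≫ e₀.inv ≫ r
  let σ : A ⊞ Z ≅ A ⊞ Z :=
    { hom := biprod.lift (biprod.fst + biprod.snd ≫ t) biprod.snd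
      inv := biprod.lift (biprod.fst - biprod.snd ≫ t) biprod.snd
      hom_inv_id := by
        apply biprod.hom_ext <;> simp
      inv_hom_id := by
        apply biprod.hom_ext <;> simp }
  refine ⟨Z, e₀ ≪≫ σ, ?_, ?_⟩
  · dsimp [σ]
    rw [reassoc_of% he₀]
    apply biprod.hom_ext <;> simp
  · dsimp [σ]
    rw [assoc, biprod.lift_fst, ← cancel_epi e₀.inv, e₀.inv_hom_id_assoc]
    apply biprod.hom_ext'
    · simp only [Preadditive.comp_add, biprod.inl_fst, biprod.inl_snd_assoc, zero_comp, add_zero]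
      rw [← assoc, ← hc, h]
    · simp [t]

theorem H2_essConstant_decomp (X : ARSys.PS D) (A : D) (c : (Functor.const ℕᵒᵖ).obj A ⟶ X)
    (hX : DerCA.IsEssConstant X A c) :
    ∃ (i : ℕ) (Z : ℕ → D) (e : ∀ j : ℕ, X.obj (op (i + j)) ≅ A ⊞ Z j)
      (z : ∀ j k : ℕ, j ≤ k → (Z k ⟶ Z j)),
      (∀ j : ℕ, c.app (op (i + j)) ≫ (e j).hom = biprod.inl) ∧
      (∀ (j k : ℕ) (hjk : j ≤ k), (e k).inv ≫ ARSys.tr X (Nat.add_le_add_left hjk i) =
        biprod.map (𝟙 A) (z j k hjk) ≫ (e j).inv) ∧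
      (∀ j : ℕ, ∃ (k : ℕ) (hjk : j ≤ k), z j k hjk = 0) := by
  obtain ⟨i, s, hs, hk⟩ := hX
  let cc : ∀ n : ℕ, A ⟶ X.obj (op n) := fun n => c.app (op n)
  have hc : ∀ {n m : ℕ} (h : n ≤ m), cc m ≫ ARSys.tr X h = cc n := by
    intro n m h
    have := c.naturality (homOfLE h).op
    simpa using this.symm
  have htr : ∀ {a b d : ℕ} (h₁ : a ≤ b) (h₂ : b ≤ d),
      ARSys.tr X h₂ ≫ ARSys.tr X h₁ = ARSys.tr X (h₁.trans h₂) := by
    intro a b d h₁ h₂
    dsimp [ARSys.tr]
    rw [← X.map_comp]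
    rfl
  let r : ∀ j, X.obj (op (i + j)) ⟶ A := fun j => ARSys.tr X (Nat.le_add_right i j) ≫ s
  have hr : ∀ j, cc (i + j) ≫ r j = 𝟙 A := fun j => by
    dsimp [r]
    rw [reassoc_of% (hc (Nat.le_add_right i j))]
    exact hs
  choose Z e he₁ he₂ using fun j => H2_splitMono_form (cc (i + j)) (r j) (hr j)
  have hrr : ∀ j k (hjk : j ≤ k), ARSys.tr X (Nat.add_le_add_left hjk i) ≫ r j = r k := by
    intro j k hjk
    dsimp [r]
    rw [reassoc_of% (htr (Nat.le_add_right i j) (Nat.add_le_add_left hjk i))]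
  have hinl : ∀ k, biprod.inl ≫ (e k).inv = cc (i + k) := fun k => by
    rw [← he₁ k, assoc, Iso.hom_inv_id, comp_id]
  refine ⟨i, Z, e, fun j k hjk => biprod.inr ≫ (e k).inv ≫
    ARSys.tr X (Nat.add_le_add_left hjk i) ≫ (e j).hom ≫ biprod.snd, he₁, ?_, ?_⟩
  · intro j k hjk
    dsimp only
    rw [← cancel_mono (e j).hom, assoc, assoc, (e j).inv_hom_id, comp_id]
    apply biprod.hom_ext'
    · rw [reassoc_of% (hinl k), reassoc_of% (hc (Nat.add_le_add_left hjk i)), he₁ j]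
      simp
    · apply biprod.hom_ext
      · simp only [assoc]
        rw [he₂ j, hrr j k hjk, ← he₂ k, Iso.inv_hom_id_assoc]
        simp
      · simp
  · intro j
    obtain ⟨k', hi, hj, hk'⟩ := hk (i + j)
    obtain ⟨k, rfl⟩ := Nat.exists_eq_add_of_le hi
    have hjk : j ≤ k := by omega
    refine ⟨k, hjk, ?_⟩
    dsimp only
    have h1 : ARSys.tr X (Nat.add_le_add_left hjk i) = ARSys.tr X hj := rfl
    rw [h1, hk']
    simp only [assoc]
    have h2 : c.app (op (i + j)) ≫ (e j).hom = biprod.inl := he₁ j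
    rw [reassoc_of% h2]
    simp

end Groth.Agent.H2
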