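import Mathlib
import Groth.Prelude

universe u v w

open CategoryTheory CategoryTheory.Limits CategoryTheory.Category Opposite

namespace Groth.Agent.H2

section Criterion

variable {D : Type u} [Category.{v} D] [Preadditive D]

lemma H2_tr_comp (Y : ARSys.PS D) {a b d : ℕ} (h₁ : a ≤ b) (h₂ : b ≤ d) :
    ARSys.tr Y h₂ ≫ ARSys.tr Y h₁ = ARSys.tr Y (h₁.trans h₂) := by
  dsimp [ARSys.tr]
  rw [← Y.map_comp]
  rfl

lemma H2_tr_refl (Y : ARSys.PS D) (a : ℕ) : ARSys.tr Y (le_refl a) = 𝟙 _ := by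
  dsimp [ARSys.tr]
  exact Y.map_id _

/-- pro-Yoneda criterion for essential constancy. -/
theorem H2_essConstant_of_yoneda (Y : ARSys.PS D) (B : D) (i₀ : ℕ) (p : Y.obj (op i₀) ⟶ B)
    (hsurj : ∀ (T : D) (m : ℕ) (v : Y.obj (op m) ⟶ T), ∃ (w : B ⟶ T) (m' : ℕ) (h₁ : m ≤ m')
      (h₂ : i₀ ≤ m'), ARSys.tr Y h₁ ≫ v = ARSys.tr Y h₂ ≫ p ≫ w)
    (hinj : ∀ (T : D) (w : B ⟶ T) (m : ℕ) (h : i₀ ≤ m), ARSys.tr Y h ≫ p ≫ w = 0 → w = 0) :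
    ∃ (cB : (Functor.const ℕᵒᵖ).obj B ⟶ Y), DerCA.IsEssConstant Y B cB := by
  choose w m' h₁ h₂ hw using fun n => hsurj (Y.obj (op n)) n (𝟙 _)
  simp only [comp_id] at hw
  have hinj' : ∀ (T : D) (w₁ w₂ : B ⟶ T) (m : ℕ) (h : i₀ ≤ m),
      ARSys.tr Y h ≫ p ≫ w₁ = ARSys.tr Y h ≫ p ≫ w₂ → w₁ = w₂ := by
    intro T w₁ w₂ m h e
    rw [← sub_eq_zero]
    apply hinj T _ m h
    rw [Preadditive.comp_sub, Preadditive.comp_sub, e, sub_self]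
  have hnat : ∀ (n n' : ℕ) (h : n ≤ n'), w n' ≫ ARSys.tr Y h = w n := by
    intro n n' h
    let m := max (m' n) (m' n')
    have hm₁ : m' n ≤ m := le_max_left _ _
    have hm₂ : m' n' ≤ m := le_max_right _ _
    apply hinj' _ _ _ m ((h₂ n).trans hm₁)
    have e1 : ARSys.tr Y ((h₂ n).trans hm₁) ≫ p ≫ w n = ARSys.tr Y ((h₁ n).trans hm₁) := by
      rw [← H2_tr_comp Y (h₂ n) hm₁, assoc, ← hw n, H2_tr_comp]
    have e2 : ARSys.tr Y ((h₂ n).trans hm₁) ≫ p ≫ w n' = ARSys.tr Y ((h₁ n').trans hm₂) := by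
      have : ARSys.tr Y ((h₂ n).trans hm₁) = ARSys.tr Y ((h₂ n').trans hm₂) := rfl
      rw [this, ← H2_tr_comp Y (h₂ n') hm₂, assoc, ← hw n', H2_tr_comp]
    rw [e1, ← assoc, ← assoc, assoc _ p, e2, H2_tr_comp]
  let cB : (Functor.const ℕᵒᵖ).obj B ⟶ Y :=
    { app := fun x => w x.unop
      naturality := by
        intro x y f
        dsimp
        rw [id_comp]
        have h : y.unop ≤ x.unop := leOfHom f.unop
        have : f = (homOfLE h).op := Subsingleton.elim _ _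
        rw [this]
        exact (hnat _ _ h).symm }
  refine ⟨cB, i₀, p, ?_, ?_⟩
  · change w i₀ ≫ p = 𝟙 B
    apply hinj' _ _ _ (m' i₀) (h₂ i₀)
    rw [comp_id, ← assoc p, ← assoc, ← assoc, assoc _ p, ← hw i₀]
  · intro j
    exact ⟨m' j, h₂ j, h₁ j, hw j⟩

end Criterion

section TwoOfThree

open CategoryTheory.Pretriangulated

variable {D : Type u} [Category.{v} D] [Preadditive D] [HasZeroObject D] [HasShift D ℤ]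
    [∀ n : ℤ, (shiftFunctor D n).Additive] [Pretriangulated D]

omit [Preadditive D] [HasZeroObject D] [HasShift D ℤ] [∀ n : ℤ, (shiftFunctor D n).Additive]
  [Pretriangulated D] in
lemma H2_cone_nat (X : ARSys.PS D) (A : D) (c : (Functor.const ℕᵒᵖ).obj A ⟶ X) {n m : ℕ}
    (h : n ≤ m) : c.app (op m) ≫ ARSys.tr X h = c.app (op n) := by
  have := c.naturality (homOfLE h).op
  simpa using this.symm

omit [HasZeroObject D] [HasShift D ℤ] [∀ n : ℤ, (shiftFunctor D n).Additive]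
  [Pretriangulated D] in
lemma H2_essConstant_index (X : ARSys.PS D) (A : D) (c : (Functor.const ℕᵒᵖ).obj A ⟶ X)
    (h : DerCA.IsEssConstant X A c) :
    ∃ i : ℕ, ∀ (i' : ℕ) (_ : i ≤ i'), ∃ s : X.obj (op i') ⟶ A, c.app (op i') ≫ s = 𝟙 A ∧
      ∀ j : ℕ, ∃ (k : ℕ) (hik : i' ≤ k) (hjk : j ≤ k),
        ARSys.tr X hjk = ARSys.tr X hik ≫ s ≫ c.app (op j) := by
  obtain ⟨i, s, hs, hk⟩ := h
  refine ⟨i, fun i' hi => ⟨ARSys.tr X hi ≫ s, ?_, fun j => ?_⟩⟩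
  · rw [← assoc, H2_cone_nat X A c hi, hs]
  · obtain ⟨k₀, hik₀, hjk₀, e⟩ := hk j
    have h1 : k₀ ≤ max k₀ i' := le_max_left _ _
    have h2 : i' ≤ max k₀ i' := le_max_right _ _
    refine ⟨max k₀ i', h2, hjk₀.trans h1, ?_⟩
    rw [← H2_tr_comp X hjk₀ h1, e, ← assoc, H2_tr_comp X hik₀ h1, assoc, ← assoc (ARSys.tr X h2),
      H2_tr_comp X hi h2]

set_option maxHeartbeats 1600000 in
theorem H2_essConstant_two_of_three (X Y Z : ARSys.PS D) (f : X ⟶ Y) (g : Y ⟶ Z)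
    (h : Z ⟶ X ⋙ shiftFunctor D (1 : ℤ))
    (hT : ∀ n : ℕ, Triangle.mk (f.app (op n)) (g.app (op n)) (h.app (op n)) ∈
      distinguishedTriangles)
    (A : D) (cA : (Functor.const ℕᵒᵖ).obj A ⟶ X) (hX : DerCA.IsEssConstant X A cA)
    (C : D) (cC : (Functor.const ℕᵒᵖ).obj C ⟶ Z) (hZ : DerCA.IsEssConstant Z C cC) :
    ∃ (B : D) (cB : (Functor.const ℕᵒᵖ).obj B ⟶ Y), DerCA.IsEssConstant Y B cB := by
  obtain ⟨iX, hX'⟩ := H2_essConstant_index X A cA hX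
  obtain ⟨iZ, hZ'⟩ := H2_essConstant_index Z C cC hZ
  obtain ⟨sX, hsX, hkX⟩ := hX' (max iX iZ) (le_max_left _ _)
  obtain ⟨sZ, hsZ, hkZ⟩ := hZ' (max iX iZ) (le_max_right _ _)
  generalize max iX iZ = i at sX hsX hkX sZ hsZ hkZ
  clear hX' hZ' hX hZ
  -- clean components
  let ff : ∀ n : ℕ, X.obj (op n) ⟶ Y.obj (op n) := fun n => f.app (op n)
  let gg : ∀ n : ℕ, Y.obj (op n) ⟶ Z.obj (op n) := fun n => g.app (op n)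
  let hh : ∀ n : ℕ, Z.obj (op n) ⟶ (X.obj (op n))⟦(1 : ℤ)⟧ := fun n => h.app (op n)
  let a' : ∀ n : ℕ, A ⟶ X.obj (op n) := fun n => cA.app (op n)
  let c' : ∀ n : ℕ, C ⟶ Z.obj (op n) := fun n => cC.app (op n)
  have hT' : ∀ n, Triangle.mk (ff n) (gg n) (hh n) ∈ distTriang D := hT
  have fnat : ∀ {n m : ℕ} (hnm : n ≤ m), ARSys.tr X hnm ≫ ff n = ff m ≫ ARSys.tr Y hnm :=
    fun hnm => f.naturality (homOfLE hnm).op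
  have gnat : ∀ {n m : ℕ} (hnm : n ≤ m), ARSys.tr Y hnm ≫ gg n = gg m ≫ ARSys.tr Z hnm :=
    fun hnm => g.naturality (homOfLE hnm).op
  have hnat : ∀ {n m : ℕ} (hnm : n ≤ m),
      ARSys.tr Z hnm ≫ hh n = hh m ≫ (ARSys.tr X hnm)⟦(1 : ℤ)⟧' :=
    fun hnm => h.naturality (homOfLE hnm).op
  have anat : ∀ {n m : ℕ} (hnm : n ≤ m), a' m ≫ ARSys.tr X hnm = a' n :=
    fun hnm => H2_cone_nat X A cA hnm
  have cnat : ∀ {n m : ℕ} (hnm : n ≤ m), c' m ≫ ARSys.tr Z hnm = c' n :=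
    fun hnm => H2_cone_nat Z C cC hnm
  have hsX' : a' i ≫ sX = 𝟙 A := hsX
  have hsZ' : c' i ≫ sZ = 𝟙 C := hsZ
  have hkX' : ∀ j : ℕ, ∃ (k : ℕ) (hik : i ≤ k) (hjk : j ≤ k),
      ARSys.tr X hjk = (ARSys.tr X hik ≫ sX) ≫ a' j := by
    intro j
    obtain ⟨k, hik, hjk, e⟩ := hkX j
    exact ⟨k, hik, hjk, by rw [assoc]; exact e⟩
  have hkZ' : ∀ j : ℕ, ∃ (k : ℕ) (hik : i ≤ k) (hjk : j ≤ k),
      ARSys.tr Z hjk = (ARSys.tr Z hik ≫ sZ) ≫ c' j := by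
    intro j
    obtain ⟨k, hik, hjk, e⟩ := hkZ j
    exact ⟨k, hik, hjk, by rw [assoc]; exact e⟩
  clear_value ff gg hh a' c'
  clear hkX hkZ hsX hsZ hT
  -- projections
  let πA : ∀ (n : ℕ) (_ : i ≤ n), X.obj (op n) ⟶ A := fun n hn => ARSys.tr X hn ≫ sX
  let πC : ∀ (n : ℕ) (_ : i ≤ n), Z.obj (op n) ⟶ C := fun n hn => ARSys.tr Z hn ≫ sZ
  have hπA : ∀ (n : ℕ) (hn : i ≤ n), a' n ≫ πA n hn = 𝟙 A := fun n hn => by
    dsimp only [πA]; rw [← assoc, anat hn, hsX']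
  have hπC : ∀ (n : ℕ) (hn : i ≤ n), c' n ≫ πC n hn = 𝟙 C := fun n hn => by
    dsimp only [πC]; rw [← assoc, cnat hn, hsZ']
  have hπAtr : ∀ (n m : ℕ) (hn : i ≤ n) (hnm : n ≤ m),
      ARSys.tr X hnm ≫ πA n hn = πA m (hn.trans hnm) := fun n m hn hnm => by
    dsimp only [πA]; rw [← assoc, H2_tr_comp]
  have hπCtr : ∀ (n m : ℕ) (hn : i ≤ n) (hnm : n ≤ m),
      ARSys.tr Z hnm ≫ πC n hn = πC m (hn.trans hnm) := fun n m hn hnm => by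
    dsimp only [πC]; rw [← assoc, H2_tr_comp]
  -- the connecting map
  let a : C ⟶ A⟦(1 : ℤ)⟧ := c' i ≫ hh i ≫ sX⟦(1 : ℤ)⟧'
  obtain ⟨k, hik, _, hk⟩ := hkZ' i
  have hcompat_k : hh k ≫ (πA k hik)⟦(1 : ℤ)⟧' = πC k hik ≫ a := by
    calc hh k ≫ (πA k hik)⟦(1 : ℤ)⟧'
        = (hh k ≫ (ARSys.tr X hik)⟦(1 : ℤ)⟧') ≫ sX⟦(1 : ℤ)⟧' := by
          dsimp only [πA]; rw [Functor.map_comp, assoc]
      _ = (ARSys.tr Z hik ≫ hh i) ≫ sX⟦(1 : ℤ)⟧' := by rw [hnat hik]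
      _ = (((ARSys.tr Z hik ≫ sZ) ≫ c' i) ≫ hh i) ≫ sX⟦(1 : ℤ)⟧' := by
          congr 2
      _ = πC k hik ≫ a := by dsimp only [πC, a]; simp only [assoc]
  have hkX'' : ∀ j : ℕ, ∃ (k : ℕ) (hik : i ≤ k) (hjk : j ≤ k),
      ARSys.tr X hjk = πA k hik ≫ a' j := hkX'
  have hkZ'' : ∀ j : ℕ, ∃ (k : ℕ) (hik : i ≤ k) (hjk : j ≤ k),
      ARSys.tr Z hjk = πC k hik ≫ c' j := hkZ'
  clear hkX' hkZ'
  clear_value πA πC a
  have hcompat : ∀ (n : ℕ) (hn : k ≤ n),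
      hh n ≫ (πA n (hik.trans hn))⟦(1 : ℤ)⟧' = πC n (hik.trans hn) ≫ a := by
    intro n hn
    calc hh n ≫ (πA n (hik.trans hn))⟦(1 : ℤ)⟧'
        = (hh n ≫ (ARSys.tr X hn)⟦(1 : ℤ)⟧') ≫ (πA k hik)⟦(1 : ℤ)⟧' := by
          rw [← hπAtr k n hik hn, Functor.map_comp, assoc]
      _ = ARSys.tr Z hn ≫ hh k ≫ (πA k hik)⟦(1 : ℤ)⟧' := by rw [← hnat hn, assoc]
      _ = (ARSys.tr Z hn ≫ πC k hik) ≫ a := by rw [hcompat_k, assoc]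
      _ = πC n (hik.trans hn) ≫ a := by rw [hπCtr k n hik hn]
  obtain ⟨B, α, β, hTB⟩ := distinguished_cocone_triangle₂ a
  obtain ⟨p, hp₁, hp₂⟩ : ∃ p : Y.obj (op k) ⟶ B, ff k ≫ p = πA k hik ≫ α ∧
      gg k ≫ πC k hik = p ≫ β :=
    complete_distinguished_triangle_morphism₂ _ _ (hT' k) hTB
      (πA k hik) (πC k hik) hcompat_k
  have hβa : β ≫ a = 0 := comp_distTriang_mor_zero₂₃ _ hTB
  have hp₁' : ∀ (n : ℕ) (hn : k ≤ n),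
      ff n ≫ ARSys.tr Y hn ≫ p = πA n (hik.trans hn) ≫ α := by
    intro n hn
    calc ff n ≫ ARSys.tr Y hn ≫ p = (ARSys.tr X hn ≫ ff k) ≫ p := by rw [fnat hn, assoc]
      _ = (ARSys.tr X hn ≫ πA k hik) ≫ α := by rw [assoc, hp₁, assoc]
      _ = πA n (hik.trans hn) ≫ α := by rw [hπAtr k n hik hn]
  have hp₂' : ∀ (n : ℕ) (hn : k ≤ n),
      gg n ≫ πC n (hik.trans hn) = (ARSys.tr Y hn ≫ p) ≫ β := by
    intro n hn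
    calc gg n ≫ πC n (hik.trans hn) = (gg n ≫ ARSys.tr Z hn) ≫ πC k hik := by
          rw [← hπCtr k n hik hn, assoc]
      _ = ARSys.tr Y hn ≫ gg k ≫ πC k hik := by rw [← gnat hn, assoc]
      _ = (ARSys.tr Y hn ≫ p) ≫ β := by rw [hp₂, assoc]
  refine ⟨B, H2_essConstant_of_yoneda Y B k p ?_ ?_⟩
  · -- surjectivity
    intro T m₀ v₀
    -- reduce to m ≥ k
    have hm₀ : m₀ ≤ max m₀ k := le_max_left _ _
    have hm : k ≤ max m₀ k := le_max_right _ _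
    generalize max m₀ k = m at hm₀ hm
    let v : Y.obj (op m) ⟶ T := ARSys.tr Y hm₀ ≫ v₀
    obtain ⟨m₁, him₁, hmm₁, e₁⟩ := hkX'' m
    have hkm₁ : k ≤ m₁ := hm.trans hmm₁
    obtain ⟨wA, hwA⟩ : ∃ wA : A ⟶ T, wA = a' m ≫ ff m ≫ v := ⟨_, rfl⟩
    have eA : ARSys.tr X hmm₁ ≫ ff m ≫ v = πA m₁ him₁ ≫ wA := by
      rw [e₁, assoc, hwA]
    have hzero : a ≫ wA⟦(1 : ℤ)⟧' = 0 := by
      have h1 : πC m₁ him₁ ≫ a ≫ wA⟦(1 : ℤ)⟧' = 0 := by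
        have hz : hh m₁ ≫ (ff m₁)⟦(1 : ℤ)⟧' = 0 := comp_distTriang_mor_zero₃₁ _ (hT' m₁)
        calc πC m₁ him₁ ≫ a ≫ wA⟦(1 : ℤ)⟧'
            = (hh m₁ ≫ (πA m₁ him₁)⟦(1 : ℤ)⟧') ≫ wA⟦(1 : ℤ)⟧' := by
              rw [hcompat m₁ hkm₁, assoc]
          _ = hh m₁ ≫ (πA m₁ him₁ ≫ wA)⟦(1 : ℤ)⟧' := by rw [assoc, ← Functor.map_comp]
          _ = hh m₁ ≫ ((ff m₁ ≫ ARSys.tr Y hmm₁) ≫ v)⟦(1 : ℤ)⟧' := by
              rw [← eA, ← fnat hmm₁, assoc]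
          _ = (hh m₁ ≫ (ff m₁)⟦(1 : ℤ)⟧') ≫ (ARSys.tr Y hmm₁ ≫ v)⟦(1 : ℤ)⟧' := by
              rw [assoc, assoc, Functor.map_comp]
          _ = 0 := by rw [hz, zero_comp]
      have := congrArg (fun t => c' m₁ ≫ t) h1
      simpa only [← assoc, hπC m₁ him₁, id_comp, comp_zero] using this
    obtain ⟨w₁, hw₁⟩ : ∃ w₁ : B ⟶ T, wA = α ≫ w₁ := by
      obtain ⟨g₁, hg₁⟩ : ∃ g₁ : B⟦(1 : ℤ)⟧ ⟶ T⟦(1 : ℤ)⟧,
          wA⟦(1 : ℤ)⟧' = (-(α⟦(1 : ℤ)⟧')) ≫ g₁ :=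
        (Triangle.mk α β a).rotate.yoneda_exact₃ (rot_of_distTriang _ hTB)
          (wA⟦(1 : ℤ)⟧') hzero
      obtain ⟨g₀, rfl⟩ := (shiftFunctor D (1 : ℤ)).map_surjective g₁
      refine ⟨-g₀, ?_⟩
      apply (shiftFunctor D (1 : ℤ)).map_injective
      refine hg₁.trans ?_
      have e9 : (-g₀)⟦(1 : ℤ)⟧' = -(g₀⟦(1 : ℤ)⟧') := (shiftFunctor D (1 : ℤ)).map_neg
      rw [Functor.map_comp, e9, Preadditive.neg_comp, Preadditive.comp_neg]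
    let pm₁ : Y.obj (op m₁) ⟶ B := ARSys.tr Y hkm₁ ≫ p
    let v' : Y.obj (op m₁) ⟶ T := ARSys.tr Y hmm₁ ≫ v - pm₁ ≫ w₁
    have hv' : ff m₁ ≫ v' = 0 := by
      have q1 : ff m₁ ≫ ARSys.tr Y hmm₁ ≫ v = πA m₁ him₁ ≫ wA := by
        rw [← assoc, ← fnat hmm₁, assoc, eA]
      have q2 : ff m₁ ≫ pm₁ ≫ w₁ = πA m₁ him₁ ≫ wA := by
        dsimp only [pm₁]
        rw [← assoc, ← assoc, assoc (ff m₁), hp₁' m₁ hkm₁, assoc, ← hw₁]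
      dsimp only [v']
      rw [Preadditive.comp_sub, q1, q2, sub_self]
    obtain ⟨v'', hv''⟩ : ∃ v'' : Z.obj (op m₁) ⟶ T, v' = gg m₁ ≫ v'' :=
      (Triangle.mk (ff m₁) (gg m₁) (hh m₁)).yoneda_exact₂ (hT' m₁) v' hv'
    obtain ⟨m₂, him₂, hm₁m₂, e₂⟩ := hkZ'' m₁
    have hkm₂ : k ≤ m₂ := hkm₁.trans hm₁m₂
    let wC : C ⟶ T := c' m₁ ≫ v''
    refine ⟨w₁ + β ≫ wC, m₂, hm₀.trans (hmm₁.trans hm₁m₂), hkm₂, ?_⟩
    have e3 : ARSys.tr Y hm₁m₂ ≫ v' = (ARSys.tr Y hkm₂ ≫ p) ≫ β ≫ wC := by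
      calc ARSys.tr Y hm₁m₂ ≫ v' = (ARSys.tr Y hm₁m₂ ≫ gg m₁) ≫ v'' := by rw [hv'', assoc]
        _ = gg m₂ ≫ ARSys.tr Z hm₁m₂ ≫ v'' := by rw [gnat hm₁m₂, assoc]
        _ = (gg m₂ ≫ πC m₂ him₂) ≫ wC := by rw [e₂]; simp only [assoc, wC]
        _ = (ARSys.tr Y hkm₂ ≫ p) ≫ β ≫ wC := by rw [hp₂' m₂ hkm₂, assoc]
    have e4 : ARSys.tr Y hm₁m₂ ≫ v' =
        ARSys.tr Y (hm₀.trans (hmm₁.trans hm₁m₂)) ≫ v₀ - (ARSys.tr Y hkm₂ ≫ p) ≫ w₁ := by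
      dsimp only [v', v, pm₁]
      rw [Preadditive.comp_sub, ← assoc, H2_tr_comp, ← assoc, H2_tr_comp, ← assoc,
        ← assoc (ARSys.tr Y hm₁m₂), H2_tr_comp]
    rw [Preadditive.comp_add, Preadditive.comp_add, ← assoc (ARSys.tr Y hkm₂),
      ← assoc (ARSys.tr Y hkm₂) p (β ≫ wC), ← e3, e4]
    abel
  · -- injectivity
    intro T w m hm hw
    have h1 : α ≫ w = 0 := by
      have h2 : πA m (hik.trans hm) ≫ α ≫ w = 0 := by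
        rw [← assoc, ← hp₁' m hm, assoc, assoc, hw, comp_zero]
      have := congrArg (fun t => a' m ≫ t) h2
      simpa only [← assoc, hπA m (hik.trans hm), id_comp, comp_zero] using this
    obtain ⟨w', hw'⟩ : ∃ w' : C ⟶ T, w = β ≫ w' :=
      (Triangle.mk α β a).yoneda_exact₂ hTB w h1
    have h3 : gg m ≫ (πC m (hik.trans hm) ≫ w') = 0 := by
      rw [← assoc, hp₂' m hm, assoc, assoc, ← hw', hw]
    obtain ⟨u, hu⟩ : ∃ u : (X.obj (op m))⟦(1 : ℤ)⟧ ⟶ T,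
        πC m (hik.trans hm) ≫ w' = hh m ≫ u :=
      (Triangle.mk (ff m) (gg m) (hh m)).yoneda_exact₃ (hT' m) _ h3
    obtain ⟨m₁, him₁, hmm₁, e₁⟩ := hkX'' m
    have hkm₁ : k ≤ m₁ := hm.trans hmm₁
    have h4 : πC m₁ him₁ ≫ w' = πC m₁ him₁ ≫ a ≫ (a' m)⟦(1 : ℤ)⟧' ≫ u := by
      calc πC m₁ him₁ ≫ w' = ARSys.tr Z hmm₁ ≫ πC m (hik.trans hm) ≫ w' := by
            rw [← hπCtr m m₁ (hik.trans hm) hmm₁, assoc]
        _ = (ARSys.tr Z hmm₁ ≫ hh m) ≫ u := by rw [hu, assoc]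
        _ = hh m₁ ≫ (πA m₁ him₁ ≫ a' m)⟦(1 : ℤ)⟧' ≫ u := by rw [hnat hmm₁, e₁, assoc]
        _ = (hh m₁ ≫ (πA m₁ him₁)⟦(1 : ℤ)⟧') ≫ (a' m)⟦(1 : ℤ)⟧' ≫ u := by
            rw [Functor.map_comp, assoc, assoc]
        _ = πC m₁ him₁ ≫ a ≫ (a' m)⟦(1 : ℤ)⟧' ≫ u := by rw [hcompat m₁ hkm₁, assoc]
    have h5 : w' = a ≫ (a' m)⟦(1 : ℤ)⟧' ≫ u := by
      have := congrArg (fun t => c' m₁ ≫ t) h4
      simpa only [← assoc, hπC m₁ him₁, id_comp] using this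
    rw [hw', h5, ← assoc, hβa, zero_comp]

end TwoOfThree

end Groth.Agent.H2
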