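import Mathlib

/-! Truncation triangles in the derived category and a vanishing criterion for morphisms
`D^{≤ m} ⟶ D^{≥ m}`. -/

namespace Groth.Agent.H2

open CategoryTheory Category Limits Pretriangulated DerivedCategory

universe w v u

variable {A : Type u} [Category.{v} A] [Abelian A] [HasDerivedCategory.{w} A]

set_option backward.isDefEq.respectTransparency false in
set_option backward.defeqAttrib.useBackward true in
/-- The truncation triangle `τ_{≤ n} K ⟶ K ⟶ τ_{≥ n+1} K ⟶` is distinguished in `D(A)`. -/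
theorem H2_truncTriangle_dist (K : CochainComplex A ℤ) (n m : ℤ) (h : n + 1 = m) :
    ∃ δ : Q.obj (K.truncGE m) ⟶ (Q.obj (K.truncLE n))⟦(1 : ℤ)⟧,
      Triangle.mk (Q.map (K.ιTruncLE n)) (Q.map (K.πTruncGE m)) δ ∈
        distTriang (DerivedCategory A) := by
  have hS := K.shortComplexTruncLE_shortExact n
  refine ⟨inv (Q.map (K.shortComplexTruncLEX₃ToTruncGE n m h)) ≫ (triangleOfSES hS).mor₃, ?_⟩
  refine isomorphic_distinguished _ (triangleOfSES_distinguished hS) _ (Iso.symm ?_)
  refine Triangle.isoMk _ _ (Iso.refl _) (Iso.refl _)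
    (asIso (Q.map (K.shortComplexTruncLEX₃ToTruncGE n m h))) ?_ ?_ (by simp)
  · dsimp
    rw [id_comp, comp_id]
    rfl
  · dsimp
    rw [id_comp, ← Q.map_comp, CochainComplex.g_shortComplexTruncLEX₃ToTruncGE ..]

/-- A chain map from a complex strictly `≤ m` to a complex strictly `≥ m` which is zero on `H^m`
is zero. -/
theorem H2_chainMap_eq_zero_of_homologyMap (m : ℤ) (K L : CochainComplex A ℤ)
    [K.IsStrictlyLE m] [L.IsStrictlyGE m] (g : K ⟶ L)
    (hg : HomologicalComplex.homologyMap g m = 0) : g = 0 := by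
  ext i
  by_cases hi : m < i
  · exact (K.isZero_of_isStrictlyLE m i hi).eq_of_src _ _
  by_cases hi' : i < m
  · exact (L.isZero_of_isStrictlyGE m i hi').eq_of_tgt _ _
  obtain rfl : i = m := by omega
  have hK : K.d i (i + 1) = 0 := (K.isZero_of_isStrictlyLE i (i + 1) (by omega)).eq_of_tgt _ _
  have hL : L.d (i - 1) i = 0 := (L.isZero_of_isStrictlyGE i (i - 1) (by omega)).eq_of_src _ _
  have : IsIso (K.iCycles i) := K.isIso_iCycles i (i + 1) (by simp) hK
  have : IsIso (L.homologyπ i) := L.isIso_homologyπ (i - 1) i (by simp) hL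
  have h1 : HomologicalComplex.cyclesMap g i = 0 := by
    rw [← cancel_mono (L.homologyπ i), zero_comp, ← HomologicalComplex.homologyπ_naturality, hg,
      comp_zero]
  rw [HomologicalComplex.zero_f, ← cancel_epi (K.iCycles i), comp_zero,
    ← HomologicalComplex.cyclesMap_i, h1, zero_comp]

/-- A morphism `Q K ⟶ Q L` with `K` strictly `≤ m`, `L` strictly `≥ m`, zero on `H^m`, is zero. -/
theorem H2_Q_hom_eq_zero_of_homology (m : ℤ) (K L : CochainComplex A ℤ)
    [K.IsStrictlyLE m] [L.IsStrictlyGE m] (h : Q.obj K ⟶ Q.obj L)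
    (hh : (homologyFunctor A m).map h = 0) : h = 0 := by
  obtain ⟨K', _, s, _, g, rfl⟩ := right_fac_of_isStrictlyLE h m
  have hg : HomologicalComplex.homologyMap g m = 0 := by
    have h1 : (homologyFunctor A m).map (Q.map g) = 0 := by
      have : Q.map g = Q.map s ≫ (inv (Q.map s) ≫ Q.map g) := by simp
      rw [this, Functor.map_comp, hh, comp_zero]
    have h2 := (homologyFunctorFactors A m).hom.naturality g
    dsimp at h2
    rw [h1, zero_comp] at h2
    have h3 : (homologyFunctorFactors A m).hom.app K' ≫ HomologicalComplex.homologyMap g m = 0 :=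
      h2.symm
    exact (cancel_epi ((homologyFunctorFactors A m).hom.app K')).1 (h3.trans comp_zero.symm)
  rw [H2_chainMap_eq_zero_of_homologyMap m K' L g hg, Functor.map_zero, comp_zero]

/-- Morphisms `W ⟶ V` in `D(A)` with `W ∈ D^{≤ m}`, `V ∈ D^{≥ m}` which vanish on `H^m` are
zero. -/
theorem H2_hom_eq_zero_of_homology (m : ℤ) {W V : DerivedCategory A} [W.IsLE m] [V.IsGE m]
    (h : W ⟶ V) (hh : (homologyFunctor A m).map h = 0) : h = 0 := by
  obtain ⟨K, _, ⟨e⟩⟩ := exists_iso_Q_obj_of_isLE W m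
  obtain ⟨L, _, ⟨e'⟩⟩ := exists_iso_Q_obj_of_isGE V m
  have := H2_Q_hom_eq_zero_of_homology m K L (e.inv ≫ h ≫ e'.hom) (by
    rw [Functor.map_comp, Functor.map_comp, hh, zero_comp, comp_zero])
  rw [← cancel_epi e.inv, ← cancel_mono e'.hom, assoc, this, comp_zero, zero_comp]

end Groth.Agent.H2
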