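import Mathlib
import Groth.Prelude
import Groth.Agent.Lib.helper2.TStr
import Groth.Agent.Lib.helper2.EssConst2

/-! Essential constancy of bounded inverse systems in `D(A)` detected on homology. -/

namespace Groth.Agent.H2

open CategoryTheory Category Limits Pretriangulated Opposite ZeroObject

universe w v u v' u'

section Generic

variable {D : Type u} [Category.{v} D]

/-- Essential constancy transfers along an isomorphism of systems. -/
theorem H2_essConstant_of_natIso (Z Z' : ARSys.PS D) (φ : Z ≅ Z') (B : D)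
    (c : (Functor.const ℕᵒᵖ).obj B ⟶ Z) (h : DerCA.IsEssConstant Z B c) :
    DerCA.IsEssConstant Z' B (c ≫ φ.hom) := by
  obtain ⟨i, s, hs, hk⟩ := h
  refine ⟨i, φ.inv.app (op i) ≫ s, ?_, ?_⟩
  · rw [NatTrans.comp_app, assoc, Iso.hom_inv_id_app_assoc, hs]
  · intro j
    obtain ⟨k, hi, hj, e⟩ := hk j
    refine ⟨k, hi, hj, ?_⟩
    have n1 : ARSys.tr Z' hj = φ.inv.app (op k) ≫ ARSys.tr Z hj ≫ φ.hom.app (op j) := by
      have := φ.hom.naturality (homOfLE hj).op
      dsimp only [ARSys.tr]
      rw [this, Iso.inv_hom_id_app_assoc]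
    have n2 : ARSys.tr Z' hi ≫ φ.inv.app (op i) = φ.inv.app (op k) ≫ ARSys.tr Z hi :=
      φ.inv.naturality (homOfLE hi).op
    rw [n1, e, NatTrans.comp_app]
    simp only [assoc]
    rw [← assoc (ARSys.tr Z' hi), n2, assoc]

/-- Essential constancy transfers along an isomorphism of the value. -/
theorem H2_essConstant_of_iso_value (Z : ARSys.PS D) (B B' : D) (e : B' ≅ B)
    (c : (Functor.const ℕᵒᵖ).obj B ⟶ Z) (h : DerCA.IsEssConstant Z B c) :
    DerCA.IsEssConstant Z B' ((Functor.const ℕᵒᵖ).map e.hom ≫ c) := by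
  obtain ⟨i, s, hs, hk⟩ := h
  refine ⟨i, s ≫ e.inv, ?_, ?_⟩
  · have : ((Functor.const ℕᵒᵖ).map e.hom ≫ c).app (op i) ≫ s ≫ e.inv =
        e.hom ≫ (c.app (op i) ≫ s) ≫ e.inv := by simp
    rw [this, hs, id_comp, e.hom_inv_id]
  · intro j
    obtain ⟨k, hi, hj, e'⟩ := hk j
    refine ⟨k, hi, hj, ?_⟩
    rw [e', NatTrans.comp_app, Functor.const_map_app]
    simp only [assoc, Iso.inv_hom_id_assoc]

/-- A system of zero objects is essentially constant. -/
theorem H2_essConstant_of_isZero [HasZeroMorphisms D] [HasZeroObject D] (Z : ARSys.PS D)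
    (hZ : ∀ n : ℕ, IsZero (Z.obj (op n))) :
    ∃ (B : D) (c : (Functor.const ℕᵒᵖ).obj B ⟶ Z), DerCA.IsEssConstant Z B c :=
  ⟨(0 : D), 0, 0, 0, (isZero_zero D).eq_of_src _ _, fun j =>
    ⟨j, Nat.zero_le j, le_refl j, (hZ j).eq_of_src _ _⟩⟩

/-- Essential constancy is reflected by a functor which is fully faithful on a class of objects
containing the system and the value. -/
theorem H2_essConstant_reflect {A₀ : Type u'} [Category.{v'} A₀] (F : D ⥤ A₀) (P : D → Prop)
    (hfull : ∀ {W V : D}, P W → P V → ∀ φ : F.obj W ⟶ F.obj V, ∃ u : W ⟶ V, F.map u = φ)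
    (hfaith : ∀ {W V : D}, P W → P V → ∀ u v : W ⟶ V, F.map u = F.map v → u = v)
    (Z : ARSys.PS D) (hZ : ∀ n : ℕ, P (Z.obj (op n))) (L : D) (hL : P L)
    (c : (Functor.const ℕᵒᵖ).obj (F.obj L) ⟶ Z ⋙ F)
    (h : DerCA.IsEssConstant (Z ⋙ F) (F.obj L) c) :
    ∃ c' : (Functor.const ℕᵒᵖ).obj L ⟶ Z, DerCA.IsEssConstant Z L c' := by
  choose c₀ hc₀ using fun n : ℕ => hfull hL (hZ n) (c.app (op n))
  have cnat : ∀ (n : ℕ), c₀ (n + 1) ≫ Z.map (homOfLE (n.le_add_right 1)).op = c₀ n := by
    intro n
    apply hfaith hL (hZ n)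
    rw [F.map_comp, hc₀, hc₀]
    have := c.naturality (homOfLE (n.le_add_right 1)).op
    dsimp at this
    rw [id_comp] at this
    exact this.symm
  let c' : (Functor.const ℕᵒᵖ).obj L ⟶ Z := NatTrans.ofOpSequence (fun n => c₀ n) (by
    intro n
    dsimp
    rw [id_comp, cnat])
  have hc' : ∀ n : ℕ, c'.app (op n) = c₀ n := fun n => rfl
  refine ⟨c', ?_⟩
  obtain ⟨i, s, hs, hk⟩ := h
  obtain ⟨s', hs'⟩ := hfull (hZ i) hL s
  refine ⟨i, s', ?_, ?_⟩
  · apply hfaith hL hL
    rw [F.map_comp, hc', hc₀, hs', hs, F.map_id]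
  · intro j
    obtain ⟨k, hi, hj, e⟩ := hk j
    refine ⟨k, hi, hj, ?_⟩
    apply hfaith (hZ k) (hZ j)
    rw [F.map_comp, F.map_comp, hs', hc', hc₀]
    exact e

end Generic

section Derived

open DerivedCategory

variable {A : Type u} [Category.{v} A] [Abelian A] [HasDerivedCategory.{w} A]

/-- `H^b` is faithful on `D^{[b,b]}`. -/
theorem H2_heart_faithful (b : ℤ) {W V : DerivedCategory A} [W.IsLE b] [V.IsGE b]
    (u v : W ⟶ V) (h : (homologyFunctor A b).map u = (homologyFunctor A b).map v) : u = v := by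
  rw [← sub_eq_zero]
  apply H2_hom_eq_zero_of_homology b
  rw [Functor.map_sub, h, sub_self]

/-- `H^b` is full on `D^{[b,b]}`. -/
theorem H2_heart_full (b : ℤ) {W V : DerivedCategory A} [W.IsGE b] [W.IsLE b] [V.IsGE b]
    [V.IsLE b] (φ : (homologyFunctor A b).obj W ⟶ (homologyFunctor A b).obj V) :
    ∃ u : W ⟶ V, (homologyFunctor A b).map u = φ := by
  obtain ⟨M, ⟨eW⟩⟩ := exists_iso_singleFunctor_obj_of_isGE_of_isLE W b
  obtain ⟨N, ⟨eV⟩⟩ := exists_iso_singleFunctor_obj_of_isGE_of_isLE V b
  let σ := singleFunctorCompHomologyFunctorIso A b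
  let ψ : M ⟶ N := σ.inv.app M ≫ (homologyFunctor A b).map eW.inv ≫ φ ≫
    (homologyFunctor A b).map eV.hom ≫ σ.hom.app N
  refine ⟨eW.hom ≫ (singleFunctor A b).map ψ ≫ eV.inv, ?_⟩
  have hn : (homologyFunctor A b).map ((singleFunctor A b).map ψ) =
      σ.hom.app M ≫ ψ ≫ σ.inv.app N := by
    have := σ.hom.naturality ψ
    dsimp at this
    rw [← assoc, ← this, assoc, Iso.hom_inv_id_app]
    exact (comp_id _).symm
  rw [Functor.map_comp, Functor.map_comp, hn]
  dsimp only [ψ]
  simp only [assoc, Iso.hom_inv_id_app_assoc, Iso.hom_inv_id_app]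
  rw [← Functor.map_comp_assoc, eW.hom_inv_id, CategoryTheory.Functor.map_id, id_comp]
  dsimp only [Functor.comp_obj]
  rw [id_comp, ← Functor.map_comp, eV.hom_inv_id, CategoryTheory.Functor.map_id]
  exact comp_id _

/-- `τ_{<b} X ⟶ X` is an isomorphism on `H^i` for `i < b`. -/
theorem H2_isIso_homology_truncLTι (X : DerivedCategory A) (b i : ℤ) (hi : i < b) :
    IsIso ((homologyFunctor A i).map ((TStructure.t.truncLTι b).app X)) := by
  have hT := TStructure.t.triangleLTGE_distinguished b X
  have hm : Mono ((homologyFunctor A i).map ((TStructure.t.truncLTι b).app X)) := by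
    have := (HomologySequence.mono_homologyMap_mor₁_iff _ hT (i - 1) i (by ring)).2
      ((isZero_of_isGE ((TStructure.t.truncGE b).obj X) b (i - 1) (by omega)).eq_of_src _ _)
    exact this
  have he : Epi ((homologyFunctor A i).map ((TStructure.t.truncLTι b).app X)) := by
    have := (HomologySequence.epi_homologyMap_mor₁_iff _ hT i).2
      ((isZero_of_isGE ((TStructure.t.truncGE b).obj X) b i hi).eq_of_tgt _ _)
    exact this
  exact isIso_of_mono_of_epi _

/-- `X ⟶ τ_{≥b} X` is an isomorphism on `H^b` when `X ∈ D^{≤ b}`... in fact always. -/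
theorem H2_isIso_homology_truncGEπ (X : DerivedCategory A) (b : ℤ) :
    IsIso ((homologyFunctor A b).map ((TStructure.t.truncGEπ b).app X)) := by
  have hT := TStructure.t.triangleLTGE_distinguished b X
  have hm : Mono ((homologyFunctor A b).map ((TStructure.t.truncGEπ b).app X)) := by
    have := (HomologySequence.mono_homologyMap_mor₂_iff _ hT b).2
      ((isZero_of_isLE ((TStructure.t.truncLT b).obj X) (b - 1) b (by omega)).eq_of_src _ _)
    exact this
  have he : Epi ((homologyFunctor A b).map ((TStructure.t.truncGEπ b).app X)) := by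
    have := (HomologySequence.epi_homologyMap_mor₂_iff _ hT b (b + 1) rfl).2
      ((isZero_of_isLE ((TStructure.t.truncLT b).obj X) (b - 1) (b + 1) (by omega)).eq_of_tgt _ _)
    exact this
  exact isIso_of_mono_of_epi _

set_option backward.isDefEq.respectTransparency false in
set_option maxHeartbeats 800000 in
/-- A bounded inverse system in `D(A)` whose homology systems are essentially constant is
essentially constant. -/
theorem H2_essConstant_of_homology (k : ℕ) : ∀ (X : ARSys.PS (DerivedCategory A)) (a : ℤ)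
    (_ : ∀ n : ℕ, (X.obj (op n)).IsGE a) (_ : ∀ n : ℕ, (X.obj (op n)).IsLE (a + k - 1))
    (_ : ∀ i : ℤ, ∃ (B : A) (c : (Functor.const ℕᵒᵖ).obj B ⟶ X ⋙ homologyFunctor A i),
      DerCA.IsEssConstant (X ⋙ homologyFunctor A i) B c),
    ∃ (L : DerivedCategory A) (c : (Functor.const ℕᵒᵖ).obj L ⟶ X),
      DerCA.IsEssConstant X L c := by
  induction k with
  | zero =>
    intro X a hGE hLE hH
    apply H2_essConstant_of_isZero
    intro n
    have := hGE n
    have := hLE n
    rw [IsZero.iff_id_eq_zero]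
    exact TStructure.t.zero (𝟙 _) (a + ((0 : ℕ) : ℤ) - 1) a (by simp)
  | succ k ih =>
    intro X a hGE hLE hH
    let t : Triangulated.TStructure (DerivedCategory A) := TStructure.t
    have hb : a + ((k + 1 : ℕ) : ℤ) - 1 = a + k := by push_cast; ring
    rw [hb] at hLE
    generalize hbdef : a + (k : ℤ) = b at hLE
    let X' : ARSys.PS (DerivedCategory A) := X ⋙ t.truncLT b
    let X'' : ARSys.PS (DerivedCategory A) := X ⋙ t.truncGE b
    let f : X' ⟶ X :=
      { app := fun n => (t.truncLTι b).app (X.obj n)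
        naturality := fun _ _ φ => (t.truncLTι b).naturality (X.map φ) }
    let g : X ⟶ X'' :=
      { app := fun n => (t.truncGEπ b).app (X.obj n)
        naturality := fun _ _ φ => (t.truncGEπ b).naturality (X.map φ) }
    let h : X'' ⟶ X' ⋙ shiftFunctor (DerivedCategory A) (1 : ℤ) :=
      { app := fun n => (t.truncGEδLT b).app (X.obj n)
        naturality := fun _ _ φ => (t.truncGEδLT b).naturality (X.map φ) }
    have hT : ∀ n : ℕ, Triangle.mk (f.app (op n)) (g.app (op n)) (h.app (op n)) ∈
        distTriang (DerivedCategory A) := fun n => t.triangleLTGE_distinguished b (X.obj (op n))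
    obtain ⟨L', c', hc'⟩ : ∃ (L' : DerivedCategory A) (c' : (Functor.const ℕᵒᵖ).obj L' ⟶ X'),
        DerCA.IsEssConstant X' L' c' := by
      apply ih X' a
      · intro n
        have := hGE n
        exact inferInstanceAs (t.IsGE ((t.truncLT b).obj (X.obj (op n))) a)
      · intro n
        have e : a + (k : ℤ) - 1 = b - 1 := by rw [hbdef]
        rw [e]
        exact inferInstanceAs (t.IsLE ((t.truncLT b).obj (X.obj (op n))) (b - 1))
      · intro i
        by_cases hi : i < b
        · obtain ⟨B, c, hc⟩ := hH i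
          have : ∀ n : ℕᵒᵖ, IsIso ((Functor.whiskerRight f (homologyFunctor A i)).app n) :=
            fun n => H2_isIso_homology_truncLTι (X.obj n) b i hi
          have : IsIso (Functor.whiskerRight f (homologyFunctor A i)) :=
            NatIso.isIso_of_isIso_app _
          exact ⟨B, _, H2_essConstant_of_natIso _ _
            (asIso (Functor.whiskerRight f (homologyFunctor A i))).symm B c hc⟩
        · apply H2_essConstant_of_isZero
          intro n
          exact isZero_of_isLE ((t.truncLT b).obj (X.obj (op n))) (b - 1) i (by omega)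
    obtain ⟨L'', c'', hc''⟩ : ∃ (L'' : DerivedCategory A)
        (c'' : (Functor.const ℕᵒᵖ).obj L'' ⟶ X''), DerCA.IsEssConstant X'' L'' c'' := by
      obtain ⟨B, c, hc⟩ := hH b
      have : ∀ n : ℕᵒᵖ, IsIso ((Functor.whiskerRight g (homologyFunctor A b)).app n) :=
        fun n => H2_isIso_homology_truncGEπ (X.obj n) b
      have : IsIso (Functor.whiskerRight g (homologyFunctor A b)) :=
        NatIso.isIso_of_isIso_app _
      have h1 := H2_essConstant_of_natIso _ _
        (asIso (Functor.whiskerRight g (homologyFunctor A b))) B c hc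
      have h2 := H2_essConstant_of_iso_value _ B _
        ((singleFunctorCompHomologyFunctorIso A b).app B) _ h1
      have hP : ∀ n : ℕ, (fun W : DerivedCategory A => W.IsGE b ∧ W.IsLE b) (X''.obj (op n)) := by
        intro n
        have := hLE n
        exact ⟨inferInstanceAs (t.IsGE ((t.truncGE b).obj (X.obj (op n))) b),
          inferInstanceAs (t.IsLE ((t.truncGE b).obj (X.obj (op n))) b)⟩
      obtain ⟨c'', hc''⟩ := H2_essConstant_reflect (homologyFunctor A b)
        (fun W => W.IsGE b ∧ W.IsLE b)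
        (fun hW hV φ => by
          obtain ⟨_, _⟩ := hW
          obtain ⟨_, _⟩ := hV
          exact H2_heart_full b φ)
        (fun hW hV u v e => by
          obtain ⟨_, _⟩ := hW
          obtain ⟨_, _⟩ := hV
          exact H2_heart_faithful b u v e)
        X'' hP ((singleFunctor A b).obj B) ⟨inferInstance, inferInstance⟩ _ h2
      exact ⟨_, c'', hc''⟩
    exact H2_essConstant_two_of_three X' X X'' f g h hT L' c' hc' L'' c'' hc''

end Derived

end Groth.Agent.H2
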