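import Mathlib
import Groth.Agent.Lib.helper2.EulerLength

set_option autoImplicit false

namespace Groth.Agent.H2

open CategoryTheory CategoryTheory.Limits

universe u

variable {A : Type u} [Ring A]

lemma H2_isFiniteLength_homology {ι : Type*} {c : ComplexShape ι}
    (M : HomologicalComplex (ModuleCat.{u} A) c) (i : ι) (h : IsFiniteLength A (M.X i)) :
    IsFiniteLength A (M.homology i) := by
  rw [← Module.length_ne_top_iff] at h ⊢
  have h1 := H2_length_sc (M.sc i)
  change Module.length A (M.X i) = _ + Module.length A (M.homology i) + _ at h1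
  rw [h1] at h
  exact (WithTop.add_ne_top.mp (WithTop.add_ne_top.mp h).1).2

theorem H2_euler_ss (E : E₂CohomologicalSpectralSequence (ModuleCat.{u} A)) (s : Finset (ℤ × ℤ))
    (hs : ∀ pq : ℤ × ℤ, pq ∉ s → IsZero ((E.page 2).X pq))
    (hfl : ∀ pq : ℤ × ℤ, IsFiniteLength A ((E.page 2).X pq)) :
    ∀ (r : ℤ) (hr : 2 ≤ r),
      (∀ pq : ℤ × ℤ, pq ∉ s → IsZero ((E.page r hr).X pq)) ∧
      (∀ pq : ℤ × ℤ, IsFiniteLength A ((E.page r hr).X pq)) ∧
      (s.sum fun pq => (((pq.1 + pq.2).negOnePow : ℤˣ) : ℤ) *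
          ((Module.length A ((E.page r hr).X pq)).toNat : ℤ)) =
        s.sum fun pq => (((pq.1 + pq.2).negOnePow : ℤˣ) : ℤ) *
          ((Module.length A ((E.page 2).X pq)).toNat : ℤ) := by
  intro r hr
  induction r, hr using Int.le_induction with
  | base => exact ⟨hs, hfl, rfl⟩
  | succ r hr ih =>
    obtain ⟨ih1, ih2, ih3⟩ := ih
    have hiso : ∀ pq, (E.page r hr).homology pq ≅ (E.page (r + 1) (by omega)).X pq :=
      fun pq => E.iso r (r + 1) pq rfl hr
    refine ⟨?_, ?_, ?_⟩
    · intro pq hpq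
      refine IsZero.of_iso ?_ (hiso pq).symm
      exact ShortComplex.isZero_homology_of_isZero_X₂ _ (ih1 pq hpq)
    · intro pq
      exact (H2_isFiniteLength_homology _ pq (ih2 pq)).of_surjective (f := (hiso pq).toLinearEquiv.toLinearMap) (hiso pq).toLinearEquiv.surjective
    · rw [← ih3]
      have := H2_euler_length_gen (E.page r hr) s
        (fun pq => (((pq.1 + pq.2).negOnePow : ℤˣ) : ℤ)) ?_ ih1 ih2
      · rw [this]
        refine Finset.sum_congr rfl fun pq _ => ?_
        congr 2
        exact congrArg _ (hiso pq).toLinearEquiv.length_eq.symm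
      · rintro ⟨p, q⟩ ⟨p', q'⟩ hrel
        have h1 : (p, q) + ((r, 1 - r) : ℤ × ℤ) = (p', q') := hrel
        simp only [Prod.mk_add_mk, Prod.mk.injEq] at h1
        have : p' + q' = p + q + 1 := by omega
        simp only [this, Int.negOnePow_succ, Units.val_neg]

end Groth.Agent.H2
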