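import Mathlib

universe u v w w'

open CategoryTheory CategoryTheory.Limits CategoryTheory.Category

namespace Groth.Agent.H2

open DerivedCategory in
set_option backward.isDefEq.respectTransparency false in
/-- chain-level effaceability: a morphism in the derived category from a single object in degree 0
to a complex with zero term in degree 0 is killed by an epi. -/
theorem H2_derived_efface {A : Type u} [Category.{v} A] [Abelian A] [HasDerivedCategory.{w} A]
    (B : A) (Y : CochainComplex A ℤ) (hY : IsZero (Y.X 0))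
    (y : Q.obj ((CochainComplex.singleFunctor A 0).obj B) ⟶ Q.obj Y) :
    ∃ (P : A) (π : P ⟶ B), Epi π ∧ Q.map ((CochainComplex.singleFunctor A 0).map π) ≫ y = 0 := by
  obtain ⟨X', hX', s, hs, g, rfl⟩ := right_fac_of_isStrictlyLE y 0
  have hd : ∀ k, X'.d 0 k = 0 := by
    intro k
    by_cases hk : 0 < k
    · exact (X'.isZero_of_isStrictlyLE 0 k hk).eq_of_tgt _ _
    · by_cases h1 : (ComplexShape.up ℤ).Rel 0 k
      · simp at h1; omega
      · exact X'.shape _ _ h1
  let ι : (CochainComplex.singleFunctor A 0).obj (X'.X 0) ⟶ X' :=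
    HomologicalComplex.mkHomFromSingle (𝟙 _) (fun k _ => by rw [hd, comp_zero])
  let π : X'.X 0 ⟶ B := s.f 0 ≫ (HomologicalComplex.singleObjXSelf (ComplexShape.up ℤ) 0 B).hom
  have h1 : ι ≫ s = (CochainComplex.singleFunctor A 0).map π := by
    apply HomologicalComplex.from_single_hom_ext
    erw [HomologicalComplex.single_map_f_self]
    simp [ι, π, HomologicalComplex.mkHomFromSingle_f]
  have h2 : ι ≫ g = 0 := by
    apply HomologicalComplex.from_single_hom_ext
    exact hY.eq_of_tgt _ _
  refine ⟨X'.X 0, π, ?_, ?_⟩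
  · have hq : QuasiIso s := by rwa [isIso_Q_map_iff_quasiIso] at hs
    let L := (CochainComplex.singleFunctor A 0).obj B
    have i1 : IsIso (X'.iCycles 0) := X'.isIso_iCycles 0 1 (by simp) (hd 1)
    have i2 : IsIso (L.homologyπ 0) := L.isIso_homologyπ (-1) 0 (by simp) (by
      apply (HomologicalComplex.isZero_single_obj_X (ComplexShape.up ℤ) 0 B (-1) (by omega)).eq_of_src)
    have i3 : IsIso (L.iCycles 0) := L.isIso_iCycles 0 1 (by simp) (by
      apply (HomologicalComplex.isZero_single_obj_X (ComplexShape.up ℤ) 0 B 1 (by omega)).eq_of_tgt)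
    have e1 : HomologicalComplex.cyclesMap s 0 ≫ L.homologyπ 0 =
        X'.homologyπ 0 ≫ HomologicalComplex.homologyMap s 0 :=
      (HomologicalComplex.homologyπ_naturality s 0).symm
    have i4 : Epi (HomologicalComplex.cyclesMap s 0) := by
      have : HomologicalComplex.cyclesMap s 0 =
          (X'.homologyπ 0 ≫ HomologicalComplex.homologyMap s 0) ≫ inv (L.homologyπ 0) := by
        rw [← e1, assoc, IsIso.hom_inv_id, comp_id]
      rw [this]
      infer_instance
    have e2 : s.f 0 = inv (X'.iCycles 0) ≫ HomologicalComplex.cyclesMap s 0 ≫ L.iCycles 0 := by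
      rw [HomologicalComplex.cyclesMap_i, IsIso.inv_hom_id_assoc]
    have : Epi (s.f 0) := by
      rw [e2]
      infer_instance
    exact epi_comp _ _
  · rw [← h1, Functor.map_comp, assoc, IsIso.hom_inv_id_assoc, ← Functor.map_comp, h2,
      Functor.map_zero]

open DerivedCategory Abelian in
set_option backward.isDefEq.respectTransparency false in
/-- Effaceability of `Ext`: every class of positive degree is killed by an epimorphism. -/
theorem H2_ext_efface {A : Type u} [Category.{v} A] [Abelian A] [HasExt.{w} A]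
    {B C : A} {n : ℕ} (x : Ext B C (n + 1)) :
    ∃ (P : A) (π : P ⟶ B), Epi π ∧ (Ext.mk₀ π).comp x (zero_add _) = 0 := by
  letI := HasDerivedCategory.standard A
  let a : ℤ := ((n + 1 : ℕ) : ℤ)
  let K := (CochainComplex.singleFunctor A 0).obj C
  have hY : IsZero ((K⟦a⟧).X 0) := by
    show IsZero (K.X (0 + a))
    exact HomologicalComplex.isZero_single_obj_X (ComplexShape.up ℤ) 0 C (0 + a)
      (by simp only [a]; omega)
  obtain ⟨P, π, hπ, h⟩ := H2_derived_efface B (K⟦a⟧) hY (x.hom ≫ (Q.commShiftIso a).inv.app K)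
  refine ⟨P, π, hπ, ?_⟩
  apply Ext.ext
  simp only [Ext.comp_hom, Ext.mk₀_hom, ShiftedHom.mk₀_comp, Ext.zero_hom]
  rw [← assoc] at h
  have h' := (cancel_mono ((Q.commShiftIso a).inv.app K)).1 (h.trans (Limits.zero_comp).symm)
  exact h'

end Groth.Agent.H2
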