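import Mathlib

set_option autoImplicit false
universe v u
open CategoryTheory CategoryTheory.Limits CategoryTheory.Pretriangulated

namespace Groth.Agent.H2

variable {D : Type u} [Category.{v} D] [Preadditive D] [HasZeroObject D] [HasShift D ℤ]
  [∀ n : ℤ, (shiftFunctor D n).Additive] [Pretriangulated D]

open ObjectProperty in
/-- If every map from an object of `P₁` to the shift by one of an object of `P₂` vanishes, then
`P₂ ⋆ P₁ ≤ P₁ ⋆ P₂` (the extension splits). -/
theorem H2_extProd_swap (P₁ P₂ : ObjectProperty D)
    (h : ∀ (X₁ X₂ : D) (k : X₁ ⟶ (shiftFunctor D (1 : ℤ)).obj X₂), P₁ X₁ → P₂ X₂ → k = 0) :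
    extensionProduct P₂ P₁ ≤ extensionProduct P₁ P₂ := by
  intro X ⟨Y, Z, f, g, k, hT, hY, hZ⟩
  have hk : k = 0 := h Z Y k hZ hY
  obtain ⟨e, -, -⟩ := exists_iso_binaryBiproduct_of_distTriang _ hT hk
  have e' : X ≅ Z ⊞ Y := e ≪≫ biprod.braiding Y Z
  exact (extensionProduct P₁ P₂).prop_of_iso e'.symm
    ⟨Z, Y, _, _, _, binaryBiproductTriangle_distinguished Z Y, hZ, hY⟩

open ObjectProperty in
/-- If `Hom(P₁, P₂⟦1⟧) = 0` for triangulated `P₁`, `P₂`, then `P₁ ⋆ P₂` is triangulated. -/
theorem H2_extProd_isTriangulated [IsTriangulated D] (P₁ P₂ : ObjectProperty D)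
    [P₁.IsTriangulated] [P₂.IsTriangulated]
    (h : ∀ (X₁ X₂ : D) (k : X₁ ⟶ (shiftFunctor D (1 : ℤ)).obj X₂), P₁ X₁ → P₂ X₂ → k = 0) :
    (extensionProduct P₁ P₂).IsTriangulated := by
  have h1 : ObjectProperty.ContainsZero (extensionProduct P₁ P₂) := by
    obtain ⟨Z, hZ, hP⟩ := P₁.exists_prop_of_containsZero
    exact ⟨⟨Z, hZ, le_extensionProduct_left P₂ Z hP⟩⟩
  have h3 : ObjectProperty.IsTriangulatedClosed₂ (extensionProduct P₁ P₂) := by
    apply ObjectProperty.IsTriangulatedClosed₂.mk'
    intro T hT hX hZ
    have hY : extensionProduct (extensionProduct P₁ P₂) (extensionProduct P₁ P₂) T.obj₂ :=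
      ⟨_, _, _, _, _, hT, hX, hZ⟩
    have key : extensionProduct (extensionProduct P₁ P₂) (extensionProduct P₁ P₂) ≤
        extensionProduct P₁ P₂ := by
      calc extensionProduct (extensionProduct P₁ P₂) (extensionProduct P₁ P₂)
          = extensionProduct P₁ (extensionProduct (extensionProduct P₂ P₁) P₂) := by
            rw [extensionProduct_assoc, extensionProduct_assoc]
        _ ≤ extensionProduct P₁ (extensionProduct (extensionProduct P₁ P₂) P₂) :=
            monotone_extensionProduct_right _ (monotone_extensionProduct_left _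
              (H2_extProd_swap P₁ P₂ h))
        _ = extensionProduct (extensionProduct P₁ P₁) (extensionProduct P₂ P₂) := by
            rw [extensionProduct_assoc, extensionProduct_assoc]
        _ ≤ extensionProduct P₁.isoClosure P₂.isoClosure :=
            (monotone_extensionProduct_left _
              (extensionProduct_le_of_isTriangulatedClosed₂' le_rfl le_rfl)).trans
            (monotone_extensionProduct_right _
              (extensionProduct_le_of_isTriangulatedClosed₂' le_rfl le_rfl))
        _ = extensionProduct P₁ P₂ := by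
            rw [extensionProduct_isoClosure_left, extensionProduct_isoClosure_right]
    exact key _ hY
  exact { }

end Groth.Agent.H2
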