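import Mathlib
import Groth.Agent.Lib.helper2.AmpZero

set_option autoImplicit false
universe w v u

namespace Groth.Agent.H2

open CategoryTheory Limits Pretriangulated Triangulated DerivedCategory

variable {A : Type u} [Category.{v} A] [Abelian A] [HasDerivedCategory.{w} A]

/-- `H^q(τ<n M) → H^q(M)` is an isomorphism for `q < n`. -/
lemma H2_isIso_homology_truncLTι (n q : ℤ) (hq : q < n) (M : DerivedCategory A) :
    IsIso ((homologyFunctor A q).map ((TStructure.t.truncLTι n).app M)) := by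
  have hT := TStructure.t.triangleLTGE_distinguished n M
  have h3 : ((TStructure.t.triangleLTGE n).obj M).obj₃.IsGE n := by infer_instance
  have hmono : Mono ((homologyFunctor A q).map ((TStructure.t.truncLTι n).app M)) :=
    (HomologySequence.mono_homologyMap_mor₁_iff _ hT (q - 1) q (by lia)).2 (by
      apply IsZero.eq_of_src
      exact isZero_of_isGE _ n (q - 1) (by lia))
  have hepi : Epi ((homologyFunctor A q).map ((TStructure.t.truncLTι n).app M)) :=
    (HomologySequence.epi_homologyMap_mor₁_iff _ hT q).2 (by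
      apply IsZero.eq_of_tgt
      exact isZero_of_isGE _ n q hq)
  exact isIso_of_mono_of_epi _

/-- `H^q(M) → H^q(τ≥n M)` is an isomorphism for `n ≤ q`. -/
lemma H2_isIso_homology_truncGEπ (n q : ℤ) (hq : n ≤ q) (M : DerivedCategory A) :
    IsIso ((homologyFunctor A q).map ((TStructure.t.truncGEπ n).app M)) := by
  have hT := TStructure.t.triangleLTGE_distinguished n M
  have h1 : ((TStructure.t.triangleLTGE n).obj M).obj₁.IsLE (n - 1) := by infer_instance
  have hepi : Epi ((homologyFunctor A q).map ((TStructure.t.truncGEπ n).app M)) :=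
    (HomologySequence.epi_homologyMap_mor₂_iff _ hT q (q + 1) rfl).2 (by
      apply IsZero.eq_of_tgt
      exact isZero_of_isLE _ (n - 1) (q + 1) (by lia))
  have hmono : Mono ((homologyFunctor A q).map ((TStructure.t.truncGEπ n).app M)) :=
    (HomologySequence.mono_homologyMap_mor₂_iff _ hT q).2 (by
      apply IsZero.eq_of_src
      exact isZero_of_isLE _ (n - 1) q (by lia))
  exact isIso_of_mono_of_epi _

/-- An object concentrated in degree `i` is the single complex on its `H^i`. -/
lemma H2_iso_single_homology (i : ℤ) (B : DerivedCategory A) [B.IsGE i] [B.IsLE i] :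
    Nonempty (B ≅ (singleFunctor A i).obj ((homologyFunctor A i).obj B)) := by
  obtain ⟨Y, ⟨e⟩⟩ := exists_iso_singleFunctor_obj_of_isGE_of_isLE B i
  let φ : (homologyFunctor A i).obj B ≅ Y :=
    (homologyFunctor A i).mapIso e ≪≫ (singleFunctorCompHomologyFunctorIso A i).app Y
  exact ⟨e ≪≫ (singleFunctor A i).mapIso φ.symm⟩

end Groth.Agent.H2

namespace Groth.Agent.H2

open CategoryTheory Limits Pretriangulated Triangulated DerivedCategory

variable {A : Type u} [Category.{v} A] [Abelian A] [HasDerivedCategory.{w} A]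

/-- Dévissage: `Hom(S, M[1]) = 0` if `Hom(S, H^j(M)[-j][1]) = 0` for all `j`. -/
lemma H2_hom_shift_eq_zero_of_devissage (S : DerivedCategory A) (N : ℕ) :
    ∀ (M : DerivedCategory A) (a c : ℤ), M.IsGE a → M.IsLE c → c < a + N →
      (∀ j : ℤ, j ≤ c → ∀ Y : A, Nonempty (Y ≅ (homologyFunctor A j).obj M) →
        ∀ f : S ⟶ ((singleFunctor A j).obj Y)⟦(1 : ℤ)⟧, f = 0) →
      ∀ f : S ⟶ M⟦(1 : ℤ)⟧, f = 0 := by
  induction N with
  | zero =>
    intro M a c hGE hLE hac _ f
    have hz : IsZero M := TStructure.t.isZero M c a (by simpa using hac)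
    exact ((shiftFunctor (DerivedCategory A) (1 : ℤ)).map_isZero hz).eq_of_tgt _ _
  | succ N ih =>
    intro M a c hGE hLE hac hS f
    let t : TStructure (DerivedCategory A) := TStructure.t
    have hT := t.triangleLTGE_distinguished c M
    have hT2 := rot_of_distTriang _ (rot_of_distTriang _ hT)
    -- the top piece
    obtain ⟨θ⟩ := H2_iso_single_homology c ((t.truncGE c).obj M)
    have hπ := H2_isIso_homology_truncGEπ c c le_rfl M
    have h1 : f ≫ ((t.truncGEπ c).app M)⟦(1 : ℤ)⟧' = 0 := by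
      have h2 : (f ≫ ((t.truncGEπ c).app M)⟦(1 : ℤ)⟧') ≫ θ.hom⟦(1 : ℤ)⟧' = 0 :=
        hS c le_rfl _ ⟨(asIso ((homologyFunctor A c).map ((t.truncGEπ c).app M))).symm⟩ _
      have h3 : f ≫ ((t.truncGEπ c).app M)⟦(1 : ℤ)⟧'
          = ((f ≫ ((t.truncGEπ c).app M)⟦(1 : ℤ)⟧') ≫ θ.hom⟦(1 : ℤ)⟧') ≫ θ.inv⟦(1 : ℤ)⟧' := by
        rw [Category.assoc, ← Functor.map_comp, θ.hom_inv_id, CategoryTheory.Functor.map_id,
          Category.comp_id]
      rw [h3, h2, Limits.zero_comp]
    obtain ⟨f', hf'⟩ : ∃ f' : S ⟶ ((t.truncLT c).obj M)⟦(1 : ℤ)⟧,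
        f = f' ≫ (-((t.truncLTι c).app M)⟦(1 : ℤ)⟧') :=
      Triangle.coyoneda_exact₃ _ hT2 f (by
        change f ≫ (-((t.truncGEπ c).app M)⟦(1 : ℤ)⟧') = 0
        rw [Preadditive.comp_neg, h1, neg_zero])
    have hf'0 : f' = 0 := by
      refine ih ((t.truncLT c).obj M) a (c - 1) inferInstance inferInstance
        (by push_cast at hac; lia) ?_ f'
      intro j hj Y ⟨φ⟩ g
      have hι := H2_isIso_homology_truncLTι c j (by lia) M
      exact hS j (by lia) Y
        ⟨φ ≪≫ asIso ((homologyFunctor A j).map ((t.truncLTι c).app M))⟩ g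
    rw [hf', hf'0, Limits.zero_comp]

end Groth.Agent.H2

namespace Groth.Agent.H2

open CategoryTheory Limits Pretriangulated Triangulated DerivedCategory

variable {A : Type u} [Category.{v} A] [Abelian A] [HasDerivedCategory.{w} A]

/-- Translating an `Ext^p` vanishing stated with `singleFunctor 0` to one with shifted singles. -/
lemma H2_single_hom_eq_zero (X Y : A) (i j p : ℤ) (hp : p = i - j + 1)
    (h : ∀ f : (singleFunctor A 0).obj X ⟶ ((singleFunctor A 0).obj Y)⟦p⟧, f = 0) :
    ∀ f : (singleFunctor A i).obj X ⟶ ((singleFunctor A j).obj Y)⟦(1 : ℤ)⟧, f = 0 := by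
  intro f
  let e₁ : ((singleFunctor A i).obj X)⟦i⟧ ≅ (singleFunctor A 0).obj X :=
    ((singleFunctors A).shiftIso i 0 i (by lia)).app X
  let e₂ : (((singleFunctor A j).obj Y)⟦(1 : ℤ)⟧)⟦i⟧ ≅ ((singleFunctor A 0).obj Y)⟦p⟧ :=
    ((shiftFunctorAdd' (DerivedCategory A) 1 i (1 + i) rfl).symm.app _) ≪≫
      (((singleFunctors A).shiftIso (1 + i) (-p) j (by lia)).app Y) ≪≫
      (((singleFunctors A).shiftIso p (-p) 0 (by lia)).app Y).symm
  have h1 : e₁.inv ≫ f⟦i⟧' ≫ e₂.hom = 0 := h _
  have h2 : f⟦i⟧' = e₁.hom ≫ (e₁.inv ≫ f⟦i⟧' ≫ e₂.hom) ≫ e₂.inv := by simp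
  have h3 : f⟦i⟧' = 0 := by rw [h2, h1, Limits.zero_comp, Limits.comp_zero]
  apply (shiftFunctor (DerivedCategory A) i).map_injective
  rw [h3, Functor.map_zero]

/-- Existence of a map `H^i(K)[-i] ⟶ K` inducing an isomorphism on `H^i`. -/
lemma H2_exists_section (K : DerivedCategory A) (a : ℤ) [K.IsGE a] (i : ℤ)
    (hExt : ∀ j : ℤ, j < i →
      ∀ f : (singleFunctor A i).obj ((homologyFunctor A i).obj K) ⟶
        ((singleFunctor A j).obj ((homologyFunctor A j).obj K))⟦(1 : ℤ)⟧, f = 0) :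
    ∃ s : (singleFunctor A i).obj ((homologyFunctor A i).obj K) ⟶ K,
      IsIso ((homologyFunctor A i).map s) := by
  let t : TStructure (DerivedCategory A) := TStructure.t
  let L : DerivedCategory A := (t.truncLT (i + 1)).obj K
  have hLLE : L.IsLE i := by dsimp [L]; infer_instance
  have hLGE : L.IsGE a := by dsimp [L]; infer_instance
  let ιL : L ⟶ K := (t.truncLTι (i + 1)).app K
  have hιL : ∀ j : ℤ, j ≤ i → IsIso ((homologyFunctor A j).map ιL) :=
    fun j hj => H2_isIso_homology_truncLTι (i + 1) j (by lia) K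
  let B : DerivedCategory A := (t.truncGE i).obj L
  have hBLE : B.IsLE i := by dsimp [B]; infer_instance
  have hBGE : B.IsGE i := by dsimp [B]; infer_instance
  let πB : L ⟶ B := (t.truncGEπ i).app L
  have hπB : IsIso ((homologyFunctor A i).map πB) := H2_isIso_homology_truncGEπ i i le_rfl L
  let M : DerivedCategory A := (t.truncLT i).obj L
  have hMLE : M.IsLE (i - 1) := by dsimp [M]; infer_instance
  have hMGE : M.IsGE a := by dsimp [M]; infer_instance
  obtain ⟨θ₀⟩ := H2_iso_single_homology i B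
  have hιLi := hιL i le_rfl
  let φ : (homologyFunctor A i).obj B ≅ (homologyFunctor A i).obj K :=
    (asIso ((homologyFunctor A i).map πB)).symm ≪≫ asIso ((homologyFunctor A i).map ιL)
  let θ : B ≅ (singleFunctor A i).obj ((homologyFunctor A i).obj K) :=
    θ₀ ≪≫ (singleFunctor A i).mapIso φ
  have hδ : (t.truncGEδLT i).app L = 0 := by
    refine H2_hom_shift_eq_zero_of_devissage B (i - a).toNat M a (i - 1) hMGE hMLE
      (by lia) ?_ _
    intro j hj Y ⟨ψ⟩ f
    have h1 := H2_isIso_homology_truncLTι i j (by lia) L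
    have h2 := hιL j (by lia)
    let ψ' : Y ≅ (homologyFunctor A j).obj K :=
      ψ ≪≫ asIso ((homologyFunctor A j).map ((t.truncLTι i).app L)) ≪≫
        asIso ((homologyFunctor A j).map ιL)
    have h3 : θ.inv ≫ f ≫ ((singleFunctor A j).map ψ'.hom)⟦(1 : ℤ)⟧' = 0 := hExt j (by lia) _
    have h4 : f = θ.hom ≫ (θ.inv ≫ f ≫ ((singleFunctor A j).map ψ'.hom)⟦(1 : ℤ)⟧') ≫
        ((singleFunctor A j).map ψ'.inv)⟦(1 : ℤ)⟧' := by
      simp only [Category.assoc, Iso.hom_inv_id_assoc, ← Functor.map_comp, Iso.hom_inv_id,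
        CategoryTheory.Functor.map_id, Category.comp_id]
    rw [h4, h3, Limits.zero_comp, Limits.comp_zero]
  obtain ⟨σ, hσ⟩ : ∃ σ : B ⟶ L, 𝟙 B = σ ≫ πB :=
    Triangle.coyoneda_exact₃ _ (t.triangleLTGE_distinguished i L) (𝟙 B) (by
      change 𝟙 B ≫ (t.truncGEδLT i).app L = 0
      rw [hδ, Limits.comp_zero])
  refine ⟨θ.inv ≫ σ ≫ ιL, ?_⟩
  have hσ' : IsIso ((homologyFunctor A i).map σ) := by
    have h5 : (homologyFunctor A i).map σ ≫ (homologyFunctor A i).map πB = 𝟙 _ := by
      rw [← Functor.map_comp, ← hσ, CategoryTheory.Functor.map_id]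
    have h6 : IsIso ((homologyFunctor A i).map σ ≫ (homologyFunctor A i).map πB) := by
      rw [h5]; infer_instance
    exact IsIso.of_isIso_comp_right _ ((homologyFunctor A i).map πB)
  rw [Functor.map_comp, Functor.map_comp]
  infer_instance

end Groth.Agent.H2

namespace Groth.Agent.H2

open CategoryTheory Limits Pretriangulated Triangulated DerivedCategory

variable {A : Type u} [Category.{v} A] [Abelian A] [HasDerivedCategory.{w} A]

lemma H2_isIso_desc_of_sections' (K : DerivedCategory A) (a b : ℤ) [K.IsGE a] [K.IsLE b]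
    (F : Finset.Icc a b → DerivedCategory A) [HasBiproduct F]
    (hF : ∀ (i : Finset.Icc a b) (q : ℤ), (i : ℤ) ≠ q →
      IsZero ((homologyFunctor A q).obj (F i)))
    (s : ∀ i : Finset.Icc a b, F i ⟶ K)
    (hs : ∀ i : Finset.Icc a b, IsIso ((homologyFunctor A (i : ℤ)).map (s i))) :
    IsIso (biproduct.desc s) := by
  rw [DerivedCategory.isIso_iff]
  intro q
  have htot : 𝟙 ((homologyFunctor A q).obj (⨁ F)) =
      ∑ i : Finset.Icc a b, (homologyFunctor A q).map (biproduct.π F i) ≫
        (homologyFunctor A q).map (biproduct.ι F i) := by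
    rw [← CategoryTheory.Functor.map_id, ← biproduct.total, Functor.map_sum]
    simp only [Functor.map_comp]
  have hvan : ∀ i : Finset.Icc a b, (i : ℤ) ≠ q →
      (homologyFunctor A q).map (biproduct.π F i) = 0 := by
    intro i hi
    exact (hF i q hi).eq_of_tgt _ _
  by_cases hq : q ∈ Finset.Icc a b
  · obtain ⟨i₀, rfl⟩ : ∃ i₀ : Finset.Icc a b, (i₀ : ℤ) = q := ⟨⟨q, hq⟩, rfl⟩
    have h1 : 𝟙 _ = (homologyFunctor A (i₀ : ℤ)).map (biproduct.π F i₀) ≫
        (homologyFunctor A (i₀ : ℤ)).map (biproduct.ι F i₀) := by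
      rw [htot]
      apply Finset.sum_eq_single
      · intro i _ hi
        rw [hvan i (fun h => hi (Subtype.ext h)), Limits.zero_comp]
      · intro h; exact absurd (Finset.mem_univ _) h
    have h2 : (homologyFunctor A (i₀ : ℤ)).map (biproduct.ι F i₀) ≫
        (homologyFunctor A (i₀ : ℤ)).map (biproduct.π F i₀) = 𝟙 _ := by
      rw [← Functor.map_comp, biproduct.ι_π_self, CategoryTheory.Functor.map_id]
    have h3 : IsIso ((homologyFunctor A (i₀ : ℤ)).map (biproduct.π F i₀)) :=
      ⟨_, h1.symm, h2⟩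
    have h4 : (homologyFunctor A (i₀ : ℤ)).map (biproduct.desc s) =
        (homologyFunctor A (i₀ : ℤ)).map (biproduct.π F i₀) ≫
        (homologyFunctor A (i₀ : ℤ)).map (s i₀) := by
      rw [← Category.id_comp ((homologyFunctor A (i₀ : ℤ)).map (biproduct.desc s)), h1,
        Category.assoc,
        ← Functor.map_comp (homologyFunctor A (i₀ : ℤ)) (biproduct.ι F i₀), biproduct.ι_desc]
    rw [h4]
    have := hs i₀
    infer_instance
  · have h1 : IsZero ((homologyFunctor A q).obj (⨁ F)) := by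
      rw [IsZero.iff_id_eq_zero, htot]
      apply Finset.sum_eq_zero
      intro i _
      rw [hvan i (fun h => hq (h ▸ i.2)), Limits.zero_comp]
    have h2 : IsZero ((homologyFunctor A q).obj K) := by
      rw [Finset.mem_Icc, not_and_or, not_le, not_le] at hq
      rcases hq with h | h
      · exact isZero_of_isGE K a q h
      · exact isZero_of_isLE K b q h
    exact ⟨0, h1.eq_of_src _ _, h2.eq_of_src _ _⟩

lemma H2_isIso_desc_of_sections (K : DerivedCategory A) (a b : ℤ) [K.IsGE a] [K.IsLE b]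
    (X : ∀ _ : Finset.Icc a b, A)
    [HasBiproduct (fun i : Finset.Icc a b => (singleFunctor A (i : ℤ)).obj (X i))]
    (s : ∀ i : Finset.Icc a b, (singleFunctor A (i : ℤ)).obj (X i) ⟶ K)
    (hs : ∀ i : Finset.Icc a b, IsIso ((homologyFunctor A (i : ℤ)).map (s i))) :
    IsIso (biproduct.desc s) := by
  apply H2_isIso_desc_of_sections' K a b _ _ s hs
  intro i q hi
  rcases lt_or_gt_of_ne hi with h | h
  · exact isZero_of_isLE _ (i : ℤ) q h
  · exact isZero_of_isGE _ (i : ℤ) q h

theorem H2_iso_biproduct_single_homology (K : DerivedCategory A) (a b : ℤ) [K.IsGE a] [K.IsLE b]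
    (hExt : ∀ (i j : ℤ) (p : ℕ), j < i → 2 ≤ p →
      ∀ f : (DerivedCategory.singleFunctor A 0).obj ((DerivedCategory.homologyFunctor A i).obj K) ⟶
        ((DerivedCategory.singleFunctor A 0).obj
          ((DerivedCategory.homologyFunctor A j).obj K))⟦(p : ℤ)⟧, f = 0)
    [HasBiproduct (fun i : Finset.Icc a b => (DerivedCategory.singleFunctor A (i : ℤ)).obj
      ((DerivedCategory.homologyFunctor A (i : ℤ)).obj K))] :
    Nonempty (K ≅ ⨁ (fun i : Finset.Icc a b => (DerivedCategory.singleFunctor A (i : ℤ)).obj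
      ((DerivedCategory.homologyFunctor A (i : ℤ)).obj K))) := by
  have hsec : ∀ i : ℤ, ∃ s : (singleFunctor A i).obj ((homologyFunctor A i).obj K) ⟶ K,
      IsIso ((homologyFunctor A i).map s) := by
    intro i
    apply H2_exists_section K a i
    intro j hj
    apply H2_single_hom_eq_zero _ _ i j ((i - j + 1).toNat : ℤ) (by lia)
    exact hExt i j (i - j + 1).toNat hj (by lia)
  choose s hs using hsec
  have := H2_isIso_desc_of_sections K a b (fun i => (homologyFunctor A (i : ℤ)).obj K)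
    (fun i => s i) (fun i => hs i)
  exact ⟨(asIso (biproduct.desc (fun i : Finset.Icc a b => s (i : ℤ)))).symm⟩

end Groth.Agent.H2
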