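import Mathlib

set_option autoImplicit false
universe v₁ u₁ v₂ u₂ v₃ u₃

namespace Groth.Agent.H2

open CategoryTheory

/-- Strongly cartesian morphisms compose along composition of functors. -/
theorem H2_isStronglyCartesian_comp_functor {𝒜 : Type u₁} [Category.{v₁} 𝒜] {ℬ : Type u₂}
    [Category.{v₂} ℬ] {𝒞 : Type u₃} [Category.{v₃} 𝒞] (F : 𝒜 ⥤ ℬ) (G : ℬ ⥤ 𝒞)
    {R S : 𝒞} {b S' : ℬ} {a' a : 𝒜} (f : R ⟶ S) (ψ : b ⟶ S') (φ : a' ⟶ a)
    [hG : G.IsStronglyCartesian f ψ] [hF : F.IsStronglyCartesian ψ φ] :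
    (F ⋙ G).IsStronglyCartesian f φ := by
  subst_hom_lift F ψ φ
  subst_hom_lift G f (F.map φ)
  haveI : (F ⋙ G).IsHomLift (G.map (F.map φ)) φ :=
    (inferInstance : (F ⋙ G).IsHomLift ((F ⋙ G).map φ) φ)
  constructor
  intro a'' g φ' hφ'
  have e : g ≫ G.map (F.map φ) = G.map (F.map φ') :=
    CategoryTheory.IsHomLift.eq_of_isHomLift (F ⋙ G) _ φ'
  haveI : G.IsHomLift (g ≫ G.map (F.map φ)) (F.map φ') := by rw [e]; infer_instance
  let χ₁ : F.obj a'' ⟶ F.obj a' :=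
    Functor.IsStronglyCartesian.map G (G.map (F.map φ)) (F.map φ) (g := g) rfl (F.map φ')
  have hχ₁ : χ₁ ≫ F.map φ = F.map φ' :=
    Functor.IsStronglyCartesian.fac G (G.map (F.map φ)) (F.map φ) (g := g) rfl (F.map φ')
  haveI hχ₁l : G.IsHomLift g χ₁ :=
    Functor.IsStronglyCartesian.map_isHomLift G (G.map (F.map φ)) (F.map φ) (g := g) rfl (F.map φ')
  haveI : F.IsHomLift (χ₁ ≫ F.map φ) φ' := by rw [hχ₁]; infer_instance
  let χ : a'' ⟶ a' :=
    Functor.IsStronglyCartesian.map F (F.map φ) φ (g := χ₁) rfl φ'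
  have hχ : χ ≫ φ = φ' :=
    Functor.IsStronglyCartesian.fac F (F.map φ) φ (g := χ₁) rfl φ'
  haveI hχl : F.IsHomLift χ₁ χ :=
    Functor.IsStronglyCartesian.map_isHomLift F (F.map φ) φ (g := χ₁) rfl φ'
  have e1 : χ₁ = F.map χ := CategoryTheory.IsHomLift.eq_of_isHomLift F χ₁ χ
  have e2 : g = G.map χ₁ := CategoryTheory.IsHomLift.eq_of_isHomLift G g χ₁
  refine ⟨χ, ⟨?_, hχ⟩, ?_⟩
  · rw [e2, e1]
    exact (inferInstance : (F ⋙ G).IsHomLift ((F ⋙ G).map χ) χ)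
  · rintro χ' ⟨hχ'l, hχ'⟩
    have e3 : g = G.map (F.map χ') := CategoryTheory.IsHomLift.eq_of_isHomLift (F ⋙ G) g χ'
    haveI : G.IsHomLift g (F.map χ') := by rw [e3]; infer_instance
    have h1 : F.map χ' = χ₁ :=
      Functor.IsStronglyCartesian.map_uniq G (G.map (F.map φ)) (F.map φ) (g := g) rfl (F.map φ')
        (F.map χ') (by rw [← F.map_comp, hχ'])
    haveI : F.IsHomLift χ₁ χ' := by rw [← h1]; infer_instance
    exact Functor.IsStronglyCartesian.map_uniq F (F.map φ) φ (g := χ₁) rfl φ' χ' hχ'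

end Groth.Agent.H2
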