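import Mathlib

set_option autoImplicit false

namespace Groth.Agent.H2

open CategoryTheory CategoryTheory.Limits

universe u

variable {R : Type u} [CommRing R]

section Sub

variable (F : CochainComplex (ModuleCat.{u} R) ℤ) (p : ∀ n : ℤ, Submodule R (F.X n))
  (hp : ∀ (n : ℤ) (x : F.X n), x ∈ p n → (F.d n (n + 1)).hom x ∈ p (n + 1))

include hp in
lemma H2sub_stable (i j : ℤ) : ∀ x ∈ p i, (F.d i j).hom x ∈ p j := by
  intro x hx
  by_cases h : i + 1 = j
  · subst h
    exact hp i x hx
  · rw [F.shape i j h]
    simp

/-- the subcomplex given by a stable family of submodules -/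
noncomputable def H2subCx : CochainComplex (ModuleCat.{u} R) ℤ where
  X n := ModuleCat.of R (p n)
  d i j := ModuleCat.ofHom ((F.d i j).hom.restrict (H2sub_stable F p hp i j))
  shape i j h := by
    ext x
    simp [F.shape i j h]
  d_comp_d' i j k _ _ := by
    ext x
    have h0 : (F.d j k).hom ((F.d i j).hom x.1) = 0 := by
      rw [← LinearMap.comp_apply, ← ModuleCat.hom_comp, F.d_comp_d]
      rfl
    simpa using h0

noncomputable def H2subι : H2subCx F p hp ⟶ F where
  f n := ModuleCat.ofHom (p n).subtype
  comm' i j _ := by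
    ext x
    rfl

end Sub

section Reach

variable (F : CochainComplex (ModuleCat.{u} R) ℤ) {I : ℤ → Type u}
  (bs : ∀ n, Module.Basis (I n) R (F.X n)) (g : ∀ m : ℤ, Set (F.X m))

inductive H2Reach : (m : ℤ) → I m → Prop
  | base (m : ℤ) (x : F.X m) (hx : x ∈ g m) (i : I m) (h : (bs m).repr x i ≠ 0) : H2Reach m i
  | step (n m : ℤ) (i : I n) (i' : I m) (hr : H2Reach n i)
      (h : (bs m).repr ((F.d n m).hom (bs n i)) i' ≠ 0) : H2Reach m i'

variable {F bs g}

lemma H2Reach_ge (a : ℤ) (hlow : ∀ m < a, g m = ∅) {m : ℤ} {i : I m}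
    (h : H2Reach F bs g m i) : a ≤ m := by
  induction h with
  | base m x hx i h =>
    by_contra hc
    rw [hlow m (by omega)] at hx
    exact hx
  | step n m i i' hr h ih =>
    have : n + 1 = m := by
      by_contra hc
      apply h
      rw [F.shape n m hc]
      simp
    omega

lemma H2Reach_finite_step (hg : ∀ m, (g m).Finite) (n m : ℤ) (hnm : n + 1 = m)
    (hn : {i | H2Reach F bs g n i}.Finite) : {i | H2Reach F bs g m i}.Finite := by
  have hsub : {i | H2Reach F bs g m i} ⊆
      (⋃ x ∈ g m, (((bs m).repr x).support : Set (I m))) ∪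
      (⋃ i ∈ {i | H2Reach F bs g n i},
        (((bs m).repr ((F.d n m).hom (bs n i))).support : Set (I m))) := by
    intro i' hi'
    cases hi' with
    | base _ x hx _ h =>
      left
      simp only [Set.mem_iUnion]
      exact ⟨x, hx, by simpa using h⟩
    | step n' _ i _ hr h =>
      right
      have h1 : n' + 1 = m := by
        by_contra hc
        apply h
        rw [F.shape n' m hc]
        simp
      obtain rfl : n' = n := by omega
      simp only [Set.mem_iUnion]
      exact ⟨i, hr, by simpa using h⟩
  refine Set.Finite.subset ?_ hsub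
  refine Set.Finite.union ?_ ?_
  · exact Set.Finite.biUnion (hg m) (fun x _ => Finset.finite_toSet _)
  · exact Set.Finite.biUnion hn (fun x _ => Finset.finite_toSet _)

lemma H2Reach_finite (hg : ∀ m, (g m).Finite) (a : ℤ) (hlow : ∀ m < a, g m = ∅) (m : ℤ) :
    {i | H2Reach F bs g m i}.Finite := by
  have hempty : ∀ m < a, {i | H2Reach F bs g m i}.Finite := by
    intro m hm
    have : {i | H2Reach F bs g m i} = ∅ := by
      rw [Set.eq_empty_iff_forall_notMem]
      intro i hi
      have := H2Reach_ge a hlow hi
      omega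
    rw [this]
    exact Set.finite_empty
  by_cases hm : m < a
  · exact hempty m hm
  · have hm' : a - 1 ≤ m := by omega
    induction m, hm' using Int.le_induction with
    | base => exact hempty _ (by omega)
    | succ k hk ih =>
      by_cases hk' : k < a
      · exact H2Reach_finite_step hg k (k + 1) rfl (hempty k hk')
      · exact H2Reach_finite_step hg k (k + 1) rfl (ih hk')

end Reach

theorem H2_exists_finfree_subcomplex
    (F : CochainComplex (ModuleCat.{u} R) ℤ) (hfree : ∀ n : ℤ, Module.Free R (F.X n))
    (b : ℤ) (hb : ∀ n : ℤ, b < n → IsZero (F.X n))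
    (g : ∀ m : ℤ, Set (F.X m)) (hg : ∀ m, (g m).Finite) (a : ℤ) (hlow : ∀ m < a, g m = ∅) :
    ∃ (G : CochainComplex (ModuleCat.{u} R) ℤ) (ι : G ⟶ F),
      (∀ n : ℤ, Function.Injective (ι.f n)) ∧
      (∃ a c : ℤ, ∀ n : ℤ, (n < a ∨ c < n) → IsZero (G.X n)) ∧
      (∀ n : ℤ, Module.Finite R (G.X n) ∧ Module.Free R (G.X n)) ∧
      ∀ (m : ℤ) (x : F.X m), x ∈ g m → x ∈ Set.range (ι.f m) := by
  classical
  let I : ℤ → Type u := fun n => Module.Free.ChooseBasisIndex R (F.X n)
  let bs : ∀ n, Module.Basis (I n) R (F.X n) := fun n => Module.Free.chooseBasis R (F.X n)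
  let S : ∀ n, Set (I n) := fun n => {i | H2Reach F bs g n i}
  have hS : ∀ n, (S n).Finite := fun n => H2Reach_finite hg a hlow n
  let p : ∀ n : ℤ, Submodule R (F.X n) := fun n => Submodule.span R ((bs n) '' (S n))
  have hp : ∀ (n : ℤ) (x : F.X n), x ∈ p n → (F.d n (n + 1)).hom x ∈ p (n + 1) := by
    intro n x hx
    have hle : (p n).map (F.d n (n + 1)).hom ≤ p (n + 1) := by
      change (Submodule.span R ((bs n) '' (S n))).map (F.d n (n + 1)).hom ≤ p (n + 1)
      rw [Submodule.map_span, Submodule.span_le]
      rintro _ ⟨_, ⟨i, hi, rfl⟩, rfl⟩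
      change (F.d n (n + 1)).hom (bs n i) ∈ Submodule.span R ((bs (n + 1)) '' (S (n + 1)))
      rw [Module.Basis.mem_span_image]
      intro i' hi'
      exact H2Reach.step n (n + 1) i i' hi (by simpa using hi')
    exact hle ⟨x, hx, rfl⟩
  have hgp : ∀ (m : ℤ) (x : F.X m), x ∈ g m → x ∈ p m := by
    intro m x hx
    change x ∈ Submodule.span R ((bs m) '' (S m))
    rw [Module.Basis.mem_span_image]
    intro i hi
    exact H2Reach.base m x hx i (by simpa using hi)
  refine ⟨H2subCx F p hp, H2subι F p hp, ?_, ⟨a, b, ?_⟩, ?_, ?_⟩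
  · intro n x y h
    exact Subtype.ext h
  · intro n hn
    rcases hn with hn | hn
    · have hSn : S n = ∅ := by
        rw [Set.eq_empty_iff_forall_notMem]
        intro i hi
        have := H2Reach_ge a hlow hi
        omega
      have hpn : p n = ⊥ := by
        change Submodule.span R ((bs n) '' (S n)) = ⊥
        rw [hSn, Set.image_empty, Submodule.span_empty]
      haveI : Subsingleton (p n) := by
        rw [hpn]
        infer_instance
      exact ModuleCat.isZero_of_subsingleton (ModuleCat.of R (p n))
    · haveI : Subsingleton (F.X n) := ModuleCat.subsingleton_of_isZero (hb n hn)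
      haveI : Subsingleton (p n) := ⟨fun x y => Subtype.ext (Subsingleton.elim _ _)⟩
      exact ModuleCat.isZero_of_subsingleton (ModuleCat.of R (p n))
  · intro n
    constructor
    · change Module.Finite R (Submodule.span R ((bs n) '' (S n)))
      exact Module.Finite.span_of_finite R ((hS n).image _)
    · have hli : LinearIndependent R (fun i : S n => bs n i) :=
        (bs n).linearIndependent.comp _ Subtype.val_injective
      have heq : Submodule.span R (Set.range (fun i : S n => bs n i)) = p n := by
        change _ = Submodule.span R ((bs n) '' (S n))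
        rw [Set.image_eq_range]
      have hf : Module.Free R (Submodule.span R (Set.range (fun i : S n => bs n i))) :=
        Module.Free.of_basis (Module.Basis.span hli)
      change Module.Free R (p n)
      exact Module.Free.of_equiv (LinearEquiv.ofEq _ _ heq)
  · intro m x hx
    exact ⟨⟨x, hgp m x hx⟩, rfl⟩

end Groth.Agent.H2
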