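import Mathlib
import Groth.Agent.Lib.helper2.BddInjTriangle
import Groth.Agent.Lib.helper2.BddTermwiseInd

set_option autoImplicit false

namespace Groth.Agent.H2

open CategoryTheory CategoryTheory.Limits Pretriangulated DerivedCategory

universe u

attribute [local instance] HasDerivedCategory.standard

variable {R : Type u} [CommRing R]

/-- represented by a bounded complex of injectives -/
def H2FinInj (K : DerivedCategory (ModuleCat.{u} R)) : Prop :=
  ∃ (I : CochainComplex (ModuleCat.{u} R) ℤ) (b c : ℤ), I.IsStrictlyGE b ∧ I.IsStrictlyLE c ∧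
    (∀ n : ℤ, Injective (I.X n)) ∧ Nonempty (K ≅ DerivedCategory.Q.obj I)

lemma H2FinInj_of_iso {K K' : DerivedCategory (ModuleCat.{u} R)} (e : K ≅ K')
    (h : H2FinInj K) : H2FinInj K' := by
  obtain ⟨I, b, c, h1, h2, h3, ⟨e'⟩⟩ := h
  exact ⟨I, b, c, h1, h2, h3, ⟨e.symm ≪≫ e'⟩⟩

lemma H2FinInj_zero (K : DerivedCategory (ModuleCat.{u} R)) (hK : IsZero K) : H2FinInj K := by
  obtain ⟨Z, hZ⟩ : ∃ Z : CochainComplex (ModuleCat.{u} R) ℤ, IsZero Z :=
    ⟨_, (HasZeroObject.zero (C := CochainComplex (ModuleCat.{u} R) ℤ)).choose_spec⟩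
  have hz : ∀ i : ℤ, IsZero (Z.X i) := fun i =>
    (HomologicalComplex.eval (ModuleCat.{u} R) (ComplexShape.up ℤ) i).map_isZero hZ
  refine ⟨Z, 0, 0, ?_, ?_, fun n => (hz n).injective, ⟨hK.iso (DerivedCategory.Q.map_isZero hZ)⟩⟩
  · rw [CochainComplex.isStrictlyGE_iff]
    exact fun i _ => hz i
  · rw [CochainComplex.isStrictlyLE_iff]
    exact fun i _ => hz i

lemma H2FinInj_shift (K : DerivedCategory (ModuleCat.{u} R)) (n : ℤ) (h : H2FinInj K) :
    H2FinInj (K⟦n⟧) := by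
  obtain ⟨I, b, c, h1, h2, h3, ⟨e⟩⟩ := h
  refine ⟨I⟦n⟧, b - n, c - n, ?_, ?_, fun i => h3 (i + n),
    ⟨(shiftFunctor _ n).mapIso e ≪≫ ((DerivedCategory.Q.commShiftIso n).app I).symm⟩⟩
  · rw [CochainComplex.isStrictlyGE_iff]
    intro i hi
    exact I.isZero_of_isStrictlyGE b (i + n) (by omega)
  · rw [CochainComplex.isStrictlyLE_iff]
    intro i hi
    exact I.isZero_of_isStrictlyLE c (i + n) (by omega)

lemma H2FinInj_ext (T : Triangle (DerivedCategory (ModuleCat.{u} R)))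
    (hT : T ∈ distTriang _) (h1 : H2FinInj T.obj₁) (h3 : H2FinInj T.obj₃) :
    H2FinInj T.obj₂ :=
  H2_bdd_inj_triangle T hT h1 h3

end Groth.Agent.H2
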