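import Mathlib

set_option autoImplicit false

namespace Groth.Agent.H2

open CategoryTheory CategoryTheory.Limits TensorProduct

universe u

/-- Kernel of a surjection between flat modules is flat. -/
lemma H2_flat_of_exact {R : Type u} [CommRing R] {M N P : Type u}
    [AddCommGroup M] [AddCommGroup N] [AddCommGroup P] [Module R M] [Module R N] [Module R P]
    [Module.Flat R N] [Module.Flat R P]
    (g : M →ₗ[R] N) (f : N →ₗ[R] P) (hg : Function.Injective g) (hf : Function.Surjective f)
    (H : Function.Exact g f) : Module.Flat R M := by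
  rw [Module.Flat.iff_lTensor_preserves_injective_linearMap]
  intro A B _ _ _ _ i hi
  -- square: (g.rTensor B) ∘ (i.lTensor M) = (i.lTensor N) ∘ (g.rTensor A)
  have h1 : Function.Injective (g.rTensor A) := by
    have := LinearMap.lTensor_injective_of_exact_of_flat f hf g hg H A
    -- convert lTensor to rTensor via comm
    have h2 : g.rTensor A = (TensorProduct.comm R A N).toLinearMap ∘ₗ g.lTensor A ∘ₗ
        (TensorProduct.comm R M A).toLinearMap := by
      ext; simp
    rw [h2]
    exact (TensorProduct.comm R A N).injective.comp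
      (this.comp (TensorProduct.comm R M A).injective)
  have h3 : Function.Injective (i.lTensor N) :=
    Module.Flat.lTensor_preserves_injective_linearMap i hi
  have h4 : (g.rTensor B) ∘ₗ (i.lTensor M) = (i.lTensor N) ∘ₗ (g.rTensor A) := by
    ext; simp
  have h5 : Function.Injective ((g.rTensor B) ∘ₗ (i.lTensor M)) := by
    rw [h4]; exact h3.comp h1
  exact Function.Injective.of_comp h5

end Groth.Agent.H2

namespace Groth.Agent.H2

open CategoryTheory CategoryTheory.Limits

universe u

variable {A : Type u} [CommRing A] (F : CochainComplex (ModuleCat.{u} A) ℤ)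

lemma H2_flat_ker_step (p : ℤ) (hX : Module.Flat A (F.X p))
    (hZ : Module.Flat A (LinearMap.ker (F.d (p + 1) (p + 1 + 1)).hom))
    (hex : IsZero (F.homology (p + 1))) :
    Module.Flat A (LinearMap.ker (F.d p (p + 1)).hom) := by
  have hdd : ∀ x : F.X p, (F.d (p + 1) (p + 1 + 1)).hom ((F.d p (p + 1)).hom x) = 0 := by
    intro x
    have := ConcreteCategory.congr_hom (F.d_comp_d p (p + 1) (p + 1 + 1)) x
    rw [CategoryTheory.comp_apply] at this
    exact this
  let f : F.X p →ₗ[A] LinearMap.ker (F.d (p + 1) (p + 1 + 1)).hom :=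
    LinearMap.codRestrict _ (F.d p (p + 1)).hom hdd
  have hexact : (F.sc' p (p + 1) (p + 1 + 1)).Exact := by
    rw [← HomologicalComplex.exactAt_iff' F p (p + 1) (p + 1 + 1) (by simp) (by simp),
      HomologicalComplex.exactAt_iff_isZero_homology]
    exact hex
  rw [ShortComplex.moduleCat_exact_iff] at hexact
  have hf : Function.Surjective f := by
    rintro ⟨x, hx⟩
    obtain ⟨y, hy⟩ := hexact x (LinearMap.mem_ker.mp hx)
    exact ⟨y, Subtype.ext hy⟩
  refine H2_flat_of_exact (LinearMap.ker (F.d p (p + 1)).hom).subtype f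
    (Submodule.injective_subtype _) hf ?_
  intro x
  constructor
  · intro hx
    refine ⟨⟨x, ?_⟩, rfl⟩
    rw [LinearMap.mem_ker]
    exact congrArg Subtype.val hx
  · rintro ⟨y, rfl⟩
    apply Subtype.ext
    exact LinearMap.mem_ker.mp y.2

theorem H2_flat_ker_of_bounded (hF : ∀ i, Module.Flat A (F.X i)) (b d : ℤ)
    (hb : ∀ i, b < i → IsZero (F.X i)) (hac : ∀ p, d < p → IsZero (F.homology p)) :
    ∀ (n : ℕ) (p : ℤ), d ≤ p → b < p + n → Module.Flat A (LinearMap.ker (F.d p (p + 1)).hom) := by
  intro n
  induction n with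
  | zero =>
    intro p _ hp
    have hz := hb p (by simpa using hp)
    have : Subsingleton (F.X p) := ModuleCat.subsingleton_of_isZero hz
    infer_instance
  | succ n ih =>
    intro p hdp hp
    apply H2_flat_ker_step F p (hF p)
    · exact ih (p + 1) (by omega) (by push_cast at hp; omega)
    · exact hac (p + 1) (by omega)

noncomputable def H2cyclesIsoKer (p : ℤ) :
    F.cycles p ≅ ModuleCat.of A (LinearMap.ker (F.d p (p + 1)).hom) :=
  IsLimit.conePointUniqueUpToIso (F.cyclesIsKernel p (p + 1) (by simp))
    (ModuleCat.kernelIsLimit (F.d p (p + 1)))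

theorem H2_flat_cycles_of_bounded (hF : ∀ i, Module.Flat A (F.X i))
    (hb : ∃ b : ℤ, ∀ i, b < i → IsZero (F.X i)) (d : ℤ)
    (hac : ∀ p, d < p → IsZero (F.homology p)) :
    Module.Flat A (F.cycles d) := by
  obtain ⟨b, hb⟩ := hb
  have := H2_flat_ker_of_bounded F hF b d hb hac (b - d + 1).toNat d le_rfl (by omega)
  exact Module.Flat.of_linearEquiv (H2cyclesIsoKer F d).toLinearEquiv

end Groth.Agent.H2
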