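import Mathlib
import Groth.Agent.Lib.helper2.FlatCycles

set_option autoImplicit false

namespace Groth.Agent.H2

open CategoryTheory CategoryTheory.Limits

universe u

lemma H2_finproj_ker_of_surjective {R : Type u} [CommRing R] {N P : Type u}
    [AddCommGroup N] [AddCommGroup P] [Module R N] [Module R P]
    [Module.Finite R N] [Module.Projective R N] [Module.Projective R P]
    (f : N →ₗ[R] P) (hf : Function.Surjective f) :
    Module.Finite R (LinearMap.ker f) ∧ Module.Projective R (LinearMap.ker f) := by
  obtain ⟨s, hs⟩ := Module.projective_lifting_property f LinearMap.id hf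
  have hs' : ∀ y, f (s y) = y := fun y => LinearMap.congr_fun hs y
  let r : N →ₗ[R] LinearMap.ker f :=
    LinearMap.codRestrict _ (LinearMap.id - s ∘ₗ f) (fun x => by
      rw [LinearMap.mem_ker]
      simp [hs'])
  have hr : r ∘ₗ (LinearMap.ker f).subtype = LinearMap.id := by
    ext ⟨x, hx⟩
    rw [LinearMap.mem_ker] at hx
    simp [r, hx]
  have hrs : Function.Surjective r := fun y => ⟨y.1, LinearMap.congr_fun hr y⟩
  exact ⟨Module.Finite.of_surjective r hrs, Module.Projective.of_split _ r hr⟩

variable {A : Type u} [CommRing A] (F : CochainComplex (ModuleCat.{u} A) ℤ)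

lemma H2_finproj_ker_step (p : ℤ) (hX : Module.Finite A (F.X p) ∧ Module.Projective A (F.X p))
    (hZ : Module.Projective A (LinearMap.ker (F.d (p + 1) (p + 1 + 1)).hom))
    (hex : IsZero (F.homology (p + 1))) :
    Module.Finite A (LinearMap.ker (F.d p (p + 1)).hom) ∧
      Module.Projective A (LinearMap.ker (F.d p (p + 1)).hom) := by
  have hdd : ∀ x : F.X p, (F.d (p + 1) (p + 1 + 1)).hom ((F.d p (p + 1)).hom x) = 0 := by
    intro x
    have := ConcreteCategory.congr_hom (F.d_comp_d p (p + 1) (p + 1 + 1)) x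
    rw [CategoryTheory.comp_apply] at this
    exact this
  let f : F.X p →ₗ[A] LinearMap.ker (F.d (p + 1) (p + 1 + 1)).hom :=
    LinearMap.codRestrict _ (F.d p (p + 1)).hom hdd
  have hexact : (F.sc' p (p + 1) (p + 1 + 1)).Exact := by
    rw [← HomologicalComplex.exactAt_iff' F p (p + 1) (p + 1 + 1) (by simp) (by simp),
      HomologicalComplex.exactAt_iff_isZero_homology]
    exact hex
  rw [ShortComplex.moduleCat_exact_iff] at hexact
  have hf : Function.Surjective f := by
    rintro ⟨x, hx⟩
    obtain ⟨y, hy⟩ := hexact x (LinearMap.mem_ker.mp hx)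
    exact ⟨y, Subtype.ext hy⟩
  haveI := hX.1
  haveI := hX.2
  have h := H2_finproj_ker_of_surjective f hf
  have hk : LinearMap.ker f = LinearMap.ker (F.d p (p + 1)).hom := LinearMap.ker_codRestrict _ _ _
  rw [hk] at h
  exact h

theorem H2_finproj_ker_of_bounded
    (hF : ∀ i, Module.Finite A (F.X i) ∧ Module.Projective A (F.X i)) (b d : ℤ)
    (hb : ∀ i, b < i → IsZero (F.X i)) (hac : ∀ p, d < p → IsZero (F.homology p)) :
    ∀ (n : ℕ) (p : ℤ), d ≤ p → b < p + n →
      Module.Finite A (LinearMap.ker (F.d p (p + 1)).hom) ∧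
        Module.Projective A (LinearMap.ker (F.d p (p + 1)).hom) := by
  intro n
  induction n with
  | zero =>
    intro p _ hp
    have hz := hb p (by simpa using hp)
    have : Subsingleton (F.X p) := ModuleCat.subsingleton_of_isZero hz
    exact ⟨inferInstance, inferInstance⟩
  | succ n ih =>
    intro p hdp hp
    apply H2_finproj_ker_step F p (hF p)
    · exact (ih (p + 1) (by omega) (by push_cast at hp; omega)).2
    · exact hac (p + 1) (by omega)

theorem H2_finproj_cycles_of_bounded
    (hF : ∀ i, Module.Finite A (F.X i) ∧ Module.Projective A (F.X i))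
    (hb : ∃ b : ℤ, ∀ i, b < i → IsZero (F.X i)) (d : ℤ)
    (hac : ∀ p, d < p → IsZero (F.homology p)) :
    Module.Finite A (F.cycles d) ∧ Module.Projective A (F.cycles d) := by
  obtain ⟨b, hb⟩ := hb
  obtain ⟨h1, h2⟩ := H2_finproj_ker_of_bounded F hF b d hb hac (b - d + 1).toNat d le_rfl (by omega)
  exact ⟨Module.Finite.equiv (H2cyclesIsoKer F d).toLinearEquiv.symm,
    Module.Projective.of_equiv (H2cyclesIsoKer F d).toLinearEquiv.symm⟩

end Groth.Agent.H2
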