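import Mathlib

set_option autoImplicit false
universe v u

namespace Groth.Agent.H2

open CategoryTheory Limits

section

variable {I : Type u} [Category.{v} I] (n m : ℕ) (e : Fin n → I) (g : Fin m → Σ x y : I, x ⟶ y)

/-- Morphisms of the finite "subdivision" category. -/
inductive H2SubHom : Fin n ⊕ Fin m → Fin n ⊕ Fin m → Type
  | id (X : Fin n ⊕ Fin m) : H2SubHom X X
  | s (k : Fin n) (a : Fin m) (h : e k = (g a).1) : H2SubHom (Sum.inl k) (Sum.inr a)
  | t (k : Fin n) (a : Fin m) (h : e k = (g a).2.1) : H2SubHom (Sum.inl k) (Sum.inr a)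

/-- The objects of the subdivision category (a type synonym carrying the data). -/
structure H2Sub {I : Type u} [Category.{v} I] (n m : ℕ) (e : Fin n → I)
    (g : Fin m → Σ x y : I, x ⟶ y) : Type where
  /-- the underlying object -/
  as : Fin n ⊕ Fin m

variable {n m e g}

/-- Composition. -/
def H2SubHom.comp : ∀ {X Y Z : Fin n ⊕ Fin m},
    H2SubHom n m e g X Y → H2SubHom n m e g Y Z → H2SubHom n m e g X Z
  | _, _, _, .id _, f => f
  | _, _, _, .s k a h, .id _ => .s k a h
  | _, _, _, .t k a h, .id _ => .t k a h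

instance : Category (H2Sub n m e g) where
  Hom X Y := H2SubHom n m e g X.as Y.as
  id X := .id X.as
  comp f f' := H2SubHom.comp f f'
  id_comp f := rfl
  comp_id := by
    rintro ⟨X⟩ ⟨Y⟩ f
    change H2SubHom n m e g X Y at f
    cases f <;> rfl
  assoc := by
    rintro ⟨W⟩ ⟨X⟩ ⟨Y⟩ ⟨Z⟩ f f' f''
    change H2SubHom n m e g W X at f
    change H2SubHom n m e g X Y at f'
    change H2SubHom n m e g Y Z at f''
    cases f <;> cases f' <;> cases f'' <;> rfl

/-- Numerical code of a morphism. -/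
def H2SubHom.code : ∀ {X Y : Fin n ⊕ Fin m}, H2SubHom n m e g X Y → Fin 3
  | _, _, .id _ => 0
  | _, _, .s _ _ _ => 1
  | _, _, .t _ _ _ => 2

lemma H2SubHom.code_injective {X Y : Fin n ⊕ Fin m} :
    Function.Injective (H2SubHom.code (n := n) (m := m) (e := e) (g := g) (X := X) (Y := Y)) := by
  intro f f' h
  cases f <;> cases f' <;> first | rfl | (exfalso; simp [H2SubHom.code] at h)

instance : Finite (H2Sub n m e g) :=
  Finite.of_injective (fun X => X.as) (fun X Y h => by cases X; cases Y; cases h; rfl)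

noncomputable instance : FinCategory (H2Sub n m e g) where
  fintypeObj := Fintype.ofFinite _
  fintypeHom X Y := by
    haveI : Finite (X ⟶ Y) := Finite.of_injective _ (H2SubHom.code_injective (X := X.as) (Y := Y.as))
    exact Fintype.ofFinite _

/-- The functor to `I`. -/
def H2SubFunctor : H2Sub n m e g ⥤ I where
  obj X := Sum.elim e (fun a => (g a).2.1) X.as
  map {X Y} f :=
    match X, Y, f with
    | ⟨_⟩, ⟨_⟩, .id _ => 𝟙 _
    | ⟨_⟩, ⟨_⟩, .s k a h => eqToHom h ≫ (g a).2.2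
    | ⟨_⟩, ⟨_⟩, .t k a h => eqToHom h
  map_id X := rfl
  map_comp := by
    rintro ⟨X⟩ ⟨Y⟩ ⟨Z⟩ f f'
    change H2SubHom n m e g X Y at f
    change H2SubHom n m e g Y Z at f'
    cases f <;> cases f' <;> simp [CategoryStruct.comp, H2SubHom.comp]

end

end Groth.Agent.H2

namespace Groth.Agent.H2

open CategoryTheory Limits

section

variable {I : Type u} [Category.{v} I] {n m : ℕ} {e : Fin n → I} {g : Fin m → Σ x y : I, x ⟶ y}

lemma H2SubFunctor_map_s (k : Fin n) (a : Fin m) (h : e k = (g a).1) :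
    (H2SubFunctor (n := n) (m := m) (e := e) (g := g)).map
      (X := ⟨Sum.inl k⟩) (Y := ⟨Sum.inr a⟩) (H2SubHom.s k a h) = eqToHom h ≫ (g a).2.2 := rfl

lemma H2SubFunctor_map_t (k : Fin n) (a : Fin m) (h : e k = (g a).2.1) :
    (H2SubFunctor (n := n) (m := m) (e := e) (g := g)).map
      (X := ⟨Sum.inl k⟩) (Y := ⟨Sum.inr a⟩) (H2SubHom.t k a h) = eqToHom h := rfl

variable (e g) in
/-- Abbreviation for the functor. -/
abbrev H2SubF : H2Sub n m e g ⥤ I := H2SubFunctor (n := n) (m := m) (e := e) (g := g)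

/-- Structured arrow at a left object. -/
def H2SubL (i : I) (k : Fin n) (φ : i ⟶ e k) : StructuredArrow i (H2SubF e g) :=
  @StructuredArrow.mk _ _ _ _ i (H2Sub.mk (Sum.inl k)) (H2SubF e g) φ

/-- Structured arrow at a right object. -/
def H2SubR (i : I) (a : Fin m) (φ : i ⟶ (g a).2.1) : StructuredArrow i (H2SubF e g) :=
  @StructuredArrow.mk _ _ _ _ i (H2Sub.mk (Sum.inr a)) (H2SubF e g) φ

/-- The morphism of structured arrows given by `s`. -/
def H2SubLRs (i : I) (k : Fin n) (a : Fin m) (h : e k = (g a).1) (φ : i ⟶ e k) :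
    H2SubL (g := g) i k φ ⟶ H2SubR i a (φ ≫ eqToHom h ≫ (g a).2.2) :=
  StructuredArrow.homMk (H2SubHom.s k a h) rfl

/-- The morphism of structured arrows given by `t`. -/
def H2SubLRt (i : I) (k : Fin n) (a : Fin m) (h : e k = (g a).2.1) (φ : i ⟶ e k) :
    H2SubL (g := g) i k φ ⟶ H2SubR i a (φ ≫ eqToHom h) :=
  StructuredArrow.homMk (H2SubHom.t k a h) rfl

/-- The property used to prove finality. -/
def H2SubPFinal (e : Fin n → I) (g : Fin m → Σ x y : I, x ⟶ y) : MorphismProperty I :=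
  fun x y ψ => ∀ (i : I) (k k' : Fin n) (hk : e k = x) (hk' : e k' = y) (φ : i ⟶ x),
    Zigzag (H2SubL (g := g) i k (φ ≫ eqToHom hk.symm))
      (H2SubL (g := g) i k' (φ ≫ ψ ≫ eqToHom hk'.symm))

lemma H2SubPFinal_isMultiplicative (he : Function.Bijective e) :
    (H2SubPFinal e g).IsMultiplicative where
  id_mem x := by
    intro i k k' hk hk' φ
    obtain rfl : k = k' := he.1 (hk.trans hk'.symm)
    rw [Category.id_comp]
  comp_mem {x y z} ψ₁ ψ₂ h₁ h₂ := by
    intro i k k' hk hk' φ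
    obtain ⟨k'', hk''⟩ := he.2 y
    have z1 := h₁ i k k'' hk hk'' φ
    have z2 := h₂ i k'' k' hk'' hk' (φ ≫ ψ₁)
    simp only [Category.assoc] at z1 z2 ⊢
    exact z1.trans z2

lemma H2SubPFinal_gen (a : Fin m) : H2SubPFinal e g (g a).2.2 := by
  intro i k k' hk hk' φ
  have m1 := H2SubLRs (g := g) i k a hk (φ ≫ eqToHom hk.symm)
  have m2 := H2SubLRt (g := g) i k' a hk' (φ ≫ (g a).2.2 ≫ eqToHom hk'.symm)
  have e1 : (φ ≫ eqToHom hk.symm) ≫ eqToHom hk ≫ (g a).2.2 = φ ≫ (g a).2.2 := by simp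
  have e2 : (φ ≫ (g a).2.2 ≫ eqToHom hk'.symm) ≫ eqToHom hk' = φ ≫ (g a).2.2 := by simp
  rw [e1] at m1
  rw [e2] at m2
  exact Zigzag.of_hom_inv m1 m2

theorem H2SubFunctor_final (he : Function.Bijective e)
    (hgen : ∀ P : MorphismProperty I, P.IsMultiplicative → (∀ a : Fin m, P (g a).2.2) → P = ⊤) :
    (H2SubF e g).Final := by
  have hP : H2SubPFinal e g = ⊤ :=
    hgen _ (H2SubPFinal_isMultiplicative he) H2SubPFinal_gen
  constructor
  intro i
  obtain ⟨k₀, hk₀⟩ := he.2 i
  have hinl : ∀ (k : Fin n) (φ : i ⟶ e k),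
      Zigzag (H2SubL (g := g) i k₀ (eqToHom hk₀.symm)) (H2SubL (g := g) i k φ) := by
    intro k φ
    have h1 : H2SubPFinal e g φ := by rw [hP]; trivial
    have h2 := h1 i k₀ k hk₀ rfl (𝟙 i)
    simpa using h2
  have hall : ∀ X : StructuredArrow i (H2SubF e g),
      Zigzag (H2SubL (g := g) i k₀ (eqToHom hk₀.symm)) X := by
    intro X
    obtain ⟨⟨Y⟩, φ, rfl⟩ := X.mk_surjective
    cases Y with
    | inl k => exact hinl k φ
    | inr a =>
      obtain ⟨k, hk⟩ := he.2 (g a).2.1
      change i ⟶ (g a).2.1 at φ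
      change Zigzag _ (H2SubR i a φ)
      have m2 := H2SubLRt (g := g) i k a hk (φ ≫ eqToHom hk.symm)
      have e2 : (φ ≫ eqToHom hk.symm) ≫ eqToHom hk = φ := by simp
      rw [e2] at m2
      exact (hinl k _).trans (Zigzag.of_hom m2)
  have : Nonempty (StructuredArrow i (H2SubF e g)) := ⟨H2SubL (g := g) i k₀ (eqToHom hk₀.symm)⟩
  exact zigzag_isConnected (fun X Y => (hall X).symm.trans (hall Y))

end

end Groth.Agent.H2

namespace Groth.Agent.H2

open CategoryTheory Limits

section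

variable {I : Type u} [Category.{v} I] {n m : ℕ} {e : Fin n → I} {g : Fin m → Σ x y : I, x ⟶ y}

/-- Costructured arrow at a left object. -/
def H2SubL' (i : I) (k : Fin n) (φ : e k ⟶ i) : CostructuredArrow (H2SubF e g) i :=
  @CostructuredArrow.mk _ _ _ _ i (H2Sub.mk (Sum.inl k)) (H2SubF e g) φ

/-- Costructured arrow at a right object. -/
def H2SubR' (i : I) (a : Fin m) (φ : (g a).2.1 ⟶ i) : CostructuredArrow (H2SubF e g) i :=
  @CostructuredArrow.mk _ _ _ _ i (H2Sub.mk (Sum.inr a)) (H2SubF e g) φ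

/-- The morphism of costructured arrows given by `s`. -/
def H2SubLRs' (i : I) (k : Fin n) (a : Fin m) (h : e k = (g a).1) (φ : (g a).2.1 ⟶ i) :
    H2SubL' (g := g) i k ((eqToHom h ≫ (g a).2.2) ≫ φ) ⟶ H2SubR' i a φ :=
  CostructuredArrow.homMk (H2SubHom.s k a h) rfl

/-- The morphism of costructured arrows given by `t`. -/
def H2SubLRt' (i : I) (k : Fin n) (a : Fin m) (h : e k = (g a).2.1) (φ : (g a).2.1 ⟶ i) :
    H2SubL' (g := g) i k (eqToHom h ≫ φ) ⟶ H2SubR' i a φ :=
  CostructuredArrow.homMk (H2SubHom.t k a h) rfl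

/-- The property used to prove initiality. -/
def H2SubPInitial (e : Fin n → I) (g : Fin m → Σ x y : I, x ⟶ y) : MorphismProperty I :=
  fun x y ψ => ∀ (i : I) (k k' : Fin n) (hk : e k = x) (hk' : e k' = y) (φ : y ⟶ i),
    Zigzag (H2SubL' (g := g) i k (eqToHom hk ≫ ψ ≫ φ))
      (H2SubL' (g := g) i k' (eqToHom hk' ≫ φ))

lemma H2SubPInitial_isMultiplicative (he : Function.Bijective e) :
    (H2SubPInitial e g).IsMultiplicative where
  id_mem x := by
    intro i k k' hk hk' φ
    obtain rfl : k = k' := he.1 (hk.trans hk'.symm)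
    rw [Category.id_comp]
  comp_mem {x y z} ψ₁ ψ₂ h₁ h₂ := by
    intro i k k' hk hk' φ
    obtain ⟨k'', hk''⟩ := he.2 y
    have z1 := h₁ i k k'' hk hk'' (ψ₂ ≫ φ)
    have z2 := h₂ i k'' k' hk'' hk' φ
    simp only [Category.assoc] at z1 z2 ⊢
    exact z1.trans z2

lemma H2SubPInitial_gen (a : Fin m) : H2SubPInitial e g (g a).2.2 := by
  intro i k k' hk hk' φ
  have m1 := H2SubLRs' (g := g) i k a hk φ
  have m2 := H2SubLRt' (g := g) i k' a hk' φ
  rw [Category.assoc] at m1
  exact Zigzag.of_hom_inv m1 m2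

theorem H2SubFunctor_initial (he : Function.Bijective e)
    (hgen : ∀ P : MorphismProperty I, P.IsMultiplicative → (∀ a : Fin m, P (g a).2.2) → P = ⊤) :
    (H2SubF e g).Initial := by
  have hP : H2SubPInitial e g = ⊤ :=
    hgen _ (H2SubPInitial_isMultiplicative he) H2SubPInitial_gen
  constructor
  intro i
  obtain ⟨k₀, hk₀⟩ := he.2 i
  have hinl : ∀ (k : Fin n) (φ : e k ⟶ i),
      Zigzag (H2SubL' (g := g) i k φ) (H2SubL' (g := g) i k₀ (eqToHom hk₀)) := by
    intro k φ
    have h1 : H2SubPInitial e g φ := by rw [hP]; trivial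
    have h2 := h1 i k k₀ rfl hk₀ (𝟙 i)
    simpa using h2
  have hall : ∀ X : CostructuredArrow (H2SubF e g) i,
      Zigzag X (H2SubL' (g := g) i k₀ (eqToHom hk₀)) := by
    intro X
    obtain ⟨⟨Y⟩, φ, rfl⟩ := X.mk_surjective
    cases Y with
    | inl k => exact hinl k φ
    | inr a =>
      obtain ⟨k, hk⟩ := he.2 (g a).2.1
      change (g a).2.1 ⟶ i at φ
      change Zigzag (H2SubR' i a φ) _
      have m2 := H2SubLRt' (g := g) i k a hk φ
      exact (Zigzag.of_inv m2).trans (hinl k _)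
  have : Nonempty (CostructuredArrow (H2SubF e g) i) :=
    ⟨H2SubL' (g := g) i k₀ (eqToHom hk₀)⟩
  exact zigzag_isConnected (fun X Y => (hall X).trans (hall Y).symm)

end

end Groth.Agent.H2

namespace Groth.Agent.H2

open CategoryTheory Limits

theorem H2_exists_finCategory_final_initial {I : Type u} [Category.{v} I] [Finite I]
    (gen : Finset (Σ x y : I, x ⟶ y))
    (hgen : ∀ P : MorphismProperty I, P.IsMultiplicative → (∀ a ∈ gen, P a.2.2) → P = ⊤) :
    ∃ (J : Type) (_ : SmallCategory J) (_ : FinCategory J) (F : J ⥤ I),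
      F.Final ∧ F.Initial ∧ (IsConnected J ↔ IsConnected I) ∧ (Nonempty J ↔ Nonempty I) := by
  classical
  let n := Nat.card I
  let eq : I ≃ Fin n := Finite.equivFin I
  let e : Fin n → I := eq.symm
  have he : Function.Bijective e := eq.symm.bijective
  let m := gen.card
  let g : Fin m → Σ x y : I, x ⟶ y := fun a => (gen.equivFin.symm a).1
  have hgen' : ∀ P : MorphismProperty I, P.IsMultiplicative →
      (∀ a : Fin m, P (g a).2.2) → P = ⊤ := by
    intro P hP h
    apply hgen P hP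
    intro a ha
    have h1 := h (gen.equivFin ⟨a, ha⟩)
    have h2 : g (gen.equivFin ⟨a, ha⟩) = a := by
      simp only [g, Equiv.symm_apply_apply]
    rw [h2] at h1
    exact h1
  have hfin := H2SubFunctor_final (e := e) (g := g) he hgen'
  have hini := H2SubFunctor_initial (e := e) (g := g) he hgen'
  refine ⟨H2Sub n m e g, inferInstance, inferInstance, H2SubF e g, hfin, hini,
    @Functor.isConnected_iff_of_final _ _ _ _ (H2SubF e g) hfin, ?_⟩
  constructor
  · rintro ⟨X⟩
    exact ⟨(H2SubF e g).obj X⟩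
  · rintro ⟨x⟩
    exact ⟨⟨Sum.inl (eq x)⟩⟩

end Groth.Agent.H2
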