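import Mathlib

set_option autoImplicit false
universe v₁ v₂ v₃ u₁ u₂ u₃

namespace Groth.Agent.H2

open CategoryTheory Limits

variable {I : Type u₁} [Category.{v₁} I] {I' : Type u₂} [Category.{v₂} I']

/-- The functor from a fibre to structured arrows. -/
def H2FibToStr (F : I ⥤ I') {x' y' : I'} (β : x' ⟶ y') : F.Fiber y' ⥤ StructuredArrow x' F where
  obj w := StructuredArrow.mk (β ≫ eqToHom w.2.symm)
  map {w w'} φ := StructuredArrow.homMk φ.1 (by
    haveI := φ.2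
    have := IsHomLift.fac' F (𝟙 y') φ.1
    dsimp
    rw [this]
    simp)
  map_id w := by
    apply StructuredArrow.hom_ext
    rfl
  map_comp φ ψ := by
    apply StructuredArrow.hom_ext
    rfl

theorem H2_final_of_connected_fibers (F : I ⥤ I')
    (h1 : ∀ x' : I', IsConnected (F.Fiber x'))
    (h2 : ∀ ⦃x' y' : I'⦄ (α' : x' ⟶ y'), ∃ (x y : I) (hx : F.obj x = x') (hy : F.obj y = y')
      (α : x ⟶ y), F.map α = eqToHom hx ≫ α' ≫ eqToHom hy.symm) :
    F.Final := by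
  constructor
  intro x'
  have key : ∀ (y' : I') (β : x' ⟶ y') (w₁ w₂ : F.Fiber y'),
      Zigzag ((H2FibToStr F β).obj w₁) ((H2FibToStr F β).obj w₂) := by
    intro y' β w₁ w₂
    haveI := h1 y'
    exact zigzag_obj_of_zigzag _ (isPreconnected_zigzag w₁ w₂)
  obtain ⟨x₀⟩ : Nonempty (F.Fiber x') := (h1 x').is_nonempty
  have hall : ∀ X : StructuredArrow x' F, Zigzag ((H2FibToStr F (𝟙 x')).obj x₀) X := by
    intro X
    obtain ⟨y, α', rfl⟩ := X.mk_surjective
    obtain ⟨x₁, y₁, hx, hy, α, hα⟩ := h2 α'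
    have Z1 := key x' (𝟙 x') x₀ ⟨x₁, hx⟩
    have Z2 := key (F.obj y) α' ⟨y₁, hy⟩ ⟨y, rfl⟩
    let m : (H2FibToStr F (𝟙 x')).obj ⟨x₁, hx⟩ ⟶ (H2FibToStr F α').obj ⟨y₁, hy⟩ :=
      StructuredArrow.homMk α (by
        dsimp [H2FibToStr]
        rw [hα]
        simp)
    have e : (H2FibToStr F α').obj ⟨y, rfl⟩ = StructuredArrow.mk α' := by
      dsimp [H2FibToStr]
      rw [Category.comp_id]
    rw [e] at Z2
    exact Z1.trans ((Zigzag.of_hom m).trans Z2)
  have : Nonempty (StructuredArrow x' F) := ⟨(H2FibToStr F (𝟙 x')).obj x₀⟩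
  exact zigzag_isConnected (fun X Y => (hall X).symm.trans (hall Y))

end Groth.Agent.H2
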