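import Mathlib

set_option autoImplicit false
universe u
open TensorProduct

namespace Groth.Agent.H2

/-- If `A → B → C` with `C` faithfully flat over `B` and flat over `A`, then `B` is flat over `A`. -/
theorem H2_flat_of_faithfullyFlat_comp (A B C : Type u) [CommRing A] [CommRing B] [CommRing C]
    [Algebra A B] [Algebra B C] [Algebra A C] [IsScalarTower A B C]
    [Module.FaithfullyFlat B C] [Module.Flat A C] : Module.Flat A B := by
  rw [Module.Flat.iff_lTensor_preserves_injective_linearMap]
  intro N P _ _ _ _ f hf
  have h1 : Function.Injective (f.lTensor C) :=
    Module.Flat.lTensor_preserves_injective_linearMap f hf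
  have h3 : Function.Injective (f.baseChange B) := by
    rw [← Module.FaithfullyFlat.lTensor_injective_iff_injective B C]
    have : (f.baseChange B).lTensor C =
        ((AlgebraTensorModule.cancelBaseChange A B B C P).symm.toLinearMap) ∘ₗ
          ((f.baseChange C).restrictScalars B) ∘ₗ
          ((AlgebraTensorModule.cancelBaseChange A B B C N).toLinearMap) := by
      ext c n
      simp
    rw [this]
    simp only [LinearMap.coe_comp, LinearEquiv.coe_coe, LinearMap.coe_restrictScalars,
      EmbeddingLike.comp_injective, EquivLike.injective_comp]
    exact h1
  exact h3

end Groth.Agent.H2
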