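import Mathlib

set_option autoImplicit false
universe u
open AlgebraicGeometry CategoryTheory CategoryTheory.Limits

namespace Groth.Agent.H2

theorem H2_stalkMap_injective_of_flat {X Y : Scheme.{u}} (f : X ⟶ Y) [Flat f] (x : X) :
    Function.Injective (f.stalkMap x).hom := by
  algebraize [(f.stalkMap x).hom]
  have : Module.FaithfullyFlat (Y.presheaf.stalk (f x)) (X.presheaf.stalk x) :=
    @Module.FaithfullyFlat.of_flat_of_isLocalHom _ _ _ _ _ _ _
      (Flat.stalkMap f x) (f.toLRSHom.prop x)
  exact ‹RingHom.FaithfullyFlat _›.injective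

theorem H2_app_injective_of_flat_surjective {X Y : Scheme.{u}} (f : X ⟶ Y) [Flat f] [Surjective f]
    (U : Y.Opens) : Function.Injective (f.app U).hom := by
  rw [injective_iff_map_eq_zero]
  intro s hs
  refine TopCat.Presheaf.section_ext Y.sheaf U s 0 ?_
  intro y hy
  obtain ⟨x, rfl⟩ := f.surjective y
  change (Y.presheaf.germ U (f x) hy) s = (Y.presheaf.germ U (f x) hy) 0
  rw [map_zero]
  apply H2_stalkMap_injective_of_flat f x
  rw [map_zero]
  change (f.stalkMap x) ((Y.presheaf.germ U (f x) hy) s) = _
  rw [Scheme.Hom.germ_stalkMap_apply]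
  change (X.presheaf.germ (f ⁻¹ᵁ U) x hy) ((f.app U).hom s) = _
  rw [hs, map_zero]

theorem H2_ker_eq_bot_of_flat_surjective {X Y : Scheme.{u}} (f : X ⟶ Y) [Flat f] [Surjective f] :
    f.ker = ⊥ := by
  rw [eq_bot_iff, Scheme.IdealSheafData.le_def]
  intro U
  refine (f.ideal_ker_le U).trans ?_
  rw [(RingHom.injective_iff_ker_eq_bot _).mp (H2_app_injective_of_flat_surjective f U.1)]
  exact bot_le

theorem H2_map_comap_of_flat_surjective {X Y : Scheme.{u}} (f : X ⟶ Y) [Flat f] [Surjective f]
    (J : Y.IdealSheafData) : (J.comap f).map f = J := by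
  have h1 : (J.comap f).subschemeι ≫ f =
      (J.comapIso f).hom ≫ pullback.snd f J.subschemeι ≫ J.subschemeι := by
    rw [← pullback.condition, ← Category.assoc, Scheme.IdealSheafData.comapIso_hom_fst]
  rw [Scheme.IdealSheafData.map, h1, Scheme.Hom.ker_comp_of_isIso,
    ← Scheme.IdealSheafData.map_ker,
    H2_ker_eq_bot_of_flat_surjective (pullback.snd f J.subschemeι),
    Scheme.IdealSheafData.map_bot, Scheme.IdealSheafData.ker_subschemeι]

theorem H2_comap_injective_of_flat_surjective {X Y : Scheme.{u}} (f : X ⟶ Y) [Flat f]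
    [Surjective f] : Function.Injective fun J : Y.IdealSheafData => J.comap f := by
  intro J J' h
  have := congrArg (fun I : X.IdealSheafData => I.map f) h
  simpa only [H2_map_comap_of_flat_surjective] using this

end Groth.Agent.H2
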