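import Mathlib
import Groth.Agent.Lib.helper2.FlatCycles

set_option autoImplicit false

namespace Groth.Agent.H2

open TensorProduct

universe u

section modlevel

variable {R : Type u} [CommRing R] {X₀ X₁ X₂ X₃ : Type u}
  [AddCommGroup X₀] [AddCommGroup X₁] [AddCommGroup X₂] [AddCommGroup X₃]
  [Module R X₀] [Module R X₁] [Module R X₂] [Module R X₃]

/-- tensoring an exact sequence whose later images are flat stays exact -/
lemma H2_rTensor_exact_of_flat_range (d₀ : X₀ →ₗ[R] X₁) (d₁ : X₁ →ₗ[R] X₂) (d₂ : X₂ →ₗ[R] X₃)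
    (h01 : Function.Exact d₀ d₁) (h12 : Function.Exact d₁ d₂)
    [Module.Flat R (LinearMap.range d₂)]
    (M : Type u) [AddCommGroup M] [Module R M] :
    Function.Exact (d₀.rTensor M) (d₁.rTensor M) := by
  -- the factorization of d₁ through Z₂ = ker d₂
  let ι₂ := (LinearMap.ker d₂).subtype
  have h12' : ∀ x, d₂ (d₁ x) = 0 := fun x => (h12 (d₁ x)).mpr ⟨x, rfl⟩
  let d₁' : X₁ →ₗ[R] LinearMap.ker d₂ := LinearMap.codRestrict _ d₁ h12'
  have hd₁' : Function.Surjective d₁' := by
    rintro ⟨x, hx⟩
    obtain ⟨y, hy⟩ := (h12 x).mp (LinearMap.mem_ker.mp hx)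
    exact ⟨y, Subtype.ext hy⟩
  have hfac1 : d₁ = ι₂ ∘ₗ d₁' := by ext x; rfl
  -- ι₂ ⊗ M is injective
  have hinj : Function.Injective (ι₂.rTensor M) := by
    have hex : Function.Exact ι₂ d₂.rangeRestrict := by
      intro x
      constructor
      · intro hx
        refine ⟨⟨x, ?_⟩, rfl⟩
        rw [LinearMap.mem_ker]
        exact congrArg Subtype.val hx
      · rintro ⟨y, rfl⟩
        apply Subtype.ext
        exact LinearMap.mem_ker.mp y.2
    have := LinearMap.lTensor_injective_of_exact_of_flat d₂.rangeRestrict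
      (LinearMap.surjective_rangeRestrict d₂) ι₂ (Submodule.injective_subtype _) hex M
    have h2 : ι₂.rTensor M = (TensorProduct.comm R M X₂).toLinearMap ∘ₗ ι₂.lTensor M ∘ₗ
        (TensorProduct.comm R (LinearMap.ker d₂) M).toLinearMap := by
      ext; simp
    rw [h2]
    exact (TensorProduct.comm R M X₂).injective.comp
      (this.comp (TensorProduct.comm R (LinearMap.ker d₂) M).injective)
  -- the factorization of d₀ through Z₁ = ker d₁
  let ι₁ := (LinearMap.ker d₁).subtype
  have h01' : ∀ x, d₁ (d₀ x) = 0 := fun x => (h01 (d₀ x)).mpr ⟨x, rfl⟩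
  let d₀' : X₀ →ₗ[R] LinearMap.ker d₁ := LinearMap.codRestrict _ d₀ h01'
  have hd₀' : Function.Surjective d₀' := by
    rintro ⟨x, hx⟩
    obtain ⟨y, hy⟩ := (h01 x).mp (LinearMap.mem_ker.mp hx)
    exact ⟨y, Subtype.ext hy⟩
  have hfac0 : d₀ = ι₁ ∘ₗ d₀' := by ext x; rfl
  have hex1 : Function.Exact ι₁ d₁' := by
    intro x
    constructor
    · intro hx
      refine ⟨⟨x, ?_⟩, rfl⟩
      rw [LinearMap.mem_ker]
      exact congrArg Subtype.val hx
    · rintro ⟨y, rfl⟩
      apply Subtype.ext
      exact LinearMap.mem_ker.mp y.2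
  have hex1M : Function.Exact (ι₁.rTensor M) (d₁'.rTensor M) := rTensor_exact M hex1 hd₁'
  have hsurj0 : Function.Surjective (d₀'.rTensor M) := LinearMap.rTensor_surjective M hd₀'
  intro y
  rw [hfac1, hfac0, LinearMap.rTensor_comp, LinearMap.rTensor_comp]
  constructor
  · intro hy
    have h1 : (d₁'.rTensor M) y = 0 := by
      apply hinj
      rw [map_zero]
      exact hy
    obtain ⟨z, hz⟩ := (hex1M y).mp h1
    obtain ⟨w, hw⟩ := hsurj0 z
    exact ⟨w, by rw [LinearMap.comp_apply, hw, hz]⟩
  · rintro ⟨w, rfl⟩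
    rw [LinearMap.comp_apply, LinearMap.comp_apply]
    have := (hex1M ((ι₁.rTensor M) ((d₀'.rTensor M) w))).mpr ⟨_, rfl⟩
    rw [this, map_zero]

end modlevel

section prodflat

variable {R : Type u} [CommRing R] {M N : Type u} [AddCommGroup M] [AddCommGroup N]
  [Module R M] [Module R N]

lemma H2_flat_prod [Module.Flat R M] [Module.Flat R N] : Module.Flat R (M × N) := by
  rw [Module.Flat.iff_lTensor_preserves_injective_linearMap]
  intro P Q _ _ _ _ i hi
  have key : ∀ z, (TensorProduct.prodLeft R R M N Q) ((i.lTensor (M × N)) z) =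
      (LinearMap.prodMap (i.lTensor M) (i.lTensor N)) ((TensorProduct.prodLeft R R M N P) z) := by
    intro z
    induction z using TensorProduct.induction_on with
    | zero => rw [map_zero, map_zero, map_zero, map_zero]
    | tmul x p =>
      obtain ⟨m, n⟩ := x
      simp
    | add a b ha hb =>
      rw [map_add, map_add, ha, hb, map_add, map_add]
  have hM : Function.Injective (i.lTensor M) :=
    Module.Flat.lTensor_preserves_injective_linearMap i hi
  have hN : Function.Injective (i.lTensor N) :=
    Module.Flat.lTensor_preserves_injective_linearMap i hi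
  rw [injective_iff_map_eq_zero]
  intro z hz
  have h1 := key z
  rw [hz, map_zero] at h1
  have h2 : (TensorProduct.prodLeft R R M N P) z = 0 := by
    apply Prod.ext
    · apply hM
      have := (congrArg Prod.fst h1).symm
      exact this.trans (map_zero _).symm
    · apply hN
      have := (congrArg Prod.snd h1).symm
      exact this.trans (map_zero _).symm
  exact (LinearEquiv.map_eq_zero_iff _).mp h2

end prodflat

section cxlevel

open CategoryTheory CategoryTheory.Limits

variable {A : Type u} [CommRing A]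

lemma H2_function_exact_of_isZero_homology (F : CochainComplex (ModuleCat.{u} A) ℤ)
    (i j k : ℤ) (hij : i + 1 = j) (hjk : j + 1 = k) (h : IsZero (F.homology j)) :
    Function.Exact (F.d i j).hom (F.d j k).hom := by
  have hexact : (F.sc' i j k).Exact := by
    rw [← HomologicalComplex.exactAt_iff' F i j k (by simp; omega) (by simp; omega),
      HomologicalComplex.exactAt_iff_isZero_homology]
    exact h
  exact (ShortComplex.ShortExact.moduleCat_exact_iff_function_exact _).mp hexact

lemma H2_tensor_acyclic (E : CochainComplex (ModuleCat.{u} A) ℤ)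
    (hE : ∀ i, Module.Flat A (E.X i)) (hb : ∃ b : ℤ, ∀ i, b < i → IsZero (E.X i))
    (hac : ∀ n, IsZero (E.homology n)) (M : ModuleCat.{u} A) (n : ℤ) :
    IsZero ((((MonoidalCategory.tensorRight M).mapHomologicalComplex
      (ComplexShape.up ℤ)).obj E).homology n) := by
  obtain ⟨b, hb⟩ := hb
  rw [← HomologicalComplex.exactAt_iff_isZero_homology,
    HomologicalComplex.exactAt_iff' _ (n - 1) n (n + 1) (by simp) (by simp),
    ShortComplex.ShortExact.moduleCat_exact_iff_function_exact]
  have h01 := H2_function_exact_of_isZero_homology E (n - 1) n (n + 1) (by omega) rfl (hac n)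
  have h12 := H2_function_exact_of_isZero_homology E n (n + 1) (n + 1 + 1) rfl rfl (hac (n + 1))
  have h23 := H2_function_exact_of_isZero_homology E (n + 1) (n + 1 + 1) (n + 1 + 1 + 1) rfl rfl
    (hac (n + 1 + 1))
  have hflat : Module.Flat A (LinearMap.ker (E.d (n + 1 + 1) (n + 1 + 1 + 1)).hom) :=
    H2_flat_ker_of_bounded E hE b (n + 1) hb (fun p _ => hac p) (b - n).toNat (n + 1 + 1)
      (by omega) (by omega)
  haveI : Module.Flat A (LinearMap.range (E.d (n + 1) (n + 1 + 1)).hom) := by
    rw [(LinearMap.exact_iff.mp h23).symm]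
    exact hflat
  exact H2_rTensor_exact_of_flat_range (E.d (n - 1) n).hom (E.d n (n + 1)).hom
    (E.d (n + 1) (n + 1 + 1)).hom h01 h12 M

end cxlevel

section cone

open CategoryTheory CategoryTheory.Limits Pretriangulated DerivedCategory

variable {C : Type*} [Category C] [Abelian C] [HasDerivedCategory C]

lemma H2_isZero_Q_obj_iff (E : CochainComplex C ℤ) :
    IsZero (DerivedCategory.Q.obj E) ↔ ∀ n, IsZero (E.homology n) := by
  constructor
  · intro h n
    exact IsZero.of_iso ((homologyFunctor C n).map_isZero h)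
      ((homologyFunctorFactors C n).app E).symm
  · intro h
    have h' : ∀ n, IsZero ((homologyFunctor C n).obj (DerivedCategory.Q.obj E)) :=
      fun n => IsZero.of_iso (h n) ((homologyFunctorFactors C n).app E)
    haveI : (DerivedCategory.Q.obj E).IsLE 0 := by
      rw [DerivedCategory.isLE_iff]
      exact fun i _ => h' i
    haveI : (DerivedCategory.Q.obj E).IsGE 1 := by
      rw [DerivedCategory.isGE_iff]
      exact fun i _ => h' i
    exact TStructure.t.isZero (DerivedCategory.Q.obj E) 0 1 (by omega)

lemma H2_quasiIso_iff_acyclic_cone {K L : CochainComplex C ℤ} (ψ : K ⟶ L) :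
    QuasiIso ψ ↔ ∀ n, IsZero ((CochainComplex.mappingCone ψ).homology n) := by
  rw [← DerivedCategory.isIso_Q_map_iff_quasiIso, ← H2_isZero_Q_obj_iff]
  have hT := DerivedCategory.mappingCone_triangle_distinguished ψ
  exact (Triangle.isZero₃_iff_isIso₁ _ hT).symm

end cone

end Groth.Agent.H2
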