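import Mathlib
import Groth.Statements.S7494

set_option autoImplicit false
universe u
open CategoryTheory AlgebraicGeometry MonoidalCategory CartesianMonoidalCategory MonObj GrpObj

namespace Groth.Agent.H2

variable {S : Scheme.{u}} {G X : Over S} [GrpObj G]

lemma H2act_one (a : AlgGrp.Action G X) {T : Over S} (x : T ⟶ X) :
    lift (toUnit T ≫ η[G]) x ≫ a.act = x := by
  have h := a.one_act
  have e : lift (toUnit T ≫ η[G]) x = lift (toUnit T) x ≫ (η[G] ▷ X) := by
    apply CartesianMonoidalCategory.hom_ext
    · simp only [Category.assoc, lift_fst, whiskerRight_fst, lift_fst_assoc]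
    · simp only [Category.assoc, lift_snd, whiskerRight_snd]
  rw [e, Category.assoc, h, leftUnitor_hom, lift_snd]

lemma H2act_mul (a : AlgGrp.Action G X) {T : Over S} (g h : T ⟶ G) (x : T ⟶ X) :
    lift (g * h) x ≫ a.act = lift g (lift h x ≫ a.act) ≫ a.act := by
  have hm := a.mul_act
  have e : lift (g * h) x = lift (lift g h) x ≫ (μ[G] ▷ X) := by
    apply CartesianMonoidalCategory.hom_ext
    · simp only [Category.assoc, lift_fst, whiskerRight_fst, lift_fst_assoc]
      rfl
    · simp only [Category.assoc, lift_snd, whiskerRight_snd]
  have e' : lift g (lift h x ≫ a.act) = lift (lift g h) x ≫ (α_ G G X).hom ≫ (G ◁ a.act) := by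
    apply CartesianMonoidalCategory.hom_ext
    · simp only [Category.assoc, lift_fst, whiskerLeft_fst, associator_hom_fst, lift_fst_assoc]
    · simp only [Category.assoc, lift_snd, whiskerLeft_snd]
      rw [← Category.assoc (α_ G G X).hom, ← Category.assoc (lift _ _)]
      congr 1
      apply CartesianMonoidalCategory.hom_ext
      · simp only [Category.assoc, lift_fst, associator_hom_snd_fst, lift_fst_assoc, lift_snd]
      · simp only [Category.assoc, lift_snd, associator_hom_snd_snd]
  rw [e, Category.assoc, hm, e']
  simp only [Category.assoc]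

theorem H2_free_iff_mono (a : AlgGrp.Action G X) :
    (∀ (T : Over S) (g : T ⟶ G) (x : T ⟶ X), lift g x ≫ a.act = x → g = toUnit T ≫ η[G]) ↔
      Mono (lift a.act (snd G X)).left := by
  constructor
  · intro hfree
    have : Mono (lift a.act (snd G X)) := by
      constructor
      intro T p q hpq
      have h1 := congrArg (fun f => f ≫ fst X X) hpq
      have h2 := congrArg (fun f => f ≫ snd X X) hpq
      simp only [Category.assoc, lift_fst, lift_snd] at h1 h2
      have hp : p = lift (p ≫ fst G X) (p ≫ snd G X) := by
        apply CartesianMonoidalCategory.hom_ext <;> simp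
      have hq : q = lift (q ≫ fst G X) (q ≫ snd G X) := by
        apply CartesianMonoidalCategory.hom_ext <;> simp
      set g := p ≫ fst G X
      set g' := q ≫ fst G X
      set x := p ≫ snd G X
      rw [hp] at h1
      rw [hq, ← h2] at h1
      have h3 : lift (g'⁻¹ * g) x ≫ a.act = x := by
        rw [H2act_mul, h1, ← H2act_mul, inv_mul_cancel, Hom.one_def, H2act_one]
      have h4 := hfree T (g'⁻¹ * g) x h3
      have h5 : g = g' := by
        rw [← Hom.one_def] at h4
        exact (inv_mul_eq_one.mp h4).symm
      rw [hp, hq, ← h2, h5]
    infer_instance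
  · intro hmono T g x hgx
    have : Mono (lift a.act (snd G X)) := Over.mono_of_mono_left _
    have h1 : lift g x ≫ lift a.act (snd G X) =
        lift (toUnit T ≫ η[G]) x ≫ lift a.act (snd G X) := by
      apply CartesianMonoidalCategory.hom_ext
      · simp only [Category.assoc, lift_fst, hgx, H2act_one]
      · simp only [Category.assoc, lift_snd]
    have h2 := (cancel_mono _).mp h1
    have h3 := congrArg (fun f => f ≫ fst G X) h2
    simpa using h3

end Groth.Agent.H2
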