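import Mathlib

/-!
Products with a geometrically reduced scheme over a field are reduced (no Noetherian hypotheses).
-/

namespace Groth.Agent.H2

open CategoryTheory CategoryTheory.Limits AlgebraicGeometry TensorProduct

universe u

/-- Affine core. -/
theorem H2_isReduced_tensor_of_geomReduced {k : Type u} [Field k] (A B : Type u) [CommRing A]
    [CommRing B] [Algebra k A] [Algebra k B]
    [GeometricallyReduced (Spec.map (CommRingCat.ofHom (algebraMap k A)))] [IsReduced B] :
    IsReduced (A ⊗[k] B) := by
  apply IsReduced.tensorProduct_of_flat_of_forall_fg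
  intro B' hB'
  haveI : Algebra.FiniteType k B' := (Subalgebra.fg_iff_finiteType B').mp hB'
  haveI : IsNoetherianRing B' := Algebra.FiniteType.isNoetherianRing k B'
  haveI : IsReduced B' := isReduced_of_injective B'.val Subtype.val_injective
  haveI : AlgebraicGeometry.IsReduced (Spec (CommRingCat.of B')) :=
    (affine_isReduced_iff _).mpr ‹_›
  haveI : IsLocallyNoetherian (Spec (CommRingCat.of B')) := inferInstance
  haveI : Flat (Spec.map (CommRingCat.ofHom (algebraMap k A))) := inferInstance
  have h1 : AlgebraicGeometry.IsReduced (pullback (Spec.map (CommRingCat.ofHom (algebraMap k A)))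
      (Spec.map (CommRingCat.ofHom (algebraMap k B')))) := inferInstance
  have h2 : AlgebraicGeometry.IsReduced (Spec (CommRingCat.of (A ⊗[k] B'))) :=
    isReduced_of_isOpenImmersion (pullbackSpecIso k A B').inv
  exact (affine_isReduced_iff _).mp h2

end Groth.Agent.H2

namespace Groth.Agent.H2

open CategoryTheory CategoryTheory.Limits AlgebraicGeometry TensorProduct

universe u

/-- Precomposition with an open immersion preserves geometric reducedness. -/
theorem H2_geomReduced_comp_openImmersion {U X Y : Scheme.{u}} (j : U ⟶ X) [IsOpenImmersion j]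
    (f : X ⟶ Y) [GeometricallyReduced f] : GeometricallyReduced (j ≫ f) := by
  rw [geometricallyReduced_iff, geometrically_iff_of_isClosedUnderIsomorphisms]
  intro K _ y
  have h1 : AlgebraicGeometry.IsReduced (pullback f y) :=
    pullback_of_geometrically (GeometricallyReduced.geometrically_isReduced) K y
  have h2 : AlgebraicGeometry.IsReduced (pullback j (pullback.fst f y)) :=
    isReduced_of_isOpenImmersion (pullback.snd j (pullback.fst f y))
  exact isReduced_of_isOpenImmersion (pullbackRightPullbackFstIso f y j).inv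

/-- Affine case. -/
theorem H2_isReduced_pullback_of_geomReduced_affine {k : Type u} [Field k] {X S : Scheme.{u}}
    [IsAffine X] [IsAffine S]
    (f : X ⟶ Spec (CommRingCat.of k)) (g : S ⟶ Spec (CommRingCat.of k)) [GeometricallyReduced f]
    [AlgebraicGeometry.IsReduced S] : AlgebraicGeometry.IsReduced (pullback f g) := by
  obtain ⟨φ, hφ⟩ := Spec.map_surjective (X.isoSpec.inv ≫ f)
  obtain ⟨ψ, hψ⟩ := Spec.map_surjective (S.isoSpec.inv ≫ g)
  algebraize [φ.hom, ψ.hom]
  have hφ' : Spec.map (CommRingCat.ofHom (algebraMap k Γ(X, ⊤))) = X.isoSpec.inv ≫ f := hφ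
  have hψ' : Spec.map (CommRingCat.ofHom (algebraMap k Γ(S, ⊤))) = S.isoSpec.inv ≫ g := hψ
  haveI : GeometricallyReduced (Spec.map (CommRingCat.ofHom (algebraMap k Γ(X, ⊤)))) := by
    rw [hφ']
    exact H2_geomReduced_comp_openImmersion _ _
  haveI : _root_.IsReduced Γ(S, ⊤) := inferInstance
  have hred := H2_isReduced_tensor_of_geomReduced (k := k) Γ(X, ⊤) Γ(S, ⊤)
  have h2 : AlgebraicGeometry.IsReduced (Spec (CommRingCat.of (Γ(X, ⊤) ⊗[k] Γ(S, ⊤)))) :=
    (affine_isReduced_iff _).mpr hred
  have h3 : AlgebraicGeometry.IsReduced (pullback (Spec.map (CommRingCat.ofHom (algebraMap k Γ(X, ⊤))))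
      (Spec.map (CommRingCat.ofHom (algebraMap k Γ(S, ⊤))))) :=
    isReduced_of_isOpenImmersion (pullbackSpecIso k Γ(X, ⊤) Γ(S, ⊤)).hom
  let m : pullback f g ⟶ pullback (Spec.map (CommRingCat.ofHom (algebraMap k Γ(X, ⊤))))
      (Spec.map (CommRingCat.ofHom (algebraMap k Γ(S, ⊤)))) :=
    pullback.map f g _ _ X.isoSpec.hom S.isoSpec.hom (𝟙 _) (by rw [hφ']; simp) (by rw [hψ']; simp)
  haveI : IsIso m := by dsimp only [m]; infer_instance
  exact isReduced_of_isOpenImmersion m

/-- General case: the product of a geometrically reduced `k`-scheme with a reduced `k`-scheme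
is reduced. -/
theorem H2_isReduced_pullback_of_geomReduced {k : Type u} [Field k] {X S : Scheme.{u}}
    (f : X ⟶ Spec (CommRingCat.of k)) (g : S ⟶ Spec (CommRingCat.of k)) [GeometricallyReduced f]
    [AlgebraicGeometry.IsReduced S] : AlgebraicGeometry.IsReduced (pullback f g) := by
  apply +allowSynthFailures @IsReduced.of_openCover
    (𝒰 := Scheme.Pullback.openCoverOfLeftRight X.affineCover S.affineCover f g)
  rintro ⟨i, j⟩
  haveI : GeometricallyReduced (X.affineCover.f i ≫ f) := H2_geomReduced_comp_openImmersion _ _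
  haveI : AlgebraicGeometry.IsReduced (S.affineCover.X j) :=
    isReduced_of_isOpenImmersion (S.affineCover.f j)
  exact H2_isReduced_pullback_of_geomReduced_affine (X.affineCover.f i ≫ f) (S.affineCover.f j ≫ g)

end Groth.Agent.H2
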