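import Mathlib

set_option autoImplicit false

namespace Groth.Agent.H2

open CategoryTheory CategoryTheory.Limits DerivedCategory Abelian

universe w' v u

section

variable {C : Type u} [Category.{v} C] [Abelian C] [HasDerivedCategory.{w'} C]

lemma H2_single_hom_shift_neg (X Y : C) (i : ℤ) (hi : i < 0) :
    Subsingleton ((singleFunctor C 0).obj X ⟶ ((singleFunctor C 0).obj Y)⟦i⟧) := by
  have hY : TStructure.t.IsGE (((singleFunctor C 0).obj Y)⟦i⟧) (-i) :=
    TStructure.t.isGE_shift ((singleFunctor C 0).obj Y) 0 i (-i) (by omega)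
  have hX : TStructure.t.IsLE ((singleFunctor C 0).obj X) 0 := inferInstance
  refine ⟨fun f g => ?_⟩
  rw [TStructure.t.zero_of_isLE_of_isGE f 0 (-i) (by omega) hX hY,
    TStructure.t.zero_of_isLE_of_isGE g 0 (-i) (by omega) hX hY]

lemma H2_subsingleton_of_injDim (X : C) (n : ℕ) [HasInjectiveDimensionLT X n] (Y : C) (i : ℤ)
    (hi : i < 0 ∨ (n : ℤ) ≤ i) :
    Subsingleton ((singleFunctor C 0).obj Y ⟶ ((singleFunctor C 0).obj X)⟦i⟧) := by
  rcases hi with hi | hi
  · exact H2_single_hom_shift_neg Y X i hi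
  · obtain ⟨k, rfl⟩ : ∃ k : ℕ, i = k := ⟨i.toNat, by omega⟩
    letI := HasExt.standard C
    haveI := HasInjectiveDimensionLT.subsingleton X n k (by exact_mod_cast hi) Y
    exact (Ext.homEquiv (X := Y) (Y := X) (n := k)).symm.subsingleton

lemma H2_injDim_of_subsingleton (X : C) (n : ℕ)
    (h : ∀ (Y : C) (i : ℤ), (n : ℤ) ≤ i →
      Subsingleton ((singleFunctor C 0).obj Y ⟶ ((singleFunctor C 0).obj X)⟦i⟧)) :
    HasInjectiveDimensionLT X n := by
  letI := HasExt.standard C
  refine HasInjectiveDimensionLT.mk (fun i hi Y e => ?_)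
  haveI := h Y i (by exact_mod_cast hi)
  exact (Ext.homEquiv (X := Y) (Y := X) (n := i)).injective (Subsingleton.elim _ _)

lemma H2_subsingleton_of_projective' (P Y : C) [Projective P] (i : ℤ) (hi : i ≠ 0) :
    Subsingleton ((singleFunctor C 0).obj P ⟶ ((singleFunctor C 0).obj Y)⟦i⟧) := by
  rcases lt_or_gt_of_ne hi with hi | hi
  · exact H2_single_hom_shift_neg P Y i hi
  · obtain ⟨k, rfl⟩ : ∃ k : ℕ, i = ((k + 1 : ℕ) : ℤ) := ⟨(i - 1).toNat, by omega⟩
    letI := HasExt.standard C
    haveI := Ext.subsingleton_of_projective P Y k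
    exact (Ext.homEquiv (X := P) (Y := Y) (n := k + 1)).symm.subsingleton

end

section Mod

variable (A : Type u) [CommRing A] [HasDerivedCategory.{w'} (ModuleCat.{u} A)]

lemma H2_finite_homology_single_self (i : ℤ) :
    Module.Finite A ((homologyFunctor (ModuleCat.{u} A) i).obj
      ((singleFunctor (ModuleCat.{u} A) 0).obj (ModuleCat.of A A))) := by
  by_cases hi : i = 0
  · subst hi
    let e := (singleFunctorCompHomologyFunctorIso (ModuleCat.{u} A) 0).app (ModuleCat.of A A)
    haveI : Module.Finite A ↑((𝟭 (ModuleCat.{u} A)).obj (ModuleCat.of A A)) :=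
      (inferInstance : Module.Finite A A)
    exact Module.Finite.equiv e.toLinearEquiv.symm
  · have hz : IsZero ((homologyFunctor (ModuleCat.{u} A) i).obj
        ((singleFunctor (ModuleCat.{u} A) 0).obj (ModuleCat.of A A))) := by
      rcases lt_or_gt_of_ne hi with h | h
      · exact isZero_of_isGE _ 0 i h
      · exact isZero_of_isLE _ 0 i h
    haveI : Subsingleton ((homologyFunctor (ModuleCat.{u} A) i).obj
        ((singleFunctor (ModuleCat.{u} A) 0).obj (ModuleCat.of A A))) :=
      ModuleCat.subsingleton_of_isZero hz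
    infer_instance

lemma H2_toEnd_bijective :
    Function.Bijective (fun a : A =>
      a • (𝟙 ((singleFunctor (ModuleCat.{u} A) 0).obj (ModuleCat.of A A)))) := by
  have key : ∀ a : A, a • (𝟙 ((singleFunctor (ModuleCat.{u} A) 0).obj (ModuleCat.of A A))) =
      (singleFunctor (ModuleCat.{u} A) 0).map (a • 𝟙 (ModuleCat.of A A)) := by
    intro a
    rw [Functor.map_smul, CategoryTheory.Functor.map_id]
  constructor
  · intro a b hab
    simp only [key] at hab
    have h := (singleFunctor (ModuleCat.{u} A) 0).map_injective hab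
    have h1 := ConcreteCategory.congr_hom h (1 : A)
    simpa using h1
  · intro g
    obtain ⟨f, rfl⟩ := (singleFunctor (ModuleCat.{u} A) 0).map_surjective g
    refine ⟨f.hom (1 : A), ?_⟩
    simp only [key]
    congr 1
    apply ModuleCat.hom_ext
    apply LinearMap.ext
    intro x
    have hx : f.hom x = x • f.hom (1 : A) := by
      rw [← map_smul, smul_eq_mul, mul_one]
    rw [hx]
    simp [mul_comm]

end Mod

end Groth.Agent.H2
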