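import Mathlib

set_option autoImplicit false
universe u

namespace Groth.Agent.H2

/-- A homogeneous element of degree `m` in the ideal spanned by homogeneous elements `E` is a sum of
products `c * e` with `e ∈ E` of degree `d ≤ m` and `c` homogeneous of degree `m - d`.
Stated via an additive-closure induction principle. -/
lemma H2_homog_span_induction {R A : Type u} [CommRing R] [CommRing A] [Algebra R A]
    (𝒜 : ℕ → Submodule R A) [GradedAlgebra 𝒜]
    (E : Set A) (deg : A → ℕ) (hE : ∀ e ∈ E, e ∈ 𝒜 (deg e)) (m : ℕ) (P : A → Prop)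
    (h0 : P 0) (hadd : ∀ x y, P x → P y → P (x + y))
    (hmul : ∀ (e : A) (c : A), e ∈ E → deg e ≤ m → c ∈ 𝒜 (m - deg e) → P (c * e))
    (x : A) (hx : x ∈ 𝒜 m) (hxE : x ∈ Ideal.span E) : P x := by
  classical
  obtain ⟨k, f, g, rfl⟩ := Submodule.mem_span_set'.mp hxE
  have h1 : (∑ i, f i • (g i : A)) = GradedRing.proj 𝒜 m (∑ i, f i • (g i : A)) := by
    rw [GradedRing.proj_apply, DirectSum.decompose_of_mem_same _ hx]
  rw [h1, map_sum]
  have hsum : ∀ (s : Finset (Fin k)) (F : Fin k → A), (∀ i ∈ s, P (F i)) → P (∑ i ∈ s, F i) := by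
    intro s F hF
    induction s using Finset.induction_on with
    | empty => simpa using h0
    | insert a s ha ih =>
      rw [Finset.sum_insert ha]
      exact hadd _ _ (hF a (Finset.mem_insert_self _ _))
        (ih fun i hi => hF i (Finset.mem_insert_of_mem hi))
  apply hsum
  intro i _
  have hgd := hE (g i) (g i).2
  rw [GradedRing.proj_apply, smul_eq_mul, DirectSum.coe_decompose_mul_of_right_mem 𝒜 m hgd]
  split_ifs with hdn
  · exact hmul (g i) _ (g i).2 hdn (SetLike.coe_mem _)
  · exact h0

end Groth.Agent.H2
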