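import Mathlib
import Groth.Agent.Lib.helper2.GrpCohTorsion

set_option autoImplicit false
universe u

namespace Groth.Agent.H2

open CategoryTheory Limits Rep groupCohomology

section General

variable {k G : Type u} [CommRing k] [Group G]

lemma H2_rep_shortExact (X : ShortComplex (Rep.{u} k G))
    (hinj : Function.Injective X.f.hom) (hsurj : Function.Surjective X.g.hom)
    (hex : ∀ x : X.X₂, X.g.hom x = 0 → ∃ y : X.X₁, X.f.hom y = x) : X.ShortExact := by
  refine { exact := ?_, mono_f := (Rep.mono_iff_injective _).2 hinj,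
           epi_g := (Rep.epi_iff_surjective _).2 hsurj }
  rw [← ShortComplex.exact_map_iff_of_faithful X (forget₂ (Rep k G) (ModuleCat k))]
  rw [ShortComplex.moduleCat_exact_iff]
  intro x hx
  exact hex x hx

lemma H2_surj_of_next_subsingleton {X : ShortComplex (Rep.{u} k G)} (hX : X.ShortExact) (i : ℕ)
    (h : Subsingleton (groupCohomology X.X₁ (i + 1))) (y : groupCohomology X.X₃ i) :
    ∃ x : groupCohomology X.X₂ i, (groupCohomology.functor k G i).map X.g x = y := by
  have hex := mapShortComplex₃_exact hX (rfl : i + 1 = i + 1)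
  rw [ShortComplex.moduleCat_exact_iff] at hex
  have hs : Subsingleton ((mapShortComplex₃ hX (rfl : i + 1 = i + 1)).X₃) := h
  obtain ⟨x, hx⟩ := hex y (Subsingleton.elim _ _)
  exact ⟨x, hx⟩

lemma H2_surj_of_map_zero {X : ShortComplex (Rep.{u} k G)} (hX : X.ShortExact) (i : ℕ)
    (h : (groupCohomology.functor k G i).map X.g = 0) (y : groupCohomology X.X₂ i) :
    ∃ x : groupCohomology X.X₁ i, (groupCohomology.functor k G i).map X.f x = y := by
  have hex := mapShortComplex₂_exact hX i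
  rw [ShortComplex.moduleCat_exact_iff] at hex
  obtain ⟨x, hx⟩ := hex y (by
    change ((groupCohomology.functor k G i).map X.g) y = 0
    rw [h]
    rfl)
  exact ⟨x, hx⟩

lemma H2_functor_map_nsmul_id (A : Rep.{u} k G) (n i : ℕ) :
    (groupCohomology.functor k G i).map (n • 𝟙 A) = n • 𝟙 _ := by
  change HomologicalComplex.homologyMap ((cochainsFunctor k G).map (n • 𝟙 A)) i = _
  rw [Functor.map_nsmul, CategoryTheory.Functor.map_id]
  change (HomologicalComplex.homologyFunctor _ _ i).map _ = _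
  rw [Functor.map_nsmul, CategoryTheory.Functor.map_id]
  rfl

lemma H2_functor_map_card_smul_id_eq_zero [Fintype G] (A : Rep.{u} k G) (i : ℕ) (hi : 0 < i) :
    (groupCohomology.functor k G i).map (Fintype.card G • 𝟙 A) = 0 := by
  rw [H2_functor_map_nsmul_id]
  apply ModuleCat.hom_ext
  apply LinearMap.ext
  intro x
  simp only [ModuleCat.hom_zero, LinearMap.zero_apply, ModuleCat.hom_nsmul, ModuleCat.hom_id,
    LinearMap.smul_apply, LinearMap.id_coe, id_eq]
  exact H2_card_smul_groupCohomology A i hi x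

end General

section Main

variable {Q : Type} [Group Q] [Fintype Q] (M : Type) [AddCommGroup M]

theorem H2_H2_trivial_subsingleton
    (hQ : Subsingleton (groupCohomology (Rep.trivial ℤ Q ℤ) 3))
    (hdiv : ∀ x : M, ∃ y : M, Fintype.card Q • y = x)
    (ζ : M) (hζn : Fintype.card Q • ζ = 0)
    (hζ : ∀ x : M, Fintype.card Q • x = 0 → ∃ j : ℤ, j • ζ = x)
    (hord : ∀ j : ℤ, j • ζ = 0 → (Fintype.card Q : ℤ) ∣ j) :
    Subsingleton (groupCohomology (Rep.trivial ℤ Q M) 2) := by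
  have hnpos : 0 < Fintype.card Q := Fintype.card_pos
  let A : Rep.{0} ℤ Q := Rep.trivial ℤ Q M
  let g : A ⟶ A := Fintype.card Q • 𝟙 A
  have hg : ∀ x : M, g.hom x = Fintype.card Q • x := fun x => rfl
  let T : Submodule ℤ M := LinearMap.ker g.hom.toLinearMap
  have hT : ∀ x : M, x ∈ T ↔ Fintype.card Q • x = 0 := fun x => by
    change g.hom x = 0 ↔ _
    rw [hg]
  let f : Rep.trivial ℤ Q T ⟶ A := Rep.ofHom ⟨T.subtype, fun _ => rfl⟩
  have hf : ∀ t : T, f.hom t = t.1 := fun t => rfl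
  have hfg : f ≫ g = 0 := by
    apply Rep.hom_ext
    ext t
    change g.hom (f.hom t) = 0
    rw [hf, hg]
    exact (hT _).1 t.2
  let X : ShortComplex (Rep.{0} ℤ Q) := ShortComplex.mk f g hfg
  have hX : X.ShortExact := by
    apply H2_rep_shortExact X
    · intro t t' h
      exact Subtype.ext h
    · intro x
      obtain ⟨y, hy⟩ := hdiv x
      exact ⟨y, hy⟩
    · intro x hx
      exact ⟨⟨x, hx⟩, rfl⟩
  let ζT : T := ⟨ζ, (hT ζ).2 hζn⟩
  let Zt : Rep.{0} ℤ Q := Rep.trivial ℤ Q ℤ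
  let g' : Zt ⟶ Rep.trivial ℤ Q T :=
    Rep.ofHom ⟨LinearMap.toSpanSingleton ℤ T ζT, fun _ => rfl⟩
  have hg' : ∀ j : ℤ, g'.hom j = j • ζT := fun j => rfl
  let f' : Zt ⟶ Zt := Fintype.card Q • 𝟙 Zt
  have hf' : ∀ j : ℤ, f'.hom j = Fintype.card Q • j := fun j => rfl
  have hfg' : f' ≫ g' = 0 := by
    apply Rep.hom_ext
    ext
    change ((g'.hom (f'.hom (1 : ℤ)) : T) : M) = 0
    rw [hf', hg']
    change (Fintype.card Q • (1 : ℤ)) • ζ = 0
    rw [nsmul_eq_mul, mul_one, Nat.cast_smul_eq_nsmul]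
    exact hζn
  let Y : ShortComplex (Rep.{0} ℤ Q) := ShortComplex.mk f' g' hfg'
  have hY : Y.ShortExact := by
    apply H2_rep_shortExact Y
    · intro j j' h
      change f'.hom j = f'.hom j' at h
      rw [hf', hf', nsmul_eq_mul, nsmul_eq_mul] at h
      exact mul_left_cancel₀ (by exact_mod_cast hnpos.ne') h
    · intro t
      obtain ⟨j, hj⟩ := hζ t.1 ((hT _).1 t.2)
      exact ⟨j, Subtype.ext hj⟩
    · intro j hj
      change g'.hom j = 0 at hj
      rw [hg'] at hj
      have hj' : j • ζ = 0 := congrArg Subtype.val hj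
      obtain ⟨j', rfl⟩ := hord j hj'
      refine ⟨j', ?_⟩
      change f'.hom j' = _
      rw [hf', nsmul_eq_mul]
  suffices h : ∀ c : groupCohomology A 2, c = 0 from ⟨fun c c' => by rw [h c, h c']⟩
  intro c
  obtain ⟨c₁, hc₁⟩ := H2_surj_of_map_zero hX 2
    (H2_functor_map_card_smul_id_eq_zero A 2 (by norm_num)) c
  obtain ⟨c₂, hc₂⟩ := H2_surj_of_next_subsingleton hY 2 hQ c₁
  obtain ⟨ζ', hζ'⟩ := hdiv ζ
  let ψ : Zt ⟶ A := Rep.ofHom ⟨LinearMap.toSpanSingleton ℤ M ζ', fun _ => rfl⟩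
  have hψ : ∀ j : ℤ, ψ.hom j = j • ζ' := fun j => rfl
  have hfac : g' ≫ f = ψ ≫ g := by
    apply Rep.hom_ext
    ext
    change f.hom (g'.hom (1 : ℤ)) = g.hom (ψ.hom (1 : ℤ))
    rw [hf, hg', hψ, hg, one_smul, one_smul, hζ']
  have h1 : c = ((groupCohomology.functor ℤ Q 2).map (g' ≫ f)) c₂ := by
    rw [Functor.map_comp, ← hc₁, ← hc₂]
    rfl
  rw [h1, hfac, Functor.map_comp, H2_functor_map_card_smul_id_eq_zero A 2 (by norm_num),
    Limits.comp_zero]
  rfl

end Main

end Groth.Agent.H2
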