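import Mathlib
import Groth.Agent.Lib.helper2.GrpCohTorsion
import Groth.Agent.Lib.helper2.GrpCohH2Units
import Groth.Agent.Lib.helper2.GrpCohLimit

set_option autoImplicit false
universe u

namespace Groth.Agent.H2

open CategoryTheory Limits Rep groupCohomology

section

variable {k G : Type u} [CommRing k] [Group G] [Fintype G]

theorem H2_map_bijective_of_kernel_divisible {A B : Rep.{u} k G} (φ : A ⟶ B)
    (hφ : Function.Surjective φ.hom)
    (hinj : ∀ a : A, φ.hom a = 0 → Fintype.card G • a = 0 → a = 0)
    (hsurj : ∀ a : A, φ.hom a = 0 → ∃ a' : A, φ.hom a' = 0 ∧ Fintype.card G • a' = a)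
    (n : ℕ) (hn : 0 < n) :
    Function.Bijective ((groupCohomology.functor k G n).map φ).hom := by
  let X : ShortComplex (Rep.{u} k G) := ShortComplex.mk (kernel.ι φ) φ (kernel.condition φ)
  have hιinj : Function.Injective (kernel.ι φ).hom :=
    (Rep.mono_iff_injective _).1 inferInstance
  have hX : X.ShortExact := by
    apply H2_rep_shortExact X hιinj hφ
    intro x hx
    exact H2_rep_kernel_exact φ x hx
  have hιsmul : ∀ (m : ℕ) (z : (kernel φ).V), (kernel.ι φ).hom (m • z) = m • (kernel.ι φ).hom z :=
    fun m z => map_nsmul _ _ _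
  have hdiv : Function.Bijective fun z : (kernel φ).V => Fintype.card G • z := by
    constructor
    · intro z z' hzz'
      have hzz'' : Fintype.card G • z = Fintype.card G • z' := hzz'
      have h1 : Fintype.card G • (z - z') = 0 := by
        rw [smul_sub, hzz'', sub_self]
      have h2 : (kernel.ι φ).hom (z - z') = 0 := by
        apply hinj
        · exact H2_rep_kernel_condition_apply φ _
        · rw [← hιsmul, h1, map_zero]
      have h3 : z - z' = 0 := hιinj (h2.trans (map_zero _).symm)
      exact sub_eq_zero.1 h3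
    · intro z
      obtain ⟨a', ha', ha'z⟩ := hsurj ((kernel.ι φ).hom z) (H2_rep_kernel_condition_apply φ z)
      obtain ⟨z', hz'⟩ := H2_rep_kernel_exact φ a' ha'
      refine ⟨z', ?_⟩
      apply hιinj
      change (kernel.ι φ).hom (Fintype.card G • z') = _
      rw [hιsmul, hz', ha'z]
  have hzero : ∀ i : ℕ, 0 < i → Subsingleton (groupCohomology (kernel φ) i) :=
    fun i hi => H2_groupCohomology_subsingleton_of_divisible (kernel φ) hdiv i hi
  constructor
  · rw [injective_iff_map_eq_zero]
    intro x hx
    have hex := mapShortComplex₂_exact hX n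
    rw [ShortComplex.moduleCat_exact_iff] at hex
    obtain ⟨z, hz⟩ := hex x hx
    have hs : Subsingleton ((mapShortComplex₂ X n).X₁) := hzero n hn
    have hz0 : z = 0 := Subsingleton.elim _ _
    rw [← hz, hz0]
    exact map_zero _
  · intro y
    obtain ⟨x, hx⟩ := H2_surj_of_next_subsingleton hX n (hzero (n + 1) (Nat.succ_pos n)) y
    exact ⟨x, hx⟩

end

end Groth.Agent.H2
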