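import Mathlib

set_option autoImplicit false
universe v₁ u₁
open CategoryTheory CategoryTheory.Limits

namespace Groth.Agent.H2

variable {C : Type u₁} [Category.{v₁} C] [HasPullbacks C]

section
variable {X₁ X₀ Y₀ : C} (d₀ d₁ : X₁ ⟶ X₀) (f₀ : Y₀ ⟶ X₀)

/-- first projection `Y₁ ⟶ Y₀` -/
noncomputable def H2e₁ : pullback (pullback.snd f₀ d₁ ≫ d₀) f₀ ⟶ Y₀ :=
  pullback.fst (pullback.snd f₀ d₁ ≫ d₀) f₀ ≫ pullback.fst f₀ d₁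

/-- second projection `Y₁ ⟶ Y₀` -/
noncomputable def H2e₀ : pullback (pullback.snd f₀ d₁ ≫ d₀) f₀ ⟶ Y₀ :=
  pullback.snd (pullback.snd f₀ d₁ ≫ d₀) f₀

/-- the map `Y₁ ⟶ X₁` -/
noncomputable def H2q : pullback (pullback.snd f₀ d₁ ≫ d₀) f₀ ⟶ X₁ :=
  pullback.fst (pullback.snd f₀ d₁ ≫ d₀) f₀ ≫ pullback.snd f₀ d₁

theorem H2q_d₁ : H2q d₀ d₁ f₀ ≫ d₁ = H2e₁ d₀ d₁ f₀ ≫ f₀ := by
  simp only [H2q, H2e₁, Category.assoc, pullback.condition]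

theorem H2q_d₀ : H2q d₀ d₁ f₀ ≫ d₀ = H2e₀ d₀ d₁ f₀ ≫ f₀ := by
  simp only [H2q, H2e₀, Category.assoc, pullback.condition]

theorem H2q_epi (hf : MorphismProperty.universally (MorphismProperty.epimorphisms C) f₀) :
    Epi (H2q d₀ d₁ f₀) := by
  have h1 : Epi (pullback.snd f₀ d₁) :=
    hf (pullback.fst f₀ d₁) d₁ (pullback.snd f₀ d₁) (IsPullback.of_hasPullback f₀ d₁).flip
  have h2 : Epi (pullback.fst (pullback.snd f₀ d₁ ≫ d₀) f₀) :=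
    hf (pullback.snd (pullback.snd f₀ d₁ ≫ d₀) f₀) (pullback.snd f₀ d₁ ≫ d₀)
      (pullback.fst (pullback.snd f₀ d₁ ≫ d₀) f₀)
      (IsPullback.of_hasPullback (pullback.snd f₀ d₁ ≫ d₀) f₀)
  rw [H2q]
  exact epi_comp _ _

/-- If `h` coequalizes `d₁, d₀` then `f₀ ≫ h` coequalizes `e₁, e₀`. -/
theorem H2_e_comp {T : C} (h : X₀ ⟶ T) (hh : d₁ ≫ h = d₀ ≫ h) :
    H2e₁ d₀ d₁ f₀ ≫ f₀ ≫ h = H2e₀ d₀ d₁ f₀ ≫ f₀ ≫ h := by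
  calc H2e₁ d₀ d₁ f₀ ≫ f₀ ≫ h = (H2q d₀ d₁ f₀ ≫ d₁) ≫ h := by rw [H2q_d₁, Category.assoc]
    _ = (H2q d₀ d₁ f₀ ≫ d₀) ≫ h := by rw [Category.assoc, hh, Category.assoc]
    _ = H2e₀ d₀ d₁ f₀ ≫ f₀ ≫ h := by rw [H2q_d₀, Category.assoc]

theorem H2_descend (s : X₀ ⟶ X₁) (hs₀ : s ≫ d₀ = 𝟙 X₀) (hs₁ : s ≫ d₁ = 𝟙 X₀)
    [EffectiveEpi f₀]
    (hf : MorphismProperty.universally (MorphismProperty.epimorphisms C) f₀)
    {T : C} (g : Y₀ ⟶ T) (hg : H2e₁ d₀ d₁ f₀ ≫ g = H2e₀ d₀ d₁ f₀ ≫ g) :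
    ∃! h : X₀ ⟶ T, d₁ ≫ h = d₀ ≫ h ∧ f₀ ≫ h = g := by
  have hker : ∀ {Z : C} (a b : Z ⟶ Y₀), a ≫ f₀ = b ≫ f₀ → a ≫ g = b ≫ g := by
    intro Z a b hab
    let c := a ≫ f₀
    let z₁ : Z ⟶ pullback f₀ d₁ := pullback.lift a (c ≫ s) (by
      rw [Category.assoc, hs₁, Category.comp_id])
    let z : Z ⟶ pullback (pullback.snd f₀ d₁ ≫ d₀) f₀ := pullback.lift z₁ b (by
      rw [← Category.assoc, pullback.lift_snd, Category.assoc, hs₀, Category.comp_id]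
      exact hab)
    have hz1 : z ≫ H2e₁ d₀ d₁ f₀ = a := by
      simp only [H2e₁, z, z₁, pullback.lift_fst_assoc, pullback.lift_fst]
    have hz0 : z ≫ H2e₀ d₀ d₁ f₀ = b := by
      simp only [H2e₀, z, pullback.lift_snd]
    calc a ≫ g = (z ≫ H2e₁ d₀ d₁ f₀) ≫ g := by rw [hz1]
      _ = (z ≫ H2e₀ d₀ d₁ f₀) ≫ g := by rw [Category.assoc, hg, Category.assoc]
      _ = b ≫ g := by rw [hz0]
  have hfac : f₀ ≫ EffectiveEpi.desc f₀ g hker = g := EffectiveEpi.fac f₀ g hker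
  refine ⟨EffectiveEpi.desc f₀ g hker, ⟨?_, hfac⟩, ?_⟩
  · have := H2q_epi d₀ d₁ f₀ hf
    rw [← cancel_epi (H2q d₀ d₁ f₀)]
    calc H2q d₀ d₁ f₀ ≫ d₁ ≫ EffectiveEpi.desc f₀ g hker
        = (H2e₁ d₀ d₁ f₀ ≫ f₀) ≫ EffectiveEpi.desc f₀ g hker := by
          rw [← Category.assoc, H2q_d₁]
      _ = H2e₁ d₀ d₁ f₀ ≫ g := by rw [Category.assoc, hfac]
      _ = H2e₀ d₀ d₁ f₀ ≫ g := hg
      _ = (H2e₀ d₀ d₁ f₀ ≫ f₀) ≫ EffectiveEpi.desc f₀ g hker := by rw [Category.assoc, hfac]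
      _ = H2q d₀ d₁ f₀ ≫ d₀ ≫ EffectiveEpi.desc f₀ g hker := by
          rw [← Category.assoc, H2q_d₀]
  · rintro h' ⟨-, hh'⟩
    rw [← cancel_epi f₀, hh', hfac]

end

end Groth.Agent.H2

namespace Groth.Agent.H2

variable {C : Type u₁} [Category.{v₁} C] [HasPullbacks C]

theorem H2_hasCoequalizer_iff {X₁ X₀ Y₀ : C} (d₀ d₁ : X₁ ⟶ X₀) (s : X₀ ⟶ X₁)
    (hs₀ : s ≫ d₀ = 𝟙 X₀) (hs₁ : s ≫ d₁ = 𝟙 X₀)
    (f₀ : Y₀ ⟶ X₀) [EffectiveEpi f₀]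
    (hf : MorphismProperty.universally (MorphismProperty.epimorphisms C) f₀) :
    HasCoequalizer d₁ d₀ ↔ HasCoequalizer (H2e₁ d₀ d₁ f₀) (H2e₀ d₀ d₁ f₀) := by
  constructor
  · intro hco
    let π := coequalizer.π d₁ d₀
    have hπ : d₁ ≫ π = d₀ ≫ π := coequalizer.condition d₁ d₀
    have hw : H2e₁ d₀ d₁ f₀ ≫ f₀ ≫ π = H2e₀ d₀ d₁ f₀ ≫ f₀ ≫ π := H2_e_comp d₀ d₁ f₀ π hπ
    refine HasColimit.mk ⟨Cofork.ofπ (f₀ ≫ π) hw, ?_⟩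
    refine Cofork.IsColimit.mk' _ fun t => ?_
    have hex := H2_descend d₀ d₁ f₀ s hs₀ hs₁ hf t.π t.condition
    let h := hex.choose
    have hh : d₁ ≫ h = d₀ ≫ h := hex.choose_spec.1.1
    have hfh : f₀ ≫ h = t.π := hex.choose_spec.1.2
    have huniq := hex.choose_spec.2
    refine ⟨coequalizer.desc h hh, ?_, ?_⟩
    · change (f₀ ≫ π) ≫ coequalizer.desc h hh = t.π
      rw [Category.assoc, coequalizer.π_desc, hfh]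
    · intro m hm
      have hm' : (f₀ ≫ π) ≫ m = t.π := hm
      have h1 : π ≫ m = h := by
        apply huniq
        refine ⟨?_, ?_⟩
        · rw [← Category.assoc, hπ, Category.assoc]
        · rw [← Category.assoc, hm']
      refine @coequalizer.hom_ext C _ _ _ d₁ d₀ _ _ m (coequalizer.desc h hh) ?_
      rw [coequalizer.π_desc]
      exact h1
  · intro hco
    let ρ := coequalizer.π (H2e₁ d₀ d₁ f₀) (H2e₀ d₀ d₁ f₀)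
    have hρ : H2e₁ d₀ d₁ f₀ ≫ ρ = H2e₀ d₀ d₁ f₀ ≫ ρ := coequalizer.condition _ _
    have hex := H2_descend d₀ d₁ f₀ s hs₀ hs₁ hf ρ hρ
    let π := hex.choose
    have hπ : d₁ ≫ π = d₀ ≫ π := hex.choose_spec.1.1
    have hfπ : f₀ ≫ π = ρ := hex.choose_spec.1.2
    refine HasColimit.mk ⟨Cofork.ofπ π hπ, ?_⟩
    refine Cofork.IsColimit.mk' _ fun t => ?_
    have htc : d₁ ≫ t.π = d₀ ≫ t.π := t.condition
    have hw : H2e₁ d₀ d₁ f₀ ≫ f₀ ≫ t.π = H2e₀ d₀ d₁ f₀ ≫ f₀ ≫ t.π :=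
      H2_e_comp d₀ d₁ f₀ t.π htc
    refine ⟨coequalizer.desc (f₀ ≫ t.π) hw, ?_, ?_⟩
    · change π ≫ coequalizer.desc (f₀ ≫ t.π) hw = t.π
      rw [← cancel_epi f₀, ← Category.assoc, hfπ, coequalizer.π_desc]
    · intro m hm
      have hm' : π ≫ m = t.π := hm
      refine @coequalizer.hom_ext C _ _ _ (H2e₁ d₀ d₁ f₀) (H2e₀ d₀ d₁ f₀) _ _ m
        (coequalizer.desc (f₀ ≫ t.π) hw) ?_
      rw [coequalizer.π_desc]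
      change ρ ≫ m = _
      rw [← hfπ, Category.assoc, hm']

end Groth.Agent.H2
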