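import Mathlib
import Groth.Statements.S7452

set_option autoImplicit false
universe u
open CategoryTheory CategoryTheory.Limits AlgebraicGeometry

namespace Groth.Agent.H2

variable {S : Scheme.{u}} (G : Grpd.GroupoidScheme S)

lemma H2grpd_lift_comp {T T' : Scheme.{u}} (p : T' ⟶ T) (α β : T ⟶ G.R) (h : α ≫ G.s = β ≫ G.t) :
    p ≫ pullback.lift α β h = pullback.lift (p ≫ α) (p ≫ β)
      (by rw [Category.assoc, Category.assoc, h]) := by
  apply pullback.hom_ext
  · rw [Category.assoc, pullback.lift_fst, pullback.lift_fst]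
  · rw [Category.assoc, pullback.lift_snd, pullback.lift_snd]

lemma H2grpd_lift_congr {T : Scheme.{u}} {α α' β β' : T ⟶ G.R} (h : α ≫ G.s = β ≫ G.t)
    (hα : α = α') (hβ : β = β') :
    pullback.lift α β h = pullback.lift α' β' (by rw [← hα, ← hβ, h]) := by
  subst hα; subst hβ; rfl

/-- T-point cancellation: (γ ∘ β⁻¹) ∘ β = γ when s γ = s β -/
lemma H2grpd_cancel_right {T : Scheme.{u}} (γ β : T ⟶ G.R) (h : γ ≫ G.s = β ≫ G.s)
    (h₁ : γ ≫ G.s = (β ≫ G.i) ≫ G.t) (h₂ : (pullback.lift γ (β ≫ G.i) h₁ ≫ G.c) ≫ G.s = β ≫ G.t) :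
    pullback.lift (pullback.lift γ (β ≫ G.i) h₁ ≫ G.c) β h₂ ≫ G.c = γ := by
  have hib : (β ≫ G.i) ≫ G.s = β ≫ G.t := by rw [Category.assoc, G.i_s]
  rw [G.assoc γ (β ≫ G.i) β h₁ hib]
  have e1 := G.i_comp β
  have e2 := G.comp_e γ
  rw [H2grpd_lift_congr G _ rfl e1]
  rw [H2grpd_lift_congr G _ rfl (show β ≫ G.s ≫ G.e = γ ≫ G.s ≫ G.e by
    rw [← Category.assoc, ← h, Category.assoc])]
  exact e2

/-- T-point cancellation: (α ∘ β) ∘ β⁻¹ = α when s α = t β -/
lemma H2grpd_cancel_right' {T : Scheme.{u}} (α β : T ⟶ G.R) (h : α ≫ G.s = β ≫ G.t)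
    (h₁ : (pullback.lift α β h ≫ G.c) ≫ G.s = (β ≫ G.i) ≫ G.t) :
    pullback.lift (pullback.lift α β h ≫ G.c) (β ≫ G.i) h₁ ≫ G.c = α := by
  have hbi : β ≫ G.s = (β ≫ G.i) ≫ G.t := by rw [Category.assoc, G.i_t]
  rw [G.assoc α β (β ≫ G.i) h hbi]
  have e1 := G.comp_i β
  have e2 := G.comp_e α
  rw [H2grpd_lift_congr G _ rfl e1]
  rw [H2grpd_lift_congr G _ rfl (show β ≫ G.t ≫ G.e = α ≫ G.s ≫ G.e by
    rw [← Category.assoc, ← h, Category.assoc])]
  exact e2


/-- the composition is, up to the shear isomorphism, the first projection of `R ×_{s,U,s} R` -/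
theorem H2grpd_shear : ∃ Φ : pullback G.s G.t ⟶ pullback G.s G.s, IsIso Φ ∧
    G.c = Φ ≫ pullback.fst G.s G.s := by
  have hid : pullback.lift (pullback.fst G.s G.t) (pullback.snd G.s G.t) pullback.condition =
      𝟙 (pullback G.s G.t) := by
    apply pullback.hom_ext
    · rw [pullback.lift_fst, Category.id_comp]
    · rw [pullback.lift_snd, Category.id_comp]
  have hcs : G.c ≫ G.s = pullback.snd G.s G.t ≫ G.s := by
    have := G.comp_s (pullback.fst G.s G.t) (pullback.snd G.s G.t) pullback.condition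
    rwa [hid, Category.id_comp] at this
  let Φ : pullback G.s G.t ⟶ pullback G.s G.s := pullback.lift G.c (pullback.snd G.s G.t) hcs
  have h₁ : pullback.fst G.s G.s ≫ G.s = (pullback.snd G.s G.s ≫ G.i) ≫ G.t := by
    rw [Category.assoc, G.i_t, pullback.condition]
  have h₂ : (pullback.lift (pullback.fst G.s G.s) (pullback.snd G.s G.s ≫ G.i) h₁ ≫ G.c) ≫ G.s =
      pullback.snd G.s G.s ≫ G.t := by
    rw [G.comp_s, Category.assoc, G.i_s]
  let Ψ : pullback G.s G.s ⟶ pullback G.s G.t :=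
    pullback.lift (pullback.lift (pullback.fst G.s G.s) (pullback.snd G.s G.s ≫ G.i) h₁ ≫ G.c)
      (pullback.snd G.s G.s) h₂
  have hΨc : Ψ ≫ G.c = pullback.fst G.s G.s :=
    H2grpd_cancel_right G (pullback.fst G.s G.s) (pullback.snd G.s G.s) pullback.condition h₁ h₂
  have hΨΦ : Ψ ≫ Φ = 𝟙 _ := by
    apply pullback.hom_ext
    · rw [Category.assoc, pullback.lift_fst, hΨc, Category.id_comp]
    · rw [Category.assoc, pullback.lift_snd, pullback.lift_snd, Category.id_comp]
  have hΦΨ : Φ ≫ Ψ = 𝟙 _ := by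
    apply pullback.hom_ext
    · rw [Category.assoc, pullback.lift_fst, Category.id_comp, ← Category.assoc,
        H2grpd_lift_comp]
      have e1 : Φ ≫ pullback.fst G.s G.s = G.c := pullback.lift_fst _ _ _
      have e2 : Φ ≫ pullback.snd G.s G.s ≫ G.i = pullback.snd G.s G.t ≫ G.i := by
        rw [← Category.assoc, pullback.lift_snd]
      rw [H2grpd_lift_congr G _ e1 e2]
      have hc' : G.c = pullback.lift (pullback.fst G.s G.t) (pullback.snd G.s G.t)
          pullback.condition ≫ G.c := by rw [hid, Category.id_comp]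
      have key := H2grpd_cancel_right' G (pullback.fst G.s G.t) (pullback.snd G.s G.t)
        pullback.condition (by rw [G.comp_s, Category.assoc, G.i_t])
      rw [H2grpd_lift_congr G _ hc' rfl]
      exact key
    · rw [Category.assoc, pullback.lift_snd, pullback.lift_snd, Category.id_comp]
  exact ⟨Φ, ⟨⟨Ψ, hΦΨ, hΨΦ⟩⟩, (pullback.lift_fst _ _ _).symm⟩

end Groth.Agent.H2
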