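import Mathlib
import Groth.Agent.Lib.helper2.GrpdShear

set_option autoImplicit false
universe u
open CategoryTheory CategoryTheory.Limits AlgebraicGeometry

namespace Groth.Agent.H2

variable {S : Scheme.{u}} (G : Grpd.GroupoidScheme S)

/-- α⁻¹ ∘ (α ∘ β) = β -/
lemma H2grpd_cancel_left {T : Scheme.{u}} (α β : T ⟶ G.R) (h : α ≫ G.s = β ≫ G.t)
    (h' : (α ≫ G.i) ≫ G.s = (pullback.lift α β h ≫ G.c) ≫ G.t) :
    pullback.lift (α ≫ G.i) (pullback.lift α β h ≫ G.c) h' ≫ G.c = β := by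
  have h₁ : (α ≫ G.i) ≫ G.s = α ≫ G.t := by rw [Category.assoc, G.i_s]
  rw [← G.assoc (α ≫ G.i) α β h₁ h]
  have e1 := G.i_comp α
  rw [H2grpd_lift_congr G _ e1 rfl]
  rw [H2grpd_lift_congr G _ (show α ≫ G.s ≫ G.e = β ≫ G.t ≫ G.e by
    rw [← Category.assoc, h, Category.assoc]) rfl]
  exact G.e_comp β

/-- α ∘ (α⁻¹ ∘ β') = β' -/
lemma H2grpd_cancel_left' {T : Scheme.{u}} (α β : T ⟶ G.R) (h : α ≫ G.t = β ≫ G.t)
    (h₁ : (α ≫ G.i) ≫ G.s = β ≫ G.t)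
    (h' : α ≫ G.s = (pullback.lift (α ≫ G.i) β h₁ ≫ G.c) ≫ G.t) :
    pullback.lift α (pullback.lift (α ≫ G.i) β h₁ ≫ G.c) h' ≫ G.c = β := by
  have h₀ : α ≫ G.s = (α ≫ G.i) ≫ G.t := by rw [Category.assoc, G.i_t]
  rw [← G.assoc α (α ≫ G.i) β h₀ h₁]
  have e1 := G.comp_i α
  rw [H2grpd_lift_congr G _ e1 rfl]
  rw [H2grpd_lift_congr G _ (show α ≫ G.t ≫ G.e = β ≫ G.t ≫ G.e by
    rw [← Category.assoc, h, Category.assoc]) rfl]
  exact G.e_comp β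

/-- left shear over `a : Z ⟶ R` -/
theorem H2grpd_shearL {Z : Scheme.{u}} (a : Z ⟶ G.R) :
    ∃ (Θ : pullback (a ≫ G.s) G.t ⟶ pullback (a ≫ G.t) G.t), IsIso Θ ∧
      pullback.lift (pullback.fst (a ≫ G.s) G.t ≫ a) (pullback.snd (a ≫ G.s) G.t)
        ((Category.assoc _ _ _).trans pullback.condition) ≫ G.c =
        Θ ≫ pullback.snd (a ≫ G.t) G.t := by
  have hP : (pullback.fst (a ≫ G.s) G.t ≫ a) ≫ G.s = pullback.snd (a ≫ G.s) G.t ≫ G.t :=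
    (Category.assoc _ _ _).trans pullback.condition
  have hΘ : pullback.fst (a ≫ G.s) G.t ≫ (a ≫ G.t) =
      (pullback.lift (pullback.fst (a ≫ G.s) G.t ≫ a) (pullback.snd (a ≫ G.s) G.t) hP ≫ G.c) ≫ G.t := by
    rw [G.comp_t, Category.assoc]
  let Θ : pullback (a ≫ G.s) G.t ⟶ pullback (a ≫ G.t) G.t :=
    pullback.lift (pullback.fst _ _) (pullback.lift (pullback.fst (a ≫ G.s) G.t ≫ a)
      (pullback.snd (a ≫ G.s) G.t) hP ≫ G.c) hΘ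
  have hQ : ((pullback.fst (a ≫ G.t) G.t ≫ a) ≫ G.i) ≫ G.s = pullback.snd (a ≫ G.t) G.t ≫ G.t := by
    rw [Category.assoc, G.i_s, Category.assoc, pullback.condition]
  have hΞ : pullback.fst (a ≫ G.t) G.t ≫ (a ≫ G.s) =
      (pullback.lift ((pullback.fst (a ≫ G.t) G.t ≫ a) ≫ G.i) (pullback.snd (a ≫ G.t) G.t) hQ ≫ G.c) ≫ G.t := by
    rw [G.comp_t, Category.assoc, G.i_t, Category.assoc]
  let Ξ : pullback (a ≫ G.t) G.t ⟶ pullback (a ≫ G.s) G.t :=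
    pullback.lift (pullback.fst _ _) (pullback.lift ((pullback.fst (a ≫ G.t) G.t ≫ a) ≫ G.i)
      (pullback.snd (a ≫ G.t) G.t) hQ ≫ G.c) hΞ
  have hΘ1 : Θ ≫ pullback.fst _ _ = pullback.fst _ _ := pullback.lift_fst _ _ _
  have hΘ2 : Θ ≫ pullback.snd _ _ = pullback.lift (pullback.fst (a ≫ G.s) G.t ≫ a)
      (pullback.snd (a ≫ G.s) G.t) hP ≫ G.c := pullback.lift_snd _ _ _
  have hΞ1 : Ξ ≫ pullback.fst _ _ = pullback.fst _ _ := pullback.lift_fst _ _ _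
  have hΞ2 : Ξ ≫ pullback.snd _ _ = pullback.lift ((pullback.fst (a ≫ G.t) G.t ≫ a) ≫ G.i)
      (pullback.snd (a ≫ G.t) G.t) hQ ≫ G.c := pullback.lift_snd _ _ _
  have hΘΞ : Θ ≫ Ξ = 𝟙 _ := by
    apply pullback.hom_ext
    · rw [Category.assoc, hΞ1, hΘ1, Category.id_comp]
    · rw [Category.assoc, hΞ2, Category.id_comp, ← Category.assoc, H2grpd_lift_comp]
      have e1 : Θ ≫ (pullback.fst (a ≫ G.t) G.t ≫ a) ≫ G.i =
          (pullback.fst (a ≫ G.s) G.t ≫ a) ≫ G.i := by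
        rw [← Category.assoc, ← Category.assoc, hΘ1]
      rw [H2grpd_lift_congr G _ e1 hΘ2]
      exact H2grpd_cancel_left G _ _ hP _
  have hΞΘ : Ξ ≫ Θ = 𝟙 _ := by
    apply pullback.hom_ext
    · rw [Category.assoc, hΘ1, hΞ1, Category.id_comp]
    · rw [Category.assoc, hΘ2, Category.id_comp, ← Category.assoc, H2grpd_lift_comp]
      have e1 : Ξ ≫ pullback.fst (a ≫ G.s) G.t ≫ a = pullback.fst (a ≫ G.t) G.t ≫ a := by
        rw [← Category.assoc, hΞ1]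
      rw [H2grpd_lift_congr G _ e1 hΞ2]
      exact H2grpd_cancel_left' G _ _
        ((Category.assoc _ _ _).trans pullback.condition) hQ _
  exact ⟨Θ, ⟨⟨Ξ, hΘΞ, hΞΘ⟩⟩, hΘ2.symm⟩

end Groth.Agent.H2
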