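import Mathlib

set_option autoImplicit false

namespace Groth.Agent.H2

open CategoryTheory CategoryTheory.Limits Category Pretriangulated Triangulated ZeroObject

universe v u v' u'

variable {C : Type u} [Category.{v} C] [Preadditive C] [HasZeroObject C] [HasShift C ℤ]
  [∀ n : ℤ, (shiftFunctor C n).Additive] [Pretriangulated C] (t : TStructure C)
  {H : Type u'} [Category.{v'} H] [Preadditive H] [t.Heart H]

lemma H2heartP_hι ⦃X Y : H⦄ ⦃n : ℤ⦄ (f : t.ιHeart.obj X ⟶ (t.ιHeart.obj Y)⟦n⟧) (hn : n < 0) :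
    f = 0 :=
  t.zero_of_isLE_of_isGE f 0 (-n) (by omega) inferInstance
    (t.isGE_shift (t.ιHeart.obj Y) 0 n (-n) (by omega))

/-- admissibility data for a morphism in the heart -/
lemma H2heartP_admissible [IsTriangulated C] {X Y : H} (u : X ⟶ Y) {X₃ : C}
    (f₂ : t.ιHeart.obj Y ⟶ X₃) (f₃ : X₃ ⟶ (t.ιHeart.obj X)⟦(1 : ℤ)⟧)
    (hT : Triangle.mk (t.ιHeart.map u) f₂ f₃ ∈ distTriang C) :
    ∃ (K Q : H) (α : (t.ιHeart.obj K)⟦(1 : ℤ)⟧ ⟶ X₃) (β : X₃ ⟶ t.ιHeart.obj Q)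
      (γ : t.ιHeart.obj Q ⟶ (t.ιHeart.obj K)⟦(1 : ℤ)⟧⟦(1 : ℤ)⟧),
      Triangle.mk α β γ ∈ distTriang C := by
  have hrot := rot_of_distTriang _ hT
  haveI hX1 : t.IsLE ((t.ιHeart.obj X)⟦(1 : ℤ)⟧) (-1) :=
    t.isLE_shift (t.ιHeart.obj X) 0 1 (-1) (by omega)
  haveI hX1' : t.IsLE ((t.ιHeart.obj X)⟦(1 : ℤ)⟧) 0 :=
    t.isLE_of_le _ (-1) 0 (by omega)
  haveI hX1g : t.IsGE ((t.ιHeart.obj X)⟦(1 : ℤ)⟧) (-1) :=
    t.isGE_shift (t.ιHeart.obj X) 0 1 (-1) (by omega)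
  haveI hYg : t.IsGE (t.ιHeart.obj Y) (-1) := t.isGE_of_ge _ (-1) 0 (by omega)
  haveI hLE : t.IsLE X₃ 0 := t.isLE₂ _ hrot 0 (inferInstance : t.IsLE (t.ιHeart.obj Y) 0) hX1'
  haveI hGE : t.IsGE X₃ (-1) := t.isGE₂ _ hrot (-1) hYg hX1g
  have hT' := t.triangleLEGE_distinguished (-1) 0 (by omega) X₃
  -- the heart objects
  have hB : t.heart ((t.truncGE 0).obj X₃) :=
    (t.mem_heart_iff _).2 ⟨inferInstance, inferInstance⟩
  rw [← t.essImage_ιHeart H] at hB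
  obtain ⟨Q, ⟨eQ⟩⟩ := hB
  haveI hA1 : t.IsLE ((t.truncLE (-1)).obj X₃) (-1) := inferInstance
  haveI hA2 : t.IsGE ((t.truncLE (-1)).obj X₃) (-1) := inferInstance
  have hA : t.heart (((t.truncLE (-1)).obj X₃)⟦(-1 : ℤ)⟧) :=
    (t.mem_heart_iff _).2 ⟨t.isLE_shift _ (-1) (-1) 0 (by omega),
      t.isGE_shift _ (-1) (-1) 0 (by omega)⟩
  rw [← t.essImage_ιHeart H] at hA
  obtain ⟨K, ⟨eK⟩⟩ := hA
  let eK' : (t.ιHeart.obj K)⟦(1 : ℤ)⟧ ≅ (t.truncLE (-1)).obj X₃ :=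
    (shiftFunctor C (1 : ℤ)).mapIso eK ≪≫
      (shiftFunctorCompIsoId C (-1 : ℤ) 1 (by omega)).app _
  refine ⟨K, Q, eK'.hom ≫ (t.truncLEι (-1)).app X₃, (t.truncGEπ 0).app X₃ ≫ eQ.inv,
    eQ.hom ≫ (t.truncGEδLE (-1) 0 (by omega)).app X₃ ≫ (shiftFunctor C (1 : ℤ)).map eK'.inv, ?_⟩
  refine isomorphic_distinguished _ hT' _ ?_
  refine Triangle.isoMk _ _ eK' (Iso.refl _) eQ ?_ ?_ ?_
  · change (eK'.hom ≫ (t.truncLEι (-1)).app X₃) ≫ 𝟙 X₃ = eK'.hom ≫ (t.truncLEι (-1)).app X₃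
    exact Category.comp_id _
  · change ((t.truncGEπ 0).app X₃ ≫ eQ.inv) ≫ eQ.hom = 𝟙 X₃ ≫ (t.truncGEπ 0).app X₃
    rw [assoc, Iso.inv_hom_id, Category.comp_id, Category.id_comp]
  · change (eQ.hom ≫ (t.truncGEδLE (-1) 0 (by omega)).app X₃ ≫
        (shiftFunctor C (1 : ℤ)).map eK'.inv) ≫ (shiftFunctor C (1 : ℤ)).map eK'.hom =
      eQ.hom ≫ (t.truncGEδLE (-1) 0 (by omega)).app X₃
    rw [assoc, assoc, ← Functor.map_comp, Iso.inv_hom_id, CategoryTheory.Functor.map_id]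
    exact congrArg (eQ.hom ≫ ·) (Category.comp_id _)

lemma H2heartP_prod_mem (X Y : H) : t.heart (t.ιHeart.obj X ⨯ t.ιHeart.obj Y) := by
  rw [t.mem_heart_iff]
  have hT := binaryProductTriangle_distinguished (t.ιHeart.obj X) (t.ιHeart.obj Y)
  exact ⟨t.isLE₂ _ hT 0 (inferInstance : t.IsLE (t.ιHeart.obj X) 0)
      (inferInstance : t.IsLE (t.ιHeart.obj Y) 0),
    t.isGE₂ _ hT 0 (inferInstance : t.IsGE (t.ιHeart.obj X) 0)
      (inferInstance : t.IsGE (t.ιHeart.obj Y) 0)⟩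

include t in
lemma H2heartP_hasBinaryProducts : HasBinaryProducts H := by
  haveI : ∀ X Y : H, HasLimit (pair X Y) := fun X Y => by
    have hm := H2heartP_prod_mem t X Y
    rw [← t.essImage_ιHeart H] at hm
    obtain ⟨Z, ⟨e⟩⟩ := hm
    let i : t.ιHeart.obj Z ≅ limit (pair X Y ⋙ t.ιHeart) :=
      e ≪≫ (HasLimit.isoOfNatIso (diagramIsoPair (pair X Y ⋙ t.ιHeart))).symm
    haveI := createsLimitOfFullyFaithfulOfIso Z i
    exact hasLimit_of_created (pair X Y) t.ιHeart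
  exact hasBinaryProducts_of_hasLimit_pair H

include t in
lemma H2heartP_hasTerminal : HasTerminal H := by
  have hm : t.heart (0 : C) := (t.mem_heart_iff _).2
    ⟨t.isLE_of_isZero (isZero_zero C) 0, t.isGE_of_isZero (isZero_zero C) 0⟩
  rw [← t.essImage_ιHeart H] at hm
  obtain ⟨Z, ⟨e⟩⟩ := hm
  have hZ : IsZero Z := by
    rw [IsZero.iff_id_eq_zero]
    apply t.ιHeart.map_injective
    rw [CategoryTheory.Functor.map_id, Functor.map_zero]
    exact (IsZero.of_iso (isZero_zero C) e).eq_of_src _ _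
  exact hZ.isTerminal.hasTerminal

include t in
theorem H2heartP_abelian [IsTriangulated C] :
    ∃ a : Abelian H, @Abelian.toPreadditive H _ a = (inferInstance : Preadditive H) := by
  haveI := H2heartP_hasBinaryProducts t (H := H)
  haveI := H2heartP_hasTerminal t (H := H)
  haveI : HasFiniteProducts H := hasFiniteProducts_of_has_binary_and_terminal
  have hA : AbelianSubcategory.admissibleMorphism (t.ιHeart (H := H)) = ⊤ := by
    rw [eq_top_iff]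
    intro X Y f _
    intro X₃ f₂ f₃ hT
    exact H2heartP_admissible t f f₂ f₃ hT
  exact ⟨AbelianSubcategory.abelian t.ιHeart (H2heartP_hι t) hA, rfl⟩

end Groth.Agent.H2
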