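import Mathlib

set_option autoImplicit false

namespace Groth.Agent.H2

open CategoryTheory CategoryTheory.Limits Category Pretriangulated Triangulated

universe v u v' u'

variable {C : Type u} [Category.{v} C] [Preadditive C] [HasZeroObject C] [HasShift C ℤ]
  [∀ n : ℤ, (shiftFunctor C n).Additive] [Pretriangulated C] (t : TStructure C)
  {H : Type u'} [Category.{v'} H] [Abelian H] [t.Heart H]

lemma H2heart_hι ⦃X Y : H⦄ ⦃n : ℤ⦄ (f : t.ιHeart.obj X ⟶ (t.ιHeart.obj Y)⟦n⟧) (hn : n < 0) :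
    f = 0 :=
  t.zero_of_isLE_of_isGE f 0 (-n) (by omega) inferInstance
    (t.isGE_shift (t.ιHeart.obj Y) 0 n (-n) (by omega))

theorem H2heart_ses_of_dist {X Y Z : H} (u : X ⟶ Y) (v : Y ⟶ Z)
    (w : t.ιHeart.obj Z ⟶ (t.ιHeart.obj X)⟦(1 : ℤ)⟧)
    (hT : Triangle.mk (t.ιHeart.map u) (t.ιHeart.map v) w ∈ distTriang C) :
    ∃ huv : u ≫ v = 0, (ShortComplex.mk u v huv).ShortExact := by
  have hk := AbelianSubcategory.isLimitKernelForkOfDistTriang (H2heart_hι t) u v w hT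
  have hc := AbelianSubcategory.isColimitCokernelCoforkOfDistTriang (H2heart_hι t) u v w hT
  have huv : u ≫ v = 0 := t.ιHeart.map_injective (by
    rw [Functor.map_comp, Functor.map_zero]
    exact comp_distTriang_mor_zero₁₂ _ hT)
  refine ⟨huv, ?_⟩
  haveI : Mono u := mono_of_isLimit_fork hk
  haveI : Epi v := epi_of_isColimit_cofork hc
  exact ShortComplex.ShortExact.mk' (ShortComplex.exact_of_f_is_kernel _ hk) ‹_› ‹_›

/-- admissibility data for a morphism in the heart -/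
lemma H2heart_admissible [IsTriangulated C] {X Y : H} (u : X ⟶ Y) {X₃ : C}
    (f₂ : t.ιHeart.obj Y ⟶ X₃) (f₃ : X₃ ⟶ (t.ιHeart.obj X)⟦(1 : ℤ)⟧)
    (hT : Triangle.mk (t.ιHeart.map u) f₂ f₃ ∈ distTriang C) :
    ∃ (K Q : H) (α : (t.ιHeart.obj K)⟦(1 : ℤ)⟧ ⟶ X₃) (β : X₃ ⟶ t.ιHeart.obj Q)
      (γ : t.ιHeart.obj Q ⟶ (t.ιHeart.obj K)⟦(1 : ℤ)⟧⟦(1 : ℤ)⟧),
      Triangle.mk α β γ ∈ distTriang C := by
  have hrot := rot_of_distTriang _ hT
  haveI hX1 : t.IsLE ((t.ιHeart.obj X)⟦(1 : ℤ)⟧) (-1) :=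
    t.isLE_shift (t.ιHeart.obj X) 0 1 (-1) (by omega)
  haveI hX1' : t.IsLE ((t.ιHeart.obj X)⟦(1 : ℤ)⟧) 0 :=
    t.isLE_of_le _ (-1) 0 (by omega)
  haveI hX1g : t.IsGE ((t.ιHeart.obj X)⟦(1 : ℤ)⟧) (-1) :=
    t.isGE_shift (t.ιHeart.obj X) 0 1 (-1) (by omega)
  haveI hYg : t.IsGE (t.ιHeart.obj Y) (-1) := t.isGE_of_ge _ (-1) 0 (by omega)
  haveI hLE : t.IsLE X₃ 0 := t.isLE₂ _ hrot 0 (inferInstance : t.IsLE (t.ιHeart.obj Y) 0) hX1'
  haveI hGE : t.IsGE X₃ (-1) := t.isGE₂ _ hrot (-1) hYg hX1g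
  have hT' := t.triangleLEGE_distinguished (-1) 0 (by omega) X₃
  -- the heart objects
  have hB : t.heart ((t.truncGE 0).obj X₃) :=
    (t.mem_heart_iff _).2 ⟨inferInstance, inferInstance⟩
  rw [← t.essImage_ιHeart H] at hB
  obtain ⟨Q, ⟨eQ⟩⟩ := hB
  haveI hA1 : t.IsLE ((t.truncLE (-1)).obj X₃) (-1) := inferInstance
  haveI hA2 : t.IsGE ((t.truncLE (-1)).obj X₃) (-1) := inferInstance
  have hA : t.heart (((t.truncLE (-1)).obj X₃)⟦(-1 : ℤ)⟧) :=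
    (t.mem_heart_iff _).2 ⟨t.isLE_shift _ (-1) (-1) 0 (by omega),
      t.isGE_shift _ (-1) (-1) 0 (by omega)⟩
  rw [← t.essImage_ιHeart H] at hA
  obtain ⟨K, ⟨eK⟩⟩ := hA
  let eK' : (t.ιHeart.obj K)⟦(1 : ℤ)⟧ ≅ (t.truncLE (-1)).obj X₃ :=
    (shiftFunctor C (1 : ℤ)).mapIso eK ≪≫
      (shiftFunctorCompIsoId C (-1 : ℤ) 1 (by omega)).app _
  refine ⟨K, Q, eK'.hom ≫ (t.truncLEι (-1)).app X₃, (t.truncGEπ 0).app X₃ ≫ eQ.inv,
    eQ.hom ≫ (t.truncGEδLE (-1) 0 (by omega)).app X₃ ≫ (shiftFunctor C (1 : ℤ)).map eK'.inv, ?_⟩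
  refine isomorphic_distinguished _ hT' _ ?_
  refine Triangle.isoMk _ _ eK' (Iso.refl _) eQ ?_ ?_ ?_
  · change (eK'.hom ≫ (t.truncLEι (-1)).app X₃) ≫ 𝟙 X₃ = eK'.hom ≫ (t.truncLEι (-1)).app X₃
    exact Category.comp_id _
  · change ((t.truncGEπ 0).app X₃ ≫ eQ.inv) ≫ eQ.hom = 𝟙 X₃ ≫ (t.truncGEπ 0).app X₃
    rw [assoc, Iso.inv_hom_id, Category.comp_id, Category.id_comp]
  · change (eQ.hom ≫ (t.truncGEδLE (-1) 0 (by omega)).app X₃ ≫
        (shiftFunctor C (1 : ℤ)).map eK'.inv) ≫ (shiftFunctor C (1 : ℤ)).map eK'.hom =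
      eQ.hom ≫ (t.truncGEδLE (-1) 0 (by omega)).app X₃
    rw [assoc, assoc, ← Functor.map_comp, Iso.inv_hom_id, CategoryTheory.Functor.map_id]
    exact congrArg (eQ.hom ≫ ·) (Category.comp_id _)

theorem H2heart_dist_of_ses [IsTriangulated C] {X Y Z : H} (u : X ⟶ Y) (v : Y ⟶ Z)
    (huv : u ≫ v = 0) (hS : (ShortComplex.mk u v huv).ShortExact) :
    ∃ w : t.ιHeart.obj Z ⟶ (t.ιHeart.obj X)⟦(1 : ℤ)⟧,
      Triangle.mk (t.ιHeart.map u) (t.ιHeart.map v) w ∈ distTriang C := by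
  obtain ⟨X₃, f₂, f₃, hT⟩ := distinguished_cocone_triangle (t.ιHeart.map u)
  obtain ⟨K, Q, α, β, γ, hT'⟩ := H2heart_admissible t u f₂ f₃ hT
  haveI : Mono u := hS.mono_f
  haveI : Epi v := hS.epi_g
  have hk := AbelianSubcategory.isLimitKernelFork (H2heart_hι t) hT hT'
  have hK0 : AbelianSubcategory.ιK f₃ α = 0 := by
    rw [← cancel_mono u, zero_comp]
    exact AbelianSubcategory.ιK_mor₁ hT α
  have hK : 𝟙 K = 0 := Fork.IsLimit.hom_ext hk (by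
    change 𝟙 K ≫ AbelianSubcategory.ιK f₃ α = 0 ≫ AbelianSubcategory.ιK f₃ α
    rw [hK0, comp_zero, comp_zero])
  haveI : IsIso β := (Triangle.isZero₁_iff_isIso₂ _ hT').1 (by
    change IsZero ((shiftFunctor C (1 : ℤ)).obj (t.ιHeart.obj K))
    rw [IsZero.iff_id_eq_zero, ← CategoryTheory.Functor.map_id, ← CategoryTheory.Functor.map_id,
      hK, Functor.map_zero, Functor.map_zero])
  have hc := AbelianSubcategory.isColimitCokernelCofork (H2heart_hι t) hT hT'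
  have hv : IsColimit (CokernelCofork.ofπ v huv) := hS.gIsCokernel
  let e : Q ≅ Z := IsColimit.coconePointUniqueUpToIso hc hv
  have he : AbelianSubcategory.πQ f₂ β ≫ e.hom = v :=
    IsColimit.comp_coconePointUniqueUpToIso_hom hc hv WalkingParallelPair.one
  let φ : X₃ ⟶ t.ιHeart.obj Z := β ≫ t.ιHeart.map e.hom
  haveI : IsIso φ := by dsimp [φ]; infer_instance
  have hφ : f₂ ≫ φ = t.ιHeart.map v := by
    rw [← he, Functor.map_comp, AbelianSubcategory.ι_map_πQ, assoc]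
  refine ⟨inv φ ≫ f₃, isomorphic_distinguished _ hT _ ?_⟩
  refine Triangle.isoMk _ _ (Iso.refl _) (Iso.refl _) (asIso φ).symm ?_ ?_ ?_
  · change t.ιHeart.map u ≫ 𝟙 _ = 𝟙 _ ≫ t.ιHeart.map u
    rw [Category.comp_id, Category.id_comp]
  · change t.ιHeart.map v ≫ inv φ = 𝟙 _ ≫ f₂
    rw [Category.id_comp, ← hφ, assoc, IsIso.hom_inv_id, Category.comp_id]
  · change (inv φ ≫ f₃) ≫ (shiftFunctor C (1 : ℤ)).map (𝟙 _) = inv φ ≫ f₃
    rw [CategoryTheory.Functor.map_id, Category.comp_id]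

end Groth.Agent.H2
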