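import Mathlib

set_option autoImplicit false

namespace Groth.Agent.H2

open IsLocalRing Polynomial

section

variable {R : Type*} [CommRing R] [HenselianLocalRing R]

lemma H2_isUnit_of_residue_one (x : R) (hx : residue R x = 1) : IsUnit x := by
  have : IsUnit (residue R x) := by
    rw [hx]
    exact isUnit_one
  exact (isUnit_map_iff (residue R) x).1 this

lemma H2_eq_one_of_pow_eq_one (N : ℕ) (hN : (N : ResidueField R) ≠ 0) (u : R)
    (hu : residue R u = 1) (huN : u ^ N = 1) : u = 1 := by
  have h1 : (∑ i ∈ Finset.range N, u ^ i) * (u - 1) = 0 := by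
    rw [geom_sum_mul, huN, sub_self]
  have h2 : IsUnit (∑ i ∈ Finset.range N, u ^ i) := by
    apply (isUnit_map_iff (residue R) _).1
    rw [map_sum]
    simp only [map_pow, hu, one_pow, Finset.sum_const, Finset.card_range, nsmul_eq_mul, mul_one]
    exact isUnit_iff_ne_zero.2 hN
  exact sub_eq_zero.1 (h2.mul_right_eq_zero.1 h1)

lemma H2_exists_root_residue_one (N : ℕ) (hN0 : 0 < N) (hN : (N : ResidueField R) ≠ 0) (a : R)
    (ha : residue R a = 1) : ∃ b : R, residue R b = 1 ∧ b ^ N = a := by
  have h1 : (X ^ N - C a : R[X]).eval 1 ∈ maximalIdeal R := by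
    simp only [eval_sub, eval_pow, eval_X, one_pow, eval_C]
    rw [← residue_eq_zero_iff, map_sub, map_one, ha, sub_self]
  have h2 : IsUnit ((derivative (X ^ N - C a : R[X])).eval 1) := by
    simp only [derivative_sub, derivative_X_pow, derivative_C, sub_zero, eval_mul, eval_C,
      eval_pow, eval_X, one_pow, mul_one]
    apply (isUnit_map_iff (residue R) _).1
    rw [map_natCast]
    exact isUnit_iff_ne_zero.2 hN
  obtain ⟨b, hb, hb1⟩ := HenselianLocalRing.is_henselian (X ^ N - C a)
    (monic_X_pow_sub_C a hN0.ne') 1 h1 h2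
  refine ⟨b, ?_, ?_⟩
  · have := (residue_eq_zero_iff _).2 hb1
    rw [map_sub, map_one, sub_eq_zero] at this
    exact this
  · have h3 : (X ^ N - C a : R[X]).eval b = 0 := hb
    simp only [eval_sub, eval_pow, eval_X, eval_C] at h3
    exact sub_eq_zero.1 h3

end

end Groth.Agent.H2
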