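import Mathlib
import Groth.Prelude.Def_CohDer
import Groth.Prelude.Def_DerLim
import Groth.Agent.Lib.helper2.HocolimCompact

set_option autoImplicit false
universe v u
open CategoryTheory CategoryTheory.Limits CohDer DerLim

namespace Groth.Agent.H2

open Pretriangulated

section
variable {D : Type u} [Category.{v} D] [Preadditive D] [HasZeroObject D] [HasShift D ℤ]
  [∀ n : ℤ, (shiftFunctor D n).Additive] [Pretriangulated D] [HasCoproducts.{v} D]
  {ι : Type v} (E : ι → D)

/-- A stage of the construction: an object over `X`. -/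
structure H2_Stage (X : D) where
  K : D
  i : K ⟶ X

/-- The data attached to one step of the construction. -/
structure H2_StepData {X : D} (s : H2_Stage X) where
  next : H2_Stage X
  f : s.K ⟶ next.K
  fac : f ≫ next.i = s.i
  κ : Type v
  a : κ → ι
  m : κ → ℤ
  y : (∐ fun k => (shiftFunctor D (m k)).obj (E (a k))) ⟶ s.K
  z : next.K ⟶ (shiftFunctor D (1 : ℤ)).obj (∐ fun k => (shiftFunctor D (m k)).obj (E (a k)))
  dist : Triangle.mk y f z ∈ distTriang D
  kill : ∀ (j : ι) (n : ℤ) (α : (shiftFunctor D n).obj (E j) ⟶ s.K), α ≫ s.i = 0 → α ≫ f = 0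

lemma H2_exists_stepData {X : D} (s : H2_Stage X) : Nonempty (H2_StepData E s) := by
  let κ : Type v := Σ (j : ι) (n : ℤ), {α : (shiftFunctor D n).obj (E j) ⟶ s.K // α ≫ s.i = 0}
  let a : κ → ι := fun k => k.1
  let m : κ → ℤ := fun k => k.2.1
  let y : (∐ fun k => (shiftFunctor D (m k)).obj (E (a k))) ⟶ s.K :=
    Sigma.desc (fun k => k.2.2.1)
  have hy : y ≫ s.i = 0 := by
    apply Sigma.hom_ext
    intro k
    rw [Sigma.ι_desc_assoc, comp_zero]
    exact k.2.2.2
  obtain ⟨K', f, z, hT⟩ := distinguished_cocone_triangle y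
  obtain ⟨i', hi'⟩ : ∃ i' : K' ⟶ X, s.i = f ≫ i' := Triangle.yoneda_exact₂ _ hT s.i hy
  refine ⟨⟨⟨K', i'⟩, f, hi'.symm, κ, a, m, y, z, hT, ?_⟩⟩
  intro j n α hα
  have h1 : α = Sigma.ι (fun k : κ => (shiftFunctor D (m k)).obj (E (a k))) ⟨j, n, α, hα⟩ ≫ y :=
    (Sigma.ι_desc (f := fun k : κ => (shiftFunctor D (m k)).obj (E (a k)))
      (fun k : κ => k.2.2.1) ⟨j, n, α, hα⟩).symm
  have h2 : y ≫ f = 0 := comp_distTriang_mor_zero₁₂ _ hT
  rw [h1, Category.assoc, h2, comp_zero]

/-- The chosen step. -/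
noncomputable def H2_step {X : D} (s : H2_Stage X) : H2_StepData E s :=
  Classical.choice (H2_exists_stepData E s)

/-- The initial stage. -/
noncomputable def H2_stage0 (X : D) : H2_Stage X where
  K := ∐ fun k : (Σ (j : ι) (n : ℤ), ((shiftFunctor D n).obj (E j) ⟶ X)) =>
    (shiftFunctor D k.2.1).obj (E k.1)
  i := Sigma.desc (fun k => k.2.2)

/-- The sequence of stages. -/
noncomputable def H2_stages (X : D) : ℕ → H2_Stage X :=
  fun n => Nat.rec (H2_stage0 E X) (fun _ s => (H2_step E s).next) n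

lemma H2_stages_succ (X : D) (n : ℕ) :
    H2_stages E X (n + 1) = (H2_step E (H2_stages E X n)).next := rfl

set_option backward.isDefEq.respectTransparency false in
theorem H2_hocolim_presentation [HasColimitsOfShape (Discrete ℕ) D]
    (hc : ∀ i, IsCompactObject (E i)) (hg : Generates E) (X : D) :
    ∃ (K : ℕ → D) (f : ∀ n, K n ⟶ K (n + 1)) (i : ∀ n, K n ⟶ X),
      DerLim.IsHocolim K f X i ∧
      (∃ (κ : Type v) (a : κ → ι) (m : κ → ℤ),
        Nonempty (K 0 ≅ ∐ (fun k => (shiftFunctor D (m k)).obj (E (a k))))) ∧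
      ∀ n, ∃ (κ : Type v) (a : κ → ι) (m : κ → ℤ)
        (y : (∐ fun k => (shiftFunctor D (m k)).obj (E (a k))) ⟶ K n)
        (z : K (n + 1) ⟶ (shiftFunctor D (1 : ℤ)).obj
          (∐ fun k => (shiftFunctor D (m k)).obj (E (a k)))),
        Triangle.mk y (f n) z ∈ distinguishedTriangles := by
  let K : ℕ → D := fun n => (H2_stages E X n).K
  let i : ∀ n, K n ⟶ X := fun n => (H2_stages E X n).i
  let f : ∀ n, K n ⟶ K (n + 1) := fun n => (H2_step E (H2_stages E X n)).f
  have hfac : ∀ n, f n ≫ i (n + 1) = i n := fun n => (H2_step E (H2_stages E X n)).fac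
  have hkill : ∀ (N : ℕ) (j : ι) (n : ℤ) (α : (shiftFunctor D n).obj (E j) ⟶ K N),
      α ≫ i N = 0 → α ≫ f N = 0 := fun N => (H2_step E (H2_stages E X N)).kill
  refine ⟨K, f, i, ?_, ?_, ?_⟩
  · obtain ⟨L, p, c, hT⟩ := distinguished_cocone_triangle (𝟙 (∐ K) - shiftMap K f)
    have hp : (𝟙 (∐ K) - shiftMap K f) ≫ p = 0 := comp_distTriang_mor_zero₁₂ _ hT
    have hdesc : (𝟙 (∐ K) - shiftMap K f) ≫ Sigma.desc i = 0 := by
      apply Sigma.hom_ext
      intro n
      rw [comp_zero, Preadditive.sub_comp, Preadditive.comp_sub, Category.id_comp, Sigma.ι_desc,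
        H2_ι_shiftMap_assoc, Sigma.ι_desc, hfac, sub_self]
    obtain ⟨lam, hlam⟩ : ∃ lam : L ⟶ X, Sigma.desc i = p ≫ lam :=
      Triangle.yoneda_exact₂ _ hT _ hdesc
    have hiso : IsIso lam := by
      apply H2_isIso_of_generates' E hg
      intro j n
      constructor
      · intro g g' hgg
        dsimp only at hgg
        rw [← sub_eq_zero]
        have hd : (g - g') ≫ lam = 0 := by rw [Preadditive.sub_comp, hgg, sub_self]
        obtain ⟨N, a, ha⟩ := H2_hocolim_factor K f p c hT (H2_compact_shift (hc j) n) (g - g')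
        have h1 : a ≫ i N = 0 := by
          have : a ≫ i N = a ≫ Sigma.ι K N ≫ Sigma.desc i := by rw [Sigma.ι_desc]
          rw [this, hlam, ← Category.assoc, ← Category.assoc, Category.assoc a, ← ha, hd]
        have h2 := hkill N j n a h1
        rw [ha, H2_ι_comp_of_one_sub_shift K f p hp N, reassoc_of% h2, zero_comp]
      · intro β
        refine ⟨Sigma.ι (fun k : (Σ (j : ι) (n : ℤ), ((shiftFunctor D n).obj (E j) ⟶ X)) =>
          (shiftFunctor D k.2.1).obj (E k.1)) ⟨j, n, β⟩ ≫ Sigma.ι K 0 ≫ p, ?_⟩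
        dsimp only
        rw [Category.assoc, Category.assoc, ← hlam, Sigma.ι_desc]
        exact Sigma.ι_desc (f := fun k : (Σ (j : ι) (n : ℤ), ((shiftFunctor D n).obj (E j) ⟶ X)) =>
          (shiftFunctor D k.2.1).obj (E k.1)) (fun k => k.2.2) ⟨j, n, β⟩
    refine ⟨inv lam ≫ c, ?_⟩
    refine isomorphic_distinguished _ hT _ ?_
    refine Triangle.isoMk _ _ (Iso.refl _) (Iso.refl _) (asIso lam).symm ?_ ?_ ?_
    · simp
    · show Sigma.desc i ≫ inv lam = 𝟙 _ ≫ p
      rw [hlam, Category.assoc, IsIso.hom_inv_id, Category.comp_id, Category.id_comp]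
    · show (inv lam ≫ c) ≫ (shiftFunctor D (1 : ℤ)).map (𝟙 _) = inv lam ≫ c
      rw [CategoryTheory.Functor.map_id, Category.comp_id]
  · exact ⟨_, _, _, ⟨Iso.refl _⟩⟩
  · intro n
    exact ⟨_, _, _, _, _, (H2_step E (H2_stages E X n)).dist⟩

end

end Groth.Agent.H2
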