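import Mathlib

set_option autoImplicit false
universe v u v' u'
open CategoryTheory CategoryTheory.Limits CategoryTheory.Pretriangulated

namespace Groth.Agent.H2

/-- The subcategory of objects `X` with `H(X⟦n⟧) = 0` for all `n` in a range `R N` (for some `N`),
where the family of ranges is stable under translation and finite intersections. -/
theorem H2_homolSub {D : Type u} [Category.{v} D] [Preadditive D] [HasZeroObject D] [HasShift D ℤ]
    [∀ n : ℤ, (shiftFunctor D n).Additive] [Pretriangulated D]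
    {A : Type u'} [Category.{v'} A] [Abelian A] (H : D ⥤ A) [H.IsHomological]
    (R : ℤ → ℤ → Prop)
    (hshift : ∀ N a : ℤ, ∃ N' : ℤ, ∀ n, R N' n → R N (a + n))
    (hinter : ∀ N₁ N₃ : ℤ, ∃ N : ℤ, ∀ n, R N n → R N₁ n ∧ R N₃ n) :
    (ObjectProperty.IsTriangulated (fun X : D => ∃ N : ℤ, ∀ n : ℤ, R N n → IsZero (H.obj ((shiftFunctor D n).obj X)))) ∧
    (ObjectProperty.IsClosedUnderIsomorphisms (fun X : D => ∃ N : ℤ, ∀ n : ℤ, R N n → IsZero (H.obj ((shiftFunctor D n).obj X)))) ∧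
    (∀ X Y : D, (∃ N : ℤ, ∀ n : ℤ, R N n → IsZero (H.obj ((shiftFunctor D n).obj (X ⊞ Y)))) →
      (∃ N : ℤ, ∀ n : ℤ, R N n → IsZero (H.obj ((shiftFunctor D n).obj X))) ∧
      (∃ N : ℤ, ∀ n : ℤ, R N n → IsZero (H.obj ((shiftFunctor D n).obj Y)))) := by
  have hiso : ObjectProperty.IsClosedUnderIsomorphisms
      (fun X : D => ∃ N : ℤ, ∀ n : ℤ, R N n → IsZero (H.obj ((shiftFunctor D n).obj X))) :=
    ⟨fun e ⟨N, hN⟩ => ⟨N, fun n hn => (hN n hn).of_iso ((shiftFunctor D n ⋙ H).mapIso e.symm)⟩⟩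
  refine ⟨?_, hiso, ?_⟩
  · haveI := hiso
    haveI h1 : ObjectProperty.ContainsZero
        (fun X : D => ∃ N : ℤ, ∀ n : ℤ, R N n → IsZero (H.obj ((shiftFunctor D n).obj X))) :=
      ⟨⟨_, isZero_zero D, 0, fun n _ => (shiftFunctor D n ⋙ H).map_isZero (isZero_zero D)⟩⟩
    haveI h2 : ObjectProperty.IsStableUnderShift
        (fun X : D => ∃ N : ℤ, ∀ n : ℤ, R N n → IsZero (H.obj ((shiftFunctor D n).obj X))) ℤ :=
      { isStableUnderShiftBy := fun a => ⟨fun X ⟨N, hN⟩ => by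
          obtain ⟨N', hN'⟩ := hshift N a
          exact ⟨N', fun n hn => (hN (a + n) (hN' n hn)).of_iso
            (H.mapIso ((shiftFunctorAdd D a n).app X).symm)⟩⟩ }
    haveI h3 : ObjectProperty.IsTriangulatedClosed₂
        (fun X : D => ∃ N : ℤ, ∀ n : ℤ, R N n → IsZero (H.obj ((shiftFunctor D n).obj X))) :=
      ObjectProperty.IsTriangulatedClosed₂.mk' (fun T hT ⟨N₁, h₁⟩ ⟨N₃, h₃⟩ => by
        obtain ⟨N, hN⟩ := hinter N₁ N₃
        exact ⟨N, fun n hn => (H.map_distinguished_exact _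
          (Triangle.shift_distinguished T hT n)).isZero_of_both_zeros
            ((h₁ n (hN n hn).1).eq_of_src _ _) ((h₃ n (hN n hn).2).eq_of_tgt _ _)⟩)
    exact { }
  · rintro X Y ⟨N, hN⟩
    constructor
    · refine ⟨N, fun n hn => ?_⟩
      rw [IsZero.iff_id_eq_zero]
      have h2 : 𝟙 (H.obj ((shiftFunctor D n).obj X)) =
          H.map ((shiftFunctor D n).map biprod.inl) ≫
            H.map ((shiftFunctor D n).map (biprod.fst : X ⊞ Y ⟶ X)) := by
        rw [← H.map_comp, ← Functor.map_comp, biprod.inl_fst, (shiftFunctor D n).map_id, H.map_id]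
      rw [h2, (hN n hn).eq_of_tgt (H.map ((shiftFunctor D n).map biprod.inl)) 0, zero_comp]
    · refine ⟨N, fun n hn => ?_⟩
      rw [IsZero.iff_id_eq_zero]
      have h2 : 𝟙 (H.obj ((shiftFunctor D n).obj Y)) =
          H.map ((shiftFunctor D n).map biprod.inr) ≫
            H.map ((shiftFunctor D n).map (biprod.snd : X ⊞ Y ⟶ Y)) := by
        rw [← H.map_comp, ← Functor.map_comp, biprod.inr_snd, (shiftFunctor D n).map_id, H.map_id]
      rw [h2, (hN n hn).eq_of_tgt (H.map ((shiftFunctor D n).map biprod.inr)) 0, zero_comp]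

end Groth.Agent.H2
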