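import Mathlib
import Groth.Agent.Lib.helper2.ImageFlat
import Groth.Agent.Lib.helper2.FlatKer

set_option autoImplicit false
universe u
open AlgebraicGeometry CategoryTheory CategoryTheory.Limits

namespace Groth.Agent.H2

theorem H2_exists_idealSheaf_descent {S S' : Scheme.{u}} (g : S' ⟶ S) [Flat g] [Surjective g]
    [QuasiCompact g] (J' : S'.IdealSheafData)
    (h : J'.comap (pullback.fst g g) = J'.comap (pullback.snd g g)) :
    ∃ J : S.IdealSheafData, J.comap g = J' := by
  refine ⟨J'.map g, ?_⟩
  let ι := J'.subschemeι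
  let a := ι ≫ g
  have h1 : (J'.map g).comap g = (pullback.snd a g).ker :=
    (H2_ker_pullback_snd_of_flat a g).symm
  let θ : (J'.comap (pullback.fst g g)).subscheme ≅ pullback a g :=
    (J'.comapIso (pullback.fst g g)) ≪≫ pullbackSymmetry _ _ ≪≫
      pullbackRightPullbackFstIso g g ι
  have hθ : θ.hom ≫ pullback.snd a g =
      (J'.comap (pullback.fst g g)).subschemeι ≫ pullback.snd g g := by
    simp [θ, a, ι]
  rw [h1, ← Scheme.Hom.ker_comp_of_isIso θ.hom, hθ]
  change (J'.comap (pullback.fst g g)).map (pullback.snd g g) = J'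
  rw [h, H2_map_comap_of_flat_surjective]

end Groth.Agent.H2
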