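import Mathlib
import Groth.Prelude.Def_DerLim
import Groth.Agent.Lib.helper2.SeqColim

set_option autoImplicit false
universe v u
open CategoryTheory CategoryTheory.Limits DerLim

namespace Groth.Agent.H2

open Pretriangulated

section
variable {D : Type u} [Category.{v} D] [Preadditive D] [HasZeroObject D] [HasShift D ℤ]
  [∀ n : ℤ, (shiftFunctor D n).Additive] [Pretriangulated D]

/-- A retraction of `1 - shift_e` on the constant sequence with idempotent transition `e`. -/
lemma H2_idem_split_mono [HasColimitsOfShape (Discrete ℕ) D] {X : D} (e : X ⟶ X)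
    (he : e ≫ e = e) :
    (𝟙 (∐ fun _ : ℕ => X) - shiftMap (fun _ : ℕ => X) (fun _ => e)) ≫
      Sigma.desc (fun m : ℕ => (𝟙 X - e) ≫ Sigma.ι (fun _ : ℕ => X) m -
        ∑ n ∈ Finset.range m, e ≫ Sigma.ι (fun _ : ℕ => X) n) = 𝟙 _ := by
  apply Sigma.hom_ext
  intro m
  rw [Preadditive.sub_comp, Preadditive.comp_sub, Category.id_comp, Sigma.ι_desc,
    H2_ι_shiftMap_assoc, Sigma.ι_desc, Category.comp_id, Finset.sum_range_succ]
  simp only [Preadditive.comp_sub, Preadditive.sub_comp, Preadditive.comp_add,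
    Preadditive.comp_sum, Category.id_comp, reassoc_of% he]
  abel

theorem H2_idempotents_split_of_coproducts [HasColimitsOfShape (Discrete ℕ) D] {X : D}
    (e : X ⟶ X) (he : e ≫ e = e) :
    ∃ (Y : D) (i : Y ⟶ X) (r : X ⟶ Y), i ≫ r = 𝟙 Y ∧ r ≫ i = e := by
  let K : ℕ → D := fun _ => X
  let d : (∐ K) ⟶ ∐ K := 𝟙 (∐ K) - shiftMap K (fun _ => e)
  obtain ⟨Y, p, c, hT⟩ := distinguished_cocone_triangle d
  have hsplit := H2_idem_split_mono e he
  haveI : Mono d := (SplitMono.mk _ hsplit).mono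
  have hc : c = 0 := Triangle.mor₃_eq_zero_of_mono₁ _ hT ‹Mono d›
  haveI : Epi p := Triangle.epi₂ _ hT hc
  have hdp : d ≫ p = 0 := comp_distTriang_mor_zero₁₂ _ hT
  have hdesc : d ≫ Sigma.desc (fun _ : ℕ => e) = 0 := by
    apply Sigma.hom_ext
    intro n
    rw [comp_zero, Preadditive.sub_comp, Preadditive.comp_sub, Category.id_comp, Sigma.ι_desc,
      H2_ι_shiftMap_assoc, Sigma.ι_desc, he, sub_self]
  obtain ⟨i, hi⟩ : ∃ i : Y ⟶ X, Sigma.desc (fun _ : ℕ => e) = p ≫ i :=
    Triangle.yoneda_exact₂ _ hT _ hdesc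
  have hstep : ∀ n : ℕ, Sigma.ι K n ≫ p = e ≫ Sigma.ι K (n + 1) ≫ p := by
    intro n
    have := congrArg (fun t => Sigma.ι K n ≫ t) hdp
    simp only [d, Preadditive.sub_comp, Preadditive.comp_sub, Category.id_comp, comp_zero,
      H2_ι_shiftMap_assoc] at this
    rwa [sub_eq_zero] at this
  have hfix : ∀ n : ℕ, e ≫ Sigma.ι K n ≫ p = Sigma.ι K n ≫ p := by
    intro n
    rw [hstep n, reassoc_of% he]
  have hconst : ∀ n : ℕ, Sigma.ι K n ≫ p = Sigma.ι K 0 ≫ p := by
    intro n
    induction n with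
    | zero => rfl
    | succ n ih => rw [← ih, hstep n, hfix]
  refine ⟨Y, i, Sigma.ι K 0 ≫ p, ?_, ?_⟩
  · rw [← cancel_epi p, ← Category.assoc, ← hi, Category.comp_id]
    apply Sigma.hom_ext
    intro n
    rw [Sigma.ι_desc_assoc, hfix, hconst]
    exact (hconst n).symm
  · rw [Category.assoc, ← hi, Sigma.ι_desc]

theorem H2_idempotentComplete_of_coproducts [HasColimitsOfShape (Discrete ℕ) D] :
    IsIdempotentComplete D :=
  ⟨fun _ e he => H2_idempotents_split_of_coproducts e he⟩

end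

section
variable {D : Type u} [Category.{v} D] [Preadditive D] [HasZeroObject D] [HasShift D ℤ]
  [∀ n : ℤ, (shiftFunctor D n).Additive] [Pretriangulated D]

open CategoryTheory.Pretriangulated.Opposite in
theorem H2_idempotentComplete_of_products [HasLimitsOfShape (Discrete ℕ) D] :
    IsIdempotentComplete D := by
  rw [← Idempotents.isIdempotentComplete_iff_opposite]
  haveI : HasColimitsOfShape (Discrete ℕ) Dᵒᵖ := inferInstance
  exact H2_idempotentComplete_of_coproducts

end

end Groth.Agent.H2
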