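import Mathlib
import Groth.Prelude.Def_W4c5stacksedinertiaGpd

/-! Inertia operators on the vector space of finite groups: helper lemmas (helper2). -/

set_option autoImplicit false
universe u v
open W4c5stacksedinertia

namespace Groth.Agent.H2

/-- The presentation of `G` on `Fin (Nat.card G)` is isomorphic to `G`. -/
noncomputable def H2_ofEquiv (G : Type u) [Group G] [Finite G] : (FinGrp.of G).carrier ≃* G :=
  letI : Mul (Fin (Nat.card G)) :=
    ((Nat.equivFinOfCardPos (α := G) Nat.card_pos.ne').symm).mul
  ((Nat.equivFinOfCardPos (α := G) Nat.card_pos.ne').symm).mulEquiv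

lemma H2_idxOf_eq_of_mulEquiv {G : Type u} [Group G] [Finite G] {H : Type v} [Group H] [Finite H]
    (e : G ≃* H) : Idx.of G = Idx.of H :=
  Quotient.sound ⟨(H2_ofEquiv G).trans (e.trans (H2_ofEquiv H).symm)⟩

/-- The chosen representative of the class of `G` is isomorphic to `G`. -/
noncomputable def H2_repEquiv (G : Type u) [Group G] [Finite G] : (Idx.of G).rep ≃* G :=
  (Classical.choice (Quotient.mk_out (s := FinGrp.setoid) (FinGrp.of G))).trans (H2_ofEquiv G)

lemma H2_idxOf_rep (i : Idx) : Idx.of i.rep = i := by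
  have h : Quotient.mk FinGrp.setoid (Quotient.out (s := FinGrp.setoid) i) = i := Quotient.out_eq i
  conv_rhs => rw [← h]
  exact Quotient.sound ⟨H2_ofEquiv _⟩

lemma H2_cl_eq_of_mulEquiv {G : Type u} [Group G] [Finite G] {H : Type v} [Group H] [Finite H]
    (e : G ≃* H) : cl G = cl H := by
  unfold cl
  rw [H2_idxOf_eq_of_mulEquiv e]

lemma H2_single_eq_cl (i : Idx) : (Finsupp.single i 1 : K) = cl i.rep := by
  unfold cl
  rw [H2_idxOf_rep]

section centralizer

variable {G : Type u} [Group G] {G' : Type v} [Group G']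

/-- Transport of centralizers along a group isomorphism. -/
noncomputable def H2_centralizerEquiv (e : G ≃* G') (S : Set G) (T : Set G') (h : T = e '' S) :
    Subgroup.centralizer S ≃* Subgroup.centralizer T where
  toFun x := ⟨e x.1, by
    subst h
    rw [Subgroup.mem_centralizer_iff]
    rintro _ ⟨y, hy, rfl⟩
    have := (Subgroup.mem_centralizer_iff.1 x.2) y hy
    rw [← map_mul, ← map_mul, this]⟩
  invFun y := ⟨e.symm y.1, by
    subst h
    rw [Subgroup.mem_centralizer_iff]
    intro z hz
    have := (Subgroup.mem_centralizer_iff.1 y.2) (e z) ⟨z, hz, rfl⟩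
    apply e.injective
    rw [map_mul, map_mul, e.apply_symm_apply]
    exact this⟩
  left_inv x := by ext; simp
  right_inv y := by ext; simp
  map_mul' x y := by ext; simp

lemma H2_cl_centralizer_congr [Finite G] [Finite G'] (e : G ≃* G') (S : Set G) (T : Set G')
    (h : T = e '' S) : cl (Subgroup.centralizer S) = cl (Subgroup.centralizer T) :=
  H2_cl_eq_of_mulEquiv (H2_centralizerEquiv e S T h)

lemma H2_card_centralizer_congr (e : G ≃* G') (S : Set G) (T : Set G')
    (h : T = e '' S) : Nat.card (Subgroup.centralizer S) = Nat.card (Subgroup.centralizer T) :=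
  Nat.card_congr (H2_centralizerEquiv e S T h).toEquiv

end centralizer

section action

variable (G : Type u) [Group G] (r : ℕ)

/-- Conjugation of a commuting tuple. -/
def H2_conjTuple (g : G) (s : CommTuple G r) : CommTuple G r :=
  ⟨fun i => g * s.1 i * g⁻¹, by
    constructor
    · intro i j h
      apply s.2.1
      simpa using h
    · intro i j
      have h := (s.2.2 i j).eq
      show (g * s.1 i * g⁻¹) * (g * s.1 j * g⁻¹) = (g * s.1 j * g⁻¹) * (g * s.1 i * g⁻¹)
      calc (g * s.1 i * g⁻¹) * (g * s.1 j * g⁻¹) = g * (s.1 i * s.1 j) * g⁻¹ := by group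
        _ = g * (s.1 j * s.1 i) * g⁻¹ := by rw [h]
        _ = (g * s.1 j * g⁻¹) * (g * s.1 i * g⁻¹) := by group⟩

/-- The conjugation action on commuting tuples. -/
def H2_mulActionTuple : MulAction G (CommTuple G r) where
  smul := H2_conjTuple G r
  one_smul s := Subtype.ext (funext fun i => by
    show (1 : G) * s.1 i * (1 : G)⁻¹ = s.1 i
    simp)
  mul_smul g h s := Subtype.ext (funext fun i => by
    show (g * h) * s.1 i * (g * h)⁻¹ = g * (h * s.1 i * h⁻¹) * g⁻¹
    group)

attribute [local instance] H2_mulActionTuple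

lemma H2_smul_tuple_apply (g : G) (s : CommTuple G r) (i : Fin r) :
    (g • s).1 i = g * s.1 i * g⁻¹ := rfl

lemma H2_setoid_iff (s t : CommTuple G r) :
    (CommTuple.setoid G r).r s t ↔ t ∈ MulAction.orbit G s := by
  constructor
  · rintro ⟨g, hg⟩
    exact ⟨g, Subtype.ext (funext fun i => hg i)⟩
  · rintro ⟨g, hg⟩
    refine ⟨g, fun i => ?_⟩
    have := congrArg (fun x : CommTuple G r => x.1 i) hg
    exact this

lemma H2_stabilizer_eq (s : CommTuple G r) :
    MulAction.stabilizer G s = Subgroup.centralizer (Set.range s.1) := by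
  ext g
  rw [MulAction.mem_stabilizer_iff, Subgroup.mem_centralizer_iff]
  constructor
  · rintro h _ ⟨i, rfl⟩
    have := congrArg (fun x : CommTuple G r => x.1 i) h
    have h2 : g * s.1 i * g⁻¹ = s.1 i := this
    calc s.1 i * g = (g * s.1 i * g⁻¹) * g := by rw [h2]
      _ = g * s.1 i := by group
  · intro h
    apply Subtype.ext
    funext i
    show g * s.1 i * g⁻¹ = s.1 i
    rw [← h (s.1 i) ⟨i, rfl⟩]
    group

end action

section formulaT

variable (G : Type u) [Group G] (r : ℕ)

attribute [local instance] H2_mulActionTuple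

instance H2_finite_commTuple [Finite G] : Finite (CommTuple G r) := by
  unfold CommTuple; infer_instance

instance H2_finite_orbit [Finite G] : Finite (CommTuple.Orbit G r) := by
  unfold CommTuple.Orbit; infer_instance

/-- The weighted summand attached to a commuting tuple. -/
noncomputable def H2_term [Finite G] (s : CommTuple G r) : K :=
  ((Nat.card (Subgroup.centralizer (Set.range s.1)) : ℚ) / (Nat.card G : ℚ)) •
    cl (Subgroup.centralizer (Set.range s.1))

lemma H2_range_smul (g : G) (s : CommTuple G r) :
    Set.range (g • s).1 = (MulAut.conj g) '' Set.range s.1 := by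
  ext x
  constructor
  · rintro ⟨i, rfl⟩
    exact ⟨s.1 i, ⟨i, rfl⟩, rfl⟩
  · rintro ⟨_, ⟨i, rfl⟩, rfl⟩
    exact ⟨i, rfl⟩

lemma H2_term_smul [Finite G] (g : G) (s : CommTuple G r) :
    H2_term G r (g • s) = H2_term G r s := by
  unfold H2_term
  rw [← H2_cl_centralizer_congr (MulAut.conj g) (Set.range s.1) _ (H2_range_smul G r g s),
    ← H2_card_centralizer_congr (MulAut.conj g) (Set.range s.1) _ (H2_range_smul G r g s)]

lemma H2_card_class [Finite G] (s₀ : CommTuple G r) :
    Nat.card {a : CommTuple G r // (Quotient.mk (CommTuple.setoid G r) a : CommTuple.Orbit G r) =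
        Quotient.mk (CommTuple.setoid G r) s₀} *
      Nat.card (Subgroup.centralizer (Set.range s₀.1)) = Nat.card G := by
  have e1 : {a : CommTuple G r // (Quotient.mk (CommTuple.setoid G r) a : CommTuple.Orbit G r) =
        Quotient.mk (CommTuple.setoid G r) s₀} ≃ MulAction.orbit G s₀ :=
    Equiv.subtypeEquivRight (fun a => by
      rw [← H2_setoid_iff]
      constructor
      · intro h
        exact Quotient.exact h.symm
      · intro h
        exact (Quotient.sound h).symm)
  rw [Nat.card_congr e1, ← H2_stabilizer_eq, ← Nat.card_prod,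
    Nat.card_congr (MulAction.orbitProdStabilizerEquivGroup G s₀)]

/-- Formula (T): the inertia operator as a weighted sum over all commuting tuples. -/
theorem H2_inertiaROf_eq [Finite G] :
    inertiaROf r G = ∑ᶠ s : CommTuple G r, H2_term G r s := by
  classical
  haveI : Fintype (CommTuple G r) := Fintype.ofFinite _
  letI : Fintype (CommTuple.Orbit G r) := Quotient.fintype (CommTuple.setoid G r)
  have key : ∀ O : CommTuple.Orbit G r,
      cl (Subgroup.centralizer (Set.range (Quotient.out (s := CommTuple.setoid G r) O).1)) =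
      ∑ a ∈ Finset.univ.filter (fun a : CommTuple G r =>
        (Quotient.mk (CommTuple.setoid G r) a : CommTuple.Orbit G r) = O), H2_term G r a := by
    intro O
    have hO : (Quotient.mk (CommTuple.setoid G r) (Quotient.out (s := CommTuple.setoid G r) O) :
        CommTuple.Orbit G r) = O := Quotient.out_eq O
    have h1 : ∀ a ∈ Finset.univ.filter (fun a : CommTuple G r =>
        (Quotient.mk (CommTuple.setoid G r) a : CommTuple.Orbit G r) = O),
        H2_term G r a = H2_term G r (Quotient.out (s := CommTuple.setoid G r) O) := by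
      intro a ha
      rw [Finset.mem_filter] at ha
      have h2 : (CommTuple.setoid G r).r (Quotient.out (s := CommTuple.setoid G r) O) a :=
        Quotient.exact (hO.trans ha.2.symm)
      obtain ⟨g, rfl⟩ := (H2_setoid_iff G r _ a).1 h2
      exact H2_term_smul G r g _
    rw [Finset.sum_congr rfl h1, Finset.sum_const]
    have hc := H2_card_class G r (Quotient.out (s := CommTuple.setoid G r) O)
    rw [hO] at hc
    have hc' : (Finset.univ.filter (fun a : CommTuple G r =>
        (Quotient.mk (CommTuple.setoid G r) a : CommTuple.Orbit G r) = O)).card =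
        Nat.card {a : CommTuple G r //
          (Quotient.mk (CommTuple.setoid G r) a : CommTuple.Orbit G r) = O} := by
      rw [Nat.card_eq_fintype_card, Fintype.card_subtype]
    rw [hc']
    unfold H2_term
    rw [← Nat.cast_smul_eq_nsmul ℚ, smul_smul]
    have hG : (Nat.card G : ℚ) ≠ 0 := by
      exact_mod_cast Nat.card_pos.ne'
    have : ((Nat.card {a : CommTuple G r //
          (Quotient.mk (CommTuple.setoid G r) a : CommTuple.Orbit G r) = O} : ℕ) : ℚ) *
        ((Nat.card (Subgroup.centralizer (Set.range
          (Quotient.out (s := CommTuple.setoid G r) O).1)) : ℚ) / (Nat.card G : ℚ)) = 1 := by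
      rw [← mul_div_assoc, ← Nat.cast_mul, hc, div_self hG]
    rw [this, one_smul]
  unfold inertiaROf
  rw [finsum_eq_sum_of_fintype, finsum_eq_sum_of_fintype]
  calc ∑ O : CommTuple.Orbit G r,
        cl (Subgroup.centralizer (Set.range (Quotient.out (s := CommTuple.setoid G r) O).1))
      = ∑ O : CommTuple.Orbit G r, ∑ a ∈ Finset.univ.filter (fun a : CommTuple G r =>
        (Quotient.mk (CommTuple.setoid G r) a : CommTuple.Orbit G r) = O), H2_term G r a :=
        Finset.sum_congr rfl (fun O _ => key O)
    _ = ∑ a : CommTuple G r, H2_term G r a :=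
        Finset.sum_fiberwise Finset.univ
          (fun s => (Quotient.mk (CommTuple.setoid G r) s : CommTuple.Orbit G r)) (H2_term G r)

end formulaT

section invariance

variable {G : Type u} [Group G] [Finite G] {G' : Type v} [Group G'] [Finite G'] (r : ℕ)

/-- Transport of commuting tuples along a group isomorphism. -/
def H2_tupleEquiv (e : G ≃* G') : CommTuple G r ≃ CommTuple G' r where
  toFun s := ⟨fun i => e (s.1 i), fun i j h => s.2.1 (e.injective h), fun i j => by
    have h := (s.2.2 i j).eq
    show e (s.1 i) * e (s.1 j) = e (s.1 j) * e (s.1 i)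
    rw [← map_mul, ← map_mul, h]⟩
  invFun s := ⟨fun i => e.symm (s.1 i), fun i j h => s.2.1 (e.symm.injective h), fun i j => by
    have h := (s.2.2 i j).eq
    show e.symm (s.1 i) * e.symm (s.1 j) = e.symm (s.1 j) * e.symm (s.1 i)
    rw [← map_mul, ← map_mul, h]⟩
  left_inv s := Subtype.ext (funext fun i => e.symm_apply_apply _)
  right_inv s := Subtype.ext (funext fun i => e.apply_symm_apply _)

lemma H2_term_tupleEquiv (e : G ≃* G') (s : CommTuple G r) :
    H2_term G' r (H2_tupleEquiv r e s) = H2_term G r s := by
  have hr : Set.range (H2_tupleEquiv r e s).1 = e '' Set.range s.1 := by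
    ext x
    constructor
    · rintro ⟨i, rfl⟩
      exact ⟨s.1 i, ⟨i, rfl⟩, rfl⟩
    · rintro ⟨_, ⟨i, rfl⟩, rfl⟩
      exact ⟨i, rfl⟩
  unfold H2_term
  rw [← H2_cl_centralizer_congr e (Set.range s.1) _ hr,
    ← H2_card_centralizer_congr e (Set.range s.1) _ hr, Nat.card_congr e.toEquiv]

/-- The inertia operators only depend on the isomorphism class of the group. -/
theorem H2_inertiaROf_congr (e : G ≃* G') : inertiaROf r G = inertiaROf r G' := by
  rw [H2_inertiaROf_eq, H2_inertiaROf_eq, ← finsum_comp_equiv (H2_tupleEquiv r e)]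
  exact finsum_congr (fun s => (H2_term_tupleEquiv r e s).symm)

theorem H2_inertiaR_cl (G : Type u) [Group G] [Finite G] : inertiaR r (cl G) = inertiaROf r G := by
  unfold inertiaR cl
  rw [Finsupp.linearCombination_single, one_smul]
  exact H2_inertiaROf_congr r (H2_repEquiv G)

end invariance

section phi

variable (G : Type u) [Group G] [Finite G]

/-- The weighted class of the centralizer of a subset. -/
noncomputable def H2_phi (S : Set G) : K :=
  ((Nat.card (Subgroup.centralizer S) : ℚ) / (Nat.card G : ℚ)) • cl (Subgroup.centralizer S)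

lemma H2_term_eq_phi (r : ℕ) (s : CommTuple G r) : H2_term G r s = H2_phi G (Set.range s.1) := rfl

variable {G}

/-- The centralizer of an element inside a centralizer. -/
noncomputable def H2_subCentralizerEquiv (S : Set G) (t : Subgroup.centralizer S) :
    Subgroup.centralizer ({t} : Set (Subgroup.centralizer S)) ≃*
      Subgroup.centralizer (insert (t : G) S) where
  toFun x := ⟨(x.1 : G), by
    rw [Subgroup.mem_centralizer_iff]
    intro h hh
    rcases hh with rfl | hh
    · have := (Subgroup.mem_centralizer_iff.1 x.2) t rfl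
      exact congrArg Subtype.val this
    · exact (Subgroup.mem_centralizer_iff.1 x.1.2) h hh⟩
  invFun y := ⟨⟨y.1, by
      rw [Subgroup.mem_centralizer_iff]
      intro h hh
      exact (Subgroup.mem_centralizer_iff.1 y.2) h (Set.mem_insert_of_mem _ hh)⟩, by
    rw [Subgroup.mem_centralizer_iff]
    intro h hh
    rw [Set.mem_singleton_iff] at hh
    subst hh
    apply Subtype.ext
    exact (Subgroup.mem_centralizer_iff.1 y.2) (h : G) (Set.mem_insert _ _)⟩
  left_inv x := by ext; rfl
  right_inv y := by ext; rfl
  map_mul' x y := by ext; rfl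

/-- One-tuples are elements. -/
def H2_oneTupleEquiv (H : Type v) [Group H] : CommTuple H 1 ≃ H where
  toFun s := s.1 0
  invFun t := ⟨fun _ => t, fun i j _ => Subsingleton.elim i j, fun _ _ => Commute.refl t⟩
  left_inv s := Subtype.ext (funext fun i => by
    have : i = 0 := Subsingleton.elim i 0
    subst this; rfl)
  right_inv t := rfl

lemma H2_inertiaROf_one (H : Type v) [Group H] [Finite H] :
    inertiaROf 1 H = ∑ᶠ t : H, H2_phi H ({t} : Set H) := by
  rw [H2_inertiaROf_eq, ← finsum_comp_equiv (H2_oneTupleEquiv H).symm]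
  refine finsum_congr (fun t => ?_)
  rw [H2_term_eq_phi]
  congr 1
  ext x
  constructor
  · rintro ⟨i, rfl⟩; rfl
  · intro hx
    exact ⟨0, hx.symm⟩

/-- Lemma A: the inertia operator applied to a weighted centralizer class. -/
theorem H2_inertia_phi (S : Set G) :
    inertia (H2_phi G S) = ∑ᶠ t : Subgroup.centralizer S, H2_phi G (insert (t : G) S) := by
  classical
  haveI : Fintype (Subgroup.centralizer S) := Fintype.ofFinite _
  unfold H2_phi
  rw [map_smul, H2_inertiaR_cl, H2_inertiaROf_one, finsum_eq_sum_of_fintype,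
    finsum_eq_sum_of_fintype, Finset.smul_sum]
  refine Finset.sum_congr rfl (fun t _ => ?_)
  unfold H2_phi
  rw [smul_smul, H2_cl_eq_of_mulEquiv (H2_subCentralizerEquiv S t),
    Nat.card_congr (H2_subCentralizerEquiv S t).toEquiv]
  congr 1
  have h1 : (Nat.card (Subgroup.centralizer S) : ℚ) ≠ 0 := by
    exact_mod_cast Nat.card_pos.ne'
  field_simp

end phi

section snoc

variable (G : Type u) [Group G] (r : ℕ)

/-- Elements extending a commuting tuple to a longer one. -/
def H2_Ext (s : CommTuple G r) : Type u :=
  {t : G // t ∈ Subgroup.centralizer (Set.range s.1) ∧ t ∉ Set.range s.1}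

variable {G r}

lemma H2_sigmaExt_ext {x y : Σ s : CommTuple G r, H2_Ext G r s} (h1 : x.1.1 = y.1.1)
    (h2 : x.2.1 = y.2.1) : x = y := by
  obtain ⟨⟨s, hs⟩, ⟨t, ht⟩⟩ := x
  obtain ⟨⟨s', hs'⟩, ⟨t', ht'⟩⟩ := y
  dsimp at h1 h2
  subst h1
  subst h2
  rfl

lemma H2_commute_snoc (s : CommTuple G r) (t : G)
    (ht : t ∈ Subgroup.centralizer (Set.range s.1)) (i j : Fin (r + 1)) :
    Commute (Fin.snoc (α := fun _ => G) s.1 t i) (Fin.snoc (α := fun _ => G) s.1 t j) := by
  have hc : ∀ k : Fin r, Commute (s.1 k) t := fun k =>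
    (Subgroup.mem_centralizer_iff.1 ht) (s.1 k) ⟨k, rfl⟩
  induction i using Fin.lastCases with
  | cast i =>
    induction j using Fin.lastCases with
    | cast j => simpa using s.2.2 i j
    | last => simpa using hc i
  | last =>
    induction j using Fin.lastCases with
    | cast j => simpa using (hc j).symm
    | last => exact Commute.refl _

variable (G r)

/-- Extending a commuting `r`-tuple by a new commuting element gives a commuting `(r+1)`-tuple. -/
def H2_snocEquiv : (Σ s : CommTuple G r, H2_Ext G r s) ≃ CommTuple G (r + 1) where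
  toFun x := ⟨Fin.snoc (α := fun _ => G) x.1.1 x.2.1,
    Fin.snoc_injective_of_injective x.1.2.1 x.2.2.2, H2_commute_snoc x.1 x.2.1 x.2.2.1⟩
  invFun u := ⟨⟨fun i => u.1 i.castSucc,
      fun i j h => Fin.castSucc_injective _ (u.2.1 h), fun i j => u.2.2 _ _⟩,
    ⟨u.1 (Fin.last r), by
      rw [Subgroup.mem_centralizer_iff]
      rintro _ ⟨i, rfl⟩
      exact (u.2.2 i.castSucc (Fin.last r)).eq, by
      rintro ⟨i, hi⟩
      have := u.2.1 hi
      exact (Fin.castSucc_lt_last i).ne this⟩⟩
  left_inv x := by
    apply H2_sigmaExt_ext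
    · funext i
      simp
    · simp
  right_inv u := by
    apply Subtype.ext
    funext i
    induction i using Fin.lastCases with
    | cast i => simp
    | last => simp

lemma H2_range_snocEquiv (x : Σ s : CommTuple G r, H2_Ext G r s) :
    Set.range (H2_snocEquiv G r x).1 = insert x.2.1 (Set.range x.1.1) :=
  Fin.range_snoc _ _

end snoc

section recursion

variable (G : Type u) [Group G] [Finite G] (r : ℕ)

instance H2_finite_ext (s : CommTuple G r) : Finite (H2_Ext G r s) := by
  unfold H2_Ext; infer_instance

lemma H2_mem_centralizer_range (s : CommTuple G r) (i : Fin r) :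
    s.1 i ∈ Subgroup.centralizer (Set.range s.1) := by
  rw [Subgroup.mem_centralizer_iff]
  rintro _ ⟨j, rfl⟩
  exact (s.2.2 j i).eq

/-- Lemma B. -/
lemma H2_sum_centralizer_split (s : CommTuple G r) :
    ∑ᶠ t : Subgroup.centralizer (Set.range s.1), H2_phi G (insert (t : G) (Set.range s.1)) =
      (r : ℚ) • H2_phi G (Set.range s.1) +
        ∑ᶠ t : H2_Ext G r s, H2_phi G (insert t.1 (Set.range s.1)) := by
  classical
  haveI : Fintype (Subgroup.centralizer (Set.range s.1)) := Fintype.ofFinite _
  haveI : Fintype (H2_Ext G r s) := Fintype.ofFinite _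
  rw [finsum_eq_sum_of_fintype, finsum_eq_sum_of_fintype,
    ← Fintype.sum_subtype_add_sum_subtype
      (fun t : Subgroup.centralizer (Set.range s.1) => (t : G) ∈ Set.range s.1)]
  congr 1
  · -- the part inside the range
    have h1 : ∀ t : {t : Subgroup.centralizer (Set.range s.1) // (t : G) ∈ Set.range s.1},
        H2_phi G (insert ((t : Subgroup.centralizer (Set.range s.1)) : G) (Set.range s.1)) =
          H2_phi G (Set.range s.1) := by
      intro t
      rw [Set.insert_eq_of_mem t.2]
    rw [Fintype.sum_congr _ _ h1, Finset.sum_const, Finset.card_univ, ← Nat.cast_smul_eq_nsmul ℚ]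
    congr 2
    let e : Fin r ≃ {t : Subgroup.centralizer (Set.range s.1) // (t : G) ∈ Set.range s.1} :=
      Equiv.ofBijective
        (fun i => ⟨⟨s.1 i, H2_mem_centralizer_range G r s i⟩, ⟨i, rfl⟩⟩)
        ⟨fun i j h => s.2.1 (congrArg (fun x => ((x.1 : Subgroup.centralizer _) : G)) h),
          fun t => by
            obtain ⟨i, hi⟩ := t.2
            exact ⟨i, Subtype.ext (Subtype.ext hi)⟩⟩
    rw [← Fintype.card_congr e, Fintype.card_fin]
  · -- the part outside the range
    let e : {t : Subgroup.centralizer (Set.range s.1) // ¬ (t : G) ∈ Set.range s.1} ≃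
        H2_Ext G r s :=
      { toFun := fun t => ⟨(t.1 : G), t.1.2, t.2⟩
        invFun := fun t => ⟨⟨t.1, t.2.1⟩, t.2.2⟩
        left_inv := fun t => rfl
        right_inv := fun t => rfl }
    exact Fintype.sum_equiv e _ _ (fun t => rfl)

/-- The recursion `I ∘ I_r = r • I_r + I_{r+1}` on the class of a group. -/
theorem H2_inertia_inertiaROf :
    inertia (inertiaROf r G) = (r : ℚ) • inertiaROf r G + inertiaROf (r + 1) G := by
  classical
  haveI : Fintype (CommTuple G r) := Fintype.ofFinite _
  haveI : Fintype (CommTuple G (r + 1)) := Fintype.ofFinite _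
  haveI : ∀ s : CommTuple G r, Fintype (H2_Ext G r s) := fun s => Fintype.ofFinite _
  rw [H2_inertiaROf_eq G r, H2_inertiaROf_eq G (r + 1), finsum_eq_sum_of_fintype,
    finsum_eq_sum_of_fintype, map_sum]
  have h1 : ∀ s : CommTuple G r, inertia (H2_term G r s) =
      (r : ℚ) • H2_term G r s + ∑ t : H2_Ext G r s, H2_phi G (insert t.1 (Set.range s.1)) := by
    intro s
    rw [H2_term_eq_phi, H2_inertia_phi, H2_sum_centralizer_split, finsum_eq_sum_of_fintype]
  rw [Fintype.sum_congr _ _ h1, Finset.sum_add_distrib, ← Finset.smul_sum]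
  congr 1
  rw [← Fintype.sum_sigma' (fun (s : CommTuple G r) (t : H2_Ext G r s) =>
    H2_phi G (insert t.1 (Set.range s.1)))]
  refine Fintype.sum_equiv (H2_snocEquiv G r) _ _ (fun x => ?_)
  rw [H2_term_eq_phi, H2_range_snocEquiv]

end recursion

section linear

/-- The recursion at the level of linear maps. -/
theorem H2_inertia_inertiaR (r : ℕ) (v : K) :
    inertia (inertiaR r v) = (r : ℚ) • inertiaR r v + inertiaR (r + 1) v := by
  have h : inertia ∘ₗ inertiaR r = (r : ℚ) • inertiaR r + inertiaR (r + 1) := by
    apply Finsupp.lhom_ext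
    intro i c
    have hc : (Finsupp.single i c : K) = c • cl i.rep := by
      rw [← H2_single_eq_cl, Finsupp.smul_single, smul_eq_mul, mul_one]
    simp only [LinearMap.comp_apply, LinearMap.add_apply, LinearMap.smul_apply]
    rw [hc, map_smul, map_smul, map_smul, H2_inertiaR_cl, H2_inertiaR_cl,
      H2_inertia_inertiaROf, smul_add, smul_comm]
  exact LinearMap.congr_fun h v

lemma H2_phi_of_centralizer_eq_top {G : Type u} [Group G] [Finite G] (S : Set G)
    (h : Subgroup.centralizer S = ⊤) : H2_phi G S = cl G := by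
  let e : Subgroup.centralizer S ≃* G := (MulEquiv.subgroupCongr h).trans Subgroup.topEquiv
  unfold H2_phi
  rw [H2_cl_eq_of_mulEquiv e, Nat.card_congr e.toEquiv]
  have hG : (Nat.card G : ℚ) ≠ 0 := by exact_mod_cast Nat.card_pos.ne'
  rw [div_self hG, one_smul]

lemma H2_inertiaROf_zero (G : Type u) [Group G] [Finite G] : inertiaROf 0 G = cl G := by
  classical
  haveI : Fintype (CommTuple G 0) := Fintype.ofFinite _
  haveI : Unique (CommTuple G 0) :=
    { default := ⟨Fin.elim0, fun i => i.elim0, fun i => i.elim0⟩
      uniq := fun s => Subtype.ext (funext fun i => i.elim0) }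
  rw [H2_inertiaROf_eq, finsum_eq_sum_of_fintype, Fintype.sum_unique, H2_term_eq_phi]
  have hr : Set.range (default : CommTuple G 0).1 = ∅ := by
    ext x
    simp only [Set.mem_range, Set.mem_empty_iff_false, iff_false]
    rintro ⟨i, _⟩
    exact i.elim0
  have hc : Subgroup.centralizer (∅ : Set G) = ⊤ := by
    rw [Subgroup.centralizer_eq_top_iff_subset]
    exact Set.empty_subset _
  rw [hr]
  exact H2_phi_of_centralizer_eq_top _ hc

theorem H2_inertiaR_zero (v : K) : inertiaR 0 v = v := by
  have h : inertiaR 0 = LinearMap.id := by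
    apply Finsupp.lhom_ext
    intro i c
    have hc : (Finsupp.single i c : K) = c • cl i.rep := by
      rw [← H2_single_eq_cl, Finsupp.smul_single, smul_eq_mul, mul_one]
    rw [hc, map_smul, H2_inertiaR_cl, H2_inertiaROf_zero]
    rfl
  exact LinearMap.congr_fun h v

end linear

end Groth.Agent.H2
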