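import Mathlib
import Groth.Agent.Lib.helper2.Inertia

/-! Inertia operators: filtrations and triangularity (helper2). -/

set_option autoImplicit false
universe u v
open W4c5stacksedinertia

namespace Groth.Agent.H2

section idx

variable (H : Type u) [Group H] [Finite H]

lemma H2_centerCard_of : (Idx.of H).centerCard = Nat.card (Subgroup.center H) := by
  unfold Idx.centerCard
  exact Nat.card_congr (Subgroup.centerCongr (H2_repEquiv H)).toEquiv

lemma H2_card_of : (Idx.of H).card = Nat.card H := by
  unfold Idx.card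
  exact Nat.card_congr (H2_repEquiv H).toEquiv

variable {H}

lemma H2_cl_mem_Kge {k : ℕ} (h : k ≤ Nat.card (Subgroup.center H)) : cl H ∈ Kge k := by
  unfold cl Kge
  apply Finsupp.single_mem_supported
  show k ≤ (Idx.of H).centerCard
  rw [H2_centerCard_of]
  exact h

lemma H2_cl_mem_Kle {n : ℕ} (h : Nat.card H ≤ n) : cl H ∈ Kle n := by
  unfold cl Kle
  apply Finsupp.single_mem_supported
  show (Idx.of H).card ≤ n
  rw [H2_card_of]
  exact h

end idx

lemma H2_Kge_anti {k m : ℕ} (h : k ≤ m) : Kge m ≤ Kge k := by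
  unfold Kge
  apply Finsupp.supported_mono
  intro j hj
  exact le_trans h hj

lemma H2_Kle_mono {n m : ℕ} (h : n ≤ m) : Kle n ≤ Kle m := by
  unfold Kle
  apply Finsupp.supported_mono
  intro j hj
  exact le_trans hj h

lemma H2_centerCard_le_card (i : Idx) : i.centerCard ≤ i.card := by
  unfold Idx.centerCard Idx.card
  exact Subgroup.card_le_card_group _

lemma H2_centerCard_pos (i : Idx) : 1 ≤ i.centerCard := by
  unfold Idx.centerCard
  exact Nat.card_pos

lemma H2_Kge_one : Kge 1 = ⊤ := by
  unfold Kge
  rw [eq_top_iff]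
  intro v _
  rw [Finsupp.mem_supported]
  intro j _
  exact H2_centerCard_pos j

lemma H2_Kle_inf_Kge (n : ℕ) : Kle n ⊓ Kge (n + 1) = ⊥ := by
  rw [eq_bot_iff]
  intro v hv
  rw [Submodule.mem_bot]
  obtain ⟨h1, h2⟩ := hv
  unfold Kle at h1
  unfold Kge at h2
  rw [SetLike.mem_coe, Finsupp.mem_supported] at h1 h2
  ext j
  by_contra hj
  have hj' : j ∈ v.support := Finsupp.mem_support_iff.2 hj
  have a1 : j.card ≤ n := h1 hj'
  have a2 : n + 1 ≤ j.centerCard := h2 hj'
  have a3 := H2_centerCard_le_card j
  omega

lemma H2_exists_mem_Kle (v : K) : ∃ n, v ∈ Kle n := by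
  refine ⟨v.support.sup Idx.card, ?_⟩
  unfold Kle
  rw [Finsupp.mem_supported]
  intro j hj
  exact Finset.le_sup (f := Idx.card) hj

section growth

variable {G : Type u} [Group G] [Finite G]

/-- The centre of the centralizer of a non-central element is strictly bigger than the centre. -/
lemma H2_card_center_centralizer (t : G) (ht : t ∉ Subgroup.center G) :
    Nat.card (Subgroup.center G) + 1 ≤
      Nat.card (Subgroup.center (Subgroup.centralizer ({t} : Set G))) := by
  set C := Subgroup.centralizer ({t} : Set G) with hC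
  let M : Subgroup G := (Subgroup.center C).map C.subtype
  have hM : Nat.card M = Nat.card (Subgroup.center C) :=
    (Nat.card_congr ((Subgroup.center C).equivMapOfInjective C.subtype
      C.subtype_injective).toEquiv).symm
  have hle : Subgroup.center G ≤ M := by
    intro z hz
    have hzC : z ∈ C := Subgroup.center_le_centralizer _ hz
    refine ⟨⟨z, hzC⟩, ?_, rfl⟩
    rw [SetLike.mem_coe, Subgroup.mem_center_iff]
    intro x
    apply Subtype.ext
    exact (Subgroup.mem_center_iff.1 hz) x.1
  have htC : t ∈ C := by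
    rw [hC, Subgroup.mem_centralizer_iff]
    intro h hh
    rw [Set.mem_singleton_iff] at hh
    rw [hh]
  have htM : t ∈ M := by
    refine ⟨⟨t, htC⟩, ?_, rfl⟩
    rw [SetLike.mem_coe, Subgroup.mem_center_iff]
    intro x
    apply Subtype.ext
    exact ((Subgroup.mem_centralizer_iff.1 x.2) t rfl).symm
  have hlt : (Subgroup.center G : Set G) ⊂ (M : Set G) := by
    refine ⟨hle, fun h => ht (h htM)⟩
  have h1 := Set.ncard_lt_ncard hlt (Set.toFinite _)
  rw [← hM]
  rw [← _root_.Nat.card_coe_set_eq, ← _root_.Nat.card_coe_set_eq] at h1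
  exact h1

/-- Triangularity of the inertia operator on a basis vector. -/
lemma H2_inertia_cl_sub_mem (G : Type u) [Group G] [Finite G] :
    inertia (cl G) - (Nat.card (Subgroup.center G) : ℚ) • cl G ∈
      Kge (Nat.card (Subgroup.center G) + 1) := by
  classical
  haveI : Fintype G := Fintype.ofFinite G
  have h0 : inertia (cl G) = ∑ t : G, H2_phi G ({t} : Set G) := by
    rw [H2_inertiaR_cl, H2_inertiaROf_one, finsum_eq_sum_of_fintype]
  rw [h0, ← Fintype.sum_subtype_add_sum_subtype (fun t : G => t ∈ Subgroup.center G)]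
  have h1 : ∀ t : {t : G // t ∈ Subgroup.center G}, H2_phi G ({(t : G)} : Set G) = cl G := by
    intro t
    apply H2_phi_of_centralizer_eq_top
    rw [Subgroup.centralizer_eq_top_iff_subset]
    intro x hx
    rw [Set.mem_singleton_iff] at hx
    rw [hx]
    exact t.2
  rw [Fintype.sum_congr _ _ h1, Finset.sum_const, Finset.card_univ,
    ← Nat.cast_smul_eq_nsmul ℚ, ← Nat.card_eq_fintype_card]
  have h2 : ((Nat.card {t : G // t ∈ Subgroup.center G} : ℕ) : ℚ) • cl G =
      (Nat.card (Subgroup.center G) : ℚ) • cl G := rfl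
  rw [h2, add_sub_cancel_left]
  apply Submodule.sum_mem
  intro t _
  unfold H2_phi
  apply Submodule.smul_mem
  exact H2_cl_mem_Kge (H2_card_center_centralizer t.1 t.2)

end growth

section stable

variable {G : Type u} [Group G] [Finite G]

lemma H2_phi_mem_Kle (S : Set G) : H2_phi G S ∈ Kle (Nat.card G) := by
  unfold H2_phi
  apply Submodule.smul_mem
  exact H2_cl_mem_Kle (Subgroup.card_le_card_group _)

lemma H2_inertiaR_cl_mem_Kle (r : ℕ) : inertiaR r (cl G) ∈ Kle (Nat.card G) := by
  classical
  haveI : Fintype (CommTuple G r) := Fintype.ofFinite _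
  rw [H2_inertiaR_cl, H2_inertiaROf_eq, finsum_eq_sum_of_fintype]
  apply Submodule.sum_mem
  intro s _
  exact H2_phi_mem_Kle _

end stable

/-- Every vector is a finite combination of basis vectors: induction principle. -/
lemma H2_K_induction {p : K → Prop} (h0 : p 0) (hadd : ∀ v w, p v → p w → p (v + w))
    (hsmul : ∀ (c : ℚ) (i : Idx), p (c • cl i.rep)) (v : K) : p v := by
  induction v using Finsupp.induction_linear with
  | zero => exact h0
  | add v w hv hw => exact hadd v w hv hw
  | single i c =>
    have hc : (Finsupp.single i c : K) = c • cl i.rep := by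
      rw [← H2_single_eq_cl, Finsupp.smul_single, smul_eq_mul, mul_one]
    rw [hc]
    exact hsmul c i

lemma H2_inertiaR_mem_Kle (r n : ℕ) (v : K) (hv : v ∈ Kle n) : inertiaR r v ∈ Kle n := by
  have hv' : v = ∑ i ∈ v.support, v i • cl i.rep := by
    conv_lhs => rw [← Finsupp.sum_single v]
    unfold Finsupp.sum
    refine Finset.sum_congr rfl (fun i _ => ?_)
    rw [← H2_single_eq_cl, Finsupp.smul_single, smul_eq_mul, mul_one]
  rw [hv', map_sum]
  apply Submodule.sum_mem
  intro i hi
  rw [map_smul]
  apply Submodule.smul_mem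
  have h1 : i.card ≤ n := by
    unfold Kle at hv
    rw [Finsupp.mem_supported] at hv
    exact hv hi
  exact H2_Kle_mono h1 (H2_inertiaR_cl_mem_Kle r)

end Groth.Agent.H2
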