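import Mathlib
import Groth.Agent.Lib.helper2.Inertia2

/-! Inertia operators: triangularity with respect to the centre filtration (helper2). -/

set_option autoImplicit false
universe u v
open W4c5stacksedinertia

namespace Groth.Agent.H2

lemma H2_inertia_sub_mem (k : ℕ) (v : K) (hv : v ∈ Kge k) :
    inertia v - (k : ℚ) • v ∈ Kge (k + 1) := by
  have hv' : v = ∑ i ∈ v.support, v i • cl i.rep := by
    conv_lhs => rw [← Finsupp.sum_single v]
    unfold Finsupp.sum
    refine Finset.sum_congr rfl (fun i _ => ?_)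
    rw [← H2_single_eq_cl, Finsupp.smul_single, smul_eq_mul, mul_one]
  have hsum : inertia v - (k : ℚ) • v =
      ∑ i ∈ v.support, v i • (inertia (cl i.rep) - (k : ℚ) • cl i.rep) := by
    conv_lhs => rw [hv']
    rw [map_sum, Finset.smul_sum, ← Finset.sum_sub_distrib]
    refine Finset.sum_congr rfl (fun i _ => ?_)
    rw [map_smul, smul_sub, smul_comm]
  rw [hsum]
  apply Submodule.sum_mem
  intro i hi
  apply Submodule.smul_mem
  have hki : k ≤ i.centerCard := by
    unfold Kge at hv
    rw [Finsupp.mem_supported] at hv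
    exact hv hi
  have h1 := H2_inertia_cl_sub_mem i.rep
  have hcc : Nat.card (Subgroup.center i.rep) = i.centerCard := rfl
  rw [hcc] at h1
  have h2 : inertia (cl i.rep) - (k : ℚ) • cl i.rep =
      (inertia (cl i.rep) - (i.centerCard : ℚ) • cl i.rep) +
        ((i.centerCard : ℚ) - (k : ℚ)) • cl i.rep := by
    rw [sub_smul]; abel
  rw [h2]
  apply Submodule.add_mem
  · exact H2_Kge_anti (by omega) h1
  · rcases Nat.eq_or_lt_of_le hki with h | h
    · rw [h, sub_self, zero_smul]
      exact Submodule.zero_mem _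
    · apply Submodule.smul_mem
      exact H2_cl_mem_Kge (H := i.rep) (by rw [hcc]; omega)

lemma H2_inertia_mem_Kge (k : ℕ) (v : K) (hv : v ∈ Kge k) : inertia v ∈ Kge k := by
  have h1 := H2_Kge_anti (Nat.le_succ k) (H2_inertia_sub_mem k v hv)
  have h2 : inertia v = (inertia v - (k : ℚ) • v) + (k : ℚ) • v := by abel
  rw [h2]
  exact Submodule.add_mem _ h1 (Submodule.smul_mem _ _ hv)

lemma H2_descFactorial_succ_cast (k r : ℕ) :
    ((k.descFactorial (r + 1) : ℕ) : ℚ) = (k.descFactorial r : ℚ) * ((k : ℚ) - (r : ℚ)) := by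
  rw [Nat.descFactorial_succ, Nat.cast_mul]
  rcases le_or_gt r k with h | h
  · rw [Nat.cast_sub h, mul_comm]
  · rw [Nat.descFactorial_of_lt h, Nat.sub_eq_zero_of_le h.le]
    simp

/-- `I_r` acts on the `k`-th graded piece of the centre filtration as `k(k-1)⋯(k-r+1)`. -/
theorem H2_inertiaR_sub_mem (r k : ℕ) (v : K) (hv : v ∈ Kge k) :
    inertiaR r v - (k.descFactorial r : ℚ) • v ∈ Kge (k + 1) := by
  induction r with
  | zero =>
    rw [H2_inertiaR_zero, Nat.descFactorial_zero, Nat.cast_one, one_smul, sub_self]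
    exact Submodule.zero_mem _
  | succ r ih =>
    set c : ℚ := (k.descFactorial r : ℚ) with hc
    set w : K := inertiaR r v - c • v with hw
    set w' : K := inertia v - (k : ℚ) • v with hw'
    have hw'mem : w' ∈ Kge (k + 1) := H2_inertia_sub_mem k v hv
    have hIw : inertia w ∈ Kge (k + 1) := H2_inertia_mem_Kge (k + 1) w ih
    have hrec : inertiaR (r + 1) v = inertia (inertiaR r v) - (r : ℚ) • inertiaR r v := by
      rw [H2_inertia_inertiaR]; abel
    have key : inertiaR (r + 1) v - ((k.descFactorial (r + 1) : ℕ) : ℚ) • v =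
        c • w' + inertia w - (r : ℚ) • w := by
      rw [hrec, H2_descFactorial_succ_cast, ← hc, hw, hw', map_sub, map_smul]
      module
    rw [key]
    exact Submodule.sub_mem _ (Submodule.add_mem _ (Submodule.smul_mem _ _ hw'mem) hIw)
      (Submodule.smul_mem _ _ ih)

end Groth.Agent.H2
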