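import Mathlib
import Groth.Agent.Lib.helper2.Inertia3

/-! Inertia operators: eigenspace decomposition (helper2). -/

set_option autoImplicit false
universe u v
open W4c5stacksedinertia Polynomial

namespace Groth.Agent.H2

section general

variable {M : Type*} [AddCommGroup M] [Module ℚ M]

lemma H2_ker_aeval_X_sub_C (f : Module.End ℚ M) (μ : ℚ) :
    LinearMap.ker (aeval f (X - C μ)) = Module.End.eigenspace f μ := by
  rw [Module.End.eigenspace_def]
  congr 1
  simp [Algebra.algebraMap_eq_smul_one]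

/-- The kernel of a product of distinct linear factors is the span of the eigenspaces. -/
lemma H2_ker_aeval_prod (f : Module.End ℚ M) (a : ℕ → ℚ) (ha : Function.Injective a) (n : ℕ) :
    LinearMap.ker (aeval f (∏ j ∈ Finset.range n, (X - C (a j)))) =
      ⨆ j ∈ Finset.range n, Module.End.eigenspace f (a j) := by
  induction n with
  | zero =>
    simp only [Finset.range_zero, Finset.prod_empty, map_one, Finset.notMem_empty,
      not_false_eq_true, iSup_neg, iSup_bot]
    rw [eq_bot_iff]
    intro v hv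
    simpa using hv
  | succ n ih =>
    rw [Finset.prod_range_succ, ← sup_ker_aeval_eq_ker_aeval_mul_of_coprime, ih,
      H2_ker_aeval_X_sub_C, Finset.range_add_one, Finset.iSup_insert, sup_comm]
    apply IsCoprime.prod_left
    intro j hj
    apply isCoprime_X_sub_C_of_isUnit_sub
    have hne : a j ≠ a n := fun h => by
      have := ha h
      rw [Finset.mem_range] at hj
      omega
    exact (sub_ne_zero_of_ne hne).isUnit

end general

/-- The polynomial `(X - 1)(X - 2)⋯(X - n)`. -/
noncomputable def H2_pn (n : ℕ) : ℚ[X] := ∏ j ∈ Finset.range n, (X - C ((j : ℚ) + 1))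

lemma H2_aeval_pn_mem (n m : ℕ) (v : K) (hv : v ∈ Kle n) :
    aeval inertia (H2_pn m) v ∈ Kle n ⊓ Kge (m + 1) := by
  induction m with
  | zero =>
    unfold H2_pn
    simp only [Finset.range_zero, Finset.prod_empty, map_one, Module.End.one_apply, zero_add]
    rw [H2_Kge_one]
    exact ⟨hv, Submodule.mem_top⟩
  | succ m ih =>
    unfold H2_pn at ih ⊢
    rw [Finset.prod_range_succ, mul_comm, map_mul, Module.End.mul_apply]
    set u := aeval inertia (∏ j ∈ Finset.range m, (X - C ((j : ℚ) + 1))) v with hu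
    have h1 : aeval inertia (X - C ((m : ℚ) + 1)) u = inertia u - ((m : ℚ) + 1) • u := by
      rw [map_sub, aeval_X, aeval_C, LinearMap.sub_apply, Module.algebraMap_end_apply]
    have h2 : ((m : ℚ) + 1) = ((m + 1 : ℕ) : ℚ) := by push_cast; ring
    rw [h1, h2]
    refine ⟨?_, H2_inertia_sub_mem (m + 1) u ih.2⟩
    exact Submodule.sub_mem _ (H2_inertiaR_mem_Kle 1 n u ih.1) (Submodule.smul_mem _ _ ih.1)

lemma H2_aeval_pn_eq_zero (n : ℕ) (v : K) (hv : v ∈ Kle n) : aeval inertia (H2_pn n) v = 0 := by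
  have h := H2_aeval_pn_mem n n v hv
  rw [H2_Kle_inf_Kge] at h
  exact (Submodule.mem_bot _).1 h

lemma H2_mem_iSup_eigenspace (n : ℕ) (v : K) (hv : v ∈ Kle n) :
    v ∈ ⨆ j ∈ Finset.range n, Module.End.eigenspace inertia ((j : ℚ) + 1) := by
  have h1 : v ∈ LinearMap.ker (aeval inertia (H2_pn n)) := H2_aeval_pn_eq_zero n v hv
  unfold H2_pn at h1
  rwa [H2_ker_aeval_prod inertia (fun j => (j : ℚ) + 1)
    (fun i j h => by simpa using h)] at h1

lemma H2_inertia_cl_comm (G : Type u) [CommGroup G] [Finite G] :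
    inertia (cl G) = (Nat.card G : ℚ) • cl G := by
  classical
  haveI : Fintype G := Fintype.ofFinite G
  rw [H2_inertiaR_cl, H2_inertiaROf_one, finsum_eq_sum_of_fintype]
  have h1 : ∀ t : G, H2_phi G ({t} : Set G) = cl G := fun t =>
    H2_phi_of_centralizer_eq_top _ (by
      rw [Subgroup.centralizer_eq_top_iff_subset, CommGroup.center_eq_top]
      exact Set.subset_univ _)
  rw [Fintype.sum_congr _ _ h1, Finset.sum_const, Finset.card_univ, ← Nat.cast_smul_eq_nsmul ℚ,
    Nat.card_eq_fintype_card]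

lemma H2_cl_ne_zero (G : Type u) [Group G] [Finite G] : cl G ≠ 0 := by
  unfold cl
  exact Finsupp.single_ne_zero.2 one_ne_zero

theorem H2_iSup_eigenspace_eq_top :
    (⨆ n : ℕ, Module.End.eigenspace inertia (n : ℚ)) = ⊤ := by
  rw [eq_top_iff]
  intro v _
  obtain ⟨n, hn⟩ := H2_exists_mem_Kle v
  have h := H2_mem_iSup_eigenspace n v hn
  have hle : (⨆ j ∈ Finset.range n, Module.End.eigenspace inertia ((j : ℚ) + 1)) ≤
      ⨆ n : ℕ, Module.End.eigenspace inertia (n : ℚ) := by
    refine iSup₂_le (fun j _ => ?_)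
    have hj : ((j : ℚ) + 1) = ((j + 1 : ℕ) : ℚ) := by push_cast; ring
    rw [hj]
    exact le_iSup (fun n : ℕ => Module.End.eigenspace inertia (n : ℚ)) (j + 1)
  exact hle h

theorem H2_hasEigenvalue_iff (μ : ℚ) :
    Module.End.HasEigenvalue inertia μ ↔ ∃ n : ℕ, 0 < n ∧ μ = (n : ℚ) := by
  constructor
  · intro hμ
    obtain ⟨v, hv⟩ := hμ.exists_hasEigenvector
    obtain ⟨n, hn⟩ := H2_exists_mem_Kle v
    have h0 := H2_aeval_pn_eq_zero n v hn
    rw [Module.End.aeval_apply_of_hasEigenvector hv] at h0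
    rcases smul_eq_zero.1 h0 with h1 | h1
    · unfold H2_pn at h1
      rw [eval_prod, Finset.prod_eq_zero_iff] at h1
      obtain ⟨j, _, hj⟩ := h1
      refine ⟨j + 1, Nat.succ_pos j, ?_⟩
      simp only [eval_sub, eval_X, eval_C] at hj
      push_cast
      linarith
    · exact absurd h1 hv.2
  · rintro ⟨n, hn, rfl⟩
    haveI : NeZero n := ⟨hn.ne'⟩
    have h1 := H2_inertia_cl_comm (Multiplicative (ZMod n))
    have h2 : Nat.card (Multiplicative (ZMod n)) = n := by
      rw [Nat.card_congr (Multiplicative.toAdd : Multiplicative (ZMod n) ≃ ZMod n),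
        Nat.card_eq_fintype_card]
      exact ZMod.card n
    rw [h2] at h1
    exact Module.End.hasEigenvalue_of_hasEigenvector
      ⟨Module.End.mem_eigenspace_iff.2 h1, H2_cl_ne_zero _⟩

end Groth.Agent.H2
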