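import Mathlib
import Groth.Agent.Lib.helper2.Inertia4

/-! Inertia operators: simultaneous diagonalization (helper2). -/

set_option autoImplicit false
universe u v
open W4c5stacksedinertia Polynomial

namespace Groth.Agent.H2

lemma H2_inertiaR_of_eigen (k r : ℕ) (v : K) (hv : inertia v = (k : ℚ) • v) :
    inertiaR r v = (k.descFactorial r : ℚ) • v := by
  induction r with
  | zero => rw [H2_inertiaR_zero, Nat.descFactorial_zero, Nat.cast_one, one_smul]
  | succ r ih =>
    have hrec : inertiaR (r + 1) v = inertia (inertiaR r v) - (r : ℚ) • inertiaR r v := by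
      rw [H2_inertia_inertiaR]; abel
    rw [hrec, ih, map_smul, hv, H2_descFactorial_succ_cast]
    module

theorem H2_eigenspace_le (k r : ℕ) :
    Module.End.eigenspace inertia (k : ℚ) ≤
      Module.End.eigenspace (inertiaR r) ((Nat.factorial r * Nat.choose k r : ℕ) : ℚ) := by
  intro v hv
  rw [Module.End.mem_eigenspace_iff] at hv ⊢
  rw [← Nat.descFactorial_eq_factorial_mul_choose]
  exact H2_inertiaR_of_eigen k r v hv

/-- The polynomial `X (X - 1) ⋯ (X - r + 1)`. -/
noncomputable def H2_fr (r : ℕ) : ℚ[X] := ∏ j ∈ Finset.range r, (X - C (j : ℚ))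

lemma H2_inertiaR_eq_aeval (r : ℕ) (v : K) : inertiaR r v = aeval inertia (H2_fr r) v := by
  induction r generalizing v with
  | zero =>
    unfold H2_fr
    simp only [Finset.range_zero, Finset.prod_empty, map_one, Module.End.one_apply]
    exact H2_inertiaR_zero v
  | succ r ih =>
    have hrec : inertiaR (r + 1) v = inertia (inertiaR r v) - (r : ℚ) • inertiaR r v := by
      rw [H2_inertia_inertiaR]; abel
    unfold H2_fr at ih ⊢
    rw [Finset.prod_range_succ, mul_comm, map_mul, Module.End.mul_apply, ← ih, hrec,
      map_sub, aeval_X, aeval_C, LinearMap.sub_apply, Module.algebraMap_end_apply]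

theorem H2_ker_inertiaR (r : ℕ) :
    LinearMap.ker (inertiaR r) =
      ⨆ k ∈ Finset.range r, Module.End.eigenspace inertia (k : ℚ) := by
  have h : LinearMap.ker (inertiaR r) = LinearMap.ker (aeval inertia (H2_fr r)) := by
    ext v
    rw [LinearMap.mem_ker, LinearMap.mem_ker, H2_inertiaR_eq_aeval]
  rw [h]
  unfold H2_fr
  exact H2_ker_aeval_prod inertia (fun j => (j : ℚ)) (fun i j h => by simpa using h) r

end Groth.Agent.H2
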