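import Mathlib
import Groth.Agent.Lib.helper2.Inertia5
import Groth.Agent.Lib.helper2.BinomInv

/-! Inertia operators: the eigenprojection formula (helper2). -/

set_option autoImplicit false
universe u v
open W4c5stacksedinertia Polynomial Finset

namespace Groth.Agent.H2

/-- The coefficient of `I_r` in the `k`-th eigenprojection. -/
noncomputable def H2_coef (r k : ℕ) : ℚ :=
  ((-1 : ℚ) ^ (r + k)) / (Nat.factorial r : ℚ) * (Nat.choose r k : ℚ)

lemma H2_coef_mul_descFactorial (r k m : ℕ) :
    H2_coef r k * (m.descFactorial r : ℚ) =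
      (-1 : ℚ) ^ (r + k) * (m.choose r : ℚ) * (r.choose k : ℚ) := by
  unfold H2_coef
  rw [Nat.descFactorial_eq_factorial_mul_choose, Nat.cast_mul]
  have h : (Nat.factorial r : ℚ) ≠ 0 := by exact_mod_cast Nat.factorial_ne_zero r
  field_simp

lemma H2_sum_coef (k m n : ℕ) (hmn : m ≤ n) :
    ∑ r ∈ range (n + 1), H2_coef r k * (m.descFactorial r : ℚ) = if k = m then 1 else 0 := by
  rw [← H2_binom_inversion m k n hmn]
  exact Finset.sum_congr rfl (fun r _ => H2_coef_mul_descFactorial r k m)

/-- Eigen-decomposition of a vector. -/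
lemma H2_exists_eigen_decomp (v : K) :
    ∃ (n : ℕ) (μ : ℕ → K), (∀ j, inertia (μ j) = ((j + 1 : ℕ) : ℚ) • μ j) ∧
      ∑ j ∈ range n, μ j = v := by
  obtain ⟨n, hn⟩ := H2_exists_mem_Kle v
  have hmem := H2_mem_iSup_eigenspace n v hn
  obtain ⟨μ, hμ⟩ := (Submodule.mem_iSup_finset_iff_exists_sum _ _).1 hmem
  refine ⟨n, fun j => (μ j : K), fun j => ?_, hμ⟩
  have h := Module.End.mem_eigenspace_iff.1 (μ j).2
  rw [h]
  congr 1
  push_cast
  ring

theorem H2_eigenprojection (v : K) :
    (∀ k : ℕ, (∑ᶠ r : ℕ, H2_coef r k • inertiaR r v) ∈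
        Module.End.eigenspace inertia (k : ℚ)) ∧
    (∑ᶠ k : ℕ, ∑ᶠ r : ℕ, H2_coef r k • inertiaR r v) = v := by
  obtain ⟨n, μ, hμ, hv⟩ := H2_exists_eigen_decomp v
  -- the action of I_r on v
  have hIr : ∀ r : ℕ, inertiaR r v = ∑ j ∈ range n, ((j + 1).descFactorial r : ℚ) • μ j := by
    intro r
    rw [← hv, map_sum]
    exact Finset.sum_congr rfl (fun j _ => H2_inertiaR_of_eigen (j + 1) r (μ j) (hμ j))
  have hzero : ∀ r : ℕ, n < r → inertiaR r v = 0 := by
    intro r hr
    rw [hIr]
    apply Finset.sum_eq_zero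
    intro j hj
    rw [mem_range] at hj
    rw [Nat.descFactorial_of_lt (by omega), Nat.cast_zero, zero_smul]
  -- the inner finsum
  have hP : ∀ k : ℕ, (∑ᶠ r : ℕ, H2_coef r k • inertiaR r v) =
      ∑ j ∈ range n, (if k = j + 1 then (1 : ℚ) else 0) • μ j := by
    intro k
    have hsupp : (Function.support fun r : ℕ => H2_coef r k • inertiaR r v) ⊆
        ((range (n + 1) : Finset ℕ) : Set ℕ) := by
      intro r hr
      rw [Function.mem_support] at hr
      rw [Finset.mem_coe, mem_range]
      by_contra h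
      exact hr (by rw [hzero r (by omega), smul_zero])
    rw [finsum_eq_sum_of_support_subset _ hsupp]
    have h1 : ∀ r ∈ range (n + 1), H2_coef r k • inertiaR r v =
        ∑ j ∈ range n, (H2_coef r k * ((j + 1).descFactorial r : ℚ)) • μ j := by
      intro r _
      rw [hIr, Finset.smul_sum]
      exact Finset.sum_congr rfl (fun j _ => by rw [smul_smul])
    rw [Finset.sum_congr rfl h1, Finset.sum_comm]
    refine Finset.sum_congr rfl (fun j hj => ?_)
    rw [mem_range] at hj
    rw [← Finset.sum_smul, H2_sum_coef k (j + 1) n (by omega)]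
  constructor
  · intro k
    rw [hP k]
    apply Submodule.sum_mem
    intro j _
    by_cases hk : k = j + 1
    · rw [if_pos hk, one_smul, Module.End.mem_eigenspace_iff, hk]
      exact hμ j
    · rw [if_neg hk, zero_smul]
      exact Submodule.zero_mem _
  · have hsupp : (Function.support fun k : ℕ => ∑ᶠ r : ℕ, H2_coef r k • inertiaR r v) ⊆
        ((range (n + 1) : Finset ℕ) : Set ℕ) := by
      intro k hk
      rw [Function.mem_support, hP k] at hk
      rw [Finset.mem_coe, mem_range]
      by_contra h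
      apply hk
      apply Finset.sum_eq_zero
      intro j hj
      rw [mem_range] at hj
      rw [if_neg (by omega), zero_smul]
    rw [finsum_eq_sum_of_support_subset _ hsupp, Finset.sum_congr rfl (fun k _ => hP k),
      Finset.sum_comm, ← hv]
    refine Finset.sum_congr rfl (fun j hj => ?_)
    rw [mem_range] at hj
    rw [← Finset.sum_smul, Finset.sum_ite_eq' (range (n + 1)) (j + 1) (fun _ => (1 : ℚ)),
      if_pos (by rw [mem_range]; omega), one_smul]

end Groth.Agent.H2
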