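import Mathlib

set_option autoImplicit false
universe u

namespace Groth.Agent.H2

open CategoryTheory Rep groupCohomology

section

variable {k G : Type u} [CommRing k] [Group G] (A : Rep.{u} k G) (P : Subgroup G) [P.Normal]
  [Fintype P] (hP : Function.Bijective fun a : A => (Fintype.card P : k) • a)

/-- Multiplication by `|P|` as a linear equivalence. -/
noncomputable def H2N : A.V ≃ₗ[k] A.V :=
  LinearEquiv.ofBijective (LinearMap.lsmul k A.V (Fintype.card P : k)) hP

lemma H2N_apply (a : A.V) : H2N A P hP a = (Fintype.card P : k) • a := rfl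

lemma H2N_symm_comm (g : G) (a : A.V) :
    A.ρ g ((H2N A P hP).symm a) = (H2N A P hP).symm (A.ρ g a) := by
  apply (H2N A P hP).injective
  rw [LinearEquiv.apply_symm_apply, H2N_apply, ← map_smul, ← H2N_apply A P hP,
    LinearEquiv.apply_symm_apply]

/-- The averaged element. -/
noncomputable def H2avg (c : G → A.V) : A.V := -((H2N A P hP).symm (∑ q : P, c q.1))

/-- The cocycle corrected by the coboundary of the averaged element. -/
noncomputable def H2twist (c : G → A.V) (g : G) : A.V :=
  c g - (A.ρ g (H2avg A P hP c) - H2avg A P hP c)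

lemma H2avg_add (c c' : G → A.V) : H2avg A P hP (c + c') = H2avg A P hP c + H2avg A P hP c' := by
  simp only [H2avg, Pi.add_apply, Finset.sum_add_distrib, map_add, neg_add]

lemma H2avg_smul (t : k) (c : G → A.V) : H2avg A P hP (t • c) = t • H2avg A P hP c := by
  simp only [H2avg, Pi.smul_apply, ← Finset.smul_sum, map_smul, smul_neg]

lemma H2twist_add (c c' : G → A.V) (g : G) :
    H2twist A P hP (c + c') g = H2twist A P hP c g + H2twist A P hP c' g := by
  simp only [H2twist, H2avg_add, Pi.add_apply, map_add]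
  abel

lemma H2twist_smul (t : k) (c : G → A.V) (g : G) :
    H2twist A P hP (t • c) g = t • H2twist A P hP c g := by
  simp only [H2twist, H2avg_smul, Pi.smul_apply, map_smul, smul_sub]

variable {A}

lemma H2twist_cocycle {c : G → A.V} (hc : c ∈ cocycles₁ A) (g h : G) :
    H2twist A P hP c (g * h) = A.ρ g (H2twist A P hP c h) + H2twist A P hP c g := by
  have h1 := (mem_cocycles₁_iff c).1 hc g h
  simp only [H2twist, h1, map_mul, Module.End.mul_apply, map_sub]
  abel

lemma H2twist_P {c : G → A.V} (hc : c ∈ cocycles₁ A) (p : P) :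
    H2twist A P hP c p.1 = 0 := by
  unfold H2twist
  rw [sub_eq_zero]
  apply (H2N A P hP).injective
  have hsum : A.ρ p.1 (∑ q : P, c q.1) = (∑ q : P, c q.1) - (Fintype.card P : k) • c p.1 := by
    rw [map_sum]
    have h1 : ∀ q : P, A.ρ p.1 (c q.1) = c ((p * q : P) : G) - c p.1 := by
      intro q
      have := (mem_cocycles₁_iff c).1 hc p.1 q.1
      rw [Subgroup.coe_mul, this]
      abel
    simp only [h1, Finset.sum_sub_distrib]
    have h2 : ∑ x : P, c ((p * x : P) : G) = ∑ q : P, c q.1 :=
      Equiv.sum_comp (Equiv.mulLeft p) (fun q : P => c q.1)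
    rw [h2, Finset.sum_const, Finset.card_univ, Nat.cast_smul_eq_nsmul]
  rw [map_sub, H2avg, map_neg, map_neg, H2N_symm_comm, LinearEquiv.apply_symm_apply, map_neg,
    LinearEquiv.apply_symm_apply, hsum, H2N_apply]
  abel

lemma H2twist_mul_P {c : G → A.V} (hc : c ∈ cocycles₁ A) (g : G) (p : P) :
    H2twist A P hP c (g * p.1) = H2twist A P hP c g := by
  rw [H2twist_cocycle P hP hc, H2twist_P P hP hc, map_zero, zero_add]

lemma H2twist_inv {c : G → A.V} (hc : c ∈ cocycles₁ A) (g : G) (p : P) :
    A.ρ p.1 (H2twist A P hP c g) = H2twist A P hP c g := by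
  have h1 := H2twist_cocycle P hP hc p.1 g
  rw [H2twist_P P hP hc, add_zero] at h1
  rw [← h1]
  have h2 : p.1 * g = g * (⟨g⁻¹ * p.1 * g, Subgroup.Normal.conj_mem' inferInstance p.1 p.2 g⟩ : P).1 := by
    simp only [mul_assoc, mul_inv_cancel_left]
  rw [h2, H2twist_mul_P P hP hc]

lemma H2twist_eq_of_mk_eq {c : G → A.V} (hc : c ∈ cocycles₁ A) (g g' : G)
    (h : (QuotientGroup.mk g : G ⧸ P) = QuotientGroup.mk g') :
    H2twist A P hP c g = H2twist A P hP c g' := by
  have h1 : g⁻¹ * g' ∈ P := QuotientGroup.eq.1 h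
  have h2 : g' = g * (⟨g⁻¹ * g', h1⟩ : P).1 := by
    simp only [mul_inv_cancel_left]
  rw [h2, H2twist_mul_P P hP hc]

lemma H2twist_out {c : G → A.V} (hc : c ∈ cocycles₁ A) (g : G) :
    H2twist A P hP c (QuotientGroup.mk g : G ⧸ P).out = H2twist A P hP c g :=
  H2twist_eq_of_mk_eq P hP hc _ _ (QuotientGroup.out_eq' _)

variable (A)

/-- The value of the retraction at a cocycle, as a function on `G ⧸ P` with values in `A^P`. -/
noncomputable def H2retrFun (c : cocycles₁ A) (x : G ⧸ P) : (A.quotientToInvariants P).V :=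
  ⟨H2twist A P hP c.1 x.out, fun p => H2twist_inv P hP c.2 _ p⟩

lemma H2retrFun_val (c : cocycles₁ A) (x : G ⧸ P) :
    (H2retrFun A P hP c x).1 = H2twist A P hP c.1 x.out := rfl

lemma H2retrFun_mem (c : cocycles₁ A) :
    H2retrFun A P hP c ∈ cocycles₁ (A.quotientToInvariants P) := by
  rw [mem_cocycles₁_iff]
  intro x y
  obtain ⟨g, rfl⟩ := QuotientGroup.mk_surjective x
  obtain ⟨h, rfl⟩ := QuotientGroup.mk_surjective y
  apply Subtype.ext
  have h1 : (((A.quotientToInvariants P).ρ (QuotientGroup.mk g : G ⧸ P))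
      (H2retrFun A P hP c (QuotientGroup.mk h)) + H2retrFun A P hP c (QuotientGroup.mk g)).1
      = A.ρ g (H2retrFun A P hP c (QuotientGroup.mk h)).1
        + (H2retrFun A P hP c (QuotientGroup.mk g)).1 := rfl
  rw [h1, H2retrFun_val, H2retrFun_val, H2retrFun_val, ← QuotientGroup.mk_mul,
    H2twist_out P hP c.2, H2twist_out P hP c.2, H2twist_out P hP c.2, H2twist_cocycle P hP c.2]

/-- The retraction of inflation on 1-cocycles. -/
noncomputable def H2retr : cocycles₁ A →ₗ[k] cocycles₁ (A.quotientToInvariants P) where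
  toFun c := ⟨H2retrFun A P hP c, H2retrFun_mem A P hP c⟩
  map_add' c c' := by
    apply Subtype.ext
    funext x
    apply Subtype.ext
    exact H2twist_add A P hP c.1 c'.1 _
  map_smul' t c := by
    apply Subtype.ext
    funext x
    apply Subtype.ext
    exact H2twist_smul A P hP t c.1 _

lemma H2retr_infl (h : cocycles₁ (A.quotientToInvariants P)) :
    H2retr A P hP (mapCocycles₁ (QuotientGroup.mk' P)
      (Rep.ofHom (A.ρ.quotientToInvariants_lift P)) h) = h := by
  apply Subtype.ext
  funext x
  apply Subtype.ext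
  change H2twist A P hP (mapCocycles₁ (QuotientGroup.mk' P)
      (Rep.ofHom (A.ρ.quotientToInvariants_lift P)) h).1 x.out = (h.1 x).1
  have hval : ∀ g : G, (mapCocycles₁ (QuotientGroup.mk' P)
      (Rep.ofHom (A.ρ.quotientToInvariants_lift P)) h).1 g = (h.1 (QuotientGroup.mk g)).1 :=
    fun g => rfl
  have havg : H2avg A P hP (mapCocycles₁ (QuotientGroup.mk' P)
      (Rep.ofHom (A.ρ.quotientToInvariants_lift P)) h).1 = 0 := by
    unfold H2avg
    have : ∀ q : P, (mapCocycles₁ (QuotientGroup.mk' P)
        (Rep.ofHom (A.ρ.quotientToInvariants_lift P)) h).1 q.1 = 0 := by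
      intro q
      rw [hval, (QuotientGroup.eq_one_iff q.1).2 q.2]
      have := cocycles₁_map_one h
      exact congrArg Subtype.val this
    simp only [this, Finset.sum_const_zero, map_zero, neg_zero]
  unfold H2twist
  rw [havg, map_zero, sub_zero, sub_zero, hval, QuotientGroup.out_eq']

end

end Groth.Agent.H2
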