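import Mathlib

set_option autoImplicit false
universe u
open AlgebraicGeometry CategoryTheory CategoryTheory.Limits

namespace Groth.Agent.H2

/-- incomparability for integral ring homs -/
theorem H2_eq_of_le_of_comap_eq_of_isIntegral {A B : Type*} [CommRing A] [CommRing B]
    (φ : A →+* B) (hφ : φ.IsIntegral) {q' q : Ideal B} [q'.IsPrime] (hle : q' ≤ q)
    (he : Ideal.comap φ q' = Ideal.comap φ q) : q' = q := by
  by_contra hne
  have hlt : q' < q := lt_of_le_of_ne hle hne
  algebraize [φ]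
  have := Ideal.IsIntegral.comap_lt_comap (R := A) hlt
  exact this.ne he

/-- no nontrivial specializations in the fibres of an integral morphism -/
theorem H2_eq_of_specializes_of_isIntegralHom {X Y : Scheme.{u}} (f : X ⟶ Y) [IsIntegralHom f]
    {x x' : X} (hs : x' ⤳ x) (he : f x' = f x) : x' = x := by
  obtain ⟨_, ⟨U₀, hU, rfl⟩, hxU, -⟩ :=
    Y.isBasis_affineOpens.exists_subset_of_mem_open (Set.mem_univ (f x)) isOpen_univ
  obtain ⟨U, rfl⟩ : ∃ U : Y.Opens, U = U₀ := ⟨U₀, rfl⟩
  have hU' : IsAffineOpen U := hU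
  have hV : IsAffineOpen (f ⁻¹ᵁ U) := hU'.preimage f
  have hint : (f.app U).hom.IsIntegral := f.isIntegral_app U hU'
  have hxV : x ∈ f ⁻¹ᵁ U := hxU
  have hx'V : x' ∈ f ⁻¹ᵁ U := by change f x' ∈ U; rw [he]; exact hxU
  have hr : Set.range hV.fromSpec = (f ⁻¹ᵁ U : Set X) := hV.range_fromSpec
  obtain ⟨q, rfl⟩ : x ∈ Set.range hV.fromSpec := hr ▸ hxV
  obtain ⟨q', rfl⟩ : x' ∈ Set.range hV.fromSpec := hr ▸ hx'V
  have hqq' : q' ⤳ q := hV.fromSpec.isOpenEmbedding.isInducing.specializes_iff.mp hs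
  have hle : q'.asIdeal ≤ q.asIdeal :=
    (PrimeSpectrum.le_iff_specializes (R := Γ(X, f ⁻¹ᵁ U)) q' q).mpr hqq'
  have hcomm := IsAffineOpen.SpecMap_appLE_fromSpec f hU' hV le_rfl
  have h1 : hU'.fromSpec (Spec.map (f.appLE U (f ⁻¹ᵁ U) le_rfl) q') =
      hU'.fromSpec (Spec.map (f.appLE U (f ⁻¹ᵁ U) le_rfl) q) := by
    rw [← Scheme.Hom.comp_apply, ← Scheme.Hom.comp_apply, hcomm, Scheme.Hom.comp_apply,
      Scheme.Hom.comp_apply, he]
  have h2 := hU'.fromSpec.isOpenEmbedding.injective h1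
  have happ : f.appLE U (f ⁻¹ᵁ U) le_rfl = f.app U := by
    rw [Scheme.Hom.app_eq_appLE]
  rw [happ] at h2
  have h3 : Ideal.comap (f.app U).hom q'.asIdeal = Ideal.comap (f.app U).hom q.asIdeal :=
    congrArg PrimeSpectrum.asIdeal h2
  have h4 := H2_eq_of_le_of_comap_eq_of_isIntegral (f.app U).hom hint hle h3
  rw [show q' = q from PrimeSpectrum.ext h4]

end Groth.Agent.H2

namespace Groth.Agent.H2

open TopologicalSpace in
theorem H2_dim_le_of_incomparable_fibres {X Y : Type*} [TopologicalSpace X] [TopologicalSpace Y]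
    [QuasiSober X] [T0Space Y] (f : X → Y) (hf : Continuous f)
    (h : ∀ x x' : X, x' ⤳ x → f x' = f x → x' = x) :
    topologicalKrullDim X ≤ topologicalKrullDim Y := by
  have hmono : Monotone (IrreducibleCloseds.map f hf) := IrreducibleCloseds.map_mono hf
  have hstrict : StrictMono (IrreducibleCloseds.map f hf) := by
    intro Z Z' hlt
    refine lt_of_le_of_ne (hmono hlt.le) ?_
    intro heq
    obtain ⟨x, hx⟩ := QuasiSober.sober Z.isIrreducible Z.isClosed
    obtain ⟨x', hx'⟩ := QuasiSober.sober Z'.isIrreducible Z'.isClosed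
    have hxx' : x' ⤳ x := hx'.specializes (hlt.le hx.mem)
    have h1 : IsGenericPoint (f x) (closure (f '' (Z : Set X))) := hx.image hf
    have h2 : IsGenericPoint (f x') (closure (f '' (Z' : Set X))) := hx'.image hf
    have h3 : closure (f '' (Z : Set X)) = closure (f '' (Z' : Set X)) :=
      congrArg (fun W : IrreducibleCloseds Y => (W : Set Y)) heq
    rw [← h3] at h2
    have h4 : f x' = f x := h2.eq h1
    have h5 := h x x' hxx' h4
    subst h5
    exact hlt.ne (IrreducibleCloseds.ext (hx.def.symm.trans hx'.def))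
  exact Order.krullDim_le_of_strictMono _ hstrict

theorem H2_dim_le_of_isIntegralHom {X Y : Scheme.{u}} (f : X ⟶ Y) [IsIntegralHom f] :
    topologicalKrullDim X ≤ topologicalKrullDim Y :=
  H2_dim_le_of_incomparable_fibres f f.continuous
    (fun _ _ hs he => H2_eq_of_specializes_of_isIntegralHom f hs he)

theorem H2_dim_le_range_of_isIntegralHom {X Y : Scheme.{u}} (f : X ⟶ Y) [IsIntegralHom f] :
    topologicalKrullDim X ≤ topologicalKrullDim (Set.range f) :=
  H2_dim_le_of_incomparable_fibres (Set.rangeFactorization f) (f.continuous.subtype_mk _)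
    (fun _ _ hs he => H2_eq_of_specializes_of_isIntegralHom f hs (congrArg Subtype.val he))

end Groth.Agent.H2
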