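import Mathlib

set_option autoImplicit false
universe u

namespace Groth.Agent.H2

/-- If the irrelevant ideal is finitely generated, it is generated by finitely many homogeneous
elements of positive degree. -/
theorem H2_irrelevant_fg_homog {R A : Type u} [CommRing R] [CommRing A] [Algebra R A]
    (𝒜 : ℕ → Submodule R A) [GradedAlgebra 𝒜]
    (h : (HomogeneousIdeal.irrelevant 𝒜).toIdeal.FG) :
    ∃ E : Finset A, (∀ e ∈ E, ∃ d : ℕ, 0 < d ∧ e ∈ 𝒜 d) ∧
      (HomogeneousIdeal.irrelevant 𝒜).toIdeal = Ideal.span (E : Set A) := by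
  classical
  obtain ⟨F, hF⟩ := h
  let E : Finset A := F.biUnion (fun x => (DirectSum.decompose 𝒜 x).support.image
    (fun n => ((DirectSum.decompose 𝒜 x n : 𝒜 n) : A)))
  have hFirr : ∀ x ∈ F, x ∈ (HomogeneousIdeal.irrelevant 𝒜).toIdeal := by
    intro x hx; rw [← hF]; exact Ideal.subset_span hx
  have hE : ∀ e ∈ E, ∃ d : ℕ, 0 < d ∧ e ∈ 𝒜 d := by
    intro e he
    simp only [E, Finset.mem_biUnion, Finset.mem_image] at he
    obtain ⟨x, hx, n, hn, rfl⟩ := he
    refine ⟨n, ?_, SetLike.coe_mem _⟩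
    rw [Nat.pos_iff_ne_zero]
    rintro rfl
    have h0 := (HomogeneousIdeal.mem_irrelevant_iff 𝒜 x).mp (hFirr x hx)
    rw [GradedRing.proj_apply] at h0
    have : DirectSum.decompose 𝒜 x 0 ≠ 0 := by simpa using hn
    exact this (Subtype.ext h0)
  refine ⟨E, hE, ?_⟩
  apply le_antisymm
  · rw [← hF, Ideal.span_le]
    intro x hx
    rw [SetLike.mem_coe, ← DirectSum.sum_support_decompose 𝒜 x]
    refine Ideal.sum_mem _ fun n hn => Ideal.subset_span ?_
    simp only [E, Finset.coe_biUnion, Finset.coe_image, Set.mem_iUnion, Set.mem_image]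
    exact ⟨x, hx, n, hn, rfl⟩
  · rw [Ideal.span_le]
    intro e he
    simp only [E, Finset.coe_biUnion, Finset.coe_image, Set.mem_iUnion, Set.mem_image] at he
    obtain ⟨x, hx, n, hn, rfl⟩ := he
    exact (HomogeneousIdeal.irrelevant 𝒜).isHomogeneous n (hFirr x hx)

end Groth.Agent.H2
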