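import Mathlib

/-! K-injectivity of sequential limits along termwise split epimorphisms. -/

set_option autoImplicit false
universe v u
open CategoryTheory CategoryTheory.Limits Opposite CochainComplex HomComplex

namespace Groth.Agent.H2

variable {A : Type u} [Category.{v} A] [Abelian A]

/-- One lifting step. -/
lemma H2_kinj_step {K L L' : CochainComplex A ℤ} (hK : K.Acyclic) [L.IsKInjective]
    [L'.IsKInjective] (t : L' ⟶ L) (ht : ∀ m : ℤ, IsSplitEpi (t.f m))
    (g' : K ⟶ L') (a : Cochain K L (-1))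
    (ha : δ (-1) 0 a = Cochain.ofHom (g' ≫ t)) :
    ∃ b : Cochain K L' (-1), δ (-1) 0 b = Cochain.ofHom g' ∧
      b.comp (Cochain.ofHom t) (add_zero _) = a := by
  obtain ⟨β, hβ⟩ := IsKInjective.eq_δ_of_cocycle (Cocycle.ofHom g') hK (-1) (by simp)
  have hβ' : δ (-1) 0 β = Cochain.ofHom g' := hβ
  -- the difference is a cocycle of degree -1
  have hγ : δ (-1) 0 (β.comp (Cochain.ofHom t) (add_zero _) - a) = 0 := by
    rw [δ_sub, δ_comp_ofHom, hβ', ha, Cochain.ofHom_comp, sub_self]
  obtain ⟨ε, hε⟩ := IsKInjective.eq_δ_of_cocycle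
    (Cocycle.mk (β.comp (Cochain.ofHom t) (add_zero _) - a) 0 (by simp) hγ) hK (-2) (by simp)
  have hε' : δ (-2) (-1) ε = β.comp (Cochain.ofHom t) (add_zero _) - a := hε
  let σ : Cochain L L' 0 := Cochain.ofHoms (fun p => section_ (t.f p))
  have hσ : σ.comp (Cochain.ofHom t) (add_zero 0) = Cochain.ofHom (𝟙 L) := by
    ext p
    simp [σ]
  refine ⟨β - δ (-2) (-1) (ε.comp σ (add_zero _)), ?_, ?_⟩
  · rw [δ_sub, δ_δ, sub_zero, hβ']
  · rw [Cochain.sub_comp, ← δ_comp_ofHom, Cochain.comp_assoc_of_second_is_zero_cochain,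
      hσ, Cochain.comp_id, hε']
    abel

end Groth.Agent.H2

namespace Groth.Agent.H2

variable {A : Type u} [Category.{v} A] [Abelian A]

/-- Cochains into a limit complex are determined by their projections. -/
lemma H2_cochain_limit_ext [HasLimitsOfShape ℕᵒᵖ A] (I : ℕᵒᵖ ⥤ CochainComplex A ℤ)
    {K : CochainComplex A ℤ} {d : ℤ} (x y : Cochain K (limit I) d)
    (h : ∀ n : ℕ, x.comp (Cochain.ofHom (limit.π I (op n))) (add_zero _) =
      y.comp (Cochain.ofHom (limit.π I (op n))) (add_zero _)) : x = y := by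
  ext p q hpq
  apply (isLimitOfPreserves (HomologicalComplex.eval A (ComplexShape.up ℤ) q)
    (limit.isLimit I)).hom_ext
  intro j
  have := Cochain.congr_v (h j.unop) p q hpq
  simp only [Cochain.comp_zero_cochain_v, Cochain.ofHom_v] at this
  exact this

/-- Assemble a compatible family of cochains into a cochain into the limit. -/
lemma H2_cochain_limit_lift [HasLimitsOfShape ℕᵒᵖ A] (I : ℕᵒᵖ ⥤ CochainComplex A ℤ)
    {K : CochainComplex A ℤ} {d : ℤ} (a : ∀ n : ℕ, Cochain K (I.obj (op n)) d)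
    (ha : ∀ (n m : ℕ) (h : n ≤ m),
      (a m).comp (Cochain.ofHom (I.map (homOfLE h).op)) (add_zero _) = a n) :
    ∃ x : Cochain K (limit I) d, ∀ n : ℕ,
      x.comp (Cochain.ofHom (limit.π I (op n))) (add_zero _) = a n := by
  have hl := fun q : ℤ => isLimitOfPreserves (HomologicalComplex.eval A (ComplexShape.up ℤ) q)
    (limit.isLimit I)
  let c : ∀ (p q : ℤ) (hpq : p + d = q),
      Cone (I ⋙ HomologicalComplex.eval A (ComplexShape.up ℤ) q) := fun p q hpq =>
    { pt := K.X p
      π :=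
        { app := fun j => (a j.unop).v p q hpq
          naturality := fun j j' φ => by
            have h : j'.unop ≤ j.unop := leOfHom φ.unop
            have hφ : φ = (homOfLE h).op := Subsingleton.elim _ _
            have := Cochain.congr_v (ha _ _ h) p q hpq
            simp only [Cochain.comp_zero_cochain_v, Cochain.ofHom_v] at this
            dsimp
            rw [Category.id_comp, hφ]
            exact this.symm } }
  refine ⟨Cochain.mk (fun p q hpq => (hl q).lift (c p q hpq)), fun n => ?_⟩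
  ext p q hpq
  have := (hl q).fac (c p q hpq) (op n)
  simp only [Cochain.comp_zero_cochain_v, Cochain.ofHom_v, Cochain.mk_v]
  exact this

lemma H2_isKInjective_limit [HasLimitsOfShape ℕᵒᵖ A]
    (I : ℕᵒᵖ ⥤ CochainComplex A ℤ) (h1 : ∀ n : ℕ, (I.obj (op n)).IsKInjective)
    (h2 : ∀ (n : ℕ) (m : ℤ), IsSplitEpi ((I.map (homOfLE (Nat.le_succ n)).op).f m)) :
    (limit I).IsKInjective := by
  refine ⟨fun {K} f hK => ?_⟩
  -- the sequence of compatible null-homotopies
  have hstep : ∀ (n : ℕ)
      (a : {a : Cochain K (I.obj (op n)) (-1) // δ (-1) 0 a = Cochain.ofHom (f ≫ limit.π I (op n))}),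
      ∃ b : {b : Cochain K (I.obj (op (n + 1))) (-1) //
          δ (-1) 0 b = Cochain.ofHom (f ≫ limit.π I (op (n + 1)))},
        b.1.comp (Cochain.ofHom (I.map (homOfLE (Nat.le_succ n)).op)) (add_zero _) = a.1 := by
    intro n a
    have := h1 n
    have := h1 (n + 1)
    obtain ⟨b, hb, hb'⟩ := H2_kinj_step hK (I.map (homOfLE (Nat.le_succ n)).op) (h2 n)
      (f ≫ limit.π I (op (n + 1))) a.1 (by
        rw [a.2, Category.assoc, limit.w])
    exact ⟨⟨b, hb⟩, hb'⟩
  choose step hstep' using hstep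
  have h0 : ∃ a : Cochain K (I.obj (op 0)) (-1),
      δ (-1) 0 a = Cochain.ofHom (f ≫ limit.π I (op 0)) := by
    have := h1 0
    exact IsKInjective.eq_δ_of_cocycle (Cocycle.ofHom (f ≫ limit.π I (op 0))) hK (-1) (by simp)
  obtain ⟨a0, ha0⟩ := h0
  let s : ∀ n : ℕ, {a : Cochain K (I.obj (op n)) (-1) //
      δ (-1) 0 a = Cochain.ofHom (f ≫ limit.π I (op n))} :=
    fun n => Nat.rec ⟨a0, ha0⟩ (fun n a => step n a) n
  have hs : ∀ n, (s (n + 1)).1.comp
      (Cochain.ofHom (I.map (homOfLE (Nat.le_succ n)).op)) (add_zero _) = (s n).1 :=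
    fun n => hstep' n (s n)
  have hcomp : ∀ (n m : ℕ) (h : n ≤ m),
      (s m).1.comp (Cochain.ofHom (I.map (homOfLE h).op)) (add_zero _) = (s n).1 := by
    intro n m h
    induction m, h using Nat.le_induction with
    | base =>
      have : I.map (homOfLE (le_refl n)).op = 𝟙 _ := by
        rw [show (homOfLE (le_refl n)) = 𝟙 n from Subsingleton.elim _ _, op_id, I.map_id]
      rw [this, Cochain.comp_id]
    | succ m h ih =>
      have : I.map (homOfLE (h.trans (Nat.le_succ m))).op =
          I.map (homOfLE (Nat.le_succ m)).op ≫ I.map (homOfLE h).op := by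
        rw [← I.map_comp, ← op_comp, homOfLE_comp]
      rw [this, Cochain.ofHom_comp (I.map (homOfLE (Nat.le_succ m)).op) (I.map (homOfLE h).op),
        ← Cochain.comp_assoc_of_second_is_zero_cochain, hs, ih]
  obtain ⟨x, hx⟩ := H2_cochain_limit_lift I (fun n => (s n).1) hcomp
  have hδ : δ (-1) 0 x = Cochain.ofHom f := by
    apply H2_cochain_limit_ext
    intro n
    rw [← δ_comp_ofHom, hx, (s n).2, Cochain.ofHom_comp]
  exact ⟨(Cochain.equivHomotopy f 0).symm ⟨x, by simp [hδ]⟩⟩

end Groth.Agent.H2
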