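import Mathlib

universe u v

open CategoryTheory CategoryTheory.Limits CategoryTheory.Category CategoryTheory.Pretriangulated ZeroObject
  HomotopyCategory

namespace Groth.Agent.H2

variable {V : Type u} [Category.{v} V] [Preadditive V] [HasZeroObject V] [HasBinaryBiproducts V]

lemma H2_isStrictlyLE_mappingCone {K L : CochainComplex V ℤ} (f : K ⟶ L)
    (n₁ n₂ n : ℤ) [K.IsStrictlyLE n₁] [L.IsStrictlyLE n₂] (hn₁ : n₁ - 1 ≤ n) (hn₂ : n₂ ≤ n) :
    (CochainComplex.mappingCone f).IsStrictlyLE n := by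
  rw [CochainComplex.isStrictlyLE_iff]
  intro i hi
  simp only [CochainComplex.mappingCone.isZero_X_iff]
  exact ⟨K.isZero_of_isStrictlyLE n₁ _ (by omega), L.isZero_of_isStrictlyLE n₂ _ (by omega)⟩

/-- the property defining `K⁻`. -/
def H2_minus : ObjectProperty (HomotopyCategory V (ComplexShape.up ℤ)) :=
  fun K => ∃ n : ℤ, CochainComplex.IsStrictlyLE K.as n

/-- the property defining `K^b`. -/
def H2_bdd : ObjectProperty (HomotopyCategory V (ComplexShape.up ℤ)) :=
  fun K => ∃ a b : ℤ, CochainComplex.IsStrictlyGE K.as a ∧ CochainComplex.IsStrictlyLE K.as b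

instance : (H2_minus (V := V)).ContainsZero where
  exists_zero :=
    ⟨(HomotopyCategory.quotient _ _).obj 0, Functor.map_isZero _ (isZero_zero _),
      ⟨0, inferInstanceAs ((0 : CochainComplex V ℤ).IsStrictlyLE 0)⟩⟩

instance : (H2_bdd (V := V)).ContainsZero where
  exists_zero :=
    ⟨(HomotopyCategory.quotient _ _).obj 0, Functor.map_isZero _ (isZero_zero _),
      ⟨0, 0, inferInstanceAs ((0 : CochainComplex V ℤ).IsStrictlyGE 0),
        inferInstanceAs ((0 : CochainComplex V ℤ).IsStrictlyLE 0)⟩⟩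

instance : (H2_minus (V := V)).IsStableUnderShift ℤ where
  isStableUnderShiftBy n :=
    { le_shift K hK := by
        obtain ⟨K : CochainComplex _ _, rfl⟩ := K.quotient_obj_surjective
        obtain ⟨q, hq⟩ := hK
        change (K.IsStrictlyLE q) at hq
        rw [ObjectProperty.prop_shift_iff, shift_quotient_obj]
        exact ⟨q - n, K.isStrictlyLE_shift q n (q - n) (by omega)⟩ }

instance : (H2_bdd (V := V)).IsStableUnderShift ℤ where
  isStableUnderShiftBy n :=
    { le_shift K hK := by
        obtain ⟨K : CochainComplex _ _, rfl⟩ := K.quotient_obj_surjective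
        obtain ⟨a, b, ha, hb⟩ := hK
        change (K.IsStrictlyGE a) at ha
        change (K.IsStrictlyLE b) at hb
        rw [ObjectProperty.prop_shift_iff, shift_quotient_obj]
        exact ⟨a - n, b - n, K.isStrictlyGE_shift a n (a - n) (by omega),
          K.isStrictlyLE_shift b n (b - n) (by omega)⟩ }

set_option backward.defeqAttrib.useBackward true in
set_option backward.isDefEq.respectTransparency false in
instance : (H2_minus (V := V)).IsTriangulatedClosed₃ where
  ext₃' T hT h₁ h₂ := by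
    obtain ⟨n₁, _⟩ := h₁
    obtain ⟨n₂, _⟩ := h₂
    obtain ⟨f : T.obj₁.as ⟶ T.obj₂.as, hf⟩ := (quotient _ _).map_surjective T.mor₁
    refine ⟨_, ?_,
      ⟨Triangle.π₃.mapIso (isoTriangleOfIso₁₂ T _ hT
        (mappingCone_triangleh_distinguished f) (Iso.refl _) (Iso.refl _) ?_)⟩⟩
    · exact ⟨max (n₁ - 1) n₂, H2_isStrictlyLE_mappingCone f n₁ n₂ _
        (le_max_left _ _) (le_max_right _ _)⟩
    · simp [hf]

set_option backward.defeqAttrib.useBackward true in
set_option backward.isDefEq.respectTransparency false in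
instance : (H2_bdd (V := V)).IsTriangulatedClosed₃ where
  ext₃' T hT h₁ h₂ := by
    obtain ⟨a₁, b₁, _, _⟩ := h₁
    obtain ⟨a₂, b₂, _, _⟩ := h₂
    obtain ⟨f : T.obj₁.as ⟶ T.obj₂.as, hf⟩ := (quotient _ _).map_surjective T.mor₁
    refine ⟨_, ?_,
      ⟨Triangle.π₃.mapIso (isoTriangleOfIso₁₂ T _ hT
        (mappingCone_triangleh_distinguished f) (Iso.refl _) (Iso.refl _) ?_)⟩⟩
    · exact ⟨min (a₁ - 1) a₂, max (b₁ - 1) b₂,
        CochainComplex.isStrictlyGE_mappingCone f a₁ a₂ _ (by simp) (by simp),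
        H2_isStrictlyLE_mappingCone f b₁ b₂ _ (le_max_left _ _) (le_max_right _ _)⟩
    · simp [hf]

instance : (H2_minus (V := V)).IsTriangulated where
  toIsTriangulatedClosed₂ := .of_isTriangulatedClosed₃

instance : (H2_bdd (V := V)).IsTriangulated where
  toIsTriangulatedClosed₂ := .of_isTriangulatedClosed₃

end Groth.Agent.H2
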