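import Mathlib
import Groth.Prelude.Def_KZero
import Groth.Prelude.Def_KZero2

/-! Basic relations in `K₀` of a pretriangulated category. -/

set_option autoImplicit false
universe v u
open CategoryTheory CategoryTheory.Limits CategoryTheory.Pretriangulated KZero

namespace Groth.Agent.H2

variable {C : Type u} [Category.{v} C] [Preadditive C] [HasZeroObject C]
  [HasShift C ℤ] [∀ n : ℤ, (shiftFunctor C n).Additive] [Pretriangulated C]

lemma H2_clTri_triangle (T : Triangle C) (hT : T ∈ distTriang C) :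
    clTri T.obj₂ = clTri T.obj₁ + clTri T.obj₃ := by
  have h : (FreeAbelianGroup.of (⟨T.obj₂, trivial⟩ : Subtype (⊤ : ObjectProperty C)) -
      FreeAbelianGroup.of ⟨T.obj₁, trivial⟩ - FreeAbelianGroup.of ⟨T.obj₃, trivial⟩) ∈
      relTr (⊤ : ObjectProperty C) :=
    AddSubgroup.subset_closure ⟨T, trivial, trivial, trivial, hT, rfl⟩
  have h2 := (QuotientAddGroup.eq_zero_iff _).2 h
  rw [QuotientAddGroup.mk_sub, QuotientAddGroup.mk_sub, sub_sub, sub_eq_zero] at h2
  exact h2

open ZeroObject in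
lemma H2_clTri_zero : clTri (0 : C) = 0 := by
  have h : clTri (0 : C) = clTri (0 : C) + clTri (0 : C) :=
    H2_clTri_triangle _ (contractible_distinguished (0 : C))
  exact left_eq_add.1 h

open ZeroObject in
lemma H2_clTri_iso {X Y : C} (e : X ≅ Y) : clTri X = clTri Y := by
  have h : clTri Y = clTri X + clTri (0 : C) :=
    H2_clTri_triangle (Triangle.mk e.hom (0 : Y ⟶ (0 : C)) 0) (by
      refine isomorphic_distinguished _ (contractible_distinguished X) _ ?_
      refine Triangle.isoMk _ _ (Iso.refl _) e.symm (Iso.refl _) ?_ ?_ ?_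
      · show e.hom ≫ e.inv = 𝟙 X ≫ 𝟙 X
        simp
      · show (0 : Y ⟶ (0 : C)) ≫ 𝟙 _ = e.inv ≫ 0
        simp
      · show (0 : (0 : C) ⟶ _) ≫ (shiftFunctor C (1 : ℤ)).map (𝟙 X) = 𝟙 _ ≫ 0
        simp)
  rw [H2_clTri_zero, add_zero] at h
  exact h.symm

lemma H2_clTri_isZero {X : C} (hX : IsZero X) : clTri X = 0 := by
  rw [H2_clTri_iso hX.isoZero, H2_clTri_zero]

open ZeroObject in
lemma H2_clTri_shift_one (X : C) : clTri ((shiftFunctor C (1 : ℤ)).obj X) = -clTri X := by
  have h : clTri (0 : C) = clTri X + clTri ((shiftFunctor C (1 : ℤ)).obj X) :=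
    H2_clTri_triangle _ (rot_of_distTriang _ (contractible_distinguished X))
  rw [H2_clTri_zero] at h
  exact (neg_eq_of_add_eq_zero_right h.symm).symm

lemma H2_clTri_biprod (X Y : C) : clTri (X ⊞ Y) = clTri X + clTri Y :=
  H2_clTri_triangle _ (binaryBiproductTriangle_distinguished X Y)

lemma H2_clTri_shift_succ (X : C) (m : ℤ) :
    clTri ((shiftFunctor C (m + 1)).obj X) = -clTri ((shiftFunctor C m).obj X) := by
  rw [← H2_clTri_shift_one]
  exact H2_clTri_iso ((shiftFunctorAdd' C m 1 (m + 1) rfl).app X)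

lemma H2_clTri_shift_two_mul (X : C) (n : ℤ) :
    clTri ((shiftFunctor C (2 * n)).obj X) = clTri X := by
  have h2 : ∀ m : ℤ, clTri ((shiftFunctor C (m + 2)).obj X) = clTri ((shiftFunctor C m).obj X) := by
    intro m
    have e : m + 2 = (m + 1) + 1 := by ring
    rw [e, H2_clTri_shift_succ, H2_clTri_shift_succ, neg_neg]
  have h0 : clTri ((shiftFunctor C (0 : ℤ)).obj X) = clTri X :=
    H2_clTri_iso ((shiftFunctorZero C ℤ).app X)
  induction n using Int.induction_on with
  | zero => simpa using h0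
  | succ k ih =>
    have e : 2 * ((k : ℤ) + 1) = 2 * (k : ℤ) + 2 := by ring
    rw [e, h2, ih]
  | pred k ih =>
    have e : 2 * (-(k : ℤ)) = (2 * (-(k : ℤ) - 1)) + 2 := by ring
    rw [e, h2] at ih
    exact ih

end Groth.Agent.H2

namespace Groth.Agent.H2

variable {C : Type u} [Category.{v} C] [Preadditive C] [HasZeroObject C]
  [HasShift C ℤ] [∀ n : ℤ, (shiftFunctor C n).Additive] [Pretriangulated C]

/-- Eilenberg swindle in `K₀` of a pretriangulated category. -/
theorem H2_clTri_swindle (L : C) (n : ℤ)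
    [HasCoproduct (fun i : ℕ => (shiftFunctor C (2 * n * (i : ℤ))).obj L)] :
    clTri L = 0 := by
  obtain ⟨f, hf⟩ : ∃ f : ℕ → C, f = fun i : ℕ => (shiftFunctor C (2 * n * (i : ℤ))).obj L :=
    ⟨_, rfl⟩
  haveI : HasCoproduct f := by rw [hf]; infer_instance
  obtain ⟨G, hG⟩ : ∃ G : C ⥤ C, G = shiftFunctor C (2 * n) := ⟨_, rfl⟩
  haveI : G.IsEquivalence := by rw [hG]; infer_instance
  have hM' : IsColimit (Cofan.mk (G.obj (∐ f)) (fun i => G.map (Sigma.ι f i))) :=
    isColimitCofanMkObjOfIsColimit G f _ (coproductIsCoproduct f)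
  have he : ∀ i : ℕ, Nonempty (f (i + 1) ≅ G.obj (f i)) := by
    intro i
    rw [hf, hG]
    exact ⟨(shiftFunctorAdd' C (2 * n * (i : ℤ)) (2 * n) (2 * n * ((i + 1 : ℕ) : ℤ))
      (by push_cast; ring)).app L⟩
  let e : ∀ i, f (i + 1) ≅ G.obj (f i) := fun i => (he i).some
  let inj : ∀ i, f i ⟶ f 0 ⊞ G.obj (∐ f) := fun i =>
    Nat.rec (motive := fun i => f i ⟶ f 0 ⊞ G.obj (∐ f)) biprod.inl
      (fun i _ => (e i).hom ≫ G.map (Sigma.ι f i) ≫ biprod.inr) i
  have hcol : IsColimit (Cofan.mk (f 0 ⊞ G.obj (∐ f)) inj) := by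
    refine Cofan.IsColimit.mk _
      (fun t => biprod.desc (t.inj 0)
        (Cofan.IsColimit.desc hM' (fun i => (e i).inv ≫ t.inj (i + 1)))) ?_ ?_
    · intro t i
      cases i with
      | zero =>
        show biprod.inl ≫ biprod.desc _ _ = _
        rw [biprod.inl_desc]
      | succ i =>
        show ((e i).hom ≫ G.map (Sigma.ι f i) ≫ biprod.inr) ≫ biprod.desc _ _ = _
        rw [Category.assoc, Category.assoc, biprod.inr_desc]
        have := Cofan.IsColimit.fac hM' (fun i => (e i).inv ≫ t.inj (i + 1)) i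
        rw [Limits.cofan_mk_inj] at this
        rw [this, Iso.hom_inv_id_assoc]
    · intro t m hm
      apply biprod.hom_ext'
      · rw [biprod.inl_desc]
        exact hm 0
      · rw [biprod.inr_desc]
        apply Cofan.IsColimit.hom_ext hM'
        intro i
        have h1 := Cofan.IsColimit.fac hM' (fun i => (e i).inv ≫ t.inj (i + 1)) i
        rw [Limits.cofan_mk_inj] at h1 ⊢
        rw [h1]
        have h2 := hm (i + 1)
        have h3 : (Cofan.mk (f 0 ⊞ G.obj (∐ f)) inj).inj (i + 1) =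
            (e i).hom ≫ G.map (Sigma.ι f i) ≫ biprod.inr := rfl
        rw [h3] at h2
        rw [← h2]
        simp only [Category.assoc, Iso.inv_hom_id_assoc]
  have hiso : Nonempty ((∐ f) ≅ f 0 ⊞ G.obj (∐ f)) :=
    ⟨(coproductIsCoproduct f).coconePointUniqueUpToIso hcol⟩
  have h1 : clTri (∐ f) = clTri (f 0) + clTri (G.obj (∐ f)) := by
    rw [H2_clTri_iso hiso.some, H2_clTri_biprod]
  have h2 : clTri (G.obj (∐ f)) = clTri (∐ f) := by
    rw [hG]
    exact H2_clTri_shift_two_mul _ n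
  have h3 : clTri (f 0) = clTri L := by
    rw [hf]
    have e0 : 2 * n * ((0 : ℕ) : ℤ) = 2 * (n * 0) := by simp
    show clTri ((shiftFunctor C (2 * n * ((0 : ℕ) : ℤ))).obj L) = clTri L
    rw [e0]
    exact H2_clTri_shift_two_mul L (n * 0)
  rw [h2, h3] at h1
  exact (add_eq_right.1 h1.symm)

/-- `K₀` is generated by a dense set of objects. -/
theorem H2_clTri_closure_dense (S : Set C)
    (hdense : ∀ T : Set C, S ⊆ T →
      (∀ tr : Triangle C, tr ∈ distinguishedTriangles →
        (tr.obj₁ ∈ T → tr.obj₂ ∈ T → tr.obj₃ ∈ T) ∧ (tr.obj₁ ∈ T → tr.obj₃ ∈ T → tr.obj₂ ∈ T) ∧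
          (tr.obj₂ ∈ T → tr.obj₃ ∈ T → tr.obj₁ ∈ T)) → T = Set.univ) :
    AddSubgroup.closure (KZero.clTri '' S) = (⊤ : AddSubgroup (KZero.K0tri C)) := by
  have hT := hdense {X | clTri X ∈ AddSubgroup.closure (KZero.clTri '' S)}
    (fun X hX => AddSubgroup.subset_closure ⟨X, hX, rfl⟩)
    (fun tr htr => by
      have h := H2_clTri_triangle tr htr
      refine ⟨fun h1 h2 => ?_, fun h1 h3 => ?_, fun h2 h3 => ?_⟩
      · show clTri tr.obj₃ ∈ AddSubgroup.closure (KZero.clTri '' S)
        have : clTri tr.obj₃ = clTri tr.obj₂ - clTri tr.obj₁ := by rw [h]; abel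
        rw [this]
        exact AddSubgroup.sub_mem _ h2 h1
      · show clTri tr.obj₂ ∈ AddSubgroup.closure (KZero.clTri '' S)
        rw [h]
        exact AddSubgroup.add_mem _ h1 h3
      · show clTri tr.obj₁ ∈ AddSubgroup.closure (KZero.clTri '' S)
        have : clTri tr.obj₁ = clTri tr.obj₂ - clTri tr.obj₃ := by rw [h]; abel
        rw [this]
        exact AddSubgroup.sub_mem _ h2 h3)
  have key : ∀ y : FreeAbelianGroup (Subtype (⊤ : ObjectProperty C)),
      (QuotientAddGroup.mk y : K0tri C) ∈ AddSubgroup.closure (KZero.clTri '' S) := by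
    intro y
    induction y using FreeAbelianGroup.induction_on with
    | zero => exact AddSubgroup.zero_mem _
    | of X =>
      have : X.1 ∈ {X | clTri X ∈ AddSubgroup.closure (KZero.clTri '' S)} := by
        rw [hT]
        trivial
      exact this
    | neg X h =>
      rw [QuotientAddGroup.mk_neg]
      exact AddSubgroup.neg_mem _ h
    | add x y hx hy =>
      rw [QuotientAddGroup.mk_add]
      exact AddSubgroup.add_mem _ hx hy
  rw [eq_top_iff]
  intro x _
  obtain ⟨y, rfl⟩ := QuotientAddGroup.mk_surjective x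
  exact key y

end Groth.Agent.H2
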