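import Mathlib

set_option autoImplicit false
universe v u

namespace Groth.Agent.H2

open CategoryTheory Limits Pretriangulated Triangulated

/-- Ring lemma: two idempotents differing by `d` with `d x d = 0` for all `x` are conjugate. -/
lemma H2_idem_conj {R : Type*} [Ring R] (e e₁ : R) (he : e * e = e) (he₁ : e₁ * e₁ = e₁)
    (hd : ∀ x : R, (e₁ - e) * x * (e₁ - e) = 0) :
    ∃ w w' : R, w * w' = 1 ∧ w' * w = 1 ∧ e₁ * w = w * e := by
  obtain ⟨d, hd_def⟩ : ∃ d : R, d = e₁ - e := ⟨_, rfl⟩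
  have he₁' : e₁ = e + d := by rw [hd_def]; abel
  rw [← hd_def] at hd
  obtain ⟨z, hz⟩ : ∃ z : R, z = d * (1 - 2 * e) := ⟨_, rfl⟩
  have hzz : z * z = 0 := by
    rw [hz]
    have := hd (1 - 2 * e)
    calc d * (1 - 2 * e) * (d * (1 - 2 * e)) = (d * (1 - 2 * e) * d) * (1 - 2 * e) := by
          noncomm_ring
      _ = 0 := by rw [this, zero_mul]
  refine ⟨1 - z, 1 + z, ?_, ?_, ?_⟩
  · calc (1 - z) * (1 + z) = 1 - z * z := by noncomm_ring
      _ = 1 := by rw [hzz, sub_zero]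
  · calc (1 + z) * (1 - z) = 1 - z * z := by noncomm_ring
      _ = 1 := by rw [hzz, sub_zero]
  · have hw : 1 - z = e₁ * e + (1 - e₁) * (1 - e) := by
      rw [hz, he₁']
      have : (e + d) * e + (1 - (e + d)) * (1 - e)
          = 1 - 2 * e + 2 * (e * e) - d + 2 * (d * e) := by noncomm_ring
      rw [this, he]; noncomm_ring
    rw [hw]
    have h1 : e₁ * (e₁ * e + (1 - e₁) * (1 - e)) = e₁ * e := by
      calc _ = (e₁ * e₁) * e + (e₁ - e₁ * e₁) * (1 - e) := by noncomm_ring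
        _ = e₁ * e := by rw [he₁]; noncomm_ring
    have h2 : (e₁ * e + (1 - e₁) * (1 - e)) * e = e₁ * e := by
      calc _ = e₁ * (e * e) + (1 - e₁) * (e - e * e) := by noncomm_ring
        _ = e₁ * e := by rw [he]; noncomm_ring
    rw [h1, h2]

variable {C : Type u} [Category.{v} C] [Preadditive C]
    [HasZeroObject C] [HasShift C ℤ] [∀ n : ℤ, (shiftFunctor C n).Additive] [Pretriangulated C]

/-- Categorical form of `H2_idem_conj`. -/
lemma H2_idem_split_of_conj {X : C} (e e₁ : X ⟶ X) (he : e ≫ e = e) (he₁ : e₁ ≫ e₁ = e₁)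
    (hd : ∀ x : X ⟶ X, (e₁ - e) ≫ x ≫ (e₁ - e) = 0)
    (h₁ : ∃ (Y : C) (i : Y ⟶ X) (p : X ⟶ Y), i ≫ p = 𝟙 Y ∧ p ≫ i = e₁) :
    ∃ (Y : C) (i : Y ⟶ X) (p : X ⟶ Y), i ≫ p = 𝟙 Y ∧ p ≫ i = e := by
  obtain ⟨Y, i, p, hip, hpi⟩ := h₁
  obtain ⟨w, w', hww', hw'w, hconj⟩ := H2_idem_conj (R := End X) e e₁ he he₁ (by
    intro x
    have := hd x
    simp only [End.mul_def]
    exact this)
  simp only [End.mul_def] at hww' hw'w hconj
  -- hww' : w' ≫ w = 1, hw'w : w ≫ w' = 1, hconj : w ≫ e₁ = e ≫ w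
  have hww'' : (w' : X ⟶ X) ≫ (w : X ⟶ X) = 𝟙 X := hww'
  have hw'w' : (w : X ⟶ X) ≫ (w' : X ⟶ X) = 𝟙 X := hw'w
  have hconj' : (w : X ⟶ X) ≫ e₁ = e ≫ (w : X ⟶ X) := hconj
  refine ⟨Y, i ≫ (w' : X ⟶ X), (w : X ⟶ X) ≫ p, ?_, ?_⟩
  · rw [Category.assoc, ← Category.assoc (w' : X ⟶ X), hww'', Category.id_comp, hip]
  · calc ((w : X ⟶ X) ≫ p) ≫ i ≫ (w' : X ⟶ X) = ((w : X ⟶ X) ≫ (p ≫ i)) ≫ (w' : X ⟶ X) := by
          simp only [Category.assoc]
      _ = e := by rw [hpi, hconj', Category.assoc, hw'w', Category.comp_id]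

end Groth.Agent.H2

namespace Groth.Agent.H2

open CategoryTheory Limits Pretriangulated Triangulated

variable {C : Type u} [Category.{v} C] [Preadditive C]
    [HasZeroObject C] [HasShift C ℤ] [∀ n : ℤ, (shiftFunctor C n).Additive] [Pretriangulated C]

lemma H2_idem_split_of_triangle {A X B : C} (α : A ⟶ X) (β : X ⟶ B) (δ : B ⟶ A⟦(1 : ℤ)⟧)
    (hT : Triangle.mk α β δ ∈ distTriang C)
    (h0 : ∀ φ : A ⟶ B, φ = 0) (h1 : ∀ φ : A⟦(1 : ℤ)⟧ ⟶ B, φ = 0)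
    (e : X ⟶ X) (he : e ≫ e = e) (eA : A ⟶ A) (eB : B ⟶ B)
    (hα : α ≫ e = eA ≫ α) (hβ : e ≫ β = β ≫ eB) (hδ : δ ≫ eA⟦(1 : ℤ)⟧' = eB ≫ δ)
    (hA : ∃ (A' : C) (i : A' ⟶ A) (p : A ⟶ A'), i ≫ p = 𝟙 A' ∧ p ≫ i = eA)
    (hB : ∃ (B' : C) (i : B' ⟶ B) (p : B ⟶ B'), i ≫ p = 𝟙 B' ∧ p ≫ i = eB) :
    ∃ (Y : C) (i : Y ⟶ X) (p : X ⟶ Y), i ≫ p = 𝟙 Y ∧ p ≫ i = e := by
  obtain ⟨A', iA, pA, hA1, hA2⟩ := hA
  obtain ⟨B', iB, pB, hB1, hB2⟩ := hB
  have hiB : iB ≫ eB = iB := by rw [← hB2, ← Category.assoc, hB1, Category.id_comp]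
  have hpB : eB ≫ pB = pB := by rw [← hB2, Category.assoc, hB1, Category.comp_id]
  have hiA : iA ≫ eA = iA := by rw [← hA2, ← Category.assoc, hA1, Category.id_comp]
  have hpA : eA ≫ pA = pA := by rw [← hA2, Category.assoc, hA1, Category.comp_id]
  obtain ⟨X', α', β', hT'⟩ := distinguished_cocone_triangle₂ (iB ≫ δ ≫ pA⟦(1 : ℤ)⟧')
  obtain ⟨u, hu1, hu2⟩ : ∃ u : X' ⟶ X, α' ≫ u = iA ≫ α ∧ β' ≫ iB = u ≫ β :=
      complete_distinguished_triangle_morphism₂ _ _ hT' hT iA iB (by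
    change (iB ≫ δ ≫ pA⟦(1 : ℤ)⟧') ≫ iA⟦(1 : ℤ)⟧' = iB ≫ δ
    rw [Category.assoc, Category.assoc, ← Functor.map_comp, hA2, hδ, ← Category.assoc, hiB])
  obtain ⟨p, hp1, hp2⟩ : ∃ p : X ⟶ X', α ≫ p = pA ≫ α' ∧ β ≫ pB = p ≫ β' :=
      complete_distinguished_triangle_morphism₂ _ _ hT hT' pA pB (by
    change δ ≫ pA⟦(1 : ℤ)⟧' = pB ≫ (iB ≫ δ ≫ pA⟦(1 : ℤ)⟧')
    rw [← Category.assoc pB, hB2, ← Category.assoc eB, ← hδ, Category.assoc, ← Functor.map_comp,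
      hpA])
  obtain ⟨ν, hν⟩ : ∃ ν : X' ⟶ X', ν = u ≫ p - 𝟙 X' := ⟨_, rfl⟩
  have hαν : α' ≫ ν = 0 := by
    rw [hν, Preadditive.comp_sub, ← Category.assoc, hu1, Category.assoc, hp1, ← Category.assoc,
      hA1, Category.id_comp, Category.comp_id, sub_self]
  have hνβ : ν ≫ β' = 0 := by
    rw [hν, Preadditive.sub_comp, Category.assoc, ← hp2, ← Category.assoc, ← hu2, Category.assoc,
      hB1, Category.comp_id, Category.id_comp, sub_self]
  have hνν : ν ≫ ν = 0 := by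
    obtain ⟨ν₁, hν₁⟩ : ∃ ν₁ : B' ⟶ X', ν = β' ≫ ν₁ := Triangle.yoneda_exact₂ _ hT' ν hαν
    have h3 : β' ≫ (ν₁ ≫ β') = 0 := by rw [← Category.assoc, ← hν₁, hνβ]
    obtain ⟨ψ, hψ⟩ : ∃ ψ : A'⟦(1 : ℤ)⟧ ⟶ B', ν₁ ≫ β' = (iB ≫ δ ≫ pA⟦(1 : ℤ)⟧') ≫ ψ :=
      Triangle.yoneda_exact₃ _ hT' (ν₁ ≫ β') h3
    have hψ0 : ψ = 0 := by
      have h4 : pA⟦(1 : ℤ)⟧' ≫ ψ ≫ iB = 0 := h1 _
      have h5 : ψ = iA⟦(1 : ℤ)⟧' ≫ (pA⟦(1 : ℤ)⟧' ≫ ψ ≫ iB) ≫ pB := by
        rw [Category.assoc, Category.assoc, hB1, Category.comp_id, ← Category.assoc,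
          ← Functor.map_comp, hA1, CategoryTheory.Functor.map_id, Category.id_comp]
      rw [h5, h4, Limits.zero_comp, Limits.comp_zero]
    rw [hψ0, Limits.comp_zero] at hψ
    rw [hν₁, Category.assoc, ← Category.assoc ν₁, hψ, Limits.zero_comp, Limits.comp_zero]
  have hup : u ≫ p = 𝟙 X' + ν := by rw [hν]; abel
  obtain ⟨p', hp'⟩ : ∃ p' : X ⟶ X', p' = p ≫ (𝟙 X' - ν) := ⟨_, rfl⟩
  have hup' : u ≫ p' = 𝟙 X' := by
    calc u ≫ p' = (u ≫ p) ≫ (𝟙 X' - ν) := by rw [hp', Category.assoc]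
      _ = 𝟙 X' - ν ≫ ν := by
          rw [hup, Preadditive.add_comp, Preadditive.comp_sub,
            Preadditive.comp_sub, Category.id_comp, Category.id_comp, Category.comp_id]
          abel
      _ = 𝟙 X' := by rw [hνν, sub_zero]
  obtain ⟨e₁, he₁⟩ : ∃ e₁ : X ⟶ X, e₁ = p' ≫ u := ⟨_, rfl⟩
  have he₁e₁ : e₁ ≫ e₁ = e₁ := by
    calc e₁ ≫ e₁ = p' ≫ (u ≫ p') ≫ u := by rw [he₁]; simp only [Category.assoc]
      _ = e₁ := by rw [hup', Category.id_comp, he₁]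
  have hαd : α ≫ (e₁ - e) = 0 := by
    have h7 : α ≫ e₁ = eA ≫ α := by
      calc α ≫ e₁ = (α ≫ p) ≫ (𝟙 X' - ν) ≫ u := by rw [he₁, hp']; simp only [Category.assoc]
        _ = pA ≫ (α' ≫ (𝟙 X' - ν)) ≫ u := by rw [hp1]; simp only [Category.assoc]
        _ = pA ≫ α' ≫ u := by
            rw [Preadditive.comp_sub, hαν, Category.comp_id, sub_zero]
        _ = eA ≫ α := by rw [hu1, ← Category.assoc, hA2]
    rw [Preadditive.comp_sub, h7, hα, sub_self]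
  have hdβ : (e₁ - e) ≫ β = 0 := by
    have h8 : e₁ ≫ β = β ≫ eB := by
      calc e₁ ≫ β = p ≫ (𝟙 X' - ν) ≫ (u ≫ β) := by rw [he₁, hp']; simp only [Category.assoc]
        _ = p ≫ ((𝟙 X' - ν) ≫ β') ≫ iB := by rw [← hu2]; simp only [Category.assoc]
        _ = (p ≫ β') ≫ iB := by
            rw [Preadditive.sub_comp, hνβ, Category.id_comp, sub_zero, Category.assoc]
        _ = β ≫ eB := by rw [← hp2, Category.assoc, hB2]
    rw [Preadditive.sub_comp, h8, hβ, sub_self]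
  obtain ⟨d₁, hd₁⟩ : ∃ d₁ : B ⟶ X, e₁ - e = β ≫ d₁ := Triangle.yoneda_exact₂ _ hT (e₁ - e) hαd
  obtain ⟨d₂, hd₂⟩ : ∃ d₂ : X ⟶ A, e₁ - e = d₂ ≫ α := Triangle.coyoneda_exact₂ _ hT (e₁ - e) hdβ
  apply H2_idem_split_of_conj e e₁ he he₁e₁
  · intro x
    have h6 : α ≫ x ≫ β = 0 := h0 _
    calc (e₁ - e) ≫ x ≫ (e₁ - e) = (d₂ ≫ α) ≫ x ≫ (β ≫ d₁) := by rw [← hd₁, ← hd₂]
      _ = d₂ ≫ (α ≫ x ≫ β) ≫ d₁ := by simp only [Category.assoc]
      _ = 0 := by rw [h6, Limits.zero_comp, Limits.comp_zero]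
  · exact ⟨X', u, p', hup', he₁.symm⟩

end Groth.Agent.H2

namespace Groth.Agent.H2

open CategoryTheory Limits Pretriangulated Triangulated

variable {C : Type u} [Category.{v} C] [Preadditive C]
    [HasZeroObject C] [HasShift C ℤ] [∀ n : ℤ, (shiftFunctor C n).Additive] [Pretriangulated C]

/-- For `X` concentrated in one degree, the complement of an idempotent splits. -/
lemma H2_idem_split_heart_compl [IsTriangulated C] (t : TStructure C) (b : ℤ) (X : C)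
    [t.IsGE X b] [t.IsLE X b]
    (e : X ⟶ X) (he : e ≫ e = e) :
    ∃ (Y : C) (i : Y ⟶ X) (p : X ⟶ Y), i ≫ p = 𝟙 Y ∧ p ≫ i = 𝟙 X - e := by
  obtain ⟨Y, g, h, hT⟩ := distinguished_cocone_triangle e
  have hef : e ≫ (𝟙 X - e) = 0 := by rw [Preadditive.comp_sub, he, Category.comp_id, sub_self]
  obtain ⟨f', hf'⟩ : ∃ f' : Y ⟶ X, 𝟙 X - e = g ≫ f' := Triangle.yoneda_exact₂ _ hT (𝟙 X - e) hef
  have hj : (t.truncGEπ b).app Y ≫ t.descTruncGE f' b = f' := t.π_descTruncGE f' b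
  have heg : e ≫ g = 0 := comp_distTriang_mor_zero₁₂ _ hT
  refine ⟨(t.truncGE b).obj Y, t.descTruncGE f' b, g ≫ (t.truncGEπ b).app Y, ?_, ?_⟩
  · apply t.from_truncGE_obj_ext
    rw [Category.comp_id, ← sub_eq_zero]
    have h2 : g ≫ ((t.truncGEπ b).app Y ≫ t.descTruncGE f' b ≫ g ≫ (t.truncGEπ b).app Y
        - (t.truncGEπ b).app Y) = 0 := by
      rw [Preadditive.comp_sub, ← Category.assoc ((t.truncGEπ b).app Y), hj,
        ← Category.assoc g, ← hf', Preadditive.sub_comp, Category.id_comp,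
        ← Category.assoc e, heg, Limits.zero_comp, sub_zero, sub_self]
    obtain ⟨ψ, hψ⟩ : ∃ ψ : X⟦(1 : ℤ)⟧ ⟶ (t.truncGE b).obj Y,
        ((t.truncGEπ b).app Y ≫ t.descTruncGE f' b ≫ g ≫ (t.truncGEπ b).app Y
        - (t.truncGEπ b).app Y) = h ≫ ψ := Triangle.yoneda_exact₃ _ hT _ h2
    have hψ0 : ψ = 0 := t.zero_of_isLE_of_isGE ψ (b - 1) b (by lia)
      (t.isLE_shift X b 1 (b - 1) (by lia)) inferInstance
    rw [hψ, hψ0, Limits.comp_zero]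
  · rw [Category.assoc, hj, ← hf']

lemma H2_idem_split_heart [IsTriangulated C] (t : TStructure C) (b : ℤ) (X : C)
    [t.IsGE X b] [t.IsLE X b]
    (e : X ⟶ X) (he : e ≫ e = e) :
    ∃ (Y : C) (i : Y ⟶ X) (p : X ⟶ Y), i ≫ p = 𝟙 Y ∧ p ≫ i = e := by
  have h := H2_idem_split_heart_compl t b X (𝟙 X - e) (by
    rw [Preadditive.sub_comp, Preadditive.comp_sub, Preadditive.comp_sub, he, Category.id_comp,
      Category.id_comp, Category.comp_id, sub_self, sub_zero])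
  rwa [sub_sub_cancel] at h

lemma H2_idem_split_of_amplitude [IsTriangulated C] (t : TStructure C) (N : ℕ) :
    ∀ (X : C) (a b : ℤ), t.IsGE X a → t.IsLE X b → b < a + N →
      ∀ e : X ⟶ X, e ≫ e = e →
        ∃ (Y : C) (i : Y ⟶ X) (p : X ⟶ Y), i ≫ p = 𝟙 Y ∧ p ≫ i = e := by
  induction N with
  | zero =>
    intro X a b hGE hLE hab e he
    have hz : IsZero X := t.isZero X b a (by simpa using hab)
    exact ⟨X, 𝟙 X, 𝟙 X, Category.comp_id _, hz.eq_of_src _ _⟩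
  | succ N ih =>
    intro X a b hGE hLE hab e he
    have hT : Triangle.mk ((t.truncLTι b).app X) ((t.truncGEπ b).app X)
        ((t.truncGEδLT b).app X) ∈ distTriang C := t.triangleLTGE_distinguished b X
    refine H2_idem_split_of_triangle _ _ _ hT ?_ ?_ e he ((t.truncLT b).map e)
      ((t.truncGE b).map e) ?_ ?_ ?_ ?_ ?_
    · intro φ
      exact t.zero_of_isLE_of_isGE φ (b - 1) b (by lia) inferInstance inferInstance
    · intro φ
      exact t.zero_of_isLE_of_isGE φ (b - 2) b (by lia)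
        (t.isLE_shift _ (b - 1) 1 (b - 2) (by lia)) inferInstance
    · exact ((t.truncLTι b).naturality e).symm
    · exact (t.truncGEπ b).naturality e
    · exact ((t.truncGEδLT b).naturality e).symm
    · refine ih _ a (b - 1) inferInstance inferInstance (by push_cast at hab; lia) _ ?_
      rw [← Functor.map_comp, he]
    · refine H2_idem_split_heart t b _ _ ?_
      rw [← Functor.map_comp, he]

theorem H2_isIdempotentComplete_of_bounded [IsTriangulated C] (t : TStructure C)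
    (hb : ∀ X : C, t.bounded X) : IsIdempotentComplete C := by
  constructor
  intro X p hp
  obtain ⟨⟨a, hGE⟩, ⟨b, hLE⟩⟩ := hb X
  exact H2_idem_split_of_amplitude t (b - a + 1).toNat X a b hGE hLE (by lia) p hp

end Groth.Agent.H2
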