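import Mathlib

set_option autoImplicit false
universe u

namespace Groth.Agent.H2

open AlgebraicGeometry TopologicalSpace

/-- For `X` reduced, the componentwise kernel of `π : X ⟶ Y` on an affine open `U` is the
vanishing ideal of the closure of the range of `π`. -/
theorem H2_ker_app_eq_vanishingIdeal {X Y : Scheme.{u}} [IsReduced X] (π : X ⟶ Y)
    (U : Y.affineOpens) :
    RingHom.ker (π.app U).hom =
      (Scheme.IdealSheafData.vanishingIdeal
        (⟨closure (Set.range π), isClosed_closure⟩ : Closeds Y)).ideal U := by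
  ext s
  rw [Scheme.IdealSheafData.vanishingIdeal_ideal, PrimeSpectrum.mem_vanishingIdeal,
    RingHom.mem_ker, ← basicOpen_eq_bot_iff, ← Scheme.preimage_basicOpen]
  constructor
  · intro h p hp
    by_contra hs
    have h1 : p ∈ (PrimeSpectrum.basicOpen s : Set (PrimeSpectrum Γ(Y, U))) := hs
    have h2 : U.2.fromSpec p ∈ Y.basicOpen s := by
      have : p ∈ U.2.fromSpec ⁻¹ᵁ Y.basicOpen s := by
        rw [U.2.fromSpec_preimage_basicOpen]; exact h1
      exact this
    have h3 : U.2.fromSpec p ∈ closure (Set.range π) := hp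
    rw [mem_closure_iff] at h3
    obtain ⟨_, hy1, ⟨x, rfl⟩⟩ := h3 _ (Y.basicOpen s).isOpen h2
    have : x ∈ π ⁻¹ᵁ Y.basicOpen s := hy1
    rw [h] at this
    exact this
  · intro h
    ext x
    simp only [Opens.coe_bot, Set.mem_empty_iff_false, iff_false]
    intro hx
    have hx' : π x ∈ Y.basicOpen s := hx
    have hxU : π x ∈ (U : Y.Opens) := Y.basicOpen_le s hx'
    obtain ⟨p, hp⟩ : ∃ p, U.2.fromSpec p = π x := by
      have : π x ∈ Set.range U.2.fromSpec := by
        rw [U.2.range_fromSpec]; exact hxU
      exact this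
    have h1 := h p (by
      show U.2.fromSpec p ∈ closure (Set.range π)
      rw [hp]
      exact subset_closure ⟨x, rfl⟩)
    have h2 : p ∈ U.2.fromSpec ⁻¹ᵁ Y.basicOpen s := by
      show U.2.fromSpec p ∈ Y.basicOpen s
      rw [hp]; exact hx'
    rw [U.2.fromSpec_preimage_basicOpen] at h2
    exact h2 h1

/-- For `X` reduced, the kernel ideal sheaf of `π` is the vanishing ideal sheaf of the closure of
the range. -/
theorem H2_ker_eq_vanishingIdeal {X Y : Scheme.{u}} [IsReduced X] (π : X ⟶ Y) :
    π.ker = Scheme.IdealSheafData.vanishingIdeal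
        (⟨closure (Set.range π), isClosed_closure⟩ : Closeds Y) := by
  rw [Scheme.Hom.ker]
  have : (fun U : Y.affineOpens => RingHom.ker (π.app U).hom) =
      (Scheme.IdealSheafData.vanishingIdeal
        (⟨closure (Set.range π), isClosed_closure⟩ : Closeds Y)).ideal := by
    funext U
    exact H2_ker_app_eq_vanishingIdeal π U
  rw [this, Scheme.IdealSheafData.ofIdeals_ideal]

end Groth.Agent.H2
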