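import Mathlib
import Groth.Prelude.Def_W4c1bouilletffgsL3

set_option autoImplicit false

namespace Groth.Agent.H2

open MvPolynomial Lie3Mod
open scoped MonomialOrder

variable (A : Type*) [CommRing A]

/-- substitution `i ↦ a`, `f ↦ -b`, `h ↦ -d`. -/
noncomputable def H2L3phi : D A →ₐ[A] D A :=
  MvPolynomial.aeval (fun n : Fin 9 =>
    if n = 8 then (X 0 : D A) else if n = 5 then -X 1 else if n = 7 then -X 3 else X n)

lemma H2L3phi_X (n : Fin 9) :
    H2L3phi A (X n) =
      if n = 8 then (X 0 : D A) else if n = 5 then -X 1 else if n = 7 then -X 3 else X n := by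
  simp [H2L3phi]

lemma H2_L1_mem : L1 A ∈ idL A := Ideal.subset_span (by simp)
lemma H2_L2_mem : L2 A ∈ idL A := Ideal.subset_span (by simp)
lemma H2_L3_mem : L3 A ∈ idL A := Ideal.subset_span (by simp)

lemma H2L3_X_sub_phi_mem (n : Fin 9) : (X n : D A) - H2L3phi A (X n) ∈ idL A := by
  rw [H2L3phi_X]
  fin_cases n
  · simp
  · simp
  · simp
  · simp
  · simp
  · have : (X 5 : D A) - -X 1 = L2 A := by simp [L2]; ring
    have h2 := H2_L2_mem A
    rw [← this] at h2
    simpa using h2
  · simp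
  · have : (X 7 : D A) - -X 3 = L3 A := by simp [L3]; ring
    have h2 := H2_L3_mem A
    rw [← this] at h2
    simpa using h2
  · have : (X 8 : D A) - X 0 = -L1 A := by simp [L1]
    have h2 := (idL A).neg_mem (H2_L1_mem A)
    rw [← this] at h2
    simpa using h2

lemma H2L3_sub_phi_mem (x : D A) : x - H2L3phi A x ∈ idL A := by
  induction x using MvPolynomial.induction_on with
  | C a => simp [H2L3phi]
  | add p q hp hq =>
    have : p + q - H2L3phi A (p + q) = (p - H2L3phi A p) + (q - H2L3phi A q) := by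
      rw [map_add]; ring
    rw [this]; exact (idL A).add_mem hp hq
  | mul_X p n hp =>
    have : p * X n - H2L3phi A (p * X n) =
        (p - H2L3phi A p) * X n + H2L3phi A p * (X n - H2L3phi A (X n)) := by
      rw [map_mul]; ring
    rw [this]
    exact (idL A).add_mem ((idL A).mul_mem_right _ hp)
      ((idL A).mul_mem_left _ (H2L3_X_sub_phi_mem A n))

lemma H2L3_phi_eq_zero_of_mem {x : D A} (hx : x ∈ idL A) : H2L3phi A x = 0 := by
  have : idL A ≤ RingHom.ker (H2L3phi A : D A →+* D A) := by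
    rw [idL, Ideal.span_le]
    intro y hy
    simp only [Set.mem_insert_iff, Set.mem_singleton_iff] at hy
    rcases hy with rfl | rfl | rfl
    · simp [RingHom.mem_ker, L1, H2L3phi_X]
    · simp [RingHom.mem_ker, L2, H2L3phi_X]
    · simp [RingHom.mem_ker, L3, H2L3phi_X]
  exact this hx

lemma H2L3_mem_iff {x : D A} : x ∈ idL A ↔ H2L3phi A x = 0 := by
  refine ⟨H2L3_phi_eq_zero_of_mem A, fun h => ?_⟩
  have := H2L3_sub_phi_mem A x
  rwa [h, sub_zero] at this


lemma H2_mon2 (i j : Fin 9) (m n : ℕ) (c : A) :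
    monomial (Finsupp.single i m + Finsupp.single j n) c = C c * (X i ^ m * X j ^ n : D A) := by
  rw [monomial_eq, Finsupp.prod_add_index' (by simp) (by intros; rw [pow_add])]
  simp

lemma H2_mon3 (i j k : Fin 9) (m n l : ℕ) (c : A) :
    monomial (Finsupp.single i m + Finsupp.single j n + Finsupp.single k l) c =
      C c * (X i ^ m * X j ^ n * X k ^ l : D A) := by
  rw [monomial_eq, Finsupp.prod_add_index' (by simp) (by intros; rw [pow_add]),
    Finsupp.prod_add_index' (by simp) (by intros; rw [pow_add])]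
  simp

lemma H2L3_phi_det : H2L3phi A (detM A) =
    monomial (Finsupp.single 4 1 + Finsupp.single 0 2) (1 : A) +
      (monomial (Finsupp.single 2 1 + Finsupp.single 3 2) (-1 : A) +
       monomial (Finsupp.single 6 1 + Finsupp.single 1 2) (-1 : A) +
       monomial (Finsupp.single 6 1 + Finsupp.single 4 1 + Finsupp.single 2 1) (-1 : A) +
       monomial (Finsupp.single 0 1 + Finsupp.single 1 1 + Finsupp.single 3 1) (-2 : A)) := by
  rw [H2_mon2, H2_mon2, H2_mon2, H2_mon3, H2_mon3]
  simp only [detM, map_add, map_sub, map_mul, map_neg, map_pow, H2L3phi_X]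
  have h2 : (C (2 : A) : D A) = 2 := map_ofNat C 2
  simp [h2]
  ring

lemma H2_lex_lt (d' : Fin 9 →₀ ℕ) (h : d' 0 < 2) :
    d' ≺[MonomialOrder.lex] (Finsupp.single 4 1 + Finsupp.single 0 2 : Fin 9 →₀ ℕ) := by
  rw [MonomialOrder.lex_lt_iff, Finsupp.Lex.lt_iff]
  refine ⟨0, fun j hj => absurd hj (Fin.not_lt_zero j), ?_⟩
  simpa using h

lemma H2_deg_mon_lt (d' : Fin 9 →₀ ℕ) (h : d' 0 < 2) (c : A) :
    (MonomialOrder.lex (σ := Fin 9)).degree (monomial d' c) ≺[MonomialOrder.lex]
      (Finsupp.single 4 1 + Finsupp.single 0 2 : Fin 9 →₀ ℕ) :=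
  lt_of_le_of_lt (MonomialOrder.degree_monomial_le c) (H2_lex_lt d' h)

lemma H2_deg_add_lt {p q : D A} {d : Fin 9 →₀ ℕ}
    (hp : (MonomialOrder.lex (σ := Fin 9)).degree p ≺[MonomialOrder.lex] d)
    (hq : (MonomialOrder.lex (σ := Fin 9)).degree q ≺[MonomialOrder.lex] d) :
    (MonomialOrder.lex (σ := Fin 9)).degree (p + q) ≺[MonomialOrder.lex] d :=
  lt_of_le_of_lt MonomialOrder.degree_add_le (sup_lt_iff.mpr ⟨hp, hq⟩)

lemma H2_monic_aux [Nontrivial A] (p : D A)
    (hp : (MonomialOrder.lex (σ := Fin 9)).degree p ≺[MonomialOrder.lex]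
      (Finsupp.single 4 1 + Finsupp.single 0 2 : Fin 9 →₀ ℕ)) :
    (monomial (Finsupp.single 4 1 + Finsupp.single 0 2) (1 : A) + p) ∈ nonZeroDivisors (D A) := by
  classical
  apply (MonomialOrder.lex (σ := Fin 9)).mem_nonZeroDivisors_of_leadingCoeff_mem_nonZeroDivisors
  have hm : (MonomialOrder.lex (σ := Fin 9)).Monic
      (monomial (Finsupp.single 4 1 + Finsupp.single 0 2) (1 : A) + p) := by
    apply MonomialOrder.Monic.add_of_lt
    · exact MonomialOrder.monic_monomial.mpr rfl
    · rw [MonomialOrder.degree_monomial, if_neg one_ne_zero]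
      exact hp
  rw [hm.leadingCoeff_eq_one]; exact one_mem _

lemma H2L3_phi_det_nzd : H2L3phi A (detM A) ∈ nonZeroDivisors (D A) := by
  rcases subsingleton_or_nontrivial A with hA | hA
  · rw [mem_nonZeroDivisors_iff]
    exact ⟨fun _ _ => Subsingleton.elim _ _, fun _ _ => Subsingleton.elim _ _⟩
  · rw [H2L3_phi_det]
    apply H2_monic_aux
    refine H2_deg_add_lt A (H2_deg_add_lt A (H2_deg_add_lt A ?_ ?_) ?_) ?_
    · exact H2_deg_mon_lt A _ (by simp) _
    · exact H2_deg_mon_lt A _ (by simp) _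
    · exact H2_deg_mon_lt A _ (by simp) _
    · exact H2_deg_mon_lt A _ (by simp) _

/-- `detM` is a nonzerodivisor modulo `L`. -/
lemma H2L3_mem_of_mul_det_mem {t : D A} (h : t * detM A ∈ idL A) : t ∈ idL A := by
  rw [H2L3_mem_iff] at h ⊢
  rw [map_mul] at h
  exact (mem_nonZeroDivisors_iff.mp (H2L3_phi_det_nzd A)).2 _ h

lemma H2L3_det_mul_L1 : detM A * L1 A ∈ idI A := by
  have : detM A * L1 A = (-(vh * vc) + vb * vi) * Q1 A + (vg * vc - vi ^ 2) * Q2 A
      + (-(vg * vb) + vi * vh) * Q3 A := by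
    simp only [detM, L1, Q1, Q2, Q3]; ring
  rw [this]
  refine (idI A).add_mem ((idI A).add_mem ?_ ?_) ?_
  · exact (idI A).mul_mem_left _ (Ideal.subset_span (by simp))
  · exact (idI A).mul_mem_left _ (Ideal.subset_span (by simp))
  · exact (idI A).mul_mem_left _ (Ideal.subset_span (by simp))

lemma H2L3_det_mul_L2 : detM A * L2 A ∈ idI A := by
  have : detM A * L2 A = (ve * vc - vb * vf) * Q1 A + (vh * vc + vi * vf) * Q2 A
      + (-(vh * vb) - vi * ve) * Q3 A := by
    simp only [detM, L2, Q1, Q2, Q3]; ring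
  rw [this]
  refine (idI A).add_mem ((idI A).add_mem ?_ ?_) ?_
  · exact (idI A).mul_mem_left _ (Ideal.subset_span (by simp))
  · exact (idI A).mul_mem_left _ (Ideal.subset_span (by simp))
  · exact (idI A).mul_mem_left _ (Ideal.subset_span (by simp))

lemma H2L3_det_mul_L3 : detM A * L3 A ∈ idI A := by
  have : detM A * L3 A = (ve * vi - vh * vf) * Q1 A + (vh * vi + vg * vf) * Q2 A
      + (-(vh ^ 2) - vg * ve) * Q3 A := by
    simp only [detM, L3, Q1, Q2, Q3]; ring
  rw [this]
  refine (idI A).add_mem ((idI A).add_mem ?_ ?_) ?_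
  · exact (idI A).mul_mem_left _ (Ideal.subset_span (by simp))
  · exact (idI A).mul_mem_left _ (Ideal.subset_span (by simp))
  · exact (idI A).mul_mem_left _ (Ideal.subset_span (by simp))

lemma H2L3_mul_det_mem {t : D A} (ht : t ∈ idL A) : t * detM A ∈ idI A := by
  have : idL A ≤ (idI A).colon {detM A} := by
    rw [idL, Ideal.span_le]
    intro y hy
    simp only [Set.mem_insert_iff, Set.mem_singleton_iff] at hy
    rw [SetLike.mem_coe, Submodule.mem_colon_singleton, smul_eq_mul, mul_comm]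
    rcases hy with rfl | rfl | rfl
    · exact H2L3_det_mul_L1 A
    · exact H2L3_det_mul_L2 A
    · exact H2L3_det_mul_L3 A
  have := this ht
  rwa [Submodule.mem_colon_singleton, smul_eq_mul] at this

lemma H2L3_I_le_L : idI A ≤ idL A := by
  rw [idI, Ideal.span_le]
  intro y hy
  simp only [Set.mem_insert_iff, Set.mem_singleton_iff] at hy
  rcases hy with rfl | rfl | rfl
  · have : Q1 A = vh * L1 A + (-vg) * L2 A + vi * L3 A := by
      simp only [L1, L2, L3, Q1]; ring
    rw [SetLike.mem_coe, this]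
    exact (idL A).add_mem ((idL A).add_mem ((idL A).mul_mem_left _ (H2_L1_mem A))
      ((idL A).mul_mem_left _ (H2_L2_mem A))) ((idL A).mul_mem_left _ (H2_L3_mem A))
  · have : Q2 A = (-ve) * L1 A + (-vh) * L2 A + vb * L3 A := by
      simp only [L1, L2, L3, Q2]; ring
    rw [SetLike.mem_coe, this]
    exact (idL A).add_mem ((idL A).add_mem ((idL A).mul_mem_left _ (H2_L1_mem A))
      ((idL A).mul_mem_left _ (H2_L2_mem A))) ((idL A).mul_mem_left _ (H2_L3_mem A))
  · have : Q3 A = (-vf) * L1 A + (-vi) * L2 A + vc * L3 A := by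
      simp only [L1, L2, L3, Q3]; ring
    rw [SetLike.mem_coe, this]
    exact (idL A).add_mem ((idL A).add_mem ((idL A).mul_mem_left _ (H2_L1_mem A))
      ((idL A).mul_mem_left _ (H2_L2_mem A))) ((idL A).mul_mem_left _ (H2_L3_mem A))

lemma H2L3_I_le_J : idI A ≤ idJ A := by
  rw [idI, idJ]
  apply Ideal.span_mono
  intro y hy
  simp only [Set.mem_insert_iff, Set.mem_singleton_iff] at hy ⊢
  tauto

lemma H2L3_det_mem_J : detM A ∈ idJ A := Ideal.subset_span (by simp)

lemma H2L3_J_le : idJ A ≤ idI A ⊔ Ideal.span {detM A} := by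
  rw [idJ, Ideal.span_le]
  intro y hy
  simp only [Set.mem_insert_iff, Set.mem_singleton_iff] at hy
  rcases hy with rfl | rfl | rfl | rfl
  · exact (le_sup_left : idI A ≤ _) (Ideal.subset_span (by simp))
  · exact (le_sup_left : idI A ≤ _) (Ideal.subset_span (by simp))
  · exact (le_sup_left : idI A ≤ _) (Ideal.subset_span (by simp))
  · exact (le_sup_right : Ideal.span {detM A} ≤ _) (Ideal.subset_span (by simp))

/-- `I = J ∩ L`. -/
theorem H2L3_I_eq_J_inf_L : idI A = idJ A ⊓ idL A := by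
  apply le_antisymm (le_inf (H2L3_I_le_J A) (H2L3_I_le_L A))
  rintro x ⟨hxJ, hxL⟩
  obtain ⟨q, hq, y, hy, rfl⟩ := Submodule.mem_sup.mp (H2L3_J_le A hxJ)
  obtain ⟨t, rfl⟩ := Ideal.mem_span_singleton'.mp hy
  have h1 : t * detM A ∈ idL A := by
    have := (idL A).sub_mem hxL (H2L3_I_le_L A hq)
    simpa using this
  exact (idI A).add_mem hq (H2L3_mul_det_mem A (H2L3_mem_of_mul_det_mem A h1))

/-- `(I : J) = L`. -/
theorem H2L3_I_colon_J : (idI A).colon (idJ A : Set (D A)) = idL A := by
  apply le_antisymm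
  · intro x hx
    rw [Submodule.mem_colon] at hx
    have h1 := hx _ (H2L3_det_mem_J A)
    rw [smul_eq_mul] at h1
    exact H2L3_mem_of_mul_det_mem A (H2L3_I_le_L A h1)
  · intro x hx
    rw [Submodule.mem_colon]
    intro y hy
    rw [smul_eq_mul]
    obtain ⟨q, hq, z, hz, rfl⟩ := Submodule.mem_sup.mp (H2L3_J_le A hy)
    obtain ⟨t, rfl⟩ := Ideal.mem_span_singleton'.mp hz
    rw [mul_add]
    refine (idI A).add_mem ((idI A).mul_mem_left _ hq) ?_
    have : x * (t * detM A) = t * (x * detM A) := by ring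
    rw [this]
    exact (idI A).mul_mem_left _ (H2L3_mul_det_mem A hx)

end Groth.Agent.H2
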