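import Mathlib
import Groth.Agent.Lib.helper2.ArtinTate

set_option autoImplicit false
universe u

namespace Groth.Agent.H2

/-- In the spectrum of a Noetherian ring, if `{p}` is locally closed and `p < q` then `q` is
maximal. -/
theorem H2_isMaximal_of_isLocallyClosed_singleton {B : Type*} [CommRing B] [IsNoetherianRing B]
    (p q : PrimeSpectrum B) (hpq : p.asIdeal ≤ q.asIdeal) (hne : p ≠ q)
    (hp : IsLocallyClosed ({p} : Set (PrimeSpectrum B))) : q.asIdeal.IsMaximal := by
  obtain ⟨U, Z, hU, hZ, hUZ⟩ := hp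
  have hpU : p ∈ U := (hUZ ▸ Set.mem_singleton p : p ∈ U ∩ Z).1
  have hpZ : p ∈ Z := (hUZ ▸ Set.mem_singleton p : p ∈ U ∩ Z).2
  obtain ⟨_, ⟨_, ⟨f, rfl⟩, rfl⟩, hpf, hfU⟩ :=
    PrimeSpectrum.isBasis_basic_opens.exists_subset_of_mem_open hpU hU
  have hfp : f ∉ p.asIdeal := hpf
  have key : ∀ r : PrimeSpectrum B, p.asIdeal ≤ r.asIdeal → f ∉ r.asIdeal → r = p := by
    intro r hr hfr
    have h1 : r ∈ U := hfU hfr
    have h2 : r ∈ Z := by
      have : closure ({p} : Set (PrimeSpectrum B)) ⊆ Z :=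
        closure_minimal (Set.singleton_subset_iff.mpr hpZ) hZ
      apply this
      rw [← specializes_iff_mem_closure, ← PrimeSpectrum.le_iff_specializes]
      exact hr
    have : r ∈ ({p} : Set (PrimeSpectrum B)) := hUZ ▸ ⟨h1, h2⟩
    exact this
  let D := B ⧸ p.asIdeal
  let mk : B →+* D := Ideal.Quotient.mk p.asIdeal
  have hmk : Function.Surjective mk := Ideal.Quotient.mk_surjective
  have hf0 : mk f ≠ 0 := by
    intro h0
    exact hfp (Ideal.Quotient.eq_zero_iff_mem.mp h0)
  have hall : ∀ P : Ideal D, P.IsPrime → P ≠ ⊥ → mk f ∈ P := by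
    intro P hP hP0
    by_contra hfP
    have hr : (⟨P.comap mk, inferInstance⟩ : PrimeSpectrum B) = p := by
      apply key
      · intro b hb
        change mk b ∈ P
        rw [Ideal.Quotient.eq_zero_iff_mem.mpr hb]
        exact zero_mem _
      · exact hfP
    apply hP0
    rw [← Ideal.map_comap_of_surjective mk hmk P]
    have : P.comap mk = p.asIdeal := congrArg PrimeSpectrum.asIdeal hr
    rw [this]
    exact Ideal.map_quotient_self _
  have hker : RingHom.ker mk ≤ q.asIdeal := by
    rw [Ideal.mk_ker]; exact hpq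
  have hQprime : (q.asIdeal.map mk).IsPrime := Ideal.map_isPrime_of_surjective hmk hker
  have hcomap : (q.asIdeal.map mk).comap mk = q.asIdeal := by
    rw [Ideal.comap_map_of_surjective mk hmk]
    have : Ideal.comap mk ⊥ = p.asIdeal := by
      rw [← RingHom.ker_eq_comap_bot, Ideal.mk_ker]
    rw [this]
    exact sup_eq_left.mpr hpq
  have hQ0 : q.asIdeal.map mk ≠ ⊥ := by
    intro h0
    apply hne
    apply PrimeSpectrum.ext
    apply le_antisymm hpq
    rw [← hcomap, h0]
    intro b hb
    have : mk b = 0 := hb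
    exact Ideal.Quotient.eq_zero_iff_mem.mp this
  have hQmax : (q.asIdeal.map mk).IsMaximal :=
    H2_isMaximal_of_forall_mem (mk f) hf0 hall _ hQ0
  rw [← hcomap]
  exact Ideal.comap_isMaximal_of_surjective mk hmk

open AlgebraicGeometry in
/-- In a locally Noetherian scheme, if `{x}` is locally closed then every other point of its
closure is a closed point. -/
theorem H2_isClosed_singleton_of_mem_closure_of_isLocallyClosed (X : Scheme.{u})
    [IsLocallyNoetherian X] (x : X) (hx : IsLocallyClosed ({x} : Set X))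
    (y : X) (hy : y ∈ closure ({x} : Set X)) (hyx : y ≠ x) : IsClosed ({y} : Set X) := by
  rw [← closure_subset_iff_isClosed]
  intro w hw
  have hyw : y ⤳ w := specializes_iff_mem_closure.mpr hw
  have hxy : x ⤳ y := specializes_iff_mem_closure.mpr hy
  obtain ⟨_, ⟨V, hV, rfl⟩, hwV, -⟩ :=
    X.isBasis_affineOpens.exists_subset_of_mem_open (Set.mem_univ w) isOpen_univ
  have hyV : y ∈ V := hyw.mem_open V.2 hwV
  have hxV : x ∈ V := hxy.mem_open V.2 hyV
  have hN : IsNoetherianRing Γ(X, V) := IsLocallyNoetherian.component_noetherian ⟨V, hV⟩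
  have hrange : Set.range hV.fromSpec = V := hV.range_fromSpec
  have hemb : Topology.IsOpenEmbedding hV.fromSpec := hV.fromSpec.isOpenEmbedding
  obtain ⟨px, rfl⟩ : x ∈ Set.range hV.fromSpec := hrange ▸ hxV
  obtain ⟨py, rfl⟩ : y ∈ Set.range hV.fromSpec := hrange ▸ hyV
  obtain ⟨pw, rfl⟩ : w ∈ Set.range hV.fromSpec := hrange ▸ hwV
  have h1 : px ⤳ py := hemb.isInducing.specializes_iff.mp hxy
  have h2 : py ⤳ pw := hemb.isInducing.specializes_iff.mp hyw
  have hlc : IsLocallyClosed ({px} : Set (PrimeSpectrum Γ(X, V))) := by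
    have := hx.preimage hemb.continuous
    rwa [← Set.image_singleton, Set.preimage_image_eq _ hemb.injective] at this
  have hne : px ≠ py := fun h => hyx (by rw [h])
  have hmax : py.asIdeal.IsMaximal :=
    H2_isMaximal_of_isLocallyClosed_singleton px py
      ((PrimeSpectrum.le_iff_specializes px py).mpr h1) hne hlc
  have hle : py.asIdeal ≤ pw.asIdeal := (PrimeSpectrum.le_iff_specializes py pw).mpr h2
  have : py = pw := PrimeSpectrum.ext (hmax.eq_of_le pw.isPrime.ne_top hle)
  rw [this]
  exact Set.mem_singleton _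

/-- In a Noetherian quasi-sober space, a closed set all of whose points are closed is finite. -/
theorem H2_finite_of_isClosed_of_forall_isClosed_singleton {α : Type*} [TopologicalSpace α]
    [TopologicalSpace.NoetherianSpace α] [QuasiSober α] (F : Set α) (hF : IsClosed F)
    (h : ∀ y ∈ F, IsClosed ({y} : Set α)) : F.Finite := by
  obtain ⟨S, hSfin, hSc, hSi, hSU⟩ :=
    TopologicalSpace.NoetherianSpace.exists_finite_set_isClosed_irreducible hF
  rw [hSU]
  refine hSfin.sUnion fun t ht => ?_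
  obtain ⟨g, hg⟩ := QuasiSober.sober (hSi t ht) (hSc t ht)
  have hgt : g ∈ t := hg.mem
  have hgF : g ∈ F := hSU ▸ Set.mem_sUnion.mpr ⟨t, ht, hgt⟩
  have : t = {g} := by
    rw [← hg.def, (h g hgF).closure_eq]
  rw [this]
  exact Set.finite_singleton g

open AlgebraicGeometry in
/-- In a Noetherian scheme, if `{x}` is locally closed, then its closure is finite. -/
theorem H2_finite_closure_of_isLocallyClosed_singleton (X : Scheme.{u})
    [IsNoetherian X] (x : X) (hx : IsLocallyClosed ({x} : Set X)) :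
    (closure ({x} : Set X)).Finite := by
  obtain ⟨U, C, hU, hC, hUC⟩ := hx
  have hxU : x ∈ U := (hUC ▸ Set.mem_singleton x : x ∈ U ∩ C).1
  have hxC : x ∈ C := (hUC ▸ Set.mem_singleton x : x ∈ U ∩ C).2
  have hclC : closure ({x} : Set X) ⊆ C := closure_minimal (Set.singleton_subset_iff.mpr hxC) hC
  have hF : IsClosed (closure ({x} : Set X) ∩ Uᶜ) := isClosed_closure.inter hU.isClosed_compl
  have hfin : (closure ({x} : Set X) ∩ Uᶜ).Finite := by
    apply H2_finite_of_isClosed_of_forall_isClosed_singleton _ hF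
    intro y hy
    refine H2_isClosed_singleton_of_mem_closure_of_isLocallyClosed X x ⟨U, C, hU, hC, hUC⟩ y hy.1 ?_
    rintro rfl
    exact hy.2 hxU
  refine (hfin.union (Set.finite_singleton x)).subset ?_
  intro y hy
  by_cases hyU : y ∈ U
  · right
    have : y ∈ U ∩ C := ⟨hyU, hclC hy⟩
    rw [← hUC] at this
    exact this
  · left
    exact ⟨hy, hyU⟩

open AlgebraicGeometry in
/-- In a scheme, every point `z` of an open `U` specializes to a point `x₁ ∈ U` with `{x₁}`
locally closed. -/
theorem H2_exists_specializes_isLocallyClosed_singleton (X : Scheme.{u})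
    (z : X) (U : Set X) (hU : IsOpen U) (hzU : z ∈ U) :
    ∃ x₁ ∈ U, z ⤳ x₁ ∧ IsLocallyClosed ({x₁} : Set X) := by
  obtain ⟨_, ⟨V, hV, rfl⟩, hzV, hVU⟩ :=
    X.isBasis_affineOpens.exists_subset_of_mem_open hzU hU
  have hrange : Set.range hV.fromSpec = V := hV.range_fromSpec
  have hemb : Topology.IsOpenEmbedding hV.fromSpec := hV.fromSpec.isOpenEmbedding
  obtain ⟨pz, rfl⟩ : z ∈ Set.range hV.fromSpec := hrange ▸ hzV
  obtain ⟨m, hm, hpm⟩ := Ideal.exists_le_maximal pz.asIdeal pz.isPrime.ne_top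
  let pm : PrimeSpectrum Γ(X, V) := ⟨m, hm.isPrime⟩
  let x₁ := hV.fromSpec pm
  have hspec : hV.fromSpec pz ⤳ x₁ :=
    ((PrimeSpectrum.le_iff_specializes pz pm).mp hpm).map hemb.continuous
  have hx₁V : x₁ ∈ V := by
    change x₁ ∈ (V : Set X)
    rw [← hrange]; exact Set.mem_range_self pm
  refine ⟨x₁, hVU hx₁V, hspec, V, closure {x₁}, V.2, isClosed_closure, ?_⟩
  apply subset_antisymm
  · rintro _ rfl
    exact ⟨hx₁V, subset_closure rfl⟩
  · rintro w ⟨hwV, hw⟩
    obtain ⟨pw, rfl⟩ : w ∈ Set.range hV.fromSpec := hrange ▸ hwV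
    have h1 : pm ⤳ pw := hemb.isInducing.specializes_iff.mp (specializes_iff_mem_closure.mpr hw)
    have hle : m ≤ pw.asIdeal := (PrimeSpectrum.le_iff_specializes pm pw).mpr h1
    have : pm = pw := PrimeSpectrum.ext (hm.eq_of_le pw.isPrime.ne_top hle)
    rw [← this]
    exact Set.mem_singleton _

end Groth.Agent.H2
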