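import Mathlib

set_option autoImplicit false
universe u
open CategoryTheory AlgebraicGeometry TopologicalSpace

namespace Groth.Agent.H2

/-- In a space where every point has a Noetherian open neighbourhood, every subset of a compact
set is compact. -/
theorem H2_isCompact_of_subset_of_locNoeth {X : Type u} [TopologicalSpace X]
    (hX : ∀ x : X, ∃ U : Opens X, x ∈ U ∧ NoetherianSpace U) {K V : Set X}
    (hK : IsCompact K) (hV : V ⊆ K) : IsCompact V := by
  classical
  choose N hxN hN using hX
  obtain ⟨t, ht⟩ := hK.elim_finite_subcover (fun x : X => (N x : Set X)) (fun x => (N x).isOpen)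
    (fun x _ => Set.mem_iUnion.mpr ⟨x, hxN x⟩)
  have hVeq : V = ⋃ x ∈ t, (V ∩ (N x : Set X)) := by
    ext y
    simp only [Set.mem_iUnion, Set.mem_inter_iff, exists_and_left, exists_prop]
    constructor
    · intro hy
      have := ht (hV hy)
      simp only [Set.mem_iUnion, exists_prop] at this
      exact ⟨hy, this⟩
    · exact fun h => h.1
  rw [hVeq]
  apply t.isCompact_biUnion
  intro x _
  exact (noetherianSpace_set_iff _).mp (hN x) _ Set.inter_subset_right

/-- every compact subset of a scheme is contained in a compact open subset -/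
theorem H2_exists_compact_open_superset (Z : Scheme.{u}) {K : Set Z} (hK : IsCompact K) :
    ∃ W : Z.Opens, IsCompact (W : Set Z) ∧ K ⊆ W := by
  classical
  obtain ⟨t, ht⟩ := hK.elim_finite_subcover (fun W : Z.affineOpens => ((W : Z.Opens) : Set Z))
    (fun W => (W : Z.Opens).isOpen)
    (fun x _ => by
      have : x ∈ (⨆ i : Z.affineOpens, (i : Z.Opens)) := by
        rw [iSup_affineOpens_eq_top]; trivial
      rw [Opens.mem_iSup] at this
      obtain ⟨W, hW⟩ := this
      exact Set.mem_iUnion.mpr ⟨W, hW⟩)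
  refine ⟨⨆ W ∈ t, (W : Z.Opens), ?_, ?_⟩
  · have : ((⨆ W ∈ t, (W : Z.Opens) : Z.Opens) : Set Z) = ⋃ W ∈ t, ((W : Z.Opens) : Set Z) := by
      simp
    rw [this]
    apply t.isCompact_biUnion
    intro W _
    exact W.2.isCompact
  · intro x hx
    have := ht hx
    simp only [Set.mem_iUnion, exists_prop] at this
    obtain ⟨W, hWt, hxW⟩ := this
    simp only [SetLike.mem_coe, Opens.mem_iSup]
    exact ⟨W, hWt, hxW⟩

theorem H2_quasiCompact_of_comp_of_locNoeth {X Y Z : Scheme.{u}} (f : X ⟶ Y) (g : Y ⟶ Z)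
    [QuasiCompact (f ≫ g)]
    (hX : ∀ x : X, ∃ U : X.Opens, x ∈ U ∧ NoetherianSpace U) : QuasiCompact f := by
  constructor
  intro U hU hUc
  obtain ⟨W, hWc, hW⟩ := H2_exists_compact_open_superset Z (hUc.image g.continuous)
  have h1 : IsCompact ((f ≫ g) ⁻¹' (W : Set Z)) :=
    QuasiCompact.isCompact_preimage _ W.isOpen hWc
  refine H2_isCompact_of_subset_of_locNoeth hX h1 ?_
  intro x hx
  simp only [Set.mem_preimage] at hx ⊢
  apply hW
  exact ⟨f x, hx, by simp⟩

end Groth.Agent.H2
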