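import Mathlib

universe u v u' v'

open CategoryTheory CategoryTheory.Limits CategoryTheory.Category

namespace Groth.Agent.H2

variable {D : Type u} [Category.{v} D] (P : ObjectProperty D) (S : MorphismProperty D)

/-- `S ∩ Arrows(P)` inherits the right calculus of fractions when `P` has right `S`-resolutions. -/
theorem H2_inverseImage_hasRightCalculusOfFractions [S.HasRightCalculusOfFractions]
    (hP : ∀ X : D, ∃ (X' : D) (s : X' ⟶ X), P X' ∧ S s) :
    (S.inverseImage P.ι).HasRightCalculusOfFractions where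
  toIsMultiplicative := inferInstance
  exists_rightFraction X Y φ := by
    obtain ⟨ψ, hψ⟩ := (MorphismProperty.LeftFraction.mk (W := S) (P.ι.map φ.f) (P.ι.map φ.s)
      φ.hs).exists_rightFraction
    obtain ⟨Z', u, hZ', hu⟩ := hP ψ.X'
    refine ⟨{ X' := ⟨Z', hZ'⟩
              s := ObjectProperty.homMk (u ≫ ψ.s)
              hs := S.comp_mem _ _ hu ψ.hs
              f := ObjectProperty.homMk (u ≫ ψ.f) }, ?_⟩
    apply P.ι.map_injective
    simpa using congrArg (fun t => u ≫ t) hψ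
  ext X Y Y' f₁ f₂ s hs h := by
    obtain ⟨Z, t, ht, htf⟩ := MorphismProperty.HasRightCalculusOfFractions.ext
      (P.ι.map f₁) (P.ι.map f₂) (P.ι.map s) hs (by rw [← Functor.map_comp, h, Functor.map_comp])
    obtain ⟨Z', u, hZ', hu⟩ := hP Z
    refine ⟨⟨Z', hZ'⟩, ObjectProperty.homMk (u ≫ t), S.comp_mem _ _ hu ht, ?_⟩
    apply P.ι.map_injective
    simpa using congrArg (fun t => u ≫ t) htf

set_option backward.isDefEq.respectTransparency false in
set_option backward.defeqAttrib.useBackward true in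
/-- Localization of a full subcategory with right resolutions. -/
theorem H2_isLocalization_of_right_resolutions [S.HasRightCalculusOfFractions]
    {E : Type u'} [Category.{v'} E] (Q : D ⥤ E) [Q.IsLocalization S]
    (hP : ∀ X : D, ∃ (X' : D) (s : X' ⟶ X), P X' ∧ S s) :
    (P.ι ⋙ Q).IsLocalization (S.inverseImage P.ι) := by
  have hcalc := H2_inverseImage_hasRightCalculusOfFractions P S hP
  let S' := S.inverseImage P.ι
  let L₁ := S'.Q
  have hinv : S'.IsInvertedBy (P.ι ⋙ Q) := fun X Y f hf => Localization.inverts Q S _ hf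
  let F : S'.Localization ⥤ E := Localization.lift (P.ι ⋙ Q) hinv L₁
  let e : L₁ ⋙ F ≅ P.ι ⋙ Q := Localization.fac (P.ι ⋙ Q) hinv L₁
  have : L₁.EssSurj := Localization.essSurj L₁ S'
  have : Q.EssSurj := Localization.essSurj Q S
  have hES : F.EssSurj := ⟨fun Y => by
    obtain ⟨X', s, hX', hs⟩ := hP (Q.objPreimage Y)
    have := Localization.inverts Q S s hs
    exact ⟨L₁.obj ⟨X', hX'⟩, ⟨e.app ⟨X', hX'⟩ ≪≫ asIso (Q.map s) ≪≫ Q.objObjPreimageIso Y⟩⟩⟩
  have hFull : F.Full := by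
    refine F.full_of_comp_essSurj L₁ (fun X₁ X₂ φ => ?_)
    obtain ⟨φ', hφ'⟩ : ∃ φ' : Q.obj X₁.obj ⟶ Q.obj X₂.obj,
        φ = e.hom.app X₁ ≫ φ' ≫ e.inv.app X₂ :=
      ⟨e.inv.app X₁ ≫ φ ≫ e.hom.app X₂, by simp⟩
    obtain ⟨ρ, hρ⟩ := Localization.exists_rightFraction Q S φ'
    obtain ⟨X'', t, hX'', ht⟩ := hP ρ.X'
    let g : S'.RightFraction X₁ X₂ :=
      { X' := ⟨X'', hX''⟩
        s := ObjectProperty.homMk (t ≫ ρ.s)
        hs := S.comp_mem _ _ ht ρ.hs
        f := ObjectProperty.homMk (t ≫ ρ.f) }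
    have := Localization.inverts L₁ S' g.s g.hs
    refine ⟨g.map L₁ (Localization.inverts _ _), ?_⟩
    rw [← cancel_epi (F.map (L₁.map g.s)), ← Functor.map_comp,
      MorphismProperty.RightFraction.map_s_comp_map, hφ', hρ]
    have n1 := e.hom.naturality g.s
    have n2 := e.hom.naturality g.f
    dsimp at n1 n2
    rw [reassoc_of% n1]
    have h3 : Q.map (t ≫ ρ.s) ≫ ρ.map Q (Localization.inverts Q S) = Q.map (t ≫ ρ.f) := by
      rw [Functor.map_comp, assoc, MorphismProperty.RightFraction.map_s_comp_map,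
        ← Functor.map_comp]
    have h3' : Q.map g.s.hom ≫ ρ.map Q (Localization.inverts Q S) = Q.map g.f.hom := h3
    rw [reassoc_of% h3', ← reassoc_of% n2]
    simp
  have hFaith : F.Faithful := by
    refine F.faithful_of_comp_essSurj L₁ (fun X₁ X₂ f g hfg => ?_)
    obtain ⟨ρ₁, rfl⟩ := Localization.exists_rightFraction L₁ S' f
    obtain ⟨ρ₂, rfl⟩ := Localization.exists_rightFraction L₁ S' g
    obtain ⟨ψ, hψ⟩ := (MorphismProperty.LeftFraction.mk (W := S') ρ₁.s ρ₂.s
      ρ₂.hs).exists_rightFraction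
    dsimp at hψ
    -- common denominator u
    let u := ψ.s ≫ ρ₁.s
    have hu : S' u := S'.comp_mem _ _ ψ.hs ρ₁.hs
    have iu := Localization.inverts L₁ S' u hu
    have i1 := Localization.inverts L₁ S' ρ₁.s ρ₁.hs
    have i2 := Localization.inverts L₁ S' ρ₂.s ρ₂.hs
    have e1 : ρ₁.map L₁ (Localization.inverts _ _) = inv (L₁.map u) ≫ L₁.map (ψ.s ≫ ρ₁.f) := by
      rw [← cancel_epi (L₁.map u), IsIso.hom_inv_id_assoc]
      dsimp only [u]
      rw [Functor.map_comp, assoc, MorphismProperty.RightFraction.map_s_comp_map,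
        ← Functor.map_comp]
    have e2 : ρ₂.map L₁ (Localization.inverts _ _) = inv (L₁.map u) ≫ L₁.map (ψ.f ≫ ρ₂.f) := by
      rw [← cancel_epi (L₁.map u), IsIso.hom_inv_id_assoc]
      dsimp only [u]
      rw [hψ, Functor.map_comp, assoc, MorphismProperty.RightFraction.map_s_comp_map,
        ← Functor.map_comp]
    rw [e1, e2] at hfg ⊢
    congr 1
    replace hfg : F.map (L₁.map (ψ.s ≫ ρ₁.f)) = F.map (L₁.map (ψ.f ≫ ρ₂.f)) := by
      have := congrArg (fun z => F.map (L₁.map u) ≫ z) hfg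
      simpa only [← Functor.map_comp, IsIso.hom_inv_id_assoc] using this
    have n1 := e.hom.naturality (ψ.s ≫ ρ₁.f)
    have n2 := e.hom.naturality (ψ.f ≫ ρ₂.f)
    dsimp at n1 n2
    have h6 : Q.map (ψ.s.hom ≫ ρ₁.f.hom) = Q.map (ψ.f.hom ≫ ρ₂.f.hom) := by
      rw [← cancel_epi (e.hom.app ψ.X'), ← n1, ← n2, hfg]
    rw [MorphismProperty.map_eq_iff_precomp Q S] at h6
    obtain ⟨Z', t, ht, htt⟩ := h6
    obtain ⟨Z'', v, hZ'', hv⟩ := hP Z'
    let w : (⟨Z'', hZ''⟩ : P.FullSubcategory) ⟶ ψ.X' := ObjectProperty.homMk (v ≫ t)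
    have hw : S' w := S.comp_mem _ _ hv ht
    have iw := Localization.inverts L₁ S' w hw
    rw [← cancel_epi (L₁.map w), ← Functor.map_comp, ← Functor.map_comp]
    congr 1
    apply P.ι.map_injective
    simpa [w] using congrArg (fun z => v ≫ z) htt
  have : F.IsEquivalence := { }
  exact Functor.IsLocalization.of_equivalence_target L₁ S' (P.ι ⋙ Q) F.asEquivalence e

end Groth.Agent.H2
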