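import Mathlib

set_option autoImplicit false
universe v u v' u'
open CategoryTheory CategoryTheory.Limits CategoryTheory.Pretriangulated

namespace Groth.Agent.H2

/-- For a localization `Q : D ⥤ E` of a pretriangulated category at a class `S` compatible with the
triangulation (and with a left calculus of fractions), and a distinguished triangle `T`:
`Q(T.obj₃) = 0` iff `Q(T.mor₁)` is an isomorphism. -/
theorem H2_locTri_isZero_iff_isIso {D : Type u} [Category.{v} D] [Preadditive D] [HasZeroObject D]
    [HasShift D ℤ] [∀ n : ℤ, (shiftFunctor D n).Additive] [Pretriangulated D]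
    (S : MorphismProperty D) [S.HasLeftCalculusOfFractions] [S.IsCompatibleWithTriangulation]
    {E : Type u'} [Category.{v'} E] (Q : D ⥤ E) [Q.IsLocalization S]
    (T : Triangle D) (hT : T ∈ distinguishedTriangles) :
    IsZero (Q.obj T.obj₃) ↔ IsIso (Q.map T.mor₁) := by
  letI : Preadditive E := Localization.preadditive Q S
  haveI : Q.Additive := Localization.functor_additive Q S
  haveI : HasZeroObject E := Q.hasZeroObject_of_additive
  letI : HasShift E ℤ := HasShift.localized Q S ℤ
  letI : Q.CommShift ℤ := Functor.CommShift.localized Q S ℤ
  haveI : ∀ n : ℤ, (shiftFunctor E n).Additive := fun n => by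
    rw [Localization.functor_additive_iff Q S]
    exact Functor.additive_of_iso (Q.commShiftIso n)
  letI : Pretriangulated E := Triangulated.Localization.pretriangulated Q S
  haveI : Q.IsTriangulated := Triangulated.Localization.isTriangulated_functor Q S
  exact Triangle.isZero₃_iff_isIso₁ _ (Q.map_distinguished _ hT)

end Groth.Agent.H2
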