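import Mathlib

set_option autoImplicit false

namespace Groth.Agent.H2
open LocalSubring

variable {R : Type*} [Field R]

lemma H2_mem_ofPrime_iff (A : Subring R) (P : Ideal A) [P.IsPrime] (x : R) :
    x ∈ (ofPrime A P).toSubring ↔ ∃ a s : A, s ∉ P ∧ x = (a : R) / (s : R) := by
  rw [ofPrime, LocalSubring.range_toSubring]
  constructor
  · rintro ⟨y, rfl⟩
    obtain ⟨a, s, rfl⟩ := IsLocalization.exists_mk'_eq P.primeCompl y
    refine ⟨a, s, s.2, ?_⟩
    rw [IsLocalization.lift_mk']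
    simp [div_eq_mul_inv, IsUnit.coe_liftRight]
  · rintro ⟨a, s, hs, rfl⟩
    refine ⟨IsLocalization.mk' _ a (⟨s, hs⟩ : P.primeCompl), ?_⟩
    rw [IsLocalization.lift_mk']
    simp [div_eq_mul_inv, IsUnit.coe_liftRight]

lemma H2_isUnit_subring_iff (E : Subring R) (x : E) :
    IsUnit x ↔ (x : R) ≠ 0 ∧ (x : R)⁻¹ ∈ E := by
  constructor
  · rintro ⟨u, rfl⟩
    have h1 : ((u : E) : R) * (((u⁻¹ : Eˣ) : E) : R) = 1 := by
      have := congrArg Subtype.val u.mul_inv
      rw [Subring.coe_mul] at this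
      exact this
    have hne : ((u : E) : R) ≠ 0 := left_ne_zero_of_mul_eq_one h1
    refine ⟨hne, ?_⟩
    have : ((u : E) : R)⁻¹ = (((u⁻¹ : Eˣ) : E) : R) := by
      rw [inv_eq_of_mul_eq_one_right h1]
    rw [this]; exact Subtype.property _
  · rintro ⟨hne, hinv⟩
    refine isUnit_iff_exists_inv.mpr ⟨⟨_, hinv⟩, ?_⟩
    ext
    simp [hne]

/-- trace of the maximal ideal of a local subring on a smaller subring -/
noncomputable abbrev H2tr (E : Subring R) (D : LocalSubring R) (hE : E ≤ D.toSubring) : Ideal E :=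
  (IsLocalRing.maximalIdeal D.toSubring).comap (Subring.inclusion hE)

lemma H2_mem_tr (E : Subring R) (D : LocalSubring R) (hE : E ≤ D.toSubring) (a : E) :
    a ∈ H2tr E D hE ↔ ¬ ((a : R) ≠ 0 ∧ (a : R)⁻¹ ∈ D.toSubring) := by
  rw [H2tr, Ideal.mem_comap, IsLocalRing.mem_maximalIdeal, mem_nonunits_iff,
    H2_isUnit_subring_iff]
  rfl

lemma H2_mem_prime_iff (A : Subring R) (P : Ideal A) [P.IsPrime] (a : A) :
    a ∈ P ↔ ¬ ((a : R) ≠ 0 ∧ (a : R)⁻¹ ∈ (ofPrime A P).toSubring) := by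
  constructor
  · rintro ha ⟨hne, hinv⟩
    rw [H2_mem_ofPrime_iff] at hinv
    obtain ⟨b, s, hs, e⟩ := hinv
    have hs0 : (s : R) ≠ 0 := by
      intro h0
      apply hs
      have : s = 0 := Subtype.ext h0
      rw [this]; exact zero_mem _
    have : (s : R) = (a : R) * (b : R) := by
      field_simp at e
      rw [e]
    have : s = a * b := Subtype.ext (by simpa using this)
    apply hs
    rw [this]
    exact Ideal.mul_mem_right _ _ ha
  · intro h
    by_contra ha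
    apply h
    have hne : (a : R) ≠ 0 := by
      intro h0
      apply ha
      have : a = 0 := Subtype.ext h0
      rw [this]; exact zero_mem _
    refine ⟨hne, ?_⟩
    rw [H2_mem_ofPrime_iff]
    exact ⟨1, a, ha, by simp⟩

lemma H2_tr_ofPrime (A : Subring R) (P : Ideal A) [P.IsPrime] :
    H2tr A (ofPrime A P) (le_ofPrime A P) = P := by
  ext a
  rw [H2_mem_tr, H2_mem_prime_iff A P]

lemma H2_ofPrime_congr (A : Subring R) (P P' : Ideal A) [P.IsPrime] [P'.IsPrime] (h : P = P') :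
    ofPrime A P = ofPrime A P' := by
  subst h; rfl

/-- L1 -/
lemma H2_ofPrime_tr_le (A : Subring R) (D : LocalSubring R) (hA : A ≤ D.toSubring) :
    ofPrime A (H2tr A D hA) ≤ D := by
  have hsub : (ofPrime A (H2tr A D hA)).toSubring ≤ D.toSubring := by
    intro x hx
    rw [H2_mem_ofPrime_iff] at hx
    obtain ⟨a, s, hs, rfl⟩ := hx
    rw [H2_mem_tr, not_not] at hs
    rw [div_eq_mul_inv]
    exact D.toSubring.mul_mem (hA a.2) hs.2
  refine ⟨hsub, ⟨fun x hx => ?_⟩⟩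
  rw [H2_isUnit_subring_iff] at hx ⊢
  obtain ⟨hne, hinv⟩ := hx
  change (x : R) ≠ 0 at hne
  change (x : R)⁻¹ ∈ D.toSubring at hinv
  refine ⟨hne, ?_⟩
  obtain ⟨a, s, hs, e⟩ := (H2_mem_ofPrime_iff _ _ _).mp x.2
  rw [H2_mem_ofPrime_iff]
  have hs' := hs
  rw [H2_mem_tr, not_not] at hs'
  have ha0 : (a : R) ≠ 0 := by
    intro h0; rw [e, h0, zero_div] at hne; exact hne rfl
  refine ⟨s, a, ?_, by rw [e, inv_div]⟩
  rw [H2_mem_tr, not_not]
  refine ⟨ha0, ?_⟩
  have : (a : R)⁻¹ = (x : R)⁻¹ * (s : R)⁻¹ := by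
    have hs0 := hs'.1
    rw [e, inv_div]; field_simp
  rw [this]
  exact D.toSubring.mul_mem hinv hs'.2

/-- L2 -/
lemma H2_tr_eq_of_le (A : Subring R) (P : Ideal A) [P.IsPrime] (D : LocalSubring R)
    (h : ofPrime A P ≤ D) (hA : A ≤ D.toSubring) : H2tr A D hA = P := by
  ext a
  rw [H2_mem_tr, H2_mem_prime_iff A P]
  obtain ⟨hsub, hloc⟩ := h
  refine not_congr (and_congr_right fun hne => ⟨fun hinv => ?_, fun hinv => hsub hinv⟩)
  have ha : (a : R) ∈ (ofPrime A P).toSubring := le_ofPrime A P a.2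
  have hu : IsUnit (Subring.inclusion hsub ⟨a, ha⟩) := by
    rw [H2_isUnit_subring_iff]; exact ⟨hne, hinv⟩
  have := hloc.map_nonunit _ hu
  rw [H2_isUnit_subring_iff] at this
  exact this.2

lemma H2_tr_eq_of_eq (A : Subring R) (P : Ideal A) [P.IsPrime] (D : LocalSubring R)
    (h : D = ofPrime A P) (hA : A ≤ D.toSubring) : H2tr A D hA = P :=
  H2_tr_eq_of_le A P D h.ge hA

/-- L5 -/
lemma H2_ofPrime_mono (A E : Subring R) (hAE : A ≤ E) (P : Ideal A) [P.IsPrime]
    (P' : Ideal E) [P'.IsPrime] (hP : P = P'.comap (Subring.inclusion hAE)) :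
    (ofPrime A P).toSubring ≤ (ofPrime E P').toSubring := by
  intro x hx
  rw [H2_mem_ofPrime_iff] at hx ⊢
  obtain ⟨a, s, hs, rfl⟩ := hx
  refine ⟨Subring.inclusion hAE a, Subring.inclusion hAE s, ?_, rfl⟩
  rw [hP] at hs
  exact hs

lemma H2_tr_comap (A E : Subring R) (hAE : A ≤ E) (D : LocalSubring R) (hE : E ≤ D.toSubring) :
    (H2tr E D hE).comap (Subring.inclusion hAE) = H2tr A D (hAE.trans hE) := by
  ext a
  rw [Ideal.mem_comap, H2_mem_tr, H2_mem_tr]
  rfl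

end Groth.Agent.H2
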