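import Mathlib
import Groth.Prelude.Def_W4c3perfectstacksMV

/-! Helper lemmas for Mayer–Vietoris squares of triangulated categories (helper2). -/

set_option autoImplicit false
universe v u
open CategoryTheory CategoryTheory.Limits CategoryTheory.Pretriangulated
open W4c3perfectstacks W4c3perfectstacks.MVSq

namespace Groth.Agent.H2

section general

variable {C D : Type*} [Category C] [Category D]

/-- A right adjoint sends zero objects to zero objects. -/
lemma H2_isZero_rightAdjoint [HasZeroMorphisms C] [HasZeroMorphisms D]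
    {F : C ⥤ D} {G : D ⥤ C} (adj : F ⊣ G) {Y : D} (hY : IsZero Y) : IsZero (G.obj Y) := by
  rw [IsZero.iff_id_eq_zero]
  apply (adj.homEquiv _ _).symm.injective
  exact hY.eq_of_tgt _ _

/-- Morphisms into `G.obj Y` vanish as soon as `F` kills the source. -/
lemma H2_hom_rightAdjoint_eq_zero [HasZeroMorphisms C] [HasZeroMorphisms D]
    {F : C ⥤ D} {G : D ⥤ C} (adj : F ⊣ G) {X : C} (hX : IsZero (F.obj X)) {Y : D}
    (g : X ⟶ G.obj Y) : g = 0 := by
  have h0 : (adj.homEquiv X Y).symm g = (adj.homEquiv X Y).symm 0 := hX.eq_of_src _ _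
  exact (adj.homEquiv X Y).symm.injective h0

end general

section tri

variable {C : Type*} [Category C] [Preadditive C] [HasZeroObject C] [HasShift C ℤ]
  [∀ n : ℤ, (shiftFunctor C n).Additive] [Pretriangulated C]

/-- If `A` and `A⟦1⟧` have no nonzero maps to `T.obj₃`, composing with `T.mor₁` is bijective on
maps out of `A`. -/
lemma H2_bijective_comp_mor₁ (T : Triangle C) (hT : T ∈ distTriang C) (A : C)
    (h0 : ∀ g : A ⟶ T.obj₃, g = 0) (h1 : ∀ g : A⟦(1 : ℤ)⟧ ⟶ T.obj₃, g = 0) :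
    Function.Bijective (fun g : A ⟶ T.obj₁ => g ≫ T.mor₁) := by
  constructor
  · intro g₁ g₂ h
    have h' : (g₁ - g₂) ≫ T.mor₁ = 0 := by
      rw [Preadditive.sub_comp]; exact sub_eq_zero.2 h
    have h'' : (g₁ - g₂)⟦(1 : ℤ)⟧' ≫ T.mor₁⟦(1 : ℤ)⟧' = 0 := by
      rw [← Functor.map_comp, h', Functor.map_zero]
    obtain ⟨x, hx⟩ := Triangle.coyoneda_exact₁ T hT _ h''
    rw [h1 x, Limits.zero_comp] at hx
    have : g₁ - g₂ = 0 := (shiftFunctor C (1 : ℤ)).map_injective (by rw [hx, Functor.map_zero])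
    exact sub_eq_zero.1 this
  · intro g
    obtain ⟨x, hx⟩ := Triangle.coyoneda_exact₂ T hT g (h0 _)
    exact ⟨x, hx.symm⟩

/-- A functor commuting with shifts and preserving zero morphisms kills shifts of objects it kills. -/
lemma H2_isZero_map_shift {D : Type*} [Category D] [Preadditive D] [HasShift D ℤ]
    [∀ n : ℤ, (shiftFunctor D n).Additive]
    (F : C ⥤ D) [F.CommShift ℤ] {X : C} (h : IsZero (F.obj X)) (n : ℤ) :
    IsZero (F.obj (X⟦n⟧)) :=
  IsZero.of_iso ((shiftFunctor D n).map_isZero h) ((F.commShiftIso n).app X)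

end tri

section mv

variable {S S' R R' : Type u} [Category.{v} S] [Category.{v} S'] [Category.{v} R] [Category.{v} R']
    [Preadditive S] [Preadditive S'] [Preadditive R] [Preadditive R']
    [HasZeroObject S] [HasZeroObject S'] [HasZeroObject R] [HasZeroObject R']
    [HasShift S ℤ] [HasShift S' ℤ] [HasShift R ℤ] [HasShift R' ℤ]
    [∀ n : ℤ, (shiftFunctor S n).Additive] [∀ n : ℤ, (shiftFunctor S' n).Additive]
    [∀ n : ℤ, (shiftFunctor R n).Additive] [∀ n : ℤ, (shiftFunctor R' n).Additive]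
    [Pretriangulated S] [Pretriangulated S'] [Pretriangulated R] [Pretriangulated R']
    (q : W4c3perfectstacks.MVSq S S' R R')
    [q.jst.CommShift ℤ] [q.fst.CommShift ℤ] [q.jpst.CommShift ℤ] [q.gst.CommShift ℤ]
    [q.jst.IsTriangulated] [q.fst.IsTriangulated] [q.jpst.IsTriangulated] [q.gst.IsTriangulated]

include q in
/-- `j^* f_* M = 0` when `j'^* M = 0` (base change). -/
lemma H2_mv_isZero_jst_fls (hbc : ∀ M : S', IsIso (q.bcApp M)) {M : S'}
    (hM : IsZero (q.jpst.obj M)) : IsZero (q.jst.obj (q.fls.obj M)) := by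
  haveI := hbc M
  exact IsZero.of_iso (H2_isZero_rightAdjoint q.adjG hM) (asIso (q.bcApp M))

/-- `j'^* f^* K = 0` when `j^* K = 0`. -/
lemma H2_mv_isZero_jpst_fst {K : S} (hK : IsZero (q.jst.obj K)) :
    IsZero (q.jpst.obj (q.fst.obj K)) :=
  IsZero.of_iso (q.gst.map_isZero hK) (q.e.symm.app K)

/-- maps from an object killed by `j'^*` to `f^* j_* P` vanish (exchange iso). -/
lemma H2_mv_hom_fst_jls_zero (hbc2 : ∀ P : R, IsIso (q.bc2App P)) {A : S'}
    (hA : IsZero (q.jpst.obj A)) (P : R) (g : A ⟶ q.fst.obj (q.jls.obj P)) : g = 0 := by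
  haveI := hbc2 P
  have h : g ≫ q.bc2App P = 0 := H2_hom_rightAdjoint_eq_zero q.adjJp hA _
  rw [← cancel_mono (q.bc2App P), h, Limits.zero_comp]

/-- The fibre `K` of the unit `N ⟶ j_* j^* N` is killed by `j^*`. -/
lemma H2_mv_isZero_jst_fibre (hJ : IsIso q.adjJ.counit) {N K : S} (k : K ⟶ N)
    (w : q.jls.obj (q.jst.obj N) ⟶ K⟦(1 : ℤ)⟧)
    (hT : Triangle.mk k (q.adjJ.unit.app N) w ∈ distTriang S) : IsZero (q.jst.obj K) := by
  have hd := q.jst.map_distinguished _ hT
  refine (Triangle.isZero₁_iff_isIso₂ _ hd).2 ?_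
  have h1 : q.jst.map (q.adjJ.unit.app N) ≫ q.adjJ.counit.app (q.jst.obj N) = 𝟙 _ :=
    q.adjJ.left_triangle_components N
  haveI : IsIso (q.adjJ.counit.app (q.jst.obj N)) := inferInstance
  have h2 : q.jst.map (q.adjJ.unit.app N) = inv (q.adjJ.counit.app (q.jst.obj N)) := by
    rw [← cancel_mono (q.adjJ.counit.app (q.jst.obj N)), h1, IsIso.inv_hom_id]
  change IsIso (q.jst.map (q.adjJ.unit.app N))
  rw [h2]; infer_instance

/-- If the unit of `f` at `K` is invertible then `f^*` is bijective on maps into `K`. -/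
lemma H2_mv_fst_map_bijective_of_isIso_unit {K : S} (hK : IsIso (q.adjF.unit.app K)) (A : S) :
    Function.Bijective (fun g : A ⟶ K => q.fst.map g) := by
  have h : (fun g : A ⟶ K => q.fst.map g) =
      (q.adjF.homEquiv A (q.fst.obj K)).symm ∘ (fun g : A ⟶ K => g ≫ q.adjF.unit.app K) := by
    funext g
    simp [Adjunction.homEquiv_counit]
  rw [h]
  refine (Equiv.bijective _).comp ⟨fun g₁ g₂ h => ?_, fun g => ⟨g ≫ inv (q.adjF.unit.app K), ?_⟩⟩
  · exact (cancel_mono (q.adjF.unit.app K)).1 h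
  · simp

/-- maps from `K⟦n⟧`, with `j^* K = 0`, to `f_* f^* j_* P` vanish. -/
lemma H2_mv_hom_fls_fst_jls_zero (hbc2 : ∀ P : R, IsIso (q.bc2App P)) {K : S}
    (hK : IsZero (q.jst.obj K)) (n : ℤ) (P : R)
    (s : K⟦n⟧ ⟶ q.fls.obj (q.fst.obj (q.jls.obj P))) : s = 0 := by
  have h : (q.adjF.homEquiv _ _).symm s = 0 :=
    H2_mv_hom_fst_jls_zero q hbc2 (H2_mv_isZero_jpst_fst q (H2_isZero_map_shift q.jst hK n)) P _
  have h' : s = q.adjF.homEquiv _ _ ((q.adjF.homEquiv _ _).symm s) := by simp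
  haveI : q.fls.IsRightAdjoint := q.adjF.isRightAdjoint
  rw [h', h, Adjunction.homEquiv_unit, Functor.map_zero, Limits.comp_zero]

/-- The image under `f_* f^*` of the fibre triangle of the unit of `j`, with `f_* f^* K` replaced
by `K` (the unit of `f` being invertible on `K`). -/
lemma H2_mv_fibre_triangle {N K : S} (k : K ⟶ N) (w : q.jls.obj (q.jst.obj N) ⟶ K⟦(1 : ℤ)⟧)
    (hT : Triangle.mk k (q.adjJ.unit.app N) w ∈ distTriang S)
    (hK : IsIso (q.adjF.unit.app K)) :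
    ∃ w'' : q.fls.obj (q.fst.obj (q.jls.obj (q.jst.obj N))) ⟶ K⟦(1 : ℤ)⟧,
      Triangle.mk (k ≫ q.adjF.unit.app N) (q.fls.map (q.fst.map (q.adjJ.unit.app N))) w'' ∈
        distTriang S := by
  letI : q.fls.CommShift ℤ := q.adjF.rightAdjointCommShift ℤ
  haveI : q.adjF.CommShift ℤ := q.adjF.commShift_of_leftAdjoint ℤ
  haveI : q.fls.IsTriangulated := q.adjF.isTriangulated_rightAdjoint
  haveI := hK
  let eK : K ≅ q.fls.obj (q.fst.obj K) := asIso (q.adjF.unit.app K)
  have h1 := q.fls.map_distinguished _ (q.fst.map_distinguished _ hT)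
  let T := q.fls.mapTriangle.obj (q.fst.mapTriangle.obj (Triangle.mk k (q.adjJ.unit.app N) w))
  let m₃ : q.fls.obj (q.fst.obj (q.jls.obj (q.jst.obj N))) ⟶
      (q.fls.obj (q.fst.obj K))⟦(1 : ℤ)⟧ := T.mor₃
  refine ⟨m₃ ≫ (shiftFunctor S (1 : ℤ)).map eK.inv, isomorphic_distinguished _ h1 _
    (Triangle.isoMk _ _ eK (Iso.refl _) (Iso.refl _) ?_ ?_ ?_)⟩
  · change (k ≫ q.adjF.unit.app N) ≫ 𝟙 _ = q.adjF.unit.app K ≫ q.fls.map (q.fst.map k)
    rw [Category.comp_id]
    exact q.adjF.unit.naturality k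
  · change q.fls.map (q.fst.map (q.adjJ.unit.app N)) ≫ 𝟙 _ =
      𝟙 _ ≫ q.fls.map (q.fst.map (q.adjJ.unit.app N))
    simp
  · change (m₃ ≫ (shiftFunctor S (1 : ℤ)).map eK.inv) ≫ (shiftFunctor S (1 : ℤ)).map eK.hom =
      𝟙 _ ≫ m₃
    have hh : (shiftFunctor S (1 : ℤ)).map eK.inv ≫ (shiftFunctor S (1 : ℤ)).map eK.hom = 𝟙 _ := by
      rw [← Functor.map_comp, eK.inv_hom_id, CategoryTheory.Functor.map_id]
    rw [Category.assoc, hh, Category.comp_id, Category.id_comp]

end mv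

end Groth.Agent.H2
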