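import Mathlib
import Groth.Agent.Lib.helper2.Compact
import Groth.Agent.Lib.helper2.MVSq

/-! Compactness descends along Mayer–Vietoris squares: helper lemmas (helper2). -/

set_option autoImplicit false
universe w v u
open CategoryTheory CategoryTheory.Limits CategoryTheory.Pretriangulated CohDer
open W4c3perfectstacks W4c3perfectstacks.MVSq

namespace Groth.Agent.H2

section proj

variable {D : Type u} [Category.{v} D] [Preadditive D]

lemma H2_ι_one_sub_proj_mem {ι : Type w} (X : ι → D) [HasCoproduct X] {s : Finset ι} {i : ι}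
    (h : i ∈ s) : Sigma.ι X i ≫ (𝟙 _ - H2_proj X s) = 0 := by
  rw [Preadditive.comp_sub, Category.comp_id, H2_ι_proj_mem X h, sub_self]

lemma H2_ι_one_sub_proj_not_mem {ι : Type w} (X : ι → D) [HasCoproduct X] {s : Finset ι} {i : ι}
    (h : i ∉ s) : Sigma.ι X i ≫ (𝟙 _ - H2_proj X s) = Sigma.ι X i := by
  rw [Preadditive.comp_sub, Category.comp_id, H2_ι_proj_not_mem X h, sub_zero]

lemma H2_one_sub_proj_comp {ι : Type w} [DecidableEq ι] (X : ι → D) [HasCoproduct X]
    (s t : Finset ι) :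
    (𝟙 _ - H2_proj X s) ≫ (𝟙 _ - H2_proj X t) = 𝟙 (∐ X) - H2_proj X (s ∪ t) := by
  apply Sigma.hom_ext
  intro i
  by_cases hs : i ∈ s
  · rw [reassoc_of% (H2_ι_one_sub_proj_mem X hs), Limits.zero_comp,
      H2_ι_one_sub_proj_mem X (Finset.mem_union_left t hs)]
  · rw [reassoc_of% (H2_ι_one_sub_proj_not_mem X hs)]
    by_cases ht : i ∈ t
    · rw [H2_ι_one_sub_proj_mem X ht, H2_ι_one_sub_proj_mem X (Finset.mem_union_right s ht)]
    · rw [H2_ι_one_sub_proj_not_mem X ht, H2_ι_one_sub_proj_not_mem X]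
      simp only [Finset.mem_union, not_or]
      exact ⟨hs, ht⟩

end proj

section factor

variable {D D' : Type u} [Category.{v} D] [Category.{v} D'] [Preadditive D] [Preadditive D']
  [HasCoproducts.{v} D] [HasCoproducts.{v} D']

/-- A map from a compact object to `F (∐ X)` is fixed by a finite projection, when `F` is additive
and preserves coproducts. -/
lemma H2_compact_factor_map (F : D ⥤ D') [F.Additive]
    [∀ κ : Type v, PreservesColimitsOfShape (Discrete κ) F] {Z : D'} (hZ : IsCompactObject Z)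
    {ι : Type v} (X : ι → D) (ψ : Z ⟶ F.obj (∐ X)) :
    ∃ t : Finset ι, ψ ≫ F.map (H2_proj X t) = ψ := by
  rw [H2_compact_iff] at hZ
  obtain ⟨t, ht⟩ := hZ ι (fun i => F.obj (X i)) (ψ ≫ inv (sigmaComparison F X))
  refine ⟨t, ?_⟩
  have h1 := congrArg (fun x => x ≫ sigmaComparison F X) ht
  simp only [Category.assoc, IsIso.inv_hom_id, Category.comp_id] at h1
  rw [H2_sigmaComparison_proj, IsIso.inv_hom_id_assoc] at h1
  exact h1

/-- Variant: the complementary idempotent kills the map. -/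
lemma H2_compact_factor_map' (F : D ⥤ D') [F.Additive]
    [∀ κ : Type v, PreservesColimitsOfShape (Discrete κ) F] {Z : D'} (hZ : IsCompactObject Z)
    {ι : Type v} (X : ι → D) (ψ : Z ⟶ F.obj (∐ X)) :
    ∃ t : Finset ι, ψ ≫ F.map (𝟙 _ - H2_proj X t) = 0 := by
  obtain ⟨t, ht⟩ := H2_compact_factor_map F hZ X ψ
  refine ⟨t, ?_⟩
  rw [Functor.map_sub, Preadditive.comp_sub, ht, CategoryTheory.Functor.map_id, Category.comp_id,
    sub_self]

end factor

section mv

variable {S S' R R' : Type u} [Category.{v} S] [Category.{v} S'] [Category.{v} R] [Category.{v} R']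
    [Preadditive S] [Preadditive S'] [Preadditive R] [Preadditive R']
    [HasZeroObject S] [HasZeroObject S'] [HasZeroObject R] [HasZeroObject R']
    [HasShift S ℤ] [HasShift S' ℤ] [HasShift R ℤ] [HasShift R' ℤ]
    [∀ n : ℤ, (shiftFunctor S n).Additive] [∀ n : ℤ, (shiftFunctor S' n).Additive]
    [∀ n : ℤ, (shiftFunctor R n).Additive] [∀ n : ℤ, (shiftFunctor R' n).Additive]
    [Pretriangulated S] [Pretriangulated S'] [Pretriangulated R] [Pretriangulated R']
    (q : W4c3perfectstacks.MVSq S S' R R')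
    [q.jst.CommShift ℤ] [q.fst.CommShift ℤ] [q.jpst.CommShift ℤ] [q.gst.CommShift ℤ]
    [q.jst.IsTriangulated] [q.fst.IsTriangulated] [q.jpst.IsTriangulated] [q.gst.IsTriangulated]

omit [Preadditive S] [Preadditive S'] [Preadditive R] [Preadditive R']
    [HasZeroObject S] [HasZeroObject S'] [HasZeroObject R] [HasZeroObject R']
    [HasShift S ℤ] [HasShift S' ℤ] [HasShift R ℤ] [HasShift R' ℤ]
    [∀ n : ℤ, (shiftFunctor S n).Additive] [∀ n : ℤ, (shiftFunctor S' n).Additive]
    [∀ n : ℤ, (shiftFunctor R n).Additive] [∀ n : ℤ, (shiftFunctor R' n).Additive]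
    [Pretriangulated S] [Pretriangulated S'] [Pretriangulated R] [Pretriangulated R']
    [q.jst.CommShift ℤ] [q.fst.CommShift ℤ] [q.jpst.CommShift ℤ] [q.gst.CommShift ℤ]
    [q.jst.IsTriangulated] [q.fst.IsTriangulated] [q.jpst.IsTriangulated] [q.gst.IsTriangulated] in
/-- Naturality of the exchange map. -/
lemma H2_bc2App_naturality {P P' : R} (ρ : P ⟶ P') :
    q.fst.map (q.jls.map ρ) ≫ q.bc2App P' = q.bc2App P ≫ q.jpls.map (q.gst.map ρ) := by
  have h1 := q.adjJp.unit.naturality (q.fst.map (q.jls.map ρ))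
  have h2 := q.e.inv.naturality (q.jls.map ρ)
  have h3 := q.adjJ.counit.naturality ρ
  dsimp at h1 h2 h3
  unfold MVSq.bc2App
  rw [reassoc_of% h1]
  simp only [Category.assoc, ← Functor.map_comp]
  rw [reassoc_of% h2, ← Functor.map_comp, h3, Functor.map_comp]

/-- Maps from an object `A` with `g^* j^* A` compact into `f_* f^* j_* j^* (∐ X)` are killed by the
complement of a finite projection. -/
lemma H2_mv_compact_factor_Q [HasCoproducts.{v} S] [HasCoproducts.{v} R']
    (hbc2 : ∀ P : R, IsIso (q.bc2App P)) {A : S}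
    (hA : IsCompactObject (q.gst.obj (q.jst.obj A))) {ι : Type v} (X : ι → S)
    (y : A ⟶ q.fls.obj (q.fst.obj (q.jls.obj (q.jst.obj (∐ X))))) :
    ∃ t : Finset ι,
      y ≫ q.fls.map (q.fst.map (q.jls.map (q.jst.map (𝟙 _ - H2_proj X t)))) = 0 := by
  let G : S ⥤ R' := q.jst ⋙ q.gst
  let L : S ⥤ R' := q.fst ⋙ q.jpst
  let Rr : R' ⥤ S := q.jpls ⋙ q.fls
  let adjL : L ⊣ Rr := q.adjF.comp q.adjJp
  haveI : PreservesColimitsOfSize.{v, v} q.jst := q.adjJ.leftAdjoint_preservesColimits
  haveI : PreservesColimitsOfSize.{v, v} q.gst := q.adjG.leftAdjoint_preservesColimits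
  haveI := hbc2 (q.jst.obj (∐ X))
  have hLA : IsCompactObject (L.obj A) := H2_compact_of_iso (q.e.app A) hA
  let y' : A ⟶ Rr.obj (G.obj (∐ X)) := y ≫ q.fls.map (q.bc2App (q.jst.obj (∐ X)))
  obtain ⟨t, ht⟩ := H2_compact_factor_map' G hLA X ((adjL.homEquiv A (G.obj (∐ X))).symm y')
  refine ⟨t, ?_⟩
  have h1 : y' ≫ Rr.map (G.map (𝟙 _ - H2_proj X t)) = 0 := by
    apply (adjL.homEquiv _ _).symm.injective
    rw [Adjunction.homEquiv_naturality_right_symm, ht, Adjunction.homEquiv_counit,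
      Functor.map_zero, Limits.zero_comp]
  have h2 := H2_bc2App_naturality q (q.jst.map (𝟙 (∐ X) - H2_proj X t))
  have h3 : (y ≫ q.fls.map (q.fst.map (q.jls.map (q.jst.map (𝟙 (∐ X) - H2_proj X t))))) ≫
      q.fls.map (q.bc2App (q.jst.obj (∐ X))) = 0 := by
    rw [Category.assoc, ← Functor.map_comp, h2, Functor.map_comp, ← Category.assoc]
    exact h1
  rw [← cancel_mono (q.fls.map (q.bc2App (q.jst.obj (∐ X)))), h3, Limits.zero_comp]

end mv

end Groth.Agent.H2
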