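import Mathlib

/-! Abstract Mayer–Vietoris (homotopy cartesian) triangles from a morphism of triangles
with invertible fibre comparison (helper2). -/

set_option autoImplicit false
open CategoryTheory CategoryTheory.Limits CategoryTheory.Pretriangulated

namespace Groth.Agent.H2

variable {C : Type*} [Category C] [Preadditive C] [HasZeroObject C] [HasShift C ℤ]
  [∀ n : ℤ, (shiftFunctor C n).Additive] [Pretriangulated C]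

/-- The swapped split triangle `F ⟶ J ⊞ F ⟶ J ⟶ F⟦1⟧`. -/
lemma H2_biprod_inr_fst_distinguished (J F : C) :
    Triangle.mk (biprod.inr : F ⟶ J ⊞ F) (biprod.fst : J ⊞ F ⟶ J) (0 : J ⟶ F⟦(1 : ℤ)⟧) ∈
      distTriang C := by
  refine isomorphic_distinguished _ (binaryBiproductTriangle_distinguished F J) _
    (Triangle.isoMk _ _ (Iso.refl _) (biprod.braiding J F) (Iso.refl _) ?_ ?_ ?_)
  · change (biprod.inr : F ⟶ J ⊞ F) ≫ (biprod.braiding J F).hom =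
      𝟙 F ≫ (biprod.inl : F ⟶ F ⊞ J)
    apply biprod.hom_ext <;> simp
  · change (biprod.fst : J ⊞ F ⟶ J) ≫ 𝟙 J = (biprod.braiding J F).hom ≫ (biprod.snd : F ⊞ J ⟶ J)
    simp
  · change (0 : J ⟶ F⟦(1 : ℤ)⟧) ≫ (𝟙 F)⟦(1 : ℤ)⟧' = 𝟙 J ≫ 0
    simp

/-- Naturality / uniqueness of the connecting map of a Mayer–Vietoris type triangle. -/
lemma H2_mv_connecting_natural {N₁ P₁ Q₁ N₂ P₂ Q₂ K₁ F₁ : C}
    (α₁ : N₁ ⟶ P₁) (β₁ : P₁ ⟶ Q₁) (d₁ : Q₁ ⟶ N₁⟦(1 : ℤ)⟧)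
    (h₁ : Triangle.mk α₁ β₁ d₁ ∈ distTriang C)
    (α₂ : N₂ ⟶ P₂) (β₂ : P₂ ⟶ Q₂) (d₂ : Q₂ ⟶ N₂⟦(1 : ℤ)⟧)
    (h₂ : Triangle.mk α₂ β₂ d₂ ∈ distTriang C)
    (u : K₁ ⟶ F₁) (r : F₁ ⟶ Q₁) (w'' : Q₁ ⟶ K₁⟦(1 : ℤ)⟧)
    (hT : Triangle.mk u r w'' ∈ distTriang C)
    (ι : F₁ ⟶ P₁) (hι : ι ≫ β₁ = -r)
    (φ : N₁ ⟶ N₂) (b : P₁ ⟶ P₂) (φQ : Q₁ ⟶ Q₂)
    (hα : α₁ ≫ b = φ ≫ α₂) (hβ : β₁ ≫ φQ = b ≫ β₂)
    (hvan : ∀ s : K₁⟦(1 : ℤ)⟧ ⟶ Q₂, s = 0) :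
    d₁ ≫ φ⟦(1 : ℤ)⟧' = φQ ≫ d₂ := by
  obtain ⟨c', hc1, hc2⟩ : ∃ c' : Q₁ ⟶ Q₂, β₁ ≫ c' = b ≫ β₂ ∧ d₁ ≫ φ⟦(1 : ℤ)⟧' = c' ≫ d₂ :=
    complete_distinguished_triangle_morphism _ _ h₁ h₂ φ b hα
  have h0 : r ≫ (c' - φQ) = 0 := by
    have hr : r = -(ι ≫ β₁) := by rw [hι, neg_neg]
    rw [hr, Preadditive.neg_comp, Preadditive.comp_sub, Category.assoc, Category.assoc, hc1, hβ,
      sub_self, neg_zero]
  obtain ⟨s, hs⟩ : ∃ s : K₁⟦(1 : ℤ)⟧ ⟶ Q₂, c' - φQ = w'' ≫ s :=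
    Triangle.yoneda_exact₃ _ hT (c' - φQ) h0
  rw [hvan s, Limits.comp_zero] at hs
  have : c' = φQ := sub_eq_zero.1 hs
  rw [hc2, this]

/-- In a distinguished triangle `X ⟶ A ⊕ B ⟶ D ⟶ X⟦1⟧` whose `B`-component `B ⟶ D` is invertible,
the `A`-component `X ⟶ A` is invertible. (The splitting of the middle term is given by abstract
biproduct data so that the statement is stable under additive functors.) -/
lemma H2_isIso_comp_fst_of_split (T : Triangle C) (hT : T ∈ distTriang C) {A B : C}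
    (i₁ : A ⟶ T.obj₂) (i₂ : B ⟶ T.obj₂) (π₁ : T.obj₂ ⟶ A) (π₂ : T.obj₂ ⟶ B)
    (h11 : i₁ ≫ π₁ = 𝟙 A) (h21 : i₂ ≫ π₁ = 0)
    (hsum : π₁ ≫ i₁ + π₂ ≫ i₂ = 𝟙 T.obj₂) (hiso : IsIso (i₂ ≫ T.mor₂)) :
    IsIso (T.mor₁ ≫ π₁) := by
  haveI := hiso
  have hsec : (inv (i₂ ≫ T.mor₂) ≫ i₂) ≫ T.mor₂ = 𝟙 _ := by
    rw [Category.assoc, IsIso.inv_hom_id]
  haveI : Epi T.mor₂ := epi_of_epi_fac hsec
  have h3 : T.mor₃ = 0 := Triangle.mor₃_eq_zero_of_epi₂ T hT inferInstance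
  haveI : Mono T.mor₁ := (Triangle.mor₃_eq_zero_iff_mono₁ T hT).1 h3
  -- injectivity
  have hinj : ∀ {X : C} (x : X ⟶ T.obj₁), x ≫ T.mor₁ ≫ π₁ = 0 → x = 0 := by
    intro X x hx
    have e1 : x ≫ T.mor₁ = (x ≫ T.mor₁ ≫ π₂) ≫ i₂ := by
      calc x ≫ T.mor₁ = (x ≫ T.mor₁) ≫ (π₁ ≫ i₁ + π₂ ≫ i₂) := by
            rw [hsum, Category.comp_id]
        _ = (x ≫ T.mor₁ ≫ π₂) ≫ i₂ := by
            rw [Preadditive.comp_add, Category.assoc, reassoc_of% hx, Limits.zero_comp, zero_add]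
            simp only [Category.assoc]
    have e2 : (x ≫ T.mor₁ ≫ π₂) ≫ (i₂ ≫ T.mor₂) = 0 := by
      rw [← Category.assoc, ← e1, Category.assoc, comp_distTriang_mor_zero₁₂ _ hT,
        Limits.comp_zero]
    have e3 : x ≫ T.mor₁ ≫ π₂ = 0 := by
      rw [← cancel_mono (i₂ ≫ T.mor₂), e2, Limits.zero_comp]
    have e4 : x ≫ T.mor₁ = 0 := by rw [e1, e3, Limits.zero_comp]
    rw [← cancel_mono T.mor₁, e4, Limits.zero_comp]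
  -- a section
  have h0 : (i₁ - (i₁ ≫ T.mor₂) ≫ inv (i₂ ≫ T.mor₂) ≫ i₂) ≫ T.mor₂ = 0 := by
    rw [Preadditive.sub_comp, Category.assoc, Category.assoc, Category.assoc,
      IsIso.inv_hom_id, Category.comp_id, sub_self]
  obtain ⟨s, hs⟩ := Triangle.coyoneda_exact₂ T hT _ h0
  have hs1 : s ≫ T.mor₁ ≫ π₁ = 𝟙 A := by
    rw [← Category.assoc, ← hs, Preadditive.sub_comp, h11, Category.assoc, Category.assoc,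
      Category.assoc, h21, Limits.comp_zero, Limits.comp_zero, Limits.comp_zero, sub_zero]
  have hs2 : (T.mor₁ ≫ π₁) ≫ s = 𝟙 _ := by
    have : ((T.mor₁ ≫ π₁) ≫ s - 𝟙 _) = 0 := by
      apply hinj
      rw [Preadditive.sub_comp, Category.assoc, Category.assoc, hs1, Category.id_comp,
        Category.comp_id]
      simp
    exact sub_eq_zero.1 this
  exact ⟨⟨s, hs2, hs1⟩⟩

variable [IsTriangulated C]

/-- Existence of a Mayer–Vietoris type triangle. -/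
lemma H2_mv_triangle_exists {K N J F Q : C}
    (k : K ⟶ N) (p : N ⟶ J) (w : J ⟶ K⟦(1 : ℤ)⟧)
    (hT₁ : Triangle.mk k p w ∈ distTriang C)
    (η : N ⟶ F) (c : J ⟶ Q) (r : F ⟶ Q) (w'' : Q ⟶ K⟦(1 : ℤ)⟧)
    (hT₂ : Triangle.mk (k ≫ η) r w'' ∈ distTriang C)
    (hsq : p ≫ c = η ≫ r)
    (hvan : ∀ s : K⟦(1 : ℤ)⟧ ⟶ Q, s = 0) :
    ∃ d : Q ⟶ N⟦(1 : ℤ)⟧,
      Triangle.mk (biprod.lift p η) (biprod.desc c (-r)) d ∈ distTriang C := by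
  obtain ⟨Cc, γ, δ, h₁₂⟩ := distinguished_cocone_triangle (biprod.lift p η : N ⟶ J ⊞ F)
  have h₂₃ : Triangle.mk (biprod.fst : J ⊞ F ⟶ J) (0 : J ⟶ F⟦(1 : ℤ)⟧)
      (-(biprod.inr : F ⟶ J ⊞ F)⟦(1 : ℤ)⟧') ∈ distTriang C :=
    rot_of_distTriang _ (H2_biprod_inr_fst_distinguished J F)
  have h₁₃ : Triangle.mk p w (-k⟦(1 : ℤ)⟧') ∈ distTriang C := rot_of_distTriang _ hT₁
  have o := Triangulated.someOctahedron (biprod.lift_fst p η) h₁₂ h₂₃ h₁₃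
  have hm₃ : o.m₃ = (k ≫ η)⟦(1 : ℤ)⟧' := by
    have h4 := o.comm₄
    have h5 := congrArg (fun x => x ≫ (biprod.snd : J ⊞ F ⟶ F)⟦(1 : ℤ)⟧') h4
    simp only [Preadditive.neg_comp, Preadditive.comp_neg, Category.assoc, ← Functor.map_comp,
      biprod.lift_snd, biprod.inr_snd, neg_inj] at h5
    rw [CategoryTheory.Functor.map_id, Category.comp_id] at h5
    exact h5.symm
  have hT₂'' : Triangle.mk w'' (-(k ≫ η)⟦(1 : ℤ)⟧') (-r⟦(1 : ℤ)⟧') ∈ distTriang C :=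
    rot_of_distTriang _ (rot_of_distTriang _ hT₂)
  obtain ⟨a, ha1, ha2⟩ : ∃ a : Cc ⟶ Q, o.m₁ ≫ 𝟙 (K⟦(1 : ℤ)⟧) = a ≫ w'' ∧
      ((-(biprod.inr : F ⟶ J ⊞ F)⟦(1 : ℤ)⟧') ≫ γ⟦(1 : ℤ)⟧') ≫ a⟦(1 : ℤ)⟧' =
        (-𝟙 (F⟦(1 : ℤ)⟧)) ≫ (-r⟦(1 : ℤ)⟧') :=
    complete_distinguished_triangle_morphism₁ _ _ o.mem hT₂'' (𝟙 (K⟦(1 : ℤ)⟧))
      (-𝟙 (F⟦(1 : ℤ)⟧)) (by
        change o.m₃ ≫ (-𝟙 (F⟦(1 : ℤ)⟧)) = 𝟙 (K⟦(1 : ℤ)⟧) ≫ (-(k ≫ η)⟦(1 : ℤ)⟧')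
        rw [hm₃]; simp)
  -- a is an isomorphism
  let φ : Triangle.mk o.m₁ o.m₃ ((-(biprod.inr : F ⟶ J ⊞ F)⟦(1 : ℤ)⟧') ≫ γ⟦(1 : ℤ)⟧') ⟶
      Triangle.mk w'' (-(k ≫ η)⟦(1 : ℤ)⟧') (-r⟦(1 : ℤ)⟧') :=
    { hom₁ := a
      hom₂ := 𝟙 (K⟦(1 : ℤ)⟧)
      hom₃ := -𝟙 (F⟦(1 : ℤ)⟧)
      comm₁ := ha1
      comm₂ := by
        change o.m₃ ≫ (-𝟙 (F⟦(1 : ℤ)⟧)) = 𝟙 (K⟦(1 : ℤ)⟧) ≫ (-(k ≫ η)⟦(1 : ℤ)⟧')
        rw [hm₃]; simp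
      comm₃ := ha2 }
  have hφ₂ : IsIso φ.hom₂ := by
    change IsIso (𝟙 (K⟦(1 : ℤ)⟧)); infer_instance
  have hφ₃ : IsIso φ.hom₃ := by
    change IsIso (-𝟙 (F⟦(1 : ℤ)⟧))
    exact ⟨⟨-𝟙 (F⟦(1 : ℤ)⟧), by simp, by simp⟩⟩
  haveI : IsIso a := isIso₁_of_isIso₂₃ φ o.mem hT₂'' hφ₂ hφ₃
  have hinr : biprod.inr ≫ γ ≫ a = -r := by
    apply (shiftFunctor C (1 : ℤ)).map_injective
    have := ha2
    simp only [Preadditive.neg_comp, Preadditive.comp_neg, Category.assoc, Category.id_comp,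
      neg_neg] at this
    rw [Functor.map_neg, ← this, Functor.map_comp, Functor.map_comp, neg_neg]
  have hαγ : biprod.lift p η ≫ γ = 0 := comp_distTriang_mor_zero₁₂ _ h₁₂
  have hinl : biprod.inl ≫ γ ≫ a = c := by
    have h0 : p ≫ (biprod.inl ≫ γ ≫ a - c) = 0 := by
      have e1 : p ≫ biprod.inl ≫ γ ≫ a + η ≫ biprod.inr ≫ γ ≫ a = 0 := by
        have : (biprod.lift p η : N ⟶ J ⊞ F) = p ≫ biprod.inl + η ≫ biprod.inr := by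
          ext <;> simp
        rw [this, Preadditive.add_comp] at hαγ
        have h2 := congrArg (fun x => x ≫ a) hαγ
        simpa [Preadditive.add_comp] using h2
      rw [hinr, Preadditive.comp_neg] at e1
      rw [Preadditive.comp_sub, hsq]
      rw [sub_eq_add_neg]; exact e1
    obtain ⟨s, hs⟩ : ∃ s : K⟦(1 : ℤ)⟧ ⟶ Q, biprod.inl ≫ γ ≫ a - c = w ≫ s :=
      Triangle.yoneda_exact₂ _ h₁₃ _ h0
    rw [hvan s, Limits.comp_zero] at hs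
    exact sub_eq_zero.1 hs
  have hγa : γ ≫ a = biprod.desc c (-r) := by
    ext
    · simpa using hinl
    · simpa using hinr
  refine ⟨inv a ≫ δ, isomorphic_distinguished _ h₁₂ _
    (Triangle.isoMk _ _ (Iso.refl _) (Iso.refl _) (asIso a).symm ?_ ?_ ?_)⟩
  · change biprod.lift p η ≫ 𝟙 (J ⊞ F) = 𝟙 N ≫ biprod.lift p η
    simp
  · change biprod.desc c (-r) ≫ inv a = 𝟙 (J ⊞ F) ≫ γ
    rw [← hγa]; simp
  · change (inv a ≫ δ) ≫ (𝟙 N)⟦(1 : ℤ)⟧' = inv a ≫ δ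
    simp

end Groth.Agent.H2
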