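import Mathlib
import Groth.Agent.Lib.helper2.MVSq
import Groth.Agent.Lib.helper2.MVTri

/-! Glueing along Mayer–Vietoris squares: helper lemmas (helper2). -/

set_option autoImplicit false
universe w v u
open CategoryTheory CategoryTheory.Limits CategoryTheory.Pretriangulated
open W4c3perfectstacks W4c3perfectstacks.MVSq

namespace Groth.Agent.H2

section general

variable {C D : Type*} [Category C] [Category D]

lemma H2_isIso_map_unit {F : C ⥤ D} {G : D ⥤ C} (adj : F ⊣ G) (h : IsIso adj.counit) (X : C) :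
    IsIso (F.map (adj.unit.app X)) := by
  haveI := h
  have h1 : F.map (adj.unit.app X) ≫ adj.counit.app (F.obj X) = 𝟙 _ :=
    adj.left_triangle_components X
  have h2 : F.map (adj.unit.app X) = inv (adj.counit.app (F.obj X)) := by
    rw [← cancel_mono (adj.counit.app (F.obj X)), h1, IsIso.inv_hom_id]
  rw [h2]; infer_instance

lemma H2_isIso_neg [Preadditive C] {X Y : C} (f : X ⟶ Y) [IsIso f] : IsIso (-f) :=
  ⟨⟨-(inv f), by simp, by simp⟩⟩

end general

section mv

variable {S S' R R' : Type u} [Category.{v} S] [Category.{v} S'] [Category.{v} R] [Category.{v} R']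

/-- Naturality of the base-change map. -/
lemma H2_bcApp_naturality (q : W4c3perfectstacks.MVSq S S' R R') {M M' : S'} (m : M ⟶ M') :
    q.jst.map (q.fls.map m) ≫ q.bcApp M' = q.bcApp M ≫ q.gls.map (q.jpst.map m) := by
  have h1 := q.adjG.unit.naturality (q.jst.map (q.fls.map m))
  have h2 := q.e.hom.naturality (q.fls.map m)
  have h3 := q.adjF.counit.naturality m
  dsimp at h1 h2 h3
  unfold MVSq.bcApp
  rw [reassoc_of% h1]
  simp only [Category.assoc, ← Functor.map_comp]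
  rw [reassoc_of% h2, ← Functor.map_comp, h3, Functor.map_comp]

lemma H2_mv_isIso_jst_fls_map (q : W4c3perfectstacks.MVSq S S' R R')
    (hbc : ∀ M : S', IsIso (q.bcApp M)) {M M' : S'} (m : M ⟶ M')
    (hm : IsIso (q.jpst.map m)) : IsIso (q.jst.map (q.fls.map m)) := by
  haveI := hbc M
  haveI := hbc M'
  haveI := hm
  have h := H2_bcApp_naturality q m
  have h' : q.jst.map (q.fls.map m) =
      q.bcApp M ≫ q.gls.map (q.jpst.map m) ≫ inv (q.bcApp M') := by
    rw [← Category.assoc, ← h, Category.assoc, IsIso.hom_inv_id, Category.comp_id]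
  rw [h']; infer_instance

end mv

section glue

variable {S S' R R' : Type u} [Category.{v} S] [Category.{v} S'] [Category.{v} R] [Category.{v} R']
    [Preadditive S] [Preadditive S'] [Preadditive R] [Preadditive R']
    [HasZeroObject S] [HasZeroObject S'] [HasZeroObject R] [HasZeroObject R']
    [HasShift S ℤ] [HasShift S' ℤ] [HasShift R ℤ] [HasShift R' ℤ]
    [∀ n : ℤ, (shiftFunctor S n).Additive] [∀ n : ℤ, (shiftFunctor S' n).Additive]
    [∀ n : ℤ, (shiftFunctor R n).Additive] [∀ n : ℤ, (shiftFunctor R' n).Additive]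
    [Pretriangulated S] [Pretriangulated S'] [Pretriangulated R] [Pretriangulated R']
    (q : W4c3perfectstacks.MVSq S S' R R')
    [q.jst.CommShift ℤ] [q.fst.CommShift ℤ] [q.jpst.CommShift ℤ] [q.gst.CommShift ℤ]
    [q.jst.IsTriangulated] [q.fst.IsTriangulated] [q.jpst.IsTriangulated] [q.gst.IsTriangulated]

/-- Part (A) of glueing: the map `j^* N ⟶ N_U` is invertible. -/
lemma H2_mv_glue_isIso_jst (hq : q.IsMV) (NU : R) (N' : S') (δ : q.jpst.obj N' ≅ q.gst.obj NU)
    (N : S) (a : N ⟶ q.jls.obj NU ⊞ q.fls.obj N')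
    (d : q.fls.obj (q.jpls.obj (q.gst.obj NU)) ⟶ N⟦(1 : ℤ)⟧)
    (hT : Triangle.mk a
      (biprod.desc (q.adjF.unit.app (q.jls.obj NU) ≫ q.fls.map (q.bc2App NU))
        (-(q.fls.map (q.adjJp.unit.app N' ≫ q.jpls.map δ.hom)))) d ∈ distTriang S) :
    IsIso ((q.adjJ.homEquiv N NU).symm (a ≫ biprod.fst)) := by
  haveI := hq.isIso_counitJ
  have hm : IsIso (q.jpst.map (q.adjJp.unit.app N' ≫ q.jpls.map δ.hom)) := by
    haveI := H2_isIso_map_unit q.adjJp hq.isIso_counitJp N'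
    rw [Functor.map_comp]; infer_instance
  haveI hm' := H2_mv_isIso_jst_fls_map q hq.isIso_bcApp _ hm
  have hiso : IsIso (q.jst.map (biprod.inr : q.fls.obj N' ⟶ q.jls.obj NU ⊞ q.fls.obj N') ≫
      q.jst.map (biprod.desc (q.adjF.unit.app (q.jls.obj NU) ≫ q.fls.map (q.bc2App NU))
        (-(q.fls.map (q.adjJp.unit.app N' ≫ q.jpls.map δ.hom))))) := by
    rw [← Functor.map_comp, biprod.inr_desc, Functor.map_neg]
    exact H2_isIso_neg _
  have e11 : q.jst.map (biprod.inl : q.jls.obj NU ⟶ q.jls.obj NU ⊞ q.fls.obj N') ≫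
      q.jst.map biprod.fst = 𝟙 _ := by
    rw [← Functor.map_comp, biprod.inl_fst, CategoryTheory.Functor.map_id]
  have e21 : q.jst.map (biprod.inr : q.fls.obj N' ⟶ q.jls.obj NU ⊞ q.fls.obj N') ≫
      q.jst.map biprod.fst = 0 := by
    rw [← Functor.map_comp, biprod.inr_fst, Functor.map_zero]
  have esum : q.jst.map (biprod.fst : q.jls.obj NU ⊞ q.fls.obj N' ⟶ _) ≫ q.jst.map biprod.inl +
      q.jst.map biprod.snd ≫ q.jst.map biprod.inr = 𝟙 _ := by
    rw [← Functor.map_comp, ← Functor.map_comp, ← Functor.map_add, biprod.total,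
      CategoryTheory.Functor.map_id]
  have h1 : IsIso (q.jst.map a ≫ q.jst.map (biprod.fst : q.jls.obj NU ⊞ q.fls.obj N' ⟶ _)) :=
    H2_isIso_comp_fst_of_split (q.jst.mapTriangle.obj (Triangle.mk a
      (biprod.desc (q.adjF.unit.app (q.jls.obj NU) ≫ q.fls.map (q.bc2App NU))
        (-(q.fls.map (q.adjJp.unit.app N' ≫ q.jpls.map δ.hom)))) d))
      (q.jst.map_distinguished _ hT)
      (q.jst.map biprod.inl) (q.jst.map biprod.inr) (q.jst.map biprod.fst) (q.jst.map biprod.snd)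
      e11 e21 esum hiso
  rw [Adjunction.homEquiv_counit, Functor.map_comp]
  haveI := h1
  infer_instance

/-- `f^*` is bijective on maps `f_* M ⟶ N` when `j'^* M = 0`. -/
lemma H2_mv_fst_map_bijective (hq : q.IsMV) (M : S') (hM : IsZero (q.jpst.obj M)) (N : S) :
    Function.Bijective (fun g : q.fls.obj M ⟶ N => q.fst.map g) := by
  obtain ⟨K, k, w, hT⟩ := distinguished_cocone_triangle₁ (q.adjJ.unit.app N)
  have hK : IsZero (q.jst.obj K) := H2_mv_isZero_jst_fibre q hq.isIso_counitJ k w hT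
  have hunit : IsIso (q.adjF.unit.app K) := hq.isIso_unitF K hK
  have hA : IsZero (q.jst.obj (q.fls.obj M)) := H2_mv_isZero_jst_fls q hq.isIso_bcApp hM
  have htop : Function.Bijective (fun g : q.fls.obj M ⟶ K => g ≫ k) :=
    H2_bijective_comp_mor₁ (Triangle.mk k (q.adjJ.unit.app N) w) hT (q.fls.obj M)
      (fun g => H2_hom_rightAdjoint_eq_zero q.adjJ hA g)
      (fun g => H2_hom_rightAdjoint_eq_zero q.adjJ (H2_isZero_map_shift q.jst hA 1) g)
  have hleft := H2_mv_fst_map_bijective_of_isIso_unit q hunit (q.fls.obj M)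
  haveI := hq.isIso_counitF M hM
  have hA' : IsZero (q.jpst.obj (q.fst.obj (q.fls.obj M))) :=
    IsZero.of_iso hM (q.jpst.mapIso (asIso (q.adjF.counit.app M)))
  have hbot : Function.Bijective
      (fun g : q.fst.obj (q.fls.obj M) ⟶ q.fst.obj K => g ≫ q.fst.map k) :=
    H2_bijective_comp_mor₁ (q.fst.mapTriangle.obj (Triangle.mk k (q.adjJ.unit.app N) w))
      (q.fst.map_distinguished _ hT) (q.fst.obj (q.fls.obj M))
      (fun g => H2_mv_hom_fst_jls_zero q hq.isIso_bc2App hA' _ g)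
      (fun g => H2_mv_hom_fst_jls_zero q hq.isIso_bc2App
        (H2_isZero_map_shift q.jpst hA' 1) _ g)
  have heq : (fun g : q.fls.obj M ⟶ N => q.fst.map g) ∘ (fun g : q.fls.obj M ⟶ K => g ≫ k) =
      (fun g : q.fst.obj (q.fls.obj M) ⟶ q.fst.obj K => g ≫ q.fst.map k) ∘
        (fun g : q.fls.obj M ⟶ K => q.fst.map g) := by
    funext g
    simp
  refine (Function.Bijective.of_comp_iff _ htop).1 ?_
  rw [heq]
  exact hbot.comp hleft

/-- Part (B-ii) of glueing: composition with `f^* N ⟶ N'` is bijective on maps out of objects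
killed by `j'^*`. -/
lemma H2_mv_glue_bijective (hq : q.IsMV) (NU : R) (N' : S')
    (N : S) (a : N ⟶ q.jls.obj NU ⊞ q.fls.obj N')
    (β : q.jls.obj NU ⊞ q.fls.obj N' ⟶ q.fls.obj (q.jpls.obj (q.gst.obj NU)))
    (d : q.fls.obj (q.jpls.obj (q.gst.obj NU)) ⟶ N⟦(1 : ℤ)⟧)
    (hT : Triangle.mk a β d ∈ distTriang S) (M : S') (hM : IsZero (q.jpst.obj M)) :
    Function.Bijective
      (fun x : M ⟶ q.fst.obj N => x ≫ (q.adjF.homEquiv N N').symm (a ≫ biprod.snd)) := by
  have hA : IsZero (q.jst.obj (q.fls.obj M)) := H2_mv_isZero_jst_fls q hq.isIso_bcApp hM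
  have hvan : ∀ (n : ℤ) (Y : R') (g : (q.fls.obj M)⟦n⟧ ⟶ q.fls.obj (q.jpls.obj Y)), g = 0 := by
    intro n Y g
    exact H2_hom_rightAdjoint_eq_zero (q.adjF.comp q.adjJp)
      (H2_mv_isZero_jpst_fst q (H2_isZero_map_shift q.jst hA n)) g
  have hvan0 : ∀ (Y : R') (g : q.fls.obj M ⟶ q.fls.obj (q.jpls.obj Y)), g = 0 := by
    intro Y g
    exact H2_hom_rightAdjoint_eq_zero (q.adjF.comp q.adjJp) (H2_mv_isZero_jpst_fst q hA) g
  have b1 := H2_mv_fst_map_bijective q hq M hM N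
  have b2 : Function.Bijective (fun g : q.fls.obj M ⟶ N => g ≫ a) :=
    H2_bijective_comp_mor₁ (Triangle.mk a β d) hT (q.fls.obj M)
      (fun g => hvan0 _ g) (fun g => hvan 1 _ g)
  have b3 : Function.Bijective
      (fun g : q.fls.obj M ⟶ q.jls.obj NU ⊞ q.fls.obj N' => g ≫ biprod.snd) := by
    constructor
    · intro g₁ g₂ h
      apply biprod.hom_ext
      · rw [H2_hom_rightAdjoint_eq_zero q.adjJ hA (g₁ ≫ biprod.fst),
          H2_hom_rightAdjoint_eq_zero q.adjJ hA (g₂ ≫ biprod.fst)]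
      · exact h
    · intro g
      exact ⟨g ≫ biprod.inr, by simp⟩
  have b4 := (q.adjF.homEquiv (q.fls.obj M) N').symm.bijective
  have hc : (fun x : q.fst.obj (q.fls.obj M) ⟶ q.fst.obj N =>
        x ≫ (q.adjF.homEquiv N N').symm (a ≫ biprod.snd)) ∘
      (fun g : q.fls.obj M ⟶ N => q.fst.map g) =
      (q.adjF.homEquiv (q.fls.obj M) N').symm ∘
        (fun g : q.fls.obj M ⟶ q.jls.obj NU ⊞ q.fls.obj N' => g ≫ biprod.snd) ∘
          (fun g : q.fls.obj M ⟶ N => g ≫ a) := by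
    funext g
    simp only [Function.comp_apply, Category.assoc, Adjunction.homEquiv_naturality_left_symm]
  have b5 : Function.Bijective (fun x : q.fst.obj (q.fls.obj M) ⟶ q.fst.obj N =>
      x ≫ (q.adjF.homEquiv N N').symm (a ≫ biprod.snd)) := by
    refine (Function.Bijective.of_comp_iff _ b1).1 ?_
    rw [hc]
    exact b4.comp (b3.comp b2)
  haveI := hq.isIso_counitF M hM
  have hpre : ∀ Y : S', Function.Bijective
      (fun x : M ⟶ Y => q.adjF.counit.app M ≫ x) := by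
    intro Y
    constructor
    · intro x₁ x₂ h
      exact (cancel_epi (q.adjF.counit.app M)).1 h
    · intro x
      exact ⟨inv (q.adjF.counit.app M) ≫ x, by simp⟩
  have hcomm : (fun x : M ⟶ N' => q.adjF.counit.app M ≫ x) ∘
      (fun x : M ⟶ q.fst.obj N => x ≫ (q.adjF.homEquiv N N').symm (a ≫ biprod.snd)) =
      (fun x : q.fst.obj (q.fls.obj M) ⟶ q.fst.obj N =>
        x ≫ (q.adjF.homEquiv N N').symm (a ≫ biprod.snd)) ∘
      (fun x : M ⟶ q.fst.obj N => q.adjF.counit.app M ≫ x) := by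
    funext x
    simp
  refine (Function.Bijective.of_comp_iff' (hpre N') _).1 ?_
  rw [hcomm]
  exact b5.comp (hpre _)

omit [Preadditive R] [Preadditive R'] [HasZeroObject R] [HasZeroObject R']
    [HasShift R ℤ] [HasShift R' ℤ] [HasZeroObject S] [HasZeroObject S'] [HasShift S ℤ] [HasShift S' ℤ]
    [∀ n : ℤ, (shiftFunctor S n).Additive] [∀ n : ℤ, (shiftFunctor S' n).Additive]
    [∀ n : ℤ, (shiftFunctor R n).Additive] [∀ n : ℤ, (shiftFunctor R' n).Additive]
    [Pretriangulated S] [Pretriangulated S'] [Pretriangulated R] [Pretriangulated R']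
    [q.jst.CommShift ℤ] [q.fst.CommShift ℤ] [q.jpst.CommShift ℤ] [q.gst.CommShift ℤ]
    [q.jst.IsTriangulated] [q.fst.IsTriangulated] [q.jpst.IsTriangulated] [q.gst.IsTriangulated] in
/-- Part (B-i) of glueing: compatibility of the two comparison maps over `U'`. -/
lemma H2_mv_glue_compat [HasBinaryBiproducts S] (NU : R) (N' : S')
    (δ : q.jpst.obj N' ≅ q.gst.obj NU)
    (N : S) (a : N ⟶ q.jls.obj NU ⊞ q.fls.obj N')
    (hzero : a ≫ biprod.desc (q.adjF.unit.app (q.jls.obj NU) ≫ q.fls.map (q.bc2App NU))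
        (-(q.fls.map (q.adjJp.unit.app N' ≫ q.jpls.map δ.hom))) = 0) :
    q.jpst.map ((q.adjF.homEquiv N N').symm (a ≫ biprod.snd)) ≫ δ.hom =
      q.e.inv.app N ≫ q.gst.map ((q.adjJ.homEquiv N NU).symm (a ≫ biprod.fst)) := by
  have hrel : (a ≫ biprod.fst) ≫ q.adjF.unit.app (q.jls.obj NU) ≫ q.fls.map (q.bc2App NU) =
      (a ≫ biprod.snd) ≫ q.fls.map (q.adjJp.unit.app N' ≫ q.jpls.map δ.hom) := by
    have h1 : a ≫ biprod.desc (q.adjF.unit.app (q.jls.obj NU) ≫ q.fls.map (q.bc2App NU))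
        (-(q.fls.map (q.adjJp.unit.app N' ≫ q.jpls.map δ.hom))) =
        (a ≫ biprod.fst) ≫ q.adjF.unit.app (q.jls.obj NU) ≫ q.fls.map (q.bc2App NU) -
          (a ≫ biprod.snd) ≫ q.fls.map (q.adjJp.unit.app N' ≫ q.jpls.map δ.hom) := by
      conv_lhs => rw [← Category.comp_id a, ← biprod.total]
      simp only [Preadditive.comp_add, Preadditive.add_comp, Category.assoc, biprod.inl_desc,
        biprod.inr_desc, Preadditive.comp_neg, sub_eq_add_neg]
    rw [h1] at hzero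
    exact sub_eq_zero.1 hzero
  apply (q.adjJp.homEquiv _ _).injective
  apply (q.adjF.homEquiv _ _).injective
  have hL : q.adjF.homEquiv _ _ (q.adjJp.homEquiv _ _
      (q.jpst.map ((q.adjF.homEquiv N N').symm (a ≫ biprod.snd)) ≫ δ.hom)) =
      (a ≫ biprod.snd) ≫ q.fls.map (q.adjJp.unit.app N' ≫ q.jpls.map δ.hom) := by
    rw [Adjunction.homEquiv_naturality_left, Adjunction.homEquiv_naturality_right,
      Equiv.apply_symm_apply, Adjunction.homEquiv_unit]
  have hR : q.adjF.homEquiv _ _ (q.adjJp.homEquiv _ _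
      (q.e.inv.app N ≫ q.gst.map ((q.adjJ.homEquiv N NU).symm (a ≫ biprod.fst)))) =
      (a ≫ biprod.fst) ≫ q.adjF.unit.app (q.jls.obj NU) ≫ q.fls.map (q.bc2App NU) := by
    have e1 : q.e.inv.app N ≫ q.gst.map ((q.adjJ.homEquiv N NU).symm (a ≫ biprod.fst)) =
        q.jpst.map (q.fst.map (a ≫ biprod.fst)) ≫
          (q.e.inv.app (q.jls.obj NU) ≫ q.gst.map (q.adjJ.counit.app NU)) := by
      have h2 := q.e.inv.naturality (a ≫ biprod.fst)
      dsimp at h2
      rw [Adjunction.homEquiv_counit, Functor.map_comp, ← Category.assoc, ← h2, Category.assoc]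
    have e2 : q.adjJp.homEquiv (q.fst.obj (q.jls.obj NU)) (q.gst.obj NU)
        ((q.e.inv.app (q.jls.obj NU) ≫ q.gst.map (q.adjJ.counit.app NU) :
          q.jpst.obj (q.fst.obj (q.jls.obj NU)) ⟶ q.gst.obj NU)) = q.bc2App NU := by
      rw [Adjunction.homEquiv_unit, Functor.map_comp]
      rfl
    rw [e1, Adjunction.homEquiv_naturality_left, e2, Adjunction.homEquiv_naturality_left,
      Adjunction.homEquiv_unit]
  rw [hL, hR, hrel]

/-- Part (B) of glueing: the map `f^* N ⟶ N'` is invertible. -/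
lemma H2_mv_glue_isIso_fst (hq : q.IsMV) (NU : R) (N' : S') (δ : q.jpst.obj N' ≅ q.gst.obj NU)
    (N : S) (a : N ⟶ q.jls.obj NU ⊞ q.fls.obj N')
    (d : q.fls.obj (q.jpls.obj (q.gst.obj NU)) ⟶ N⟦(1 : ℤ)⟧)
    (hT : Triangle.mk a
      (biprod.desc (q.adjF.unit.app (q.jls.obj NU) ≫ q.fls.map (q.bc2App NU))
        (-(q.fls.map (q.adjJp.unit.app N' ≫ q.jpls.map δ.hom)))) d ∈ distTriang S) :
    IsIso ((q.adjF.homEquiv N N').symm (a ≫ biprod.snd)) := by
  have hA := H2_mv_glue_isIso_jst q hq NU N' δ N a d hT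
  have hcompat := H2_mv_glue_compat q NU N' δ N a (comp_distTriang_mor_zero₁₂ _ hT)
  have hjp : IsIso (q.jpst.map ((q.adjF.homEquiv N N').symm (a ≫ biprod.snd))) := by
    have h1 : q.jpst.map ((q.adjF.homEquiv N N').symm (a ≫ biprod.snd)) =
        (q.e.inv.app N ≫ q.gst.map ((q.adjJ.homEquiv N NU).symm (a ≫ biprod.fst))) ≫ δ.inv := by
      rw [← hcompat, Category.assoc, Iso.hom_inv_id, Category.comp_id]
    rw [h1]
    haveI := hA
    infer_instance
  obtain ⟨Z, u, v, hZ⟩ := distinguished_cocone_triangle₁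
    ((q.adjF.homEquiv N N').symm (a ≫ biprod.snd))
  have hZker : IsZero (q.jpst.obj Z) :=
    (Triangle.isZero₁_iff_isIso₂ _ (q.jpst.map_distinguished _ hZ)).2 hjp
  have hbij := fun (M : S') (hM : IsZero (q.jpst.obj M)) =>
    H2_mv_glue_bijective q hq NU N' N a _ d hT M hM
  have hz12 : u ≫ (q.adjF.homEquiv N N').symm (a ≫ biprod.snd) = 0 :=
    comp_distTriang_mor_zero₁₂ _ hZ
  have hz23 : (q.adjF.homEquiv N N').symm (a ≫ biprod.snd) ≫ v = 0 :=
    comp_distTriang_mor_zero₂₃ _ hZ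
  have key : ∀ (M : S') (_ : IsZero (q.jpst.obj M)) (g : M ⟶ Z), g = 0 := by
    intro M hM g
    have h1 : g ≫ u = 0 := by
      apply (hbij M hM).1
      change (g ≫ u) ≫ (q.adjF.homEquiv N N').symm (a ≫ biprod.snd) =
        0 ≫ (q.adjF.homEquiv N N').symm (a ≫ biprod.snd)
      rw [Category.assoc, hz12, Limits.comp_zero, Limits.zero_comp]
    have h2 : g⟦(1 : ℤ)⟧' ≫ u⟦(1 : ℤ)⟧' = 0 := by
      rw [← Functor.map_comp, h1, Functor.map_zero]
    obtain ⟨h, hh⟩ : ∃ h : M⟦(1 : ℤ)⟧ ⟶ N', g⟦(1 : ℤ)⟧' = h ≫ v :=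
      Triangle.coyoneda_exact₁ _ hZ _ h2
    obtain ⟨h', hh'⟩ := (hbij (M⟦(1 : ℤ)⟧) (H2_isZero_map_shift q.jpst hM 1)).2 h
    have hh'' : h' ≫ (q.adjF.homEquiv N N').symm (a ≫ biprod.snd) = h := hh'
    have h3 : g⟦(1 : ℤ)⟧' = 0 := by
      rw [hh, ← hh'', Category.assoc, hz23, Limits.comp_zero]
    exact (shiftFunctor S' (1 : ℤ)).map_injective (by rw [h3, Functor.map_zero])
  have hZ0 : IsZero Z := by
    rw [IsZero.iff_id_eq_zero]
    exact key Z hZker _
  exact (Triangle.isZero₁_iff_isIso₂ _ hZ).1 hZ0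

end glue

end Groth.Agent.H2
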