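import Mathlib
import Groth.Agent.Lib.helper2.GenPoints

set_option autoImplicit false
universe u
open AlgebraicGeometry CategoryTheory CategoryTheory.Limits

namespace Groth.Agent.H2

/-- quasi-compactness descends along open surjective base change -/
theorem H2_quasiCompact_of_isPullback_of_isOpenMap_surjective {X Y X' Y' : Scheme.{u}} (f : X ⟶ Y)
    (g : Y' ⟶ Y) [Surjective g] (hg : IsOpenMap g) (g' : X' ⟶ X) (f' : X' ⟶ Y')
    (hsq : IsPullback g' f' f g) [QuasiCompact f'] : QuasiCompact f := by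
  constructor
  intro V hV hVc
  -- cover g⁻¹ V by compact opens
  have hbasis := Y'.isBasis_affineOpens
  -- for each point v of V choose y' with g y' = v and an affine open W ∋ y' inside g⁻¹ V
  have hex : ∀ v : V, ∃ W : Y'.Opens, IsAffineOpen W ∧ (W : Set Y') ⊆ g ⁻¹' V ∧ v.1 ∈ g '' (W : Set Y') := by
    rintro ⟨v, hv⟩
    obtain ⟨y', rfl⟩ := g.surjective v
    obtain ⟨_, ⟨W, hW, rfl⟩, hyW, hWsub⟩ :=
      hbasis.exists_subset_of_mem_open (show y' ∈ g ⁻¹' V from hv) (hV.preimage g.continuous)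
    exact ⟨W, hW, hWsub, y', hyW, rfl⟩
  choose W hWaff hWsub hWmem using hex
  obtain ⟨t, ht⟩ := hVc.elim_finite_subcover (fun v : V => g '' (W v : Set Y'))
    (fun v => hg _ (W v).isOpen) (fun v hv => Set.mem_iUnion.mpr ⟨⟨v, hv⟩, hWmem ⟨v, hv⟩⟩)
  let K : Set Y' := ⋃ v ∈ t, (W v : Set Y')
  have hKo : IsOpen K := isOpen_biUnion fun v _ => (W v).isOpen
  have hKc : IsCompact K := t.isCompact_biUnion fun v _ => (hWaff v).isCompact
  have hKV : g '' K = V := by
    apply le_antisymm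
    · rintro _ ⟨y', hy', rfl⟩
      obtain ⟨v, hv, hy'W⟩ := Set.mem_iUnion₂.mp hy'
      exact hWsub v hy'W
    · intro v hv
      obtain ⟨w, hw, y', hy', hy'v⟩ := Set.mem_iUnion₂.mp (ht hv)
      exact ⟨y', Set.mem_iUnion₂.mpr ⟨w, hw, hy'⟩, hy'v⟩
  have h1 : IsCompact (f' ⁻¹' K) := QuasiCompact.isCompact_preimage K hKo hKc
  have h2 : g' '' (f' ⁻¹' K) = f ⁻¹' V := by
    apply le_antisymm
    · rintro _ ⟨x', hx', rfl⟩
      have : f (g' x') = g (f' x') := by
        rw [← Scheme.Hom.comp_apply, ← Scheme.Hom.comp_apply, hsq.w]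
      change f (g' x') ∈ V
      rw [this, ← hKV]
      exact ⟨f' x', hx', rfl⟩
    · intro x hx
      have hx' : f x ∈ g '' K := hKV ▸ hx
      obtain ⟨y', hy'K, hy'⟩ := hx'
      obtain ⟨x', hx'1, hx'2⟩ := Scheme.Pullback.exists_preimage_pullback x y' hy'.symm
      let e := hsq.isoPullback
      refine ⟨e.inv x', ?_, ?_⟩
      · change f' (e.inv x') ∈ K
        rw [← Scheme.Hom.comp_apply, hsq.isoPullback_inv_snd, hx'2]
        exact hy'K
      · rw [← Scheme.Hom.comp_apply, hsq.isoPullback_inv_fst, hx'1]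
  rw [← h2]
  exact h1.image g'.continuous

/-- opens descend along quotient maps -/
theorem H2_opens_descend {S' S : Scheme.{u}} (g : S' ⟶ S) (hg : Topology.IsQuotientMap g)
    (U' : S'.Opens) (h : (pullback.fst g g) ⁻¹ᵁ U' = (pullback.snd g g) ⁻¹ᵁ U') :
    ∃! U : S.Opens, g ⁻¹ᵁ U = U' := by
  have hsat : g ⁻¹' (g '' (U' : Set S')) = U' := by
    apply le_antisymm
    · rintro s' ⟨t', ht', htt⟩
      obtain ⟨z, hz1, hz2⟩ := Scheme.Pullback.exists_preimage_pullback s' t' htt.symm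
      have h1 : z ∈ (pullback.snd g g) ⁻¹ᵁ U' := by
        change pullback.snd g g z ∈ U'
        rw [hz2]; exact ht'
      rw [← h] at h1
      have h2 : pullback.fst g g z ∈ U' := h1
      rwa [hz1] at h2
    · exact Set.subset_preimage_image _ _
  have hopen : IsOpen (g '' (U' : Set S')) := by
    rw [← hg.isOpen_preimage, hsat]
    exact U'.isOpen
  refine ⟨⟨g '' (U' : Set S'), hopen⟩, ?_, ?_⟩
  · exact TopologicalSpace.Opens.ext hsat
  · intro V hV
    apply TopologicalSpace.Opens.ext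
    change (V : Set S) = g '' (U' : Set S')
    rw [← hV]
    change (V : Set S) = g '' (g ⁻¹' (V : Set S))
    rw [Set.image_preimage_eq _ hg.surjective]

/-- closures of images of a locally finite family of closed sets under a quasi-compact morphism -/
theorem H2_locallyFinite_closure_image {X Y : Scheme.{u}} (f : X ⟶ Y) [QuasiCompact f]
    {ι : Type*} (Z : ι → Set X) (hlf : LocallyFinite Z) :
    LocallyFinite (fun i => closure (f '' Z i)) := by
  intro y
  obtain ⟨_, ⟨V, hV, rfl⟩, hyV, -⟩ :=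
    Y.isBasis_affineOpens.exists_subset_of_mem_open (Set.mem_univ y) isOpen_univ
  have hV' : IsAffineOpen V := hV
  refine ⟨V, V.isOpen.mem_nhds hyV, ?_⟩
  have hc : IsCompact (f ⁻¹' (V : Set Y)) :=
    QuasiCompact.isCompact_preimage _ V.isOpen hV'.isCompact
  refine (hlf.finite_nonempty_inter_compact hc).subset ?_
  rintro i ⟨z, hz1, hz2⟩
  obtain ⟨_, hxV, ⟨x, hx, rfl⟩⟩ := mem_closure_iff.mp hz1 V V.isOpen hz2
  exact ⟨x, hx, hxV⟩

/-- preimage of a dense open under a generalizing map, locally Noetherian target -/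
theorem H2_dense_preimage_of_generalizing {X Y : Scheme.{u}} [IsLocallyNoetherian Y] (f : X ⟶ Y)
    (hf : GeneralizingMap f) (U : Y.Opens) (hU : Dense (U : Set Y)) :
    Dense ((f ⁻¹ᵁ U : X.Opens) : Set X) := by
  intro x
  obtain ⟨ξ, -, hξx, hξmax⟩ := H2_exists_maximal_point (X := X) Set.univ isClosed_univ x trivial
  -- f ξ is maximal
  have hfmax : ∀ y' : Y, y' ⤳ f ξ → y' = f ξ := by
    intro y' hy'
    obtain ⟨ξ', hξ', hfξ'⟩ := hf hy'
    have := hξmax ξ' trivial hξ'
    rw [← hfξ', this]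
  -- f ξ ∈ U
  have hN : ∃ N ∈ nhds (f ξ), TopologicalSpace.NoetherianSpace ↥N := by
    obtain ⟨_, ⟨W, hW, rfl⟩, hyW, -⟩ :=
      Y.isBasis_affineOpens.exists_subset_of_mem_open (Set.mem_univ (f ξ)) isOpen_univ
    have hW' : IsAffineOpen W := hW
    haveI : IsNoetherianRing Γ(Y, W) := IsLocallyNoetherian.component_noetherian ⟨W, hW'⟩
    exact ⟨W, W.isOpen.mem_nhds hyW, noetherianSpace_of_isAffineOpen W hW'⟩
  obtain ⟨u, huU, huξ⟩ := H2_exists_specializes_of_mem_closure (U : Set Y) U.isOpen (f ξ) hN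
    (hU (f ξ))
  have hfξU : f ξ ∈ U := by rw [← hfmax u huξ]; exact huU
  have hξ : ξ ∈ ((f ⁻¹ᵁ U : X.Opens) : Set X) := hfξU
  exact hξx.mem_closed isClosed_closure (subset_closure hξ)

end Groth.Agent.H2
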