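import Mathlib
import Groth.Agent.Lib.helper2.GenPoints
import Groth.Agent.Lib.helper2.MaxPt

set_option autoImplicit false
universe u
open AlgebraicGeometry CategoryTheory CategoryTheory.Limits

namespace Groth.Agent.H2

/-- separatedness descends along a finite (universally closed suffices) surjective morphism -/
theorem H2_isSeparated_of_universallyClosed_surjective {S X Y : Scheme.{u}} (p : X ⟶ S) (q : Y ⟶ S)
    (π : X ⟶ Y) (hπ : π ≫ q = p) [UniversallyClosed π] [Surjective π] [IsSeparated p] :
    IsSeparated q := by
  have hP : (@UniversallyClosed : MorphismProperty Scheme.{u})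
      (pullback.map p p q q π π (𝟙 S) ((Category.comp_id _).trans hπ.symm)
        ((Category.comp_id _).trans hπ.symm)) :=
    MorphismProperty.pullbackMap (P := @UniversallyClosed) ‹_› ‹_› hπ.symm hπ.symm
  set ππ := pullback.map p p q q π π (𝟙 S) ((Category.comp_id _).trans hπ.symm)
        ((Category.comp_id _).trans hπ.symm) with hππ
  have hcomm : pullback.diagonal p ≫ ππ = π ≫ pullback.diagonal q := by
    apply pullback.hom_ext
    · rw [Category.assoc, Category.assoc, pullback.lift_fst, pullback.diagonal_fst,
        Category.comp_id, ← Category.assoc, pullback.diagonal_fst, Category.id_comp]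
    · rw [Category.assoc, Category.assoc, pullback.lift_snd, pullback.diagonal_snd,
        Category.comp_id, ← Category.assoc, pullback.diagonal_snd, Category.id_comp]
  have hclosed : IsClosed (Set.range (pullback.diagonal p)) :=
    (pullback.diagonal p).isClosedEmbedding.isClosed_range
  have hrange : Set.range (pullback.diagonal q) = ππ '' Set.range (pullback.diagonal p) := by
    have h1 : Set.range (pullback.diagonal q) = Set.range (π ≫ pullback.diagonal q) := by
      rw [Scheme.Hom.comp_base, TopCat.coe_comp, Set.range_comp, Set.range_eq_univ.mpr π.surjective,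
        Set.image_univ]
    rw [h1, ← hcomm, Scheme.Hom.comp_base, TopCat.coe_comp, Set.range_comp]
  constructor
  refine IsClosedImmersion.of_isPreimmersion _ ?_
  rw [hrange]
  haveI : UniversallyClosed ππ := hP
  exact ππ.isClosedMap _ hclosed

theorem H2_eqvGen_specializes_of_noetherian_connected (X : Type*) [TopologicalSpace X]
    [TopologicalSpace.NoetherianSpace X] [QuasiSober X] [ConnectedSpace X] (p q : X) :
    Relation.EqvGen (fun x y : X => x ⤳ y) p q := by
  classical
  let r : X → X → Prop := Relation.EqvGen (fun x y : X => x ⤳ y)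
  have hfin : (irreducibleComponents X).Finite :=
    TopologicalSpace.NoetherianSpace.finite_irreducibleComponents
  -- every point is related to the generic point of a component containing it; the class of p
  -- is a union of components
  have hgen : ∀ Z ∈ irreducibleComponents X, ∃ η : X, IsGenericPoint η Z := fun Z hZ =>
    QuasiSober.sober hZ.1 (isClosed_of_mem_irreducibleComponents Z hZ)
  have hclass : ∀ a : X, {x | r a x} = ⋃₀ {Z | Z ∈ irreducibleComponents X ∧ ∃ x ∈ Z, r a x} := by
    intro a
    ext x
    constructor
    · intro hx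
      exact ⟨irreducibleComponent x, ⟨irreducibleComponent_mem_irreducibleComponents x, x,
        mem_irreducibleComponent, hx⟩, mem_irreducibleComponent⟩
    · rintro ⟨Z, ⟨hZ, y, hyZ, hay⟩, hxZ⟩
      obtain ⟨η, hη⟩ := hgen Z hZ
      have h1 : r η y := Relation.EqvGen.rel _ _ (hη.specializes hyZ)
      have h2 : r η x := Relation.EqvGen.rel _ _ (hη.specializes hxZ)
      exact Relation.EqvGen.trans _ _ _ hay (Relation.EqvGen.trans _ _ _
        (Relation.EqvGen.symm _ _ h1) h2)
  have hclosed : ∀ a : X, IsClosed {x | r a x} := by
    intro a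
    rw [hclass a]
    rw [Set.sUnion_eq_biUnion]
    apply Set.Finite.isClosed_biUnion (hfin.subset fun Z hZ => hZ.1)
    intro Z hZ
    exact isClosed_of_mem_irreducibleComponents Z hZ.1
  -- complement is the union of the other classes, also closed
  have hcompl : IsClosed {x | ¬ r p x} := by
    have : {x | ¬ r p x} = ⋃₀ {Z | Z ∈ irreducibleComponents X ∧ ∃ x ∈ Z, ¬ r p x} := by
      ext x
      constructor
      · intro hx
        exact ⟨irreducibleComponent x, ⟨irreducibleComponent_mem_irreducibleComponents x, x,
          mem_irreducibleComponent, hx⟩, mem_irreducibleComponent⟩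
      · rintro ⟨Z, ⟨hZ, y, hyZ, hpy⟩, hxZ⟩ hpx
        obtain ⟨η, hη⟩ := hgen Z hZ
        have h1 : r η y := Relation.EqvGen.rel _ _ (hη.specializes hyZ)
        have h2 : r η x := Relation.EqvGen.rel _ _ (hη.specializes hxZ)
        exact hpy (Relation.EqvGen.trans _ _ _ hpx (Relation.EqvGen.trans _ _ _
          (Relation.EqvGen.symm _ _ h2) h1))
    rw [this]
    rw [Set.sUnion_eq_biUnion]
    apply Set.Finite.isClosed_biUnion (hfin.subset fun Z hZ => hZ.1)
    intro Z hZ
    exact isClosed_of_mem_irreducibleComponents Z hZ.1
  have hclopen : IsClopen {x | r p x} := ⟨hclosed p, by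
    rw [← isClosed_compl_iff]; exact hcompl⟩
  have := hclopen.eq_univ ⟨p, Relation.EqvGen.refl p⟩
  have hq : q ∈ {x | r p x} := this ▸ Set.mem_univ q
  exact hq

end Groth.Agent.H2

namespace Groth.Agent.H2

theorem H2_component_eq_closure_image {X S : Type*} [TopologicalSpace X] [TopologicalSpace S]
    (f : X → S) (hf : Continuous f) (hd : DenseRange f)
    (hX : (irreducibleComponents X).Finite) (W : Set S) (hW : W ∈ irreducibleComponents S) :
    ∃ Z ∈ irreducibleComponents X, W = closure (f '' Z) := by
  classical
  have hcov : (Set.univ : Set S) = ⋃ Z ∈ irreducibleComponents X, closure (f '' Z) := by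
    have h1 : IsClosed (⋃ Z ∈ irreducibleComponents X, closure (f '' Z)) :=
      hX.isClosed_biUnion fun Z _ => isClosed_closure
    have h2 : Set.range f ⊆ ⋃ Z ∈ irreducibleComponents X, closure (f '' Z) := by
      rintro _ ⟨x, rfl⟩
      exact Set.mem_biUnion (irreducibleComponent_mem_irreducibleComponents x)
        (subset_closure ⟨x, mem_irreducibleComponent, rfl⟩)
    have h3 := closure_minimal h2 h1
    rw [hd.closure_range] at h3
    exact le_antisymm h3 (Set.subset_univ _)
  obtain ⟨z, hz, hsub⟩ := isIrreducible_iff_sUnion_isClosed.mp hW.1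
    (hX.toFinset.image fun Z => closure (f '' Z))
    (by intro z hz
        simp only [Finset.mem_image, Set.Finite.mem_toFinset] at hz
        obtain ⟨Z, -, rfl⟩ := hz; exact isClosed_closure)
    (by intro w _
        have : w ∈ ⋃ Z ∈ irreducibleComponents X, closure (f '' Z) := hcov ▸ Set.mem_univ w
        obtain ⟨Z, hZ, hwZ⟩ := Set.mem_iUnion₂.mp this
        refine Set.mem_sUnion.mpr ⟨closure (f '' Z), ?_, hwZ⟩
        simp only [Finset.coe_image, Set.mem_image, Finset.mem_coe, Set.Finite.mem_toFinset]
        exact ⟨Z, hZ, rfl⟩)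
  simp only [Finset.mem_image, Set.Finite.mem_toFinset] at hz
  obtain ⟨Z, hZ, rfl⟩ := hz
  refine ⟨Z, hZ, le_antisymm hsub ?_⟩
  exact hW.2 (hZ.1.image f hf.continuousOn).closure hsub

theorem H2_dominant_iff_of_finite_components {X S : Scheme.{u}} (f : X ⟶ S)
    (hX : (irreducibleComponents (↑X : Type u)).Finite) :
    (IsDominant f ↔ ∀ s : ↑S, closure {s} ∈ irreducibleComponents (↑S : Type u) →
        s ∈ Set.range f) ∧
      (IsDominant f → (irreducibleComponents (↑S : Type u)).Finite) := by
  constructor
  · constructor
    · intro hdom s hs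
      obtain ⟨Z, hZ, hWZ⟩ := H2_component_eq_closure_image f f.continuous hdom.1 hX _ hs
      obtain ⟨ξ, hξ⟩ := QuasiSober.sober hZ.1 (isClosed_of_mem_irreducibleComponents Z hZ)
      have h1 : IsGenericPoint (f ξ) (closure (f '' Z)) := hξ.image f.continuous
      have h2 : IsGenericPoint s (closure (f '' Z)) := hWZ ▸ (rfl : closure {s} = closure {s})
      exact ⟨ξ, h1.eq h2⟩
    · intro h
      refine ⟨fun y => ?_⟩
      obtain ⟨η, -, hηy, hηmax⟩ :=
        H2_exists_maximal_point (X := S) Set.univ isClosed_univ y trivial
      have hη : closure {η} ∈ irreducibleComponents (↑S : Type u) :=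
        (H2_closure_singleton_mem_irreducibleComponents_iff η).mpr
          (fun z hz => hηmax z trivial hz)
      exact hηy.mem_closed isClosed_closure (subset_closure (h η hη))
  · intro hdom
    refine (hX.image fun Z => closure (f '' Z)).subset ?_
    intro W hW
    obtain ⟨Z, hZ, hWZ⟩ := H2_component_eq_closure_image f f.continuous hdom.1 hX W hW
    exact ⟨Z, hZ, hWZ.symm⟩

end Groth.Agent.H2
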