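import Mathlib

set_option autoImplicit false
universe w v u

namespace Groth.Agent.H2

open CategoryTheory Limits Abelian

variable {C : Type u} [Category.{v} C] [Abelian C] [HasExt.{w} C]

/-- Extension along the mono of a short exact sequence when `Ext¹(X₃, Y) = 0`. -/
lemma H2_exists_extension {S : ShortComplex C} (hS : S.ShortExact) {Y : C} (x : S.X₁ ⟶ Y)
    (h : Subsingleton (Ext S.X₃ Y 1)) : ∃ y : S.X₂ ⟶ Y, S.f ≫ y = x := by
  obtain ⟨x₂, hx₂⟩ := Ext.contravariant_sequence_exact₁ hS Y (Ext.mk₀ x) (by lia : 1 + 0 = 1)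
    (Subsingleton.elim _ _)
  obtain ⟨y, rfl⟩ := (Ext.mk₀_bijective S.X₂ Y).2 x₂
  rw [Ext.mk₀_comp_mk₀] at hx₂
  exact ⟨y, (Ext.mk₀_bijective _ _).1 hx₂⟩

/-- Lifting along the epi of a short exact sequence when `Ext¹(X, X₁) = 0`. -/
lemma H2_exists_lifting {S : ShortComplex C} (hS : S.ShortExact) {X : C} (x : X ⟶ S.X₃)
    (h : Subsingleton (Ext X S.X₁ 1)) : ∃ y : X ⟶ S.X₂, y ≫ S.g = x := by
  obtain ⟨x₂, hx₂⟩ := Ext.covariant_sequence_exact₃ X hS (Ext.mk₀ x) (by lia : 0 + 1 = 1)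
    (Subsingleton.elim _ _)
  obtain ⟨y, rfl⟩ := (Ext.mk₀_bijective X S.X₂).2 x₂
  rw [Ext.mk₀_comp_mk₀] at hx₂
  exact ⟨y, (Ext.mk₀_bijective _ _).1 hx₂⟩

/-- `Ext¹(X₁, Y) = 0` from `Ext¹(X₂, Y) = 0` and `Ext²(X₃, Y) = 0`. -/
lemma H2_subsingleton_ext_one {S : ShortComplex C} (hS : S.ShortExact) (Y : C)
    (h2 : Subsingleton (Ext S.X₂ Y 1)) (h3 : Subsingleton (Ext S.X₃ Y 2)) :
    Subsingleton (Ext S.X₁ Y 1) := by
  refine ⟨fun a b => ?_⟩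
  have key : ∀ x : Ext S.X₁ Y 1, x = 0 := by
    intro x
    obtain ⟨x₂, hx₂⟩ := Ext.contravariant_sequence_exact₁ hS Y x (by lia : 1 + 1 = 2)
      (Subsingleton.elim _ _)
    rw [← hx₂, Subsingleton.elim x₂ 0, Ext.comp_zero]
  rw [key a, key b]


section Monad

variable (M M' : ShortComplex C)

/-- `0 → K → B → C → 0` for a short complex with epi `g`. -/
lemma H2_monad_T₁_shortExact [Epi M.g] :
    (ShortComplex.mk M.iCycles M.g M.iCycles_g).ShortExact where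
  exact := ShortComplex.exact_of_f_is_kernel _ M.cyclesIsKernel
  mono_f := by dsimp; infer_instance
  epi_g := by dsimp; infer_instance

/-- `0 → A → B → Q → 0` for a short complex with mono `f`. -/
lemma H2_monad_T₂_shortExact [Mono M.f] :
    (ShortComplex.mk M.f M.pOpcycles M.f_pOpcycles).ShortExact where
  exact := ShortComplex.exact_of_g_is_cokernel _ M.opcyclesIsCokernel
  mono_f := by dsimp; infer_instance
  epi_g := by dsimp; infer_instance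

lemma H2_monad_toCycles_exact :
    (ShortComplex.mk M.toCycles M.homologyπ M.toCycles_comp_homologyπ).Exact :=
  ShortComplex.exact_of_g_is_cokernel _ M.homologyIsCokernel

instance [Mono M.f] : Mono M.toCycles := by
  have : Mono (M.toCycles ≫ M.iCycles) := by rw [M.toCycles_i]; infer_instance
  exact mono_of_mono M.toCycles M.iCycles

variable {M M'}

lemma H2_monad_hom_eq_zero [Epi M.g] [Mono M'.f]
    (hBA : ∀ f : M.X₂ ⟶ M'.X₁, f = 0) (hCB : ∀ f : M.X₃ ⟶ M'.X₂, f = 0)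
    (hCA₁ : Subsingleton (Ext M.X₃ M'.X₁ 1))
    (φ : M ⟶ M') (hφ : ShortComplex.homologyMap φ = 0) : φ = 0 := by
  have hT₁ := H2_monad_T₁_shortExact M
  -- cyclesMap φ factors through toCycles'
  have h1 : ShortComplex.cyclesMap φ ≫ M'.homologyπ = 0 := by
    rw [← ShortComplex.homologyπ_naturality, hφ, Limits.comp_zero]
  obtain ⟨ψ, hψ⟩ : ∃ ψ : M.cycles ⟶ M'.X₁, ψ ≫ M'.toCycles = ShortComplex.cyclesMap φ :=
    (H2_monad_toCycles_exact M').lift' (ShortComplex.cyclesMap φ) h1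
  obtain ⟨y, hy⟩ : ∃ y : M.X₂ ⟶ M'.X₁, M.iCycles ≫ y = ψ :=
    H2_exists_extension hT₁ ψ hCA₁
  have hψ0 : ψ = 0 := by rw [← hy, hBA y, Limits.comp_zero]
  have h2 : M.iCycles ≫ φ.τ₂ = 0 := by
    rw [← ShortComplex.cyclesMap_i, ← hψ, hψ0, Limits.zero_comp, Limits.zero_comp]
  obtain ⟨β, hβ⟩ : ∃ β : M.X₃ ⟶ M'.X₂, M.g ≫ β = φ.τ₂ := hT₁.exact.desc' φ.τ₂ h2
  have hτ₂ : φ.τ₂ = 0 := by rw [← hβ, hCB β, Limits.comp_zero]
  have hτ₁ : φ.τ₁ = 0 := by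
    rw [← cancel_mono M'.f, φ.comm₁₂, hτ₂, Limits.comp_zero, Limits.zero_comp]
  have hτ₃ : φ.τ₃ = 0 := by
    rw [← cancel_epi M.g, ← φ.comm₂₃, hτ₂, Limits.zero_comp, Limits.comp_zero]
  ext
  · exact hτ₁
  · exact hτ₂
  · exact hτ₃

lemma H2_monad_hom_exists [Mono M.f] [Epi M.g] [Mono M'.f] [Epi M'.g]
    (hCA₁ : Subsingleton (Ext M.X₃ M'.X₁ 1)) (hBA₁ : Subsingleton (Ext M.X₂ M'.X₁ 1))
    (hCB₁ : Subsingleton (Ext M.X₃ M'.X₂ 1)) (hCA₂ : Subsingleton (Ext M.X₃ M'.X₁ 2))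
    (e : M.homology ⟶ M'.homology) : ∃ φ : M ⟶ M', ShortComplex.homologyMap φ = e := by
  have hT₁ := H2_monad_T₁_shortExact M
  have hT₂ := H2_monad_T₂_shortExact M'
  have hKA : Subsingleton (Ext M.cycles M'.X₁ 1) :=
    H2_subsingleton_ext_one hT₁ M'.X₁ hBA₁ hCA₂
  obtain ⟨κ, hκ⟩ : ∃ κ : M.cycles ⟶ M'.X₂,
      κ ≫ M'.pOpcycles = M.homologyπ ≫ e ≫ M'.homologyι :=
    H2_exists_lifting hT₂ (M.homologyπ ≫ e ≫ M'.homologyι) hKA
  obtain ⟨β, hβ⟩ : ∃ β : M.X₂ ⟶ M'.X₂, M.iCycles ≫ β = κ :=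
    H2_exists_extension hT₁ κ hCB₁
  have h1 : (M.f ≫ β) ≫ M'.pOpcycles = 0 := by
    rw [← M.toCycles_i, Category.assoc, Category.assoc, reassoc_of% hβ, hκ,
      M.toCycles_comp_homologyπ_assoc, Limits.zero_comp]
  obtain ⟨α, hα⟩ : ∃ α : M.X₁ ⟶ M'.X₁, α ≫ M'.f = M.f ≫ β :=
    hT₂.exact.lift' (M.f ≫ β) h1
  have h2 : M.iCycles ≫ β ≫ M'.g = 0 := by
    rw [reassoc_of% hβ, ← M'.p_fromOpcycles, reassoc_of% hκ,
      M'.homologyι_comp_fromOpcycles, Limits.comp_zero, Limits.comp_zero]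
  obtain ⟨γ, hγ⟩ : ∃ γ : M.X₃ ⟶ M'.X₃, M.g ≫ γ = β ≫ M'.g :=
    hT₁.exact.desc' (β ≫ M'.g) h2
  refine ⟨ShortComplex.Hom.mk α β γ hα hγ.symm, ?_⟩
  rw [← cancel_epi M.homologyπ, ← cancel_mono M'.homologyι, Category.assoc,
    ShortComplex.homologyπ_naturality_assoc, ShortComplex.homology_π_ι,
    ShortComplex.cyclesMap_i_assoc, Category.assoc, ← hκ, ← hβ, Category.assoc]

end Monad

end Groth.Agent.H2
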