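import Mathlib
import Groth.Agent.Lib.helper2.GorDual

set_option autoImplicit false

namespace Groth.Agent.H2

open CategoryTheory CategoryTheory.Limits DerivedCategory Pretriangulated

universe w' u

variable (R : Type u) [CommRing R] [HasDerivedCategory.{w'} (ModuleCat.{u} R)]

theorem H2_nearProj_fwd (M N : ModuleCat.{u} R) (a : R) (P : ModuleCat.{u} R)
    [Projective P] (f : M ⟶ P) (g : P ⟶ M) (hfg : f ≫ g = a • 𝟙 M)
    (x : (singleFunctor (ModuleCat.{u} R) 0).obj M ⟶
      ((singleFunctor (ModuleCat.{u} R) 0).obj N)⟦(1 : ℤ)⟧) : a • x = 0 := by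
  have h1 : a • x = (a • 𝟙 ((singleFunctor (ModuleCat.{u} R) 0).obj M)) ≫ x := by
    rw [Linear.smul_comp, Category.id_comp]
  have h2 : a • 𝟙 ((singleFunctor (ModuleCat.{u} R) 0).obj M) =
      (singleFunctor (ModuleCat.{u} R) 0).map f ≫ (singleFunctor (ModuleCat.{u} R) 0).map g := by
    rw [← Functor.map_comp, hfg, Functor.map_smul, CategoryTheory.Functor.map_id]
  haveI := H2_subsingleton_of_projective' P N (1 : ℤ) (by decide)
  have h3 : (singleFunctor (ModuleCat.{u} R) 0).map g ≫ x = 0 := Subsingleton.elim _ _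
  rw [h1, h2, Category.assoc, h3, comp_zero]

theorem H2_nearProj_bwd (S : ShortComplex (ModuleCat.{u} R)) (hS : S.ShortExact) (a : R)
    (h : a • hS.singleδ = 0) : ∃ f : S.X₃ ⟶ S.X₂, f ≫ S.g = a • 𝟙 S.X₃ := by
  have h1 : (a • 𝟙 ((singleFunctor (ModuleCat.{u} R) 0).obj S.X₃)) ≫ hS.singleTriangle.mor₃ = 0 := by
    rw [Linear.smul_comp, Category.id_comp]
    exact h
  obtain ⟨φ, hφ⟩ := Triangle.coyoneda_exact₃ _ hS.singleTriangle_distinguished _ h1
  obtain ⟨f, rfl⟩ := (singleFunctor (ModuleCat.{u} R) 0).map_surjective φ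
  refine ⟨f, ?_⟩
  apply (singleFunctor (ModuleCat.{u} R) 0).map_injective
  rw [Functor.map_comp, Functor.map_smul, CategoryTheory.Functor.map_id]
  exact hφ.symm

end Groth.Agent.H2
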