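import Mathlib

set_option autoImplicit false
universe u
open AlgebraicGeometry CategoryTheory CategoryTheory.Limits

namespace Groth.Agent.H2

/-- If `Spec B → Spec A` is an open map then generalizations lift along it. -/
theorem H2_generalizingMap_comap_of_isOpenMap {A B : Type*} [CommRing A] [CommRing B]
    (φ : A →+* B) (hopen : IsOpenMap (PrimeSpectrum.comap φ)) :
    GeneralizingMap (PrimeSpectrum.comap φ) := by
  intro q p' hp'
  -- p' ≤ comap q
  have hle : p'.asIdeal ≤ (PrimeSpectrum.comap φ q).asIdeal :=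
    (PrimeSpectrum.le_iff_specializes p' _).mpr hp'
  let S : Submonoid B := Submonoid.map φ p'.asIdeal.primeCompl ⊔ q.asIdeal.primeCompl
  let I : Ideal B := Ideal.map φ p'.asIdeal
  have hdisj : Disjoint (I : Set B) S := by
    rw [Set.disjoint_left]
    intro s hsI hsS
    obtain ⟨m, hm, g, hg, rfl⟩ := Submonoid.mem_sup.mp hsS
    obtain ⟨a, ha, rfl⟩ := Submonoid.mem_map.mp hm
    -- D(g) ∋ q open; image open contains comap q hence p'
    have hDg : IsOpen (PrimeSpectrum.comap φ '' (PrimeSpectrum.basicOpen g : Set (PrimeSpectrum B))) :=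
      hopen _ (PrimeSpectrum.basicOpen g).isOpen
    have hq : PrimeSpectrum.comap φ q ∈
        PrimeSpectrum.comap φ '' (PrimeSpectrum.basicOpen g : Set (PrimeSpectrum B)) :=
      ⟨q, hg, rfl⟩
    obtain ⟨q'', hq''g, hq''⟩ := hp'.mem_open hDg hq
    have h1 : φ a * g ∈ q''.asIdeal := by
      have : I ≤ q''.asIdeal := by
        rw [Ideal.map_le_iff_le_comap]
        intro z hz
        have : z ∈ (PrimeSpectrum.comap φ q'').asIdeal := by rw [hq'']; exact hz
        exact this
      exact this hsI
    rcases q''.isPrime.mem_or_mem h1 with h2 | h2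
    · have : a ∈ (PrimeSpectrum.comap φ q'').asIdeal := h2
      rw [hq''] at this
      exact ha this
    · exact hq''g h2
  obtain ⟨Q, hQ, hIQ, hQS⟩ := Ideal.exists_le_prime_disjoint I S hdisj
  refine ⟨⟨Q, hQ⟩, ?_, ?_⟩
  · change (⟨Q, hQ⟩ : PrimeSpectrum B) ⤳ q
    rw [← PrimeSpectrum.le_iff_specializes]
    intro z hz
    by_contra hzq
    exact Set.disjoint_left.mp hQS hz (Submonoid.mem_sup_right (show z ∈ q.asIdeal.primeCompl from hzq))
  · apply PrimeSpectrum.ext
    apply le_antisymm
    · intro a ha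
      by_contra hap
      have h1 : φ a ∈ Q := ha
      exact Set.disjoint_left.mp hQS h1
        (Submonoid.mem_sup_left (Submonoid.mem_map.mpr ⟨a, hap, rfl⟩))
    · intro a ha
      exact hIQ (Ideal.mem_map_of_mem φ ha)

end Groth.Agent.H2

namespace Groth.Agent.H2

theorem H2_isOpenMap_of_comm {α β γ δ : Type*} [TopologicalSpace α] [TopologicalSpace β]
    [TopologicalSpace γ] [TopologicalSpace δ] (a : α → β) (g : β → δ) (b : α → γ) (f : γ → δ)
    (hcomm : g ∘ a = f ∘ b) (hg : Function.Injective g) (hgc : Continuous g)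
    (hb : IsOpenMap b) (hf : IsOpenMap f) : IsOpenMap a := by
  intro W hW
  have : a '' W = g ⁻¹' (f '' (b '' W)) := by
    rw [← Set.image_comp, ← hcomm, Set.image_comp, Set.preimage_image_eq _ hg]
  rw [this]
  exact (hf _ (hb _ hW)).preimage hgc

theorem H2_generalizingMap_of_isOpenMap {X Y : Scheme.{u}} (f : X ⟶ Y) (hf : IsOpenMap f) :
    GeneralizingMap f := by
  have := HasRingHomProperty.of_isZariskiLocalAtSource_of_isZariskiLocalAtTarget.{u}
    (topologically GeneralizingMap)
  change topologically GeneralizingMap f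
  rw [HasRingHomProperty.iff_appLE (P := topologically GeneralizingMap)]
  intro U V e
  apply H2_generalizingMap_comap_of_isOpenMap
  have hcomm := IsAffineOpen.SpecMap_appLE_fromSpec f U.2 V.2 e
  refine H2_isOpenMap_of_comm (Spec.map (f.appLE U V e)) U.2.fromSpec V.2.fromSpec f ?_
    U.2.fromSpec.isOpenEmbedding.injective U.2.fromSpec.continuous
    V.2.fromSpec.isOpenEmbedding.isOpenMap hf
  ext z
  have := congrArg (fun h : Spec Γ(X, V.1) ⟶ Y => h z) hcomm
  simpa using this

end Groth.Agent.H2
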