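import Mathlib

set_option autoImplicit false
universe v u
open CategoryTheory CategoryTheory.Limits CategoryTheory.Pretriangulated

namespace Groth.Agent.H2

/-- `T.obj₃ ∈ P^⊥` iff `Hom(A, T.obj₁) → Hom(A, T.obj₂)` is bijective for all `A ∈ P`
(no octahedron needed). -/
theorem H2_rightOrth_iff_bij {D : Type u} [Category.{v} D] [Preadditive D] [HasZeroObject D] [HasShift D ℤ]
    [∀ n : ℤ, (shiftFunctor D n).Additive] [Pretriangulated D]
    (P : ObjectProperty D) [P.IsStableUnderShift ℤ] (T : Triangle D) (hT : T ∈ distinguishedTriangles) :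
    P.rightOrthogonal T.obj₃ ↔ ∀ A : D, P A → Function.Bijective (fun u : A ⟶ T.obj₁ => u ≫ T.mor₁) := by
  have lemA : ∀ (A : D), (∀ u : A⟦(-1 : ℤ)⟧ ⟶ T.obj₁, u ≫ T.mor₁ = 0 → u = 0) →
      ∀ w : A ⟶ T.obj₁⟦(1 : ℤ)⟧, w ≫ T.mor₁⟦(1 : ℤ)⟧' = 0 → w = 0 := by
    intro A hA w hw
    have nat := (shiftFunctorCompIsoId D (1 : ℤ) (-1) (add_neg_cancel 1)).hom.naturality T.mor₁
    dsimp at nat
    have h1 : (w⟦(-1 : ℤ)⟧' ≫ (shiftFunctorCompIsoId D (1 : ℤ) (-1) (add_neg_cancel 1)).hom.app T.obj₁) ≫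
        T.mor₁ = 0 := by
      rw [Category.assoc, ← nat, ← Category.assoc, ← Functor.map_comp, hw, Functor.map_zero, zero_comp]
    have h2 := hA _ h1
    have h3 : w⟦(-1 : ℤ)⟧' = 0 := by
      rw [← cancel_mono ((shiftFunctorCompIsoId D (1 : ℤ) (-1) (add_neg_cancel 1)).hom.app T.obj₁),
        h2, zero_comp]
    apply (shiftFunctor D (-1 : ℤ)).map_injective
    rw [h3, Functor.map_zero]
  constructor
  · intro hZ A hA
    constructor
    · intro u₁ u₂ hu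
      have h0 : (u₁ - u₂) ≫ T.mor₁ = 0 := by
        rw [Preadditive.sub_comp]; exact sub_eq_zero.mpr hu
      obtain ⟨g, hg⟩ := Triangle.coyoneda_exact₂ T.invRotate (inv_rot_of_distTriang _ hT)
        (u₁ - u₂) h0
      have hZ' : P.rightOrthogonal (T.obj₃⟦(-1 : ℤ)⟧) := P.rightOrthogonal.le_shift (-1 : ℤ) _ hZ
      have hg0 : g = 0 := hZ' g hA
      rw [hg0, zero_comp] at hg
      exact sub_eq_zero.mp hg
    · intro v
      obtain ⟨u, hu⟩ := Triangle.coyoneda_exact₂ T hT v (hZ _ hA)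
      exact ⟨u, hu.symm⟩
  · intro H A f hA
    have hA' : P (A⟦(-1 : ℤ)⟧) := P.le_shift (-1 : ℤ) _ hA
    have hinj : ∀ u : A⟦(-1 : ℤ)⟧ ⟶ T.obj₁, u ≫ T.mor₁ = 0 → u = 0 := by
      intro u hu
      apply (H _ hA').1
      simp only [hu, zero_comp]
    have h1 : f ≫ T.mor₃ = 0 := by
      apply lemA A hinj
      rw [Category.assoc, comp_distTriang_mor_zero₃₁ T hT, comp_zero]
    obtain ⟨v, hv⟩ := Triangle.coyoneda_exact₃ T hT f h1
    obtain ⟨u, hu⟩ := (H A hA).2 v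
    simp only at hu
    rw [hv, ← hu, Category.assoc, comp_distTriang_mor_zero₁₂ T hT, comp_zero]


/-- `T.obj₁ ∈ ^⊥P` iff `Hom(T.obj₃, B) → Hom(T.obj₂, B)` is bijective for all `B ∈ P`. -/
theorem H2_leftOrth_iff_bij {D : Type u} [Category.{v} D] [Preadditive D] [HasZeroObject D] [HasShift D ℤ]
    [∀ n : ℤ, (shiftFunctor D n).Additive] [Pretriangulated D]
    (P : ObjectProperty D) [P.IsStableUnderShift ℤ] (T : Triangle D) (hT : T ∈ distinguishedTriangles) :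
    P.leftOrthogonal T.obj₁ ↔ ∀ B : D, P B → Function.Bijective (fun u : T.obj₃ ⟶ B => T.mor₂ ≫ u) := by
  constructor
  · intro hX B hB
    constructor
    · intro u₁ u₂ hu
      have h0 : T.mor₂ ≫ (u₁ - u₂) = 0 := by
        rw [Preadditive.comp_sub]; exact sub_eq_zero.mpr hu
      obtain ⟨g, hg⟩ := Triangle.yoneda_exact₃ T hT (u₁ - u₂) h0
      have hX' : P.leftOrthogonal (T.obj₁⟦(1 : ℤ)⟧) := P.leftOrthogonal.le_shift (1 : ℤ) _ hX
      have hg0 : g = 0 := hX' g hB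
      rw [hg0, comp_zero] at hg
      exact sub_eq_zero.mp hg
    · intro v
      obtain ⟨u, hu⟩ := Triangle.yoneda_exact₂ T hT v (hX _ hB)
      exact ⟨u, hu.symm⟩
  · intro H B f hB
    have hB' : P (B⟦(1 : ℤ)⟧) := P.le_shift (1 : ℤ) _ hB
    have h1 : T.mor₃ ≫ f⟦(1 : ℤ)⟧' = 0 := by
      apply (H _ hB').1
      simp only [comp_zero]
      rw [← Category.assoc, comp_distTriang_mor_zero₂₃ T hT, zero_comp]
    obtain ⟨h, hh⟩ := Triangle.yoneda_exact₂ T.rotate.rotate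
      (rot_of_distTriang _ (rot_of_distTriang _ hT)) (f⟦(1 : ℤ)⟧') h1
    obtain ⟨v, hv⟩ := (shiftFunctor D (1 : ℤ)).map_surjective h
    obtain ⟨u, hu⟩ := (H B hB).2 v
    simp only at hu
    apply (shiftFunctor D (1 : ℤ)).map_injective
    have hh' : f⟦(1 : ℤ)⟧' = (-T.mor₁⟦(1 : ℤ)⟧') ≫ h := hh
    have hv' : h = (T.mor₂ ≫ u)⟦(1 : ℤ)⟧' := by rw [hu]; exact hv.symm
    rw [Functor.map_zero, hh', hv']
    rw [Functor.map_comp, Preadditive.neg_comp, ← Category.assoc, ← Functor.map_comp,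
      comp_distTriang_mor_zero₁₂ T hT, Functor.map_zero, zero_comp, neg_zero]


end Groth.Agent.H2
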