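import Mathlib
import Groth.Agent.Lib.helper2.OrthBij

set_option autoImplicit false
universe v u
open CategoryTheory CategoryTheory.Limits CategoryTheory.Pretriangulated

namespace Groth.Agent.H2

variable {D : Type u} [Category.{v} D] [Preadditive D] [HasZeroObject D] [HasShift D ℤ]
  [∀ n : ℤ, (shiftFunctor D n).Additive] [Pretriangulated D]

theorem H2_isLeftAdjoint_iff (P : ObjectProperty D) [P.IsStableUnderShift ℤ] :
    P.ι.IsLeftAdjoint ↔ ∀ X : D, ∃ (A B : D) (f : A ⟶ X) (g : X ⟶ B)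
      (h : B ⟶ (shiftFunctor D (1 : ℤ)).obj A),
      Triangle.mk f g h ∈ distinguishedTriangles ∧ P A ∧ P.rightOrthogonal B := by
  rw [isLeftAdjoint_iff_hasTerminal_costructuredArrow]
  constructor
  · intro H X
    haveI := H X
    obtain ⟨t, ⟨ht⟩⟩ : ∃ t : CostructuredArrow P.ι X, Nonempty (IsTerminal t) := ⟨⊤_ _, ⟨terminalIsTerminal⟩⟩
    obtain ⟨A₀, hA₀, f0, hf0⟩ : ∃ (A₀ : D) (hA₀ : P A₀) (f0 : A₀ ⟶ X),
        t = CostructuredArrow.mk (Y := (⟨A₀, hA₀⟩ : P.FullSubcategory)) f0 :=
      ⟨t.left.obj, t.left.property, t.hom, rfl⟩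
    subst hf0
    obtain ⟨B, g, h, hT⟩ := distinguished_cocone_triangle f0
    refine ⟨A₀, B, f0, g, h, hT, hA₀, ?_⟩
    have key := (H2_rightOrth_iff_bij P _ hT).2
    apply key
    intro A' hA'
    show Function.Bijective (fun u : A' ⟶ A₀ => u ≫ f0)
    constructor
    · intro u₁ u₂ hu
      let c : CostructuredArrow P.ι X :=
        CostructuredArrow.mk (Y := (⟨A', hA'⟩ : P.FullSubcategory)) (u₁ ≫ f0 : A' ⟶ X)
      let m₁ : c ⟶ CostructuredArrow.mk (Y := (⟨A₀, hA₀⟩ : P.FullSubcategory)) f0 :=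
        CostructuredArrow.homMk (ObjectProperty.homMk u₁) rfl
      let m₂ : c ⟶ CostructuredArrow.mk (Y := (⟨A₀, hA₀⟩ : P.FullSubcategory)) f0 :=
        CostructuredArrow.homMk (ObjectProperty.homMk u₂) hu.symm
      have h12 : m₁ = m₂ := ht.hom_ext _ _
      exact congrArg (fun m => m.left.hom) h12
    · intro v
      let c : CostructuredArrow P.ι X :=
        CostructuredArrow.mk (Y := (⟨A', hA'⟩ : P.FullSubcategory)) (v : A' ⟶ X)
      exact ⟨(ht.from c).left.hom, CostructuredArrow.w (ht.from c)⟩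
  · intro H X
    obtain ⟨A, B, f, g, h, hT, hA, hB⟩ := H X
    have hbij : ∀ A' : D, P A' → Function.Bijective (fun u : A' ⟶ A => u ≫ f) :=
      (H2_rightOrth_iff_bij P _ hT).1 hB
    let t : CostructuredArrow P.ι X :=
      CostructuredArrow.mk (Y := (⟨A, hA⟩ : P.FullSubcategory)) (f : A ⟶ X)
    have ht : IsTerminal t := IsTerminal.ofUniqueHom
      (fun c => CostructuredArrow.homMk
        (ObjectProperty.homMk ((hbij c.left.obj c.left.property).2 c.hom).choose)
        ((hbij c.left.obj c.left.property).2 c.hom).choose_spec)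
      (fun c m => by
        apply CostructuredArrow.hom_ext
        apply ObjectProperty.hom_ext
        apply (hbij c.left.obj c.left.property).1
        exact (CostructuredArrow.w m).trans
          ((hbij c.left.obj c.left.property).2 c.hom).choose_spec.symm)
    exact ht.hasTerminal

theorem H2_isRightAdjoint_iff (P : ObjectProperty D) [P.IsStableUnderShift ℤ] :
    P.ι.IsRightAdjoint ↔ ∀ X : D, ∃ (A B : D) (f : A ⟶ X) (g : X ⟶ B)
      (h : B ⟶ (shiftFunctor D (1 : ℤ)).obj A),
      Triangle.mk f g h ∈ distinguishedTriangles ∧ P B ∧ P.leftOrthogonal A := by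
  rw [isRightAdjoint_iff_hasInitial_structuredArrow]
  constructor
  · intro H X
    haveI := H X
    obtain ⟨t, ⟨ht⟩⟩ : ∃ t : StructuredArrow X P.ι, Nonempty (IsInitial t) := ⟨⊥_ _, ⟨initialIsInitial⟩⟩
    obtain ⟨B₀, hB₀, g0, hg0⟩ : ∃ (B₀ : D) (hB₀ : P B₀) (g0 : X ⟶ B₀),
        t = StructuredArrow.mk (Y := (⟨B₀, hB₀⟩ : P.FullSubcategory)) g0 := ⟨t.right.obj, t.right.property, t.hom, rfl⟩
    subst hg0
    obtain ⟨A, f, h, hT⟩ := distinguished_cocone_triangle₁ g0
    refine ⟨A, B₀, f, g0, h, hT, hB₀, ?_⟩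
    have key := (H2_leftOrth_iff_bij P _ hT).2
    apply key
    intro B' hB'
    show Function.Bijective (fun u : B₀ ⟶ B' => g0 ≫ u)
    constructor
    · intro u₁ u₂ hu
      let c : StructuredArrow X P.ι := StructuredArrow.mk (Y := (⟨B', hB'⟩ : P.FullSubcategory)) (g0 ≫ u₁ : X ⟶ B')
      let m₁ : StructuredArrow.mk (Y := (⟨B₀, hB₀⟩ : P.FullSubcategory)) g0 ⟶ c :=
        StructuredArrow.homMk (ObjectProperty.homMk u₁) rfl
      let m₂ : StructuredArrow.mk (Y := (⟨B₀, hB₀⟩ : P.FullSubcategory)) g0 ⟶ c :=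
        StructuredArrow.homMk (ObjectProperty.homMk u₂) hu.symm
      have h12 : m₁ = m₂ := ht.hom_ext _ _
      exact congrArg (fun m => m.right.hom) h12
    · intro v
      let c : StructuredArrow X P.ι := StructuredArrow.mk (Y := (⟨B', hB'⟩ : P.FullSubcategory)) (v : X ⟶ B')
      exact ⟨(ht.to c).right.hom, StructuredArrow.w (ht.to c)⟩
  · intro H X
    obtain ⟨A, B, f, g, h, hT, hB, hA⟩ := H X
    have hbij : ∀ B' : D, P B' → Function.Bijective (fun u : B ⟶ B' => g ≫ u) :=
      (H2_leftOrth_iff_bij P _ hT).1 hA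
    let t : StructuredArrow X P.ι := StructuredArrow.mk (Y := (⟨B, hB⟩ : P.FullSubcategory)) (g : X ⟶ B)
    have ht : IsInitial t := IsInitial.ofUniqueHom
      (fun c => StructuredArrow.homMk
        (ObjectProperty.homMk ((hbij c.right.obj c.right.property).2 c.hom).choose)
        ((hbij c.right.obj c.right.property).2 c.hom).choose_spec)
      (fun c m => by
        apply StructuredArrow.hom_ext
        apply ObjectProperty.hom_ext
        apply (hbij c.right.obj c.right.property).1
        exact (StructuredArrow.w m).trans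
          ((hbij c.right.obj c.right.property).2 c.hom).choose_spec.symm)
    exact ht.hasInitial

end Groth.Agent.H2
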