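import Mathlib

set_option autoImplicit false

namespace Groth.Agent.H2

open CategoryTheory CategoryTheory.Limits Category HomologicalComplex DerivedCategory

universe w v u

section

variable {A : Type u} [Category.{v} A] [Abelian A]

/-- canonical map `E → (E.opcycles i)[-i]` -/
noncomputable def H2toOpc (E : CochainComplex A ℤ) (i : ℤ) :
    E ⟶ (HomologicalComplex.single A (ComplexShape.up ℤ) i).obj (E.opcycles i) :=
  HomologicalComplex.mkHomToSingle (E.pOpcycles i) (fun j _ => E.d_pOpcycles j i)

lemma H2toOpc_isIso_opcyclesMap (E : CochainComplex A ℤ) (i : ℤ) :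
    IsIso (opcyclesMap (H2toOpc E i) i) := by
  have hp : IsIso (((HomologicalComplex.single A (ComplexShape.up ℤ) i).obj
      (E.opcycles i)).pOpcycles i) :=
    isIso_pOpcycles _ _ i rfl (by simp)
  have h : E.pOpcycles i ≫ opcyclesMap (H2toOpc E i) i =
      E.pOpcycles i ≫ ((singleObjXSelf (ComplexShape.up ℤ) i (E.opcycles i)).inv ≫
        ((HomologicalComplex.single A (ComplexShape.up ℤ) i).obj
          (E.opcycles i)).pOpcycles i) := by
    rw [p_opcyclesMap, H2toOpc, mkHomToSingle_f, assoc]
  rw [(cancel_epi _).1 h]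
  infer_instance

lemma H2toOpc_mono_homologyMap (E : CochainComplex A ℤ) (i : ℤ) :
    Mono (homologyMap (H2toOpc E i) i) := by
  haveI := H2toOpc_isIso_opcyclesMap E i
  have h := homologyι_naturality (H2toOpc E i) i
  exact mono_of_mono_fac h

variable [HasDerivedCategory.{w} A]

theorem H2_exists_hom_to_shift_opcycles (E : CochainComplex A ℤ) (i : ℤ) :
    ∃ f : DerivedCategory.Q.obj E ⟶
        ((DerivedCategory.singleFunctor A 0).obj (E.opcycles i))⟦-i⟧,
      Mono ((DerivedCategory.homologyFunctor A i).map f) := by
  let e : DerivedCategory.Q.obj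
      ((HomologicalComplex.single A (ComplexShape.up ℤ) i).obj (E.opcycles i)) ≅
      ((DerivedCategory.singleFunctor A 0).obj (E.opcycles i))⟦-i⟧ :=
    ((singleFunctorIsoCompQ A i).app (E.opcycles i)).symm ≪≫
      (((singleFunctors A).shiftIso (-i) i 0 (by omega)).app (E.opcycles i)).symm
  refine ⟨DerivedCategory.Q.map (H2toOpc E i) ≫ e.hom, ?_⟩
  rw [Functor.map_comp]
  haveI : Mono ((DerivedCategory.homologyFunctor A i).map
      (DerivedCategory.Q.map (H2toOpc E i))) := by
    have hn := (homologyFunctorFactors A i).hom.naturality (H2toOpc E i)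
    haveI hm0 : Mono ((HomologicalComplex.homologyFunctor A (ComplexShape.up ℤ) i).map
        (H2toOpc E i)) := H2toOpc_mono_homologyMap E i
    haveI hm : Mono ((homologyFunctorFactors A i).hom.app E ≫
        (HomologicalComplex.homologyFunctor A (ComplexShape.up ℤ) i).map (H2toOpc E i)) :=
      mono_comp _ _
    have := mono_of_mono_fac hn
    exact this
  infer_instance

end

section Mod

variable {R : Type u} [CommRing R]

lemma H2_opcycles_finitePresentation (E : CochainComplex (ModuleCat.{u} R) ℤ) (i : ℤ)
    [Module.Finite R (E.X (i - 1))] [Module.Finite R (E.X i)] [Module.Free R (E.X i)] :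
    Module.FinitePresentation R (E.opcycles i) := by
  have hex : (ShortComplex.mk (E.d (i - 1) i) (E.pOpcycles i) (E.d_pOpcycles (i - 1) i)).Exact :=
    ShortComplex.exact_of_g_is_cokernel _ (E.opcyclesIsCokernel (i - 1) i (by simp))
  have hsurj : Function.Surjective (E.pOpcycles i).hom :=
    (ModuleCat.epi_iff_surjective _).1 inferInstance
  refine Module.finitePresentation_of_free_of_surjective (E.pOpcycles i).hom hsurj ?_
  have hk := (ShortComplex.moduleCat_exact_iff_range_eq_ker _).1 hex
  dsimp at hk
  rw [← hk, LinearMap.range_eq_map]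
  exact Submodule.FG.map _ Module.Finite.fg_top

end Mod

end Groth.Agent.H2
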