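import Mathlib
import Groth.Agent.Lib.helper2.FinProjCycles

set_option autoImplicit false

namespace Groth.Agent.H2

open CategoryTheory CategoryTheory.Limits Category HomologicalComplex DerivedCategory

universe u

section Double

variable {R : Type u} [CommRing R] {F1 F0 M : ModuleCat.{u} R} (f : F1 ⟶ F0) (g : F0 ⟶ M)
  (w : f ≫ g = 0)

lemma H2rel : (ComplexShape.up ℤ).Rel (-1) 0 := by simp

/-- two-term complex in degrees -1, 0 -/
noncomputable abbrev H2dbl : CochainComplex (ModuleCat.{u} R) ℤ :=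
  HomologicalComplex.double f H2rel

noncomputable def H2dblTo :
    H2dbl f ⟶ (HomologicalComplex.single (ModuleCat.{u} R) (ComplexShape.up ℤ) 0).obj M :=
  HomologicalComplex.mkHomToSingle
    ((HomologicalComplex.doubleXIso₁ f H2rel (by decide)).hom ≫ g) (by
    intro i hi
    obtain rfl : i = -1 := by
      simp only [ComplexShape.up_Rel] at hi
      omega
    rw [HomologicalComplex.double_d f H2rel (by decide), assoc, assoc, Iso.inv_hom_id_assoc, w,
      comp_zero])

lemma H2dblTo_f : (H2dblTo f g w).f 0 =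
    (HomologicalComplex.doubleXIso₁ f H2rel (by decide)).hom ≫ g ≫
      (singleObjXSelf (ComplexShape.up ℤ) 0 M).inv := by
  rw [H2dblTo, mkHomToSingle_f, assoc]

lemma H2single_isIso_pOpcycles :
    IsIso (((HomologicalComplex.single (ModuleCat.{u} R) (ComplexShape.up ℤ) 0).obj M).pOpcycles 0) :=
  isIso_pOpcycles _ _ 0 rfl (by simp)

lemma H2dbl_opcyclesMap_epi [Epi g] : Epi (opcyclesMap (H2dblTo f g w) 0) := by
  haveI := H2single_isIso_pOpcycles (M := M)
  have h := p_opcyclesMap (H2dblTo f g w) 0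
  rw [H2dblTo_f] at h
  haveI : Epi ((H2dbl f).pOpcycles 0 ≫ opcyclesMap (H2dblTo f g w) 0) := by
    rw [h]
    infer_instance
  exact epi_of_epi ((H2dbl f).pOpcycles 0) _

lemma H2dbl_opcyclesMap_mono (hex : (ShortComplex.mk f g w).Exact) :
    Mono (opcyclesMap (H2dblTo f g w) 0) := by
  haveI := H2single_isIso_pOpcycles (M := M)
  have h := p_opcyclesMap (H2dblTo f g w) 0
  rw [H2dblTo_f] at h
  rw [ModuleCat.mono_iff_injective, injective_iff_map_eq_zero]
  intro y hy
  obtain ⟨x, rfl⟩ := (ModuleCat.epi_iff_surjective ((H2dbl f).pOpcycles 0)).1 inferInstance y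
  have h1 := ConcreteCategory.congr_hom h x
  simp only [CategoryTheory.comp_apply] at h1
  rw [hy] at h1
  -- g (iso₁.hom x) = 0
  have h2 : g.hom ((HomologicalComplex.doubleXIso₁ f H2rel (by decide)).hom.hom x) = 0 := by
    have inj1 : Function.Injective
        (((HomologicalComplex.single (ModuleCat.{u} R) (ComplexShape.up ℤ) 0).obj M).pOpcycles
          0).hom := (ModuleCat.mono_iff_injective _).1 inferInstance
    have inj2 : Function.Injective (singleObjXSelf (ComplexShape.up ℤ) 0 M).inv.hom :=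
      (ModuleCat.mono_iff_injective _).1 inferInstance
    apply inj2
    apply inj1
    rw [map_zero, map_zero]
    exact h1.symm
  rw [ShortComplex.moduleCat_exact_iff] at hex
  obtain ⟨z, hz⟩ := hex _ h2
  dsimp at hz
  have h3 : x = ((H2dbl f).d (-1) 0).hom
      ((HomologicalComplex.doubleXIso₀ f H2rel).inv.hom z) := by
    rw [HomologicalComplex.double_d f H2rel (by decide)]
    simp only [ModuleCat.hom_comp, LinearMap.comp_apply]
    have : (HomologicalComplex.doubleXIso₀ f H2rel).hom.hom
        ((HomologicalComplex.doubleXIso₀ f H2rel).inv.hom z) = z := by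
      rw [← LinearMap.comp_apply, ← ModuleCat.hom_comp, Iso.inv_hom_id]; rfl
    rw [this, hz]
    rw [← LinearMap.comp_apply, ← ModuleCat.hom_comp, Iso.hom_inv_id]; rfl
  rw [h3, ← LinearMap.comp_apply, ← ModuleCat.hom_comp, d_pOpcycles]
  rfl

lemma H2dbl_isIso_homologyι : IsIso ((H2dbl f).homologyι 0) :=
  isIso_homologyι _ 0 1 (by simp)
    (HomologicalComplex.double_d_eq_zero₀ f H2rel 0 1 (by decide))

lemma H2single_isIso_homologyι :
    IsIso (((HomologicalComplex.single (ModuleCat.{u} R) (ComplexShape.up ℤ) 0).obj M).homologyι 0) :=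
  isIso_homologyι _ 0 1 (by simp) (by simp)

lemma H2dbl_homologyMap_epi [Epi g] : Epi (homologyMap (H2dblTo f g w) 0) := by
  haveI := H2dbl_isIso_homologyι f
  haveI := H2single_isIso_homologyι (M := M)
  haveI := H2dbl_opcyclesMap_epi f g w
  have h := homologyι_naturality (H2dblTo f g w) 0
  have h2 : homologyMap (H2dblTo f g w) 0 =
      ((H2dbl f).homologyι 0 ≫ opcyclesMap (H2dblTo f g w) 0) ≫
      inv (((HomologicalComplex.single (ModuleCat.{u} R) (ComplexShape.up ℤ) 0).obj M).homologyι 0) := by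
    rw [← h, assoc, IsIso.hom_inv_id, comp_id]
  rw [h2]
  infer_instance

lemma H2dbl_homologyMap_isIso [Epi g] (hex : (ShortComplex.mk f g w).Exact) :
    IsIso (homologyMap (H2dblTo f g w) 0) := by
  haveI := H2dbl_isIso_homologyι f
  haveI := H2single_isIso_homologyι (M := M)
  haveI := H2dbl_opcyclesMap_epi f g w
  haveI := H2dbl_opcyclesMap_mono f g w hex
  haveI : IsIso (opcyclesMap (H2dblTo f g w) 0) := isIso_of_mono_of_epi _
  have h := homologyι_naturality (H2dblTo f g w) 0
  have h2 : homologyMap (H2dblTo f g w) 0 =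
      ((H2dbl f).homologyι 0 ≫ opcyclesMap (H2dblTo f g w) 0) ≫
      inv (((HomologicalComplex.single (ModuleCat.{u} R) (ComplexShape.up ℤ) 0).obj M).homologyι 0) := by
    rw [← h, assoc, IsIso.hom_inv_id, comp_id]
  rw [h2]
  infer_instance

lemma H2dbl_isZero_X (i : ℤ) (h : i < -1 ∨ 0 < i) : IsZero ((H2dbl f).X i) :=
  HomologicalComplex.isZero_double_X f H2rel i (by omega) (by omega)

lemma H2dbl_finfree (h1 : Module.Finite R F1 ∧ Module.Free R F1)
    (h0 : Module.Finite R F0 ∧ Module.Free R F0) (i : ℤ) :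
    Module.Finite R ((H2dbl f).X i) ∧ Module.Free R ((H2dbl f).X i) := by
  by_cases hi1 : i = -1
  · subst hi1
    haveI := h1.1
    haveI := h1.2
    let e := (HomologicalComplex.doubleXIso₀ f H2rel).toLinearEquiv
    exact ⟨Module.Finite.equiv e.symm, Module.Free.of_equiv e.symm⟩
  · by_cases hi0 : i = 0
    · subst hi0
      haveI := h0.1
      haveI := h0.2
      let e := (HomologicalComplex.doubleXIso₁ f H2rel (by decide)).toLinearEquiv
      exact ⟨Module.Finite.equiv e.symm, Module.Free.of_equiv e.symm⟩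
    · have hz := H2dbl_isZero_X f i (by omega)
      haveI : Subsingleton ((H2dbl f).X i) := ModuleCat.subsingleton_of_isZero hz
      exact ⟨inferInstance, inferInstance⟩

end Double

section DLevel

universe w'

variable {R : Type u} [CommRing R] [HasDerivedCategory.{w'} (ModuleCat.{u} R)]
  {F1 F0 M : ModuleCat.{u} R} (f : F1 ⟶ F0) (g : F0 ⟶ M) (w : f ≫ g = 0)

noncomputable def H2dblα : DerivedCategory.Q.obj (H2dbl f) ⟶
    (DerivedCategory.singleFunctor (ModuleCat.{u} R) 0).obj M :=
  DerivedCategory.Q.map (H2dblTo f g w) ≫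
    (DerivedCategory.singleFunctorIsoCompQ (ModuleCat.{u} R) 0).inv.app M

lemma H2_isIso_of_isZero' {C : Type*} [Category C] [HasZeroMorphisms C] {X Y : C} (φ : X ⟶ Y)
    (hX : IsZero X) (hY : IsZero Y) : IsIso φ :=
  ⟨⟨0, hX.eq_of_src _ _, hY.eq_of_src _ _⟩⟩

lemma H2dblα_isIso_pos (i : ℤ) (hi : 0 < i) :
    IsIso ((DerivedCategory.homologyFunctor (ModuleCat.{u} R) i).map (H2dblα f g w)) := by
  apply H2_isIso_of_isZero'
  · have hz : IsZero ((H2dbl f).homology i) :=
      (ExactAt.of_isZero (H2dbl_isZero_X f i (Or.inr hi))).isZero_homology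
    exact IsZero.of_iso hz ((homologyFunctorFactors (ModuleCat.{u} R) i).app (H2dbl f))
  · exact isZero_of_isLE _ 0 i hi

lemma H2_epi_map_of_natIso {C D : Type*} [Category C] [Category D] {F G : C ⥤ D} (e : F ≅ G)
    {X Y : C} (β : X ⟶ Y) [Epi (G.map β)] : Epi (F.map β) := by
  have : F.map β = e.hom.app X ≫ G.map β ≫ e.inv.app Y := by simp
  rw [this]; infer_instance

lemma H2dblα_epi_zero [Epi g] :
    Epi ((DerivedCategory.homologyFunctor (ModuleCat.{u} R) 0).map (H2dblα f g w)) := by
  haveI : Epi ((HomologicalComplex.homologyFunctor (ModuleCat.{u} R) (ComplexShape.up ℤ) 0).map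
      (H2dblTo f g w)) := H2dbl_homologyMap_epi f g w
  haveI h1 : Epi ((DerivedCategory.homologyFunctor (ModuleCat.{u} R) 0).map
      (DerivedCategory.Q.map (H2dblTo f g w))) :=
    H2_epi_map_of_natIso (homologyFunctorFactors (ModuleCat.{u} R) 0) (H2dblTo f g w)
  haveI h2 : IsIso ((DerivedCategory.homologyFunctor (ModuleCat.{u} R) 0).map
      ((DerivedCategory.singleFunctorIsoCompQ (ModuleCat.{u} R) 0).inv.app M)) := by
    haveI : IsIso ((DerivedCategory.singleFunctorIsoCompQ (ModuleCat.{u} R) 0).inv.app M) :=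
      (((DerivedCategory.singleFunctorIsoCompQ (ModuleCat.{u} R) 0).app M).symm).isIso_hom
    infer_instance
  rw [H2dblα, Functor.map_comp]
  exact @epi_comp _ _ _ _ _ _ h1 _ (@IsIso.epi_of_iso _ _ _ _ _ h2)

lemma H2dblα_isIso_zero [Epi g] (hex : (ShortComplex.mk f g w).Exact) :
    IsIso ((DerivedCategory.homologyFunctor (ModuleCat.{u} R) 0).map (H2dblα f g w)) := by
  haveI : IsIso ((HomologicalComplex.homologyFunctor (ModuleCat.{u} R) (ComplexShape.up ℤ) 0).map
      (H2dblTo f g w)) := H2dbl_homologyMap_isIso f g w hex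
  haveI h1 : IsIso ((DerivedCategory.homologyFunctor (ModuleCat.{u} R) 0).map
      (DerivedCategory.Q.map (H2dblTo f g w))) :=
    (NatIso.isIso_map_iff (homologyFunctorFactors (ModuleCat.{u} R) 0) (H2dblTo f g w)).2
      inferInstance
  haveI h2 : IsIso ((DerivedCategory.homologyFunctor (ModuleCat.{u} R) 0).map
      ((DerivedCategory.singleFunctorIsoCompQ (ModuleCat.{u} R) 0).inv.app M)) := by
    haveI : IsIso ((DerivedCategory.singleFunctorIsoCompQ (ModuleCat.{u} R) 0).inv.app M) :=
      (((DerivedCategory.singleFunctorIsoCompQ (ModuleCat.{u} R) 0).app M).symm).isIso_hom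
    infer_instance
  rw [H2dblα, Functor.map_comp]
  exact @IsIso.comp_isIso _ _ _ _ _ _ _ h1 h2

lemma H2dblα_epi_negOne :
    Epi ((DerivedCategory.homologyFunctor (ModuleCat.{u} R) (-1)).map (H2dblα f g w)) := by
  have hz : IsZero ((DerivedCategory.homologyFunctor (ModuleCat.{u} R) (-1)).obj
      ((DerivedCategory.singleFunctor (ModuleCat.{u} R) 0).obj M)) :=
    isZero_of_isGE _ 0 (-1) (by omega)
  exact ⟨fun a b _ => hz.eq_of_src a b⟩

end DLevel

section Converse

universe w'

variable {R : Type u} [CommRing R] [HasDerivedCategory.{w'} (ModuleCat.{u} R)]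
  (E : CochainComplex (ModuleCat.{u} R) ℤ) (M : ModuleCat.{u} R)
  (α : DerivedCategory.Q.obj E ⟶ (DerivedCategory.singleFunctor (ModuleCat.{u} R) 0).obj M)

include α in
lemma H2_homology_isZero_of_iso_pos
    (hα : ∀ i : ℤ, 0 < i → IsIso ((DerivedCategory.homologyFunctor (ModuleCat.{u} R) i).map α))
    (i : ℤ) (hi : 0 < i) : IsZero (E.homology i) := by
  haveI := hα i hi
  have hz : IsZero ((DerivedCategory.homologyFunctor (ModuleCat.{u} R) i).obj
      ((DerivedCategory.singleFunctor (ModuleCat.{u} R) 0).obj M)) := isZero_of_isLE _ 0 i hi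
  have hz2 := IsZero.of_iso hz (asIso ((DerivedCategory.homologyFunctor (ModuleCat.{u} R) i).map α))
  exact IsZero.of_iso hz2 ((homologyFunctorFactors (ModuleCat.{u} R) i).app E).symm

lemma H2_finite_homology_zero
    (hF : ∀ i, Module.Finite R (E.X i) ∧ Module.Projective R (E.X i))
    (hb : ∃ b : ℤ, ∀ i, b < i → IsZero (E.X i))
    (hac : ∀ i : ℤ, 0 < i → IsZero (E.homology i)) : Module.Finite R (E.homology 0) := by
  haveI := (H2_finproj_cycles_of_bounded E hF hb 0 hac).1
  exact Module.Finite.of_surjective (E.homologyπ 0).hom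
    ((ModuleCat.epi_iff_surjective _).1 inferInstance)

lemma H2_fp_homology_zero
    (hF : ∀ i, Module.Finite R (E.X i) ∧ Module.Projective R (E.X i))
    (hb : ∃ b : ℤ, ∀ i, b < i → IsZero (E.X i))
    (hac : ∀ i : ℤ, 0 < i → IsZero (E.homology i)) :
    Module.FinitePresentation R (E.homology 0) := by
  obtain ⟨h1, h2⟩ := H2_finproj_cycles_of_bounded E hF hb 0 hac
  haveI := h1
  haveI := h2
  haveI : Module.FinitePresentation R (E.cycles 0) := Module.finitePresentation_of_projective _ _
  haveI := (hF (-1)).1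
  have hex : (ShortComplex.mk (E.toCycles (-1) 0) (E.homologyπ 0)
      (E.toCycles_comp_homologyπ (-1) 0)).Exact :=
    ShortComplex.exact_of_g_is_cokernel _ (E.homologyIsCokernel (-1) 0 (by simp))
  refine Module.finitePresentation_of_surjective (E.homologyπ 0).hom
    ((ModuleCat.epi_iff_surjective _).1 inferInstance) ?_
  have hk := (ShortComplex.moduleCat_exact_iff_range_eq_ker _).1 hex
  dsimp at hk
  rw [← hk, LinearMap.range_eq_map]
  exact Submodule.FG.map _ Module.Finite.fg_top

include α in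
theorem H2_finite_of_pc_zero
    (hF : ∀ i, Module.Finite R (E.X i) ∧ Module.Projective R (E.X i))
    (hb : ∃ b : ℤ, ∀ i, b < i → IsZero (E.X i))
    (hα : ∀ i : ℤ, 0 < i → IsIso ((DerivedCategory.homologyFunctor (ModuleCat.{u} R) i).map α))
    (hα0 : Epi ((DerivedCategory.homologyFunctor (ModuleCat.{u} R) 0).map α)) :
    Module.Finite R M := by
  haveI := H2_finite_homology_zero E hF hb (H2_homology_isZero_of_iso_pos E M α hα)
  let e1 := ((homologyFunctorFactors (ModuleCat.{u} R) 0).app E).symm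
  let e2 := (singleFunctorCompHomologyFunctorIso (ModuleCat.{u} R) 0).app M
  let φ : E.homology 0 ⟶ M :=
    e1.hom ≫ (DerivedCategory.homologyFunctor (ModuleCat.{u} R) 0).map α ≫ e2.hom
  haveI : Epi φ := epi_comp _ _
  exact Module.Finite.of_surjective φ.hom ((ModuleCat.epi_iff_surjective _).1 inferInstance)

include α in
theorem H2_fp_of_pc_negOne
    (hF : ∀ i, Module.Finite R (E.X i) ∧ Module.Projective R (E.X i))
    (hb : ∃ b : ℤ, ∀ i, b < i → IsZero (E.X i))
    (hα : ∀ i : ℤ, -1 < i → IsIso ((DerivedCategory.homologyFunctor (ModuleCat.{u} R) i).map α)) :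
    Module.FinitePresentation R M := by
  haveI := H2_fp_homology_zero E hF hb
    (H2_homology_isZero_of_iso_pos E M α (fun i hi => hα i (by omega)))
  haveI := hα 0 (by omega)
  let e1 := ((homologyFunctorFactors (ModuleCat.{u} R) 0).app E).symm
  let e2 := (singleFunctorCompHomologyFunctorIso (ModuleCat.{u} R) 0).app M
  let e : E.homology 0 ≅ M :=
    e1 ≪≫ asIso ((DerivedCategory.homologyFunctor (ModuleCat.{u} R) 0).map α) ≪≫ e2
  exact Module.FinitePresentation.of_equiv e.toLinearEquiv

end Converse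

end Groth.Agent.H2
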