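import Mathlib
import Groth.Agent.Lib.helper2.BddTermwiseInd

set_option autoImplicit false

namespace Groth.Agent.H2

open CategoryTheory CategoryTheory.Limits Pretriangulated DerivedCategory

universe u

attribute [local instance] HasDerivedCategory.standard

variable {R : Type u} [CommRing R]

section

variable (PP : DerivedCategory (ModuleCat.{u} R) → Prop)
  (hiso : ∀ {K K' : DerivedCategory (ModuleCat.{u} R)}, (K ≅ K') → PP K → PP K')
  (hR : PP ((singleFunctor (ModuleCat.{u} R) 0).obj (ModuleCat.of R R)))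
  (hext : ∀ T : Triangle (DerivedCategory (ModuleCat.{u} R)), T ∈ distTriang _ →
    PP T.obj₁ → PP T.obj₃ → PP T.obj₂)
  (hsum : ∀ (X Y : DerivedCategory (ModuleCat.{u} R)), PP (X ⊞ Y) → PP X)

include hiso hR hsum in
lemma H2gen_zero (K : DerivedCategory (ModuleCat.{u} R)) (hK : IsZero K) : PP K := by
  apply hsum K ((singleFunctor (ModuleCat.{u} R) 0).obj (ModuleCat.of R R))
  exact hiso (isoZeroBiprod hK) hR

include hiso hR hext hsum in
lemma H2gen_free (n : ℕ) :
    PP ((singleFunctor (ModuleCat.{u} R) 0).obj (ModuleCat.of R (Fin n → R))) := by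
  induction n with
  | zero =>
    apply H2gen_zero PP hiso hR hsum
    apply (singleFunctor (ModuleCat.{u} R) 0).map_isZero
    exact ModuleCat.isZero_of_subsingleton _
  | succ n ih =>
    let f : R →ₗ[R] (Fin (n + 1) → R) := LinearMap.single R (fun _ => R) 0
    let g : (Fin (n + 1) → R) →ₗ[R] (Fin n → R) :=
      { toFun := fun v => fun i => v i.succ
        map_add' := fun _ _ => rfl
        map_smul' := fun _ _ => rfl }
    let S : ShortComplex (ModuleCat.{u} R) :=
      ShortComplex.mk (ModuleCat.ofHom f : ModuleCat.of R R ⟶ ModuleCat.of R (Fin (n + 1) → R))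
        (ModuleCat.ofHom g : ModuleCat.of R (Fin (n + 1) → R) ⟶ ModuleCat.of R (Fin n → R)) (by
          ext x
          change (Pi.single (0 : Fin (n + 1)) (1 : R) : Fin (n + 1) → R) x.succ = 0
          exact Pi.single_eq_of_ne (Fin.succ_ne_zero x) 1)
    have hS : S.ShortExact := by
      refine ShortComplex.ShortExact.mk' ?_ ?_ ?_
      · rw [ShortComplex.moduleCat_exact_iff]
        intro v hv
        refine ⟨v 0, ?_⟩
        funext i
        refine Fin.cases ?_ (fun j => ?_) i
        · change (Pi.single (0 : Fin (n + 1)) (v 0) : Fin (n + 1) → R) 0 = v 0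
          simp
        · change (Pi.single (0 : Fin (n + 1)) (v 0) : Fin (n + 1) → R) j.succ = v j.succ
          rw [Pi.single_eq_of_ne (Fin.succ_ne_zero j)]
          exact (congrFun hv j).symm
      · rw [ModuleCat.mono_iff_injective]
        intro x y hxy
        have := congrFun hxy 0
        change (Pi.single (0 : Fin (n + 1)) x : Fin (n + 1) → R) 0 =
          (Pi.single (0 : Fin (n + 1)) y : Fin (n + 1) → R) 0 at this
        rwa [Pi.single_eq_same, Pi.single_eq_same] at this
      · rw [ModuleCat.epi_iff_surjective]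
        intro w
        refine ⟨(Fin.cons (0 : R) w : Fin (n + 1) → R), ?_⟩
        funext i
        change (Fin.cons (0 : R) w : Fin (n + 1) → R) i.succ = w i
        exact Fin.cons_succ _ _ i
    exact hext _ hS.singleTriangle_distinguished hR ih

include hiso hR hext hsum in
lemma H2gen_proj (M : ModuleCat.{u} R) [Module.Finite R M] [Module.Projective R M] :
    PP ((singleFunctor (ModuleCat.{u} R) 0).obj M) := by
  obtain ⟨n, π, hπ⟩ := Module.Finite.exists_fin' R M
  obtain ⟨s, hs⟩ := Module.projective_lifting_property π LinearMap.id hπ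
  let F : ModuleCat.{u} R := ModuleCat.of R (Fin n → R)
  let σ : (singleFunctor (ModuleCat.{u} R) 0).obj M ⟶ (singleFunctor (ModuleCat.{u} R) 0).obj F :=
    (singleFunctor (ModuleCat.{u} R) 0).map (ModuleCat.ofHom s)
  let ρ : (singleFunctor (ModuleCat.{u} R) 0).obj F ⟶ (singleFunctor (ModuleCat.{u} R) 0).obj M :=
    (singleFunctor (ModuleCat.{u} R) 0).map (ModuleCat.ofHom π)
  have hσρ : σ ≫ ρ = 𝟙 _ := by
    rw [← Functor.map_comp, ← CategoryTheory.Functor.map_id]
    congr 1
    ext x
    exact LinearMap.congr_fun hs x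
  obtain ⟨C, g, h, hT⟩ := distinguished_cocone_triangle σ
  have h0 : h = 0 := by
    have h1 : h ≫ σ⟦(1 : ℤ)⟧' = 0 := comp_distTriang_mor_zero₃₁ _ hT
    calc h = h ≫ (σ ≫ ρ)⟦(1 : ℤ)⟧' := by
          rw [hσρ, CategoryTheory.Functor.map_id, Category.comp_id]
      _ = (h ≫ σ⟦(1 : ℤ)⟧') ≫ ρ⟦(1 : ℤ)⟧' := by rw [Functor.map_comp, Category.assoc]
      _ = 0 := by rw [h1, zero_comp]
  obtain ⟨e, -, -⟩ := exists_iso_binaryBiproduct_of_distTriang _ hT h0
  apply hsum _ C
  exact hiso e (H2gen_free PP hiso hR hext hsum n)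

end

end Groth.Agent.H2
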