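import Mathlib

/-! Postnikov systems in triangulated categories: shift bookkeeping and dévissage. -/

set_option autoImplicit false
universe v u
open CategoryTheory CategoryTheory.Limits CategoryTheory.Pretriangulated

namespace Groth.Agent.H2

section shift
variable {D : Type u} [Category.{v} D] [Preadditive D] [HasShift D ℤ]
  [∀ n : ℤ, (shiftFunctor D n).Additive]

/-- Vanishing of `Hom(A⟦p⟧, B⟦q⟧)` only depends on `p - q`. -/
lemma H2_hom_shift_zero {A B : D} {p q : ℤ}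
    (h : ∀ ψ : (shiftFunctor D p).obj A ⟶ (shiftFunctor D q).obj B, ψ = 0)
    (p' q' : ℤ) (hpq : p' - q' = p - q)
    (ψ : (shiftFunctor D p').obj A ⟶ (shiftFunctor D q').obj B) : ψ = 0 := by
  have hp : p' + (p - p') = p := by omega
  have hq : q' + (p - p') = q := by omega
  have h0 := h ((shiftFunctorAdd' D p' (p - p') p hp).hom.app A ≫
    (shiftFunctor D (p - p')).map ψ ≫ (shiftFunctorAdd' D q' (p - p') q hq).inv.app B)
  have h1 : (shiftFunctor D (p - p')).map ψ = 0 := by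
    have := congrArg (fun t => (shiftFunctorAdd' D p' (p - p') p hp).inv.app A ≫ t ≫
      (shiftFunctorAdd' D q' (p - p') q hq).hom.app B) h0
    simpa using this
  apply (shiftFunctor D (p - p')).map_injective
  rw [h1, Functor.map_zero]

/-- Version with unshifted target. -/
lemma H2_hom_shift_zero_right {A B : D} {p : ℤ}
    (h : ∀ ψ : (shiftFunctor D p).obj A ⟶ B, ψ = 0)
    (p' q' : ℤ) (hpq : p' - q' = p)
    (ψ : (shiftFunctor D p').obj A ⟶ (shiftFunctor D q').obj B) : ψ = 0 := by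
  refine H2_hom_shift_zero (p := p) (q := 0) (fun ψ' => ?_) p' q' (by omega) ψ
  have := h (ψ' ≫ (shiftFunctorZero D ℤ).hom.app B)
  rw [← cancel_mono ((shiftFunctorZero D ℤ).hom.app B), this, zero_comp]

/-- Version with unshifted target on both sides of the implication. -/
lemma H2_hom_shift_zero_right' {A B : D} {p q : ℤ}
    (h : ∀ ψ : (shiftFunctor D p).obj A ⟶ (shiftFunctor D q).obj B, ψ = 0)
    (p' : ℤ) (hpq : p' = p - q)
    (ψ : (shiftFunctor D p').obj A ⟶ B) : ψ = 0 := by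
  have := H2_hom_shift_zero h p' 0 (by omega) (ψ ≫ (shiftFunctorZero D ℤ).inv.app B)
  rw [← cancel_mono ((shiftFunctorZero D ℤ).inv.app B), this, zero_comp]

/-- Version with unshifted source and target in the conclusion. -/
lemma H2_hom_shift_zero_both {A B : D} {p q : ℤ}
    (h : ∀ ψ : (shiftFunctor D p).obj A ⟶ (shiftFunctor D q).obj B, ψ = 0)
    (hpq : p = q) (ψ : A ⟶ B) : ψ = 0 := by
  have := H2_hom_shift_zero_right' h 0 (by omega) ((shiftFunctorZero D ℤ).hom.app A ≫ ψ)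
  rw [← cancel_epi ((shiftFunctorZero D ℤ).hom.app A), this, comp_zero]

/-- Version with unshifted source in the conclusion. -/
lemma H2_hom_shift_zero_left' {A B : D} {p q : ℤ}
    (h : ∀ ψ : (shiftFunctor D p).obj A ⟶ (shiftFunctor D q).obj B, ψ = 0)
    (q' : ℤ) (hpq : q' = q - p)
    (ψ : A ⟶ (shiftFunctor D q').obj B) : ψ = 0 := by
  have := H2_hom_shift_zero h 0 q' (by omega) ((shiftFunctorZero D ℤ).hom.app A ≫ ψ)
  rw [← cancel_epi ((shiftFunctorZero D ℤ).hom.app A), this, comp_zero]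

/-- From unshifted target to unshifted source. -/
lemma H2_hom_shift_zero_swap {A B : D} {p : ℤ}
    (h : ∀ ψ : (shiftFunctor D p).obj A ⟶ B, ψ = 0)
    (q' : ℤ) (hpq : q' = -p)
    (ψ : A ⟶ (shiftFunctor D q').obj B) : ψ = 0 := by
  have := H2_hom_shift_zero_right h 0 q' (by omega) ((shiftFunctorZero D ℤ).hom.app A ≫ ψ)
  rw [← cancel_epi ((shiftFunctorZero D ℤ).hom.app A), this, comp_zero]

/-- From unshifted source to unshifted target. -/
lemma H2_hom_shift_zero_swap' {A B : D} {q : ℤ}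
    (h : ∀ ψ : A ⟶ (shiftFunctor D q).obj B, ψ = 0)
    (p' : ℤ) (hpq : p' = -q)
    (ψ : (shiftFunctor D p').obj A ⟶ B) : ψ = 0 := by
  refine H2_hom_shift_zero_right' (p := 0) (q := q) (fun ψ' => ?_) p' (by omega) ψ
  have := h ((shiftFunctorZero D ℤ).inv.app A ≫ ψ')
  rw [← cancel_epi ((shiftFunctorZero D ℤ).inv.app A), this, comp_zero]

end shift

end Groth.Agent.H2

namespace Groth.Agent.H2

section devissage
variable {D : Type u} [Category.{v} D] [Preadditive D] [HasZeroObject D] [HasShift D ℤ]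
  [∀ n : ℤ, (shiftFunctor D n).Additive] [Pretriangulated D]

/-- A map into the first vertex of a distinguished triangle which dies in the second vertex
vanishes if there are no maps from the shifted source to the third vertex. -/
lemma H2_eq_zero_of_comp_mor₁ {Y1 X Y0 : D} {a : Y1 ⟶ X} {b : X ⟶ Y0}
    {c : Y0 ⟶ (shiftFunctor D (1 : ℤ)).obj Y1}
    (hT : Triangle.mk a b c ∈ distTriang D) (W : D)
    (h3 : ∀ ψ : (shiftFunctor D (1 : ℤ)).obj W ⟶ Y0, ψ = 0)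
    (ψ : W ⟶ Y1) (hψ : ψ ≫ a = 0) : ψ = 0 := by
  obtain ⟨g, hg⟩ : ∃ g : (shiftFunctor D (1 : ℤ)).obj W ⟶ Y0,
      (shiftFunctor D (1 : ℤ)).map ψ = g ≫ c :=
    Triangle.coyoneda_exact₁ _ hT ((shiftFunctor D (1 : ℤ)).map ψ) (by
      show (shiftFunctor D (1 : ℤ)).map ψ ≫ (shiftFunctor D (1 : ℤ)).map a = 0
      rw [← Functor.map_comp, hψ, Functor.map_zero])
  apply (shiftFunctor D (1 : ℤ)).map_injective
  rw [hg, h3 g, zero_comp]
  exact (Functor.map_zero _ _ _).symm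

/-- A map out of the first vertex of a distinguished triangle which is killed by `c`
(after shifting) factors through `a`. -/
lemma H2_exists_fac_of_mor₃_comp {Y1 X Y0 : D} {a : Y1 ⟶ X} {b : X ⟶ Y0}
    {c : Y0 ⟶ (shiftFunctor D (1 : ℤ)).obj Y1}
    (hT : Triangle.mk a b c ∈ distTriang D) {T : D}
    (ψ : Y1 ⟶ T) (hψ : c ≫ (shiftFunctor D (1 : ℤ)).map ψ = 0) :
    ∃ r : X ⟶ T, ψ = a ≫ r := by
  have hT' := rot_of_distTriang _ hT
  obtain ⟨g, hg⟩ : ∃ g : (shiftFunctor D (1 : ℤ)).obj X ⟶ (shiftFunctor D (1 : ℤ)).obj T,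
      (shiftFunctor D (1 : ℤ)).map ψ = (-(shiftFunctor D (1 : ℤ)).map a) ≫ g :=
    Triangle.yoneda_exact₃ _ hT' ((shiftFunctor D (1 : ℤ)).map ψ) hψ
  obtain ⟨g', rfl⟩ := (shiftFunctor D (1 : ℤ)).map_surjective g
  refine ⟨-g', ?_⟩
  apply (shiftFunctor D (1 : ℤ)).map_injective
  rw [hg, Functor.map_comp, Functor.map_neg, Preadditive.neg_comp, Preadditive.comp_neg]

/-- Maps into the first vertex of a distinguished triangle. -/
lemma H2_hom_into_obj₁_zero {Y1 X Y0 : D} {a : Y1 ⟶ X} {b : X ⟶ Y0}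
    {c : Y0 ⟶ (shiftFunctor D (1 : ℤ)).obj Y1}
    (hT : Triangle.mk a b c ∈ distTriang D) (W : D)
    (h2 : ∀ ψ : W ⟶ X, ψ = 0) (h3 : ∀ ψ : (shiftFunctor D (1 : ℤ)).obj W ⟶ Y0, ψ = 0)
    (ψ : W ⟶ Y1) : ψ = 0 := by
  obtain ⟨g, hg⟩ : ∃ g : (shiftFunctor D (1 : ℤ)).obj W ⟶ Y0,
      (shiftFunctor D (1 : ℤ)).map ψ = g ≫ c :=
    Triangle.coyoneda_exact₁ _ hT ((shiftFunctor D (1 : ℤ)).map ψ) (by
      show (shiftFunctor D (1 : ℤ)).map ψ ≫ (shiftFunctor D (1 : ℤ)).map a = 0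
      rw [← Functor.map_comp, h2 (ψ ≫ a), Functor.map_zero])
  apply (shiftFunctor D (1 : ℤ)).map_injective
  rw [hg, h3 g, zero_comp]
  exact (Functor.map_zero _ _ _).symm

/-- Maps out of the first vertex of a distinguished triangle. -/
lemma H2_hom_from_obj₁_zero {Y1 X Y0 : D} {a : Y1 ⟶ X} {b : X ⟶ Y0}
    {c : Y0 ⟶ (shiftFunctor D (1 : ℤ)).obj Y1}
    (hT : Triangle.mk a b c ∈ distTriang D) (T : D)
    (h2 : ∀ ψ : X ⟶ T, ψ = 0) (h3 : ∀ ψ : Y0 ⟶ (shiftFunctor D (1 : ℤ)).obj T, ψ = 0)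
    (ψ : Y1 ⟶ T) : ψ = 0 := by
  have hT' := rot_of_distTriang _ hT
  obtain ⟨g, hg⟩ : ∃ g : (shiftFunctor D (1 : ℤ)).obj X ⟶ (shiftFunctor D (1 : ℤ)).obj T,
      (shiftFunctor D (1 : ℤ)).map ψ = (-(shiftFunctor D (1 : ℤ)).map a) ≫ g :=
    Triangle.yoneda_exact₃ _ hT' ((shiftFunctor D (1 : ℤ)).map ψ)
      (h3 (c ≫ (shiftFunctor D (1 : ℤ)).map ψ))
  have hg0 : g = 0 := by
    obtain ⟨g', rfl⟩ := (shiftFunctor D (1 : ℤ)).map_surjective g
    rw [h2 g']
    exact Functor.map_zero _ _ _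
  apply (shiftFunctor D (1 : ℤ)).map_injective
  rw [hg, hg0, comp_zero]
  exact (Functor.map_zero _ _ _).symm

variable (Xs : ℕ → D) (n : ℕ) (Y : ℕ → D) (a : ∀ k, Y k ⟶ Xs k) (b : ∀ k, Xs (k + 1) ⟶ Y k)
  (c : ∀ k, Y k ⟶ (shiftFunctor D (1 : ℤ)).obj (Y (k + 1)))

/-- Dévissage for maps into the objects of a Postnikov system. -/
lemma H2_postnikov_hom_into (h0 : IsIso (a 0))
    (hP : ∀ k, k < n → Triangle.mk (a (k + 1)) (b k) (c k) ∈ distTriang D)
    (W : D) (k : ℕ) (hk : k ≤ n) (m : ℤ)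
    (h : ∀ j, j ≤ k → ∀ (p : ℤ), p = m + ((k : ℤ) - j) →
      ∀ ψ : (shiftFunctor D p).obj W ⟶ Xs j, ψ = 0)
    (ψ : (shiftFunctor D m).obj W ⟶ Y k) : ψ = 0 := by
  induction k generalizing m with
  | zero =>
    have := h 0 le_rfl m (by simp) (ψ ≫ a 0)
    rw [← cancel_mono (a 0), this, zero_comp]
  | succ k ih =>
    refine H2_hom_into_obj₁_zero (hP k (by omega)) _ (h (k + 1) le_rfl m (by simp)) ?_ ψ
    intro ψ'
    have h1 : ∀ ψ'' : (shiftFunctor D (m + 1)).obj W ⟶ Y k, ψ'' = 0 := by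
      intro ψ''
      refine ih (by omega) (m + 1) (fun j hj p hp => h j (by omega) p ?_) ψ''
      rw [hp]
      push_cast
      ring
    have := h1 ((shiftFunctorAdd' D m 1 (m + 1) rfl).hom.app W ≫ ψ')
    rw [← cancel_epi ((shiftFunctorAdd' D m 1 (m + 1) rfl).hom.app W), this, comp_zero]

/-- Dévissage for maps out of the objects of a Postnikov system. -/
lemma H2_postnikov_hom_from (h0 : IsIso (a 0))
    (hP : ∀ k, k < n → Triangle.mk (a (k + 1)) (b k) (c k) ∈ distTriang D)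
    (T : D) (k : ℕ) (hk : k ≤ n) (m : ℤ)
    (h : ∀ j, j ≤ k → ∀ (p : ℤ), p = m + ((k : ℤ) - j) →
      ∀ ψ : Xs j ⟶ (shiftFunctor D p).obj T, ψ = 0)
    (ψ : Y k ⟶ (shiftFunctor D m).obj T) : ψ = 0 := by
  induction k generalizing m with
  | zero =>
    have := h 0 le_rfl m (by simp) (inv (a 0) ≫ ψ)
    rw [← cancel_epi (inv (a 0)), this, comp_zero]
  | succ k ih =>
    refine H2_hom_from_obj₁_zero (hP k (by omega)) _ (h (k + 1) le_rfl m (by simp)) ?_ ψ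
    intro ψ'
    have h1 : ∀ ψ'' : Y k ⟶ (shiftFunctor D (m + 1)).obj T, ψ'' = 0 := by
      intro ψ''
      refine ih (by omega) (m + 1) (fun j hj p hp => h j (by omega) p ?_) ψ''
      rw [hp]
      push_cast
      ring
    have := h1 (ψ' ≫ (shiftFunctorAdd' D m 1 (m + 1) rfl).inv.app T)
    rw [← cancel_mono ((shiftFunctorAdd' D m 1 (m + 1) rfl).inv.app T), this, zero_comp]

end devissage

end Groth.Agent.H2

namespace Groth.Agent.H2

section morphisms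
variable {D : Type u} [Category.{v} D] [Preadditive D] [HasZeroObject D] [HasShift D ℤ]
  [∀ n : ℤ, (shiftFunctor D n).Additive] [Pretriangulated D]

/-- Existence of morphisms of Postnikov systems. -/
theorem H2_postnikov_exists_morphism
    (X X' : ChainComplex D ℕ) (φ : X ⟶ X') (n : ℕ)
    (Y : ℕ → D) (a : ∀ k, Y k ⟶ X.X k) (b : ∀ k, X.X (k + 1) ⟶ Y k)
    (c : ∀ k, Y k ⟶ (shiftFunctor D (1 : ℤ)).obj (Y (k + 1)))
    (h0 : IsIso (a 0))
    (hP : ∀ k, k < n → Triangle.mk (a (k + 1)) (b k) (c k) ∈ distinguishedTriangles ∧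
      b k ≫ a k = X.d (k + 1) k)
    (qY : ℕ → D) (qa : ∀ k, qY k ⟶ X'.X k) (qb : ∀ k, X'.X (k + 1) ⟶ qY k)
    (qc : ∀ k, qY k ⟶ (shiftFunctor D (1 : ℤ)).obj (qY (k + 1)))
    (qh0 : IsIso (qa 0))
    (qhP : ∀ k, k < n → Triangle.mk (qa (k + 1)) (qb k) (qc k) ∈ distinguishedTriangles ∧
      qb k ≫ qa k = X'.d (k + 1) k)
    (hX : ∀ i j : ℕ, j + 1 < i → i ≤ n →
      ∀ ψ : (shiftFunctor D ((i : ℤ) - j - 1)).obj (X.X i) ⟶ X'.X j, ψ = 0) :
    ∃ y : ∀ k, Y k ⟶ qY k,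
      (∀ k, k ≤ n → y k ≫ qa k = a k ≫ φ.f k) ∧
      (∀ k, k < n → b k ≫ y k = φ.f (k + 1) ≫ qb k ∧
        c k ≫ (shiftFunctor D (1 : ℤ)).map (y (k + 1)) = y k ≫ qc k) := by
  -- the step
  have hstep : ∀ (k : ℕ) (s : {y : Y k ⟶ qY k // k ≤ n → y ≫ qa k = a k ≫ φ.f k}),
      ∃ s' : {y : Y (k + 1) ⟶ qY (k + 1) // k + 1 ≤ n → y ≫ qa (k + 1) = a (k + 1) ≫ φ.f (k + 1)},
        k < n → (b k ≫ s.1 = φ.f (k + 1) ≫ qb k ∧
          c k ≫ (shiftFunctor D (1 : ℤ)).map s'.1 = s.1 ≫ qc k) := by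
    intro k s
    by_cases hk : k < n
    · have hs := s.2 hk.le
      -- the middle square commutes
      have hδ : (b k ≫ s.1 - φ.f (k + 1) ≫ qb k) ≫ qa k = 0 := by
        rw [Preadditive.sub_comp, Category.assoc, hs, ← Category.assoc, (hP k hk).2,
          Category.assoc, (qhP k hk).2, φ.comm, sub_self]
      have hδ0 : b k ≫ s.1 - φ.f (k + 1) ≫ qb k = 0 := by
        cases k with
        | zero =>
          rw [← cancel_mono (qa 0), hδ, zero_comp]
        | succ k' =>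
          refine H2_eq_zero_of_comp_mor₁ (qhP k' (by omega)).1 _ ?_ _ hδ
          intro ψ
          have h1 : ∀ ψ' : (shiftFunctor D (1 : ℤ)).obj (X.X (k' + 1 + 1)) ⟶ qY k', ψ' = 0 := by
            intro ψ'
            refine H2_postnikov_hom_into (fun k => X'.X k) n qY qa qb qc qh0
              (fun k hk => (qhP k hk).1) (X.X (k' + 1 + 1)) k' (by omega) 1 ?_ ψ'
            intro j hj p hp ψ''
            have hp' : p = ((k' + 1 + 1 : ℕ) : ℤ) - j - 1 := by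
              rw [hp]
              push_cast
              ring
            subst hp'
            exact hX (k' + 1 + 1) j (by omega) (by omega) ψ''
          exact h1 ψ
      rw [sub_eq_zero] at hδ0
      obtain ⟨y', hy1, hy2⟩ := complete_distinguished_triangle_morphism₁ _ _
        (hP k hk).1 (qhP k hk).1 (φ.f (k + 1)) s.1 hδ0
      exact ⟨⟨y', fun _ => hy1.symm⟩, fun _ => ⟨hδ0, hy2⟩⟩
    · exact ⟨⟨0, fun h => absurd h (by omega)⟩, fun h => absurd h hk⟩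
  choose step hstep' using hstep
  let s0 : {y : Y 0 ⟶ qY 0 // 0 ≤ n → y ≫ qa 0 = a 0 ≫ φ.f 0} :=
    ⟨a 0 ≫ φ.f 0 ≫ inv (qa 0), fun _ => by simp⟩
  let s : ∀ k, {y : Y k ⟶ qY k // k ≤ n → y ≫ qa k = a k ≫ φ.f k} :=
    fun k => Nat.rec s0 (fun k sk => step k sk) k
  refine ⟨fun k => (s k).1, fun k hk => (s k).2 hk, fun k hk => ?_⟩
  exact hstep' k (s k) hk

end morphisms

end Groth.Agent.H2

namespace Groth.Agent.H2

section uniqueness
variable {D : Type u} [Category.{v} D] [Preadditive D] [HasZeroObject D] [HasShift D ℤ]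
  [∀ n : ℤ, (shiftFunctor D n).Additive] [Pretriangulated D]

/-- Key induction for uniqueness at the top of a Postnikov system. -/
lemma H2_postnikov_diff_comp_zero
    (Xs : ℕ → D) (n : ℕ)
    (Y : ℕ → D) (a : ∀ k, Y k ⟶ Xs k) (b : ∀ k, Xs (k + 1) ⟶ Y k)
    (c : ∀ k, Y k ⟶ (shiftFunctor D (1 : ℤ)).obj (Y (k + 1)))
    (hP : ∀ k, k < n → Triangle.mk (a (k + 1)) (b k) (c k) ∈ distinguishedTriangles)
    (qY : ℕ → D) (qc : ∀ k, qY k ⟶ (shiftFunctor D (1 : ℤ)).obj (qY (k + 1)))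
    (w : ∀ k, Y k ⟶ qY k) (hw0 : w 0 = 0)
    (hw : ∀ k, k < n → c k ≫ (shiftFunctor D (1 : ℤ)).map (w (k + 1)) = w k ≫ qc k)
    (k : ℕ) (hk : k ≤ n) (T : D) (t : qY k ⟶ T)
    (hT : ∀ i, 1 ≤ i → i ≤ k → ∀ (p : ℤ), p = (k : ℤ) - i →
      ∀ ψ : Xs i ⟶ (shiftFunctor D p).obj T, ψ = 0) :
    w k ≫ t = 0 := by
  induction k generalizing T with
  | zero => rw [hw0, zero_comp]
  | succ k ih =>
    have h1 : w k ≫ qc k ≫ (shiftFunctor D (1 : ℤ)).map t = 0 := by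
      apply ih (by omega)
      intro i hi1 hik p hp ψ
      have := hT i hi1 (by omega) (1 + p) (by rw [hp]; push_cast; ring)
        (ψ ≫ (shiftFunctorAdd' D 1 p (1 + p) rfl).inv.app T)
      rw [← cancel_mono ((shiftFunctorAdd' D 1 p (1 + p) rfl).inv.app T), this, zero_comp]
    have h2 : c k ≫ (shiftFunctor D (1 : ℤ)).map (w (k + 1) ≫ t) = 0 := by
      rw [Functor.map_comp, ← Category.assoc, hw k (by omega), Category.assoc, h1]
    obtain ⟨r, hr⟩ := H2_exists_fac_of_mor₃_comp (hP k (by omega)) (w (k + 1) ≫ t) h2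
    have hr0 : r = 0 := by
      have := hT (k + 1) (by omega) le_rfl 0 (by simp) (r ≫ (shiftFunctorZero D ℤ).inv.app T)
      rw [← cancel_mono ((shiftFunctorZero D ℤ).inv.app T), this, zero_comp]
    rw [hr, hr0, comp_zero]

end uniqueness

end Groth.Agent.H2

namespace Groth.Agent.H2

section uniqueness2
variable {D : Type u} [Category.{v} D] [Preadditive D] [HasZeroObject D] [HasShift D ℤ]
  [∀ n : ℤ, (shiftFunctor D n).Additive] [Pretriangulated D]

/-- Uniqueness of morphisms of Postnikov systems under two-sided vanishing. -/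
theorem H2_postnikov_unique
    (X X' : ChainComplex D ℕ) (n : ℕ)
    (Y : ℕ → D) (a : ∀ k, Y k ⟶ X.X k) (b : ∀ k, X.X (k + 1) ⟶ Y k)
    (c : ∀ k, Y k ⟶ (shiftFunctor D (1 : ℤ)).obj (Y (k + 1)))
    (h0 : IsIso (a 0))
    (hP : ∀ k, k < n → Triangle.mk (a (k + 1)) (b k) (c k) ∈ distinguishedTriangles)
    (qY : ℕ → D) (qa : ∀ k, qY k ⟶ X'.X k) (qb : ∀ k, X'.X (k + 1) ⟶ qY k)
    (qc : ∀ k, qY k ⟶ (shiftFunctor D (1 : ℤ)).obj (qY (k + 1)))
    (qh0 : IsIso (qa 0))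
    (qhP : ∀ k, k < n → Triangle.mk (qa (k + 1)) (qb k) (qc k) ∈ distinguishedTriangles)
    (hv1 : ∀ j k : ℕ, j ≤ k → k + 1 ≤ n → ∀ (p : ℤ), p = (k : ℤ) - j →
      ∀ ψ : X.X j ⟶ (shiftFunctor D p).obj (X'.X (k + 1)), ψ = 0)
    (hv2 : ∀ j k : ℕ, j ≤ k → k + 1 ≤ n → ∀ (p : ℤ), p = 1 + ((k : ℤ) - j) →
      ∀ ψ : (shiftFunctor D p).obj (X.X (k + 1)) ⟶ X'.X j, ψ = 0)
    (w : ∀ k, Y k ⟶ qY k)
    (hwa : ∀ k, k ≤ n → w k ≫ qa k = 0)
    (hwc : ∀ k, k < n → c k ≫ (shiftFunctor D (1 : ℤ)).map (w (k + 1)) = w k ≫ qc k)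
    (k : ℕ) (hk : k ≤ n) : w k = 0 := by
  induction k with
  | zero => rw [← cancel_mono (qa 0), hwa 0 hk, zero_comp]
  | succ k ih =>
    have hk' : k < n := by omega
    have h1 : c k ≫ (shiftFunctor D (1 : ℤ)).map (w (k + 1)) = 0 := by
      rw [hwc k hk', ih hk'.le, zero_comp]
    obtain ⟨r, hr⟩ := H2_exists_fac_of_mor₃_comp (hP k hk') (w (k + 1)) h1
    -- r ≫ qa factors through b k
    obtain ⟨s, hs⟩ : ∃ s : Y k ⟶ X'.X (k + 1), r ≫ qa (k + 1) = b k ≫ s :=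
      Triangle.yoneda_exact₂ _ (hP k hk') (r ≫ qa (k + 1)) (by
        show a (k + 1) ≫ r ≫ qa (k + 1) = 0
        rw [← Category.assoc, ← hr, hwa (k + 1) hk])
    have hs0 : s = 0 := by
      have := H2_postnikov_hom_from (fun k => X.X k) n Y a b c h0 hP (X'.X (k + 1)) k hk'.le 0
        (fun j hj p hp ψ => hv1 j k hj hk p (by rw [hp]; ring) ψ)
        (s ≫ (shiftFunctorZero D ℤ).inv.app _)
      rw [← cancel_mono ((shiftFunctorZero D ℤ).inv.app (X'.X (k + 1))), this, zero_comp]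
    have hr1 : r ≫ qa (k + 1) = 0 := by rw [hs, hs0, comp_zero]
    have hr0 : r = 0 := by
      refine H2_eq_zero_of_comp_mor₁ (qhP k hk') _ ?_ r hr1
      intro ψ
      exact H2_postnikov_hom_into (fun k => X'.X k) n qY qa qb qc qh0 qhP (X.X (k + 1)) k hk'.le 1
        (fun j hj p hp ψ' => hv2 j k hj hk p hp ψ') ψ
    rw [hr, hr0, comp_zero]

end uniqueness2

end Groth.Agent.H2

namespace Groth.Agent.H2

section existence
variable {D : Type u} [Category.{v} D] [Preadditive D] [HasZeroObject D] [HasShift D ℤ]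
  [∀ n : ℤ, (shiftFunctor D n).Additive] [Pretriangulated D]

/-- The invariants carried along the construction of a Postnikov system. -/
structure H2_PStage (X : ChainComplex D ℕ) (k : ℕ) where
  Y : D
  a : Y ⟶ X.X k
  inv : ∀ (W : D) (m : ℤ),
    (∀ j, j ≤ k → ∀ p : ℤ, p = m + ((k : ℤ) - j) →
      ∀ ψ : (shiftFunctor D p).obj W ⟶ X.X j, ψ = 0) →
    ∀ ψ : (shiftFunctor D m).obj W ⟶ Y, ψ = 0
  mono : ∀ (W : D) (u : W ⟶ Y), u ≫ a = 0 →
    (∀ j, j + 1 ≤ k → ∀ p : ℤ, p = (k : ℤ) - j →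
      ∀ ψ : (shiftFunctor D p).obj W ⟶ X.X j, ψ = 0) → u = 0
  lift : ∀ (W : D) (g : W ⟶ X.X k), (∀ k', k' + 1 = k → g ≫ X.d k k' = 0) →
    (∀ j, j + 2 ≤ k → ∀ p : ℤ, p = (k : ℤ) - 1 - j →
      ∀ ψ : (shiftFunctor D p).obj W ⟶ X.X j, ψ = 0) → ∃ l : W ⟶ Y, l ≫ a = g

/-- The initial stage. -/
def H2_PStage.zero (X : ChainComplex D ℕ) : H2_PStage X 0 where
  Y := X.X 0
  a := 𝟙 _
  inv W m h ψ := h 0 le_rfl m (by simp) ψ
  mono W u hu _ := by simpa using hu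
  lift W g _ _ := ⟨g, by simp⟩

lemma H2_PStage.exists_next (X : ChainComplex D ℕ) (k : ℕ) (s : H2_PStage X k)
    (hX : ∀ j : ℕ, j + 2 ≤ k → ∀ p : ℤ, p = (k : ℤ) - 1 - j →
      ∀ ψ : (shiftFunctor D p).obj (X.X (k + 1)) ⟶ X.X j, ψ = 0) :
    ∃ (s' : H2_PStage X (k + 1)) (b : X.X (k + 1) ⟶ s.Y)
      (c : s.Y ⟶ (shiftFunctor D (1 : ℤ)).obj s'.Y),
      Triangle.mk s'.a b c ∈ distTriang D ∧ b ≫ s.a = X.d (k + 1) k := by
  obtain ⟨b, hb⟩ := s.lift (X.X (k + 1)) (X.d (k + 1) k)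
    (fun k' hk' => by rw [X.d_comp_d]) hX
  obtain ⟨Z, f, h, hT⟩ := distinguished_cocone_triangle₁ b
  refine ⟨{ Y := Z, a := f, inv := ?_, mono := ?_, lift := ?_ }, b, h, hT, hb⟩
  · intro W m hv ψ
    refine H2_hom_into_obj₁_zero hT _ (hv (k + 1) le_rfl m (by simp)) ?_ ψ
    intro ψ'
    have h1 : ∀ ψ'' : (shiftFunctor D (m + 1)).obj W ⟶ s.Y, ψ'' = 0 := by
      intro ψ''
      refine s.inv W (m + 1) (fun j hj p hp => hv j (by omega) p ?_) ψ''
      rw [hp]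
      push_cast
      ring
    have := h1 ((shiftFunctorAdd' D m 1 (m + 1) rfl).hom.app W ≫ ψ')
    rw [← cancel_epi ((shiftFunctorAdd' D m 1 (m + 1) rfl).hom.app W), this, comp_zero]
  · intro W u hu hv
    refine H2_eq_zero_of_comp_mor₁ hT W ?_ u hu
    intro ψ
    exact s.inv W 1 (fun j hj p hp => hv j (by omega) p (by rw [hp]; push_cast; ring)) ψ
  · intro W g hg hv
    have hgb : g ≫ b = 0 := by
      apply s.mono W (g ≫ b)
      · rw [Category.assoc, hb, hg k rfl]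
      · intro j hj p hp ψ
        exact hv j (by omega) p (by rw [hp]; push_cast; ring) ψ
    obtain ⟨l, hl⟩ : ∃ l : W ⟶ Z, g = l ≫ f := Triangle.coyoneda_exact₂ _ hT g hgb
    exact ⟨l, hl.symm⟩

/-- Existence of Postnikov systems. -/
theorem H2_postnikov_exists (X : ChainComplex D ℕ) (n : ℕ)
    (hX : ∀ i j : ℕ, j + 2 < i → i ≤ n →
      ∀ φ : (shiftFunctor D ((i : ℤ) - j - 2)).obj (X.X i) ⟶ X.X j, φ = 0) :
    ∃ (Y : ℕ → D) (a : ∀ k, Y k ⟶ X.X k) (b : ∀ k, X.X (k + 1) ⟶ Y k)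
      (c : ∀ k, Y k ⟶ (shiftFunctor D (1 : ℤ)).obj (Y (k + 1))),
      IsIso (a 0) ∧ ∀ k, k < n → Triangle.mk (a (k + 1)) (b k) (c k) ∈ distinguishedTriangles ∧
        b k ≫ a k = X.d (k + 1) k := by
  have hstep : ∀ (k : ℕ) (s : H2_PStage X k),
      ∃ (s' : H2_PStage X (k + 1)) (b : X.X (k + 1) ⟶ s.Y)
        (c : s.Y ⟶ (shiftFunctor D (1 : ℤ)).obj s'.Y),
        k < n → (Triangle.mk s'.a b c ∈ distTriang D ∧ b ≫ s.a = X.d (k + 1) k) := by
    intro k s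
    by_cases hk : k < n
    · obtain ⟨s', b, c, h1, h2⟩ := H2_PStage.exists_next X k s (by
        intro j hj p hp ψ
        have hp' : p = ((k + 1 : ℕ) : ℤ) - j - 2 := by
          rw [hp]
          push_cast
          ring
        subst hp'
        exact hX (k + 1) j (by omega) (by omega) ψ)
      exact ⟨s', b, c, fun _ => ⟨h1, h2⟩⟩
    · -- dummy stage
      refine ⟨{ Y := X.X (k + 1), a := 𝟙 _, inv := ?_, mono := ?_, lift := ?_ }, 0, 0,
        fun h => absurd h hk⟩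
      · intro W m hv ψ
        exact hv (k + 1) le_rfl m (by simp) ψ
      · intro W u hu _
        simpa using hu
      · intro W g _ _
        exact ⟨g, by simp⟩
  choose step bs cs hs using hstep
  let S : ∀ k, H2_PStage X k := fun k => Nat.rec (H2_PStage.zero X) (fun k sk => step k sk) k
  refine ⟨fun k => (S k).Y, fun k => (S k).a, fun k => bs k (S k), fun k => cs k (S k), ?_, ?_⟩
  · show IsIso (𝟙 (X.X 0))
    infer_instance
  · intro k hk
    exact hs k (S k) hk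

end existence

end Groth.Agent.H2
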