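import Mathlib
import Groth.Prelude
import Groth.Agent.Lib.helper2.TStr
import Groth.Agent.Lib.helper2.EssConst2

/-! Pro-isomorphisms of inverse systems in the derived category detected on homology. -/

namespace Groth.Agent.H2

open CategoryTheory Category Limits Pretriangulated Opposite

universe w v u

section General

variable {D : Type u} [Category.{v} D] [Preadditive D] [HasZeroObject D] [HasShift D ℤ]
  [∀ n : ℤ, (shiftFunctor D n).Additive] [Pretriangulated D]

/-- Choice of a system of cones for a levelwise map of inverse systems. -/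
theorem H2_cone_system (X Y : ARSys.PS D) (f : X ⟶ Y) :
    ∃ (C : ARSys.PS D) (g : Y ⟶ C) (h : C ⟶ X ⋙ shiftFunctor D (1 : ℤ)),
      ∀ n : ℕ, Triangle.mk (f.app (op n)) (g.app (op n)) (h.app (op n)) ∈ distTriang D := by
  choose Z g₀ h₀ hT using fun n : ℕ => distinguished_cocone_triangle (f.app (op n))
  have H := fun n : ℕ => complete_distinguished_triangle_morphism _ _ (hT (n + 1)) (hT n)
    (X.map (homOfLE (n.le_add_right 1)).op) (Y.map (homOfLE (n.le_add_right 1)).op)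
    (f.naturality _).symm
  choose c hc₁ hc₂ using H
  refine ⟨Functor.ofOpSequence c, NatTrans.ofOpSequence (fun n => g₀ n) ?_,
    NatTrans.ofOpSequence (fun n => h₀ n) ?_, fun n => hT n⟩
  · intro n
    rw [Functor.ofOpSequence_map_homOfLE_succ]
    exact (hc₁ n).symm
  · intro n
    rw [Functor.ofOpSequence_map_homOfLE_succ]
    exact (hc₂ n).symm

/-- If the cone system is pro-zero, the map is a pro-isomorphism. -/
theorem H2_proIso_of_cone_proZero (X Y C : ARSys.PS D) (f : X ⟶ Y) (g : Y ⟶ C)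
    (h : C ⟶ X ⋙ shiftFunctor D (1 : ℤ))
    (hT : ∀ n : ℕ, Triangle.mk (f.app (op n)) (g.app (op n)) (h.app (op n)) ∈ distTriang D)
    (hC : ∀ n : ℕ, ∃ (m : ℕ) (hm : n ≤ m), ARSys.tr C hm = 0) : DerCA.IsProIso f := by
  intro n
  obtain ⟨m1, h1, z1⟩ := hC n
  obtain ⟨m2, h2, z2⟩ := hC m1
  have fnat : ∀ {p q : ℕ} (hpq : p ≤ q), ARSys.tr X hpq ≫ f.app (op p) =
      f.app (op q) ≫ ARSys.tr Y hpq := fun hpq => f.naturality (homOfLE hpq).op
  have gnat : ∀ {p q : ℕ} (hpq : p ≤ q), ARSys.tr Y hpq ≫ g.app (op p) =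
      g.app (op q) ≫ ARSys.tr C hpq := fun hpq => g.naturality (homOfLE hpq).op
  have hnat : ∀ {p q : ℕ} (hpq : p ≤ q), ARSys.tr C hpq ≫ h.app (op p) =
      h.app (op q) ≫ (ARSys.tr X hpq)⟦(1 : ℤ)⟧' := fun hpq => h.naturality (homOfLE hpq).op
  obtain ⟨b', hb'⟩ : ∃ b' : Y.obj (op m2) ⟶ X.obj (op m1),
      ARSys.tr Y h2 = b' ≫ f.app (op m1) :=
    Triangle.coyoneda_exact₂ _ (hT m1) (ARSys.tr Y h2) (by
      show ARSys.tr Y h2 ≫ g.app (op m1) = 0
      rw [gnat, z2, comp_zero])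
  let e : X.obj (op m2) ⟶ X.obj (op m1) := f.app (op m2) ≫ b' - ARSys.tr X h2
  have he : e ≫ f.app (op m1) = 0 := by
    dsimp only [e]
    rw [Preadditive.sub_comp, assoc, ← hb', fnat, sub_self]
  obtain ⟨v, hv⟩ : ∃ v : (X.obj (op m2))⟦(1 : ℤ)⟧ ⟶ C.obj (op m1),
      e⟦(1 : ℤ)⟧' = v ≫ h.app (op m1) :=
    Triangle.coyoneda_exact₁ _ (hT m1) (e⟦(1 : ℤ)⟧') (by
      show e⟦(1 : ℤ)⟧' ≫ (f.app (op m1))⟦(1 : ℤ)⟧' = 0
      rw [← Functor.map_comp, he, Functor.map_zero])
  have he2 : e ≫ ARSys.tr X h1 = 0 := by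
    apply (shiftFunctor D (1 : ℤ)).map_injective
    rw [Functor.map_comp, hv, assoc, ← hnat, z1, zero_comp, comp_zero, Functor.map_zero]
  refine ⟨m2, h1.trans h2, b' ≫ ARSys.tr X h1, ?_, ?_⟩
  · have : f.app (op m2) ≫ b' = e + ARSys.tr X h2 := by
      dsimp only [e]
      abel
    rw [← assoc, this, Preadditive.add_comp, he2, zero_add, H2_tr_comp]
  · rw [assoc, fnat, ← assoc, ← hb', H2_tr_comp]

end General

section Derived

open DerivedCategory

variable {A : Type u} [Category.{v} A] [Abelian A] [HasDerivedCategory.{w} A]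

/-- One step: a morphism out of `D^{≤ m}` vanishing on `H^m` factors through `D^{≤ m-1}`. -/
theorem H2_factor_of_homology_zero (m : ℤ) {W Z : DerivedCategory A} [W.IsLE m] (g : W ⟶ Z)
    (hg : (homologyFunctor A m).map g = 0) :
    ∃ (Z' : DerivedCategory A) (_ : Z'.IsLE (m - 1)) (g' : W ⟶ Z') (ι : Z' ⟶ Z), g = g' ≫ ι := by
  let L := Q.objPreimage Z
  let e : Q.obj L ≅ Z := Q.objObjPreimageIso Z
  obtain ⟨δ, hδ⟩ := H2_truncTriangle_dist L (m - 1) m (by ring)
  have hz : (g ≫ e.inv) ≫ Q.map (L.πTruncGE m) = 0 := by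
    apply H2_hom_eq_zero_of_homology m
    rw [Functor.map_comp, Functor.map_comp, hg, zero_comp, zero_comp]
  obtain ⟨g', hg'⟩ : ∃ g' : W ⟶ Q.obj (L.truncLE (m - 1)),
      g ≫ e.inv = g' ≫ Q.map (L.ιTruncLE (m - 1)) :=
    Triangle.coyoneda_exact₂ _ hδ (g ≫ e.inv) hz
  refine ⟨Q.obj (L.truncLE (m - 1)), inferInstance, g', Q.map (L.ιTruncLE (m - 1)) ≫ e.hom, ?_⟩
  rw [← assoc, ← hg', assoc, e.inv_hom_id, comp_id]

/-- A bounded system in `D(A)` whose homology systems are all pro-zero is pro-zero. -/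
theorem H2_proZero_of_homology (C : ARSys.PS (DerivedCategory A)) (a b : ℤ)
    (hGE : ∀ n : ℕ, (C.obj (op n)).IsGE a) (hLE : ∀ n : ℕ, (C.obj (op n)).IsLE b)
    (hH : ∀ (i : ℤ) (n : ℕ), ∃ (m : ℕ) (h : n ≤ m),
      (homologyFunctor A i).map (ARSys.tr C h) = 0) :
    ∀ n : ℕ, ∃ (m : ℕ) (h : n ≤ m), ARSys.tr C h = 0 := by
  have key : ∀ (k : ℕ) (n : ℕ), ∃ (m : ℕ) (h : n ≤ m) (W : DerivedCategory A)
      (_ : W.IsLE (b - k)) (α : C.obj (op m) ⟶ W) (β : W ⟶ C.obj (op n)),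
      ARSys.tr C h = α ≫ β := by
    intro k
    induction k with
    | zero =>
      intro n
      exact ⟨n, le_refl n, C.obj (op n), by simpa using hLE n, 𝟙 _, 𝟙 _, by
        rw [H2_tr_refl, comp_id]⟩
    | succ k ih =>
      intro n
      obtain ⟨n', hn', hz⟩ := hH (b - k) n
      obtain ⟨m, hm, W, hW, α, β, hαβ⟩ := ih n'
      obtain ⟨Z', hZ', g', ι, hg⟩ := H2_factor_of_homology_zero (b - k) (β ≫ ARSys.tr C hn') (by
        rw [Functor.map_comp, hz, comp_zero])
      refine ⟨m, hn'.trans hm, Z', ?_, α ≫ g', ι, ?_⟩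
      · have e : b - ((k + 1 : ℕ) : ℤ) = b - k - 1 := by push_cast; ring
        rw [e]
        exact hZ'
      · rw [← H2_tr_comp C hn' hm, hαβ, assoc, hg, assoc]
  intro n
  obtain ⟨m, hm, W, hW, α, β, h⟩ := key (b - a + 1).toNat n
  refine ⟨m, hm, ?_⟩
  have hβ : β = 0 := by
    have := hGE n
    exact TStructure.t.zero β (b - ((b - a + 1).toNat : ℤ)) a (by omega)
  rw [h, hβ, comp_zero]

/-- The homology systems of the cone system are pro-zero when `H^i(f)`, `H^{i+1}(f)` are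
pro-isomorphisms. -/
theorem H2_homology_cone_proZero (X Y C : ARSys.PS (DerivedCategory A)) (f : X ⟶ Y) (g : Y ⟶ C)
    (h : C ⟶ X ⋙ shiftFunctor (DerivedCategory A) (1 : ℤ))
    (hT : ∀ n : ℕ, Triangle.mk (f.app (op n)) (g.app (op n)) (h.app (op n)) ∈
      distTriang (DerivedCategory A))
    (i : ℤ)
    (hi : DerCA.IsProIso (Functor.whiskerRight f (homologyFunctor A i)))
    (hi1 : DerCA.IsProIso (Functor.whiskerRight f (homologyFunctor A (i + 1)))) :
    ∀ n : ℕ, ∃ (m : ℕ) (hm : n ≤ m), (homologyFunctor A i).map (ARSys.tr C hm) = 0 := by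
  intro n
  obtain ⟨n', hn', β', -, hβ'⟩ := hi n
  obtain ⟨M, hM, β, hβ, -⟩ := hi1 n'
  have hβ'c : β' ≫ (homologyFunctor A i).map (f.app (op n)) =
      (homologyFunctor A i).map (ARSys.tr Y hn') := hβ'
  have hβc : (homologyFunctor A (i + 1)).map (f.app (op M)) ≫ β =
      (homologyFunctor A (i + 1)).map (ARSys.tr X hM) := hβ
  clear hβ hβ'
  refine ⟨M, hn'.trans hM, ?_⟩
  have fnat : ∀ {p q : ℕ} (hpq : p ≤ q), ARSys.tr X hpq ≫ f.app (op p) =
      f.app (op q) ≫ ARSys.tr Y hpq := fun hpq => f.naturality (homOfLE hpq).op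
  have gnat : ∀ {p q : ℕ} (hpq : p ≤ q), ARSys.tr Y hpq ≫ g.app (op p) =
      g.app (op q) ≫ ARSys.tr C hpq := fun hpq => g.naturality (homOfLE hpq).op
  have hnat : ∀ {p q : ℕ} (hpq : p ≤ q), ARSys.tr C hpq ≫ h.app (op p) =
      h.app (op q) ≫ (ARSys.tr X hpq)⟦(1 : ℤ)⟧' := fun hpq => h.naturality (homOfLE hpq).op
  let T := fun k : ℕ => Triangle.mk (f.app (op k)) (g.app (op k)) (h.app (op k))
  let φ : T M ⟶ T n' :=
    { hom₁ := ARSys.tr X hM
      hom₂ := ARSys.tr Y hM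
      hom₃ := ARSys.tr C hM
      comm₁ := (fnat hM).symm
      comm₂ := (gnat hM).symm
      comm₃ := (hnat hM).symm }
  obtain ⟨δM, hδM, δn', hδnat, hex⟩ : ∃ (δM : (homologyFunctor A i).obj (C.obj (op M)) ⟶
      (homologyFunctor A (i + 1)).obj (X.obj (op M)))
      (_ : δM ≫ (homologyFunctor A (i + 1)).map (f.app (op M)) = 0)
      (δn' : (homologyFunctor A i).obj (C.obj (op n')) ⟶
        (homologyFunctor A (i + 1)).obj (X.obj (op n'))),
      (homologyFunctor A i).map (ARSys.tr C hM) ≫ δn' =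
        δM ≫ (homologyFunctor A (i + 1)).map (ARSys.tr X hM) ∧
      ∀ {A' : A} (u : A' ⟶ (homologyFunctor A i).obj (C.obj (op n'))), u ≫ δn' = 0 →
        ∃ (A'' : A) (π : A'' ⟶ A') (_ : Epi π)
          (x : A'' ⟶ (homologyFunctor A i).obj (Y.obj (op n'))),
          π ≫ u = x ≫ (homologyFunctor A i).map (g.app (op n')) :=
    ⟨HomologySequence.δ (T M) i (i + 1) rfl, HomologySequence.δ_comp (T M) (hT M) i (i + 1) rfl,
      HomologySequence.δ (T n') i (i + 1) rfl,
      (homologyFunctor A 0).homologySequenceδ_naturality (T M) (T n') φ i (i + 1) rfl,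
      fun u hu => (HomologySequence.exact₃ (T n') (hT n') i (i + 1)
        rfl).exact_up_to_refinements u hu⟩
  have h1 : (homologyFunctor A i).map (ARSys.tr C hM) ≫ δn' = 0 := by
    rw [hδnat, ← hβc, ← assoc, hδM, zero_comp]
  obtain ⟨A', π, hπ, x, hx⟩ := hex _ h1
  have hfg : (homologyFunctor A i).map (f.app (op n)) ≫ (homologyFunctor A i).map (g.app (op n))
      = 0 := by
    rw [← Functor.map_comp]
    have : f.app (op n) ≫ g.app (op n) = 0 := comp_distTriang_mor_zero₁₂ _ (hT n)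
    rw [this, Functor.map_zero]
  rw [← H2_tr_comp C hn' hM, Functor.map_comp, ← cancel_epi π, comp_zero, ← assoc, hx, assoc,
    ← Functor.map_comp, ← gnat hn', Functor.map_comp, ← hβ'c, assoc, hfg, comp_zero, comp_zero]

/-- A levelwise map of bounded inverse systems in `D(A)` which is a pro-isomorphism on each
homology system is a pro-isomorphism. -/
theorem H2_proIso_of_homology_proIso (X Y : ARSys.PS (DerivedCategory A)) (f : X ⟶ Y) (a b : ℤ)
    (hX : ∀ (n : ℕ) (i : ℤ), i < a ∨ b < i →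
      IsZero ((homologyFunctor A i).obj (X.obj (op n))))
    (hY : ∀ (n : ℕ) (i : ℤ), i < a ∨ b < i →
      IsZero ((homologyFunctor A i).obj (Y.obj (op n))))
    (hH : ∀ i : ℤ, DerCA.IsProIso (Functor.whiskerRight f (homologyFunctor A i))) :
    DerCA.IsProIso f := by
  obtain ⟨C, g, h, hT⟩ := H2_cone_system X Y f
  apply H2_proIso_of_cone_proZero X Y C f g h hT
  have hC : ∀ (n : ℕ) (i : ℤ), i < a - 1 ∨ b < i →
      IsZero ((homologyFunctor A i).obj (C.obj (op n))) := by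
    intro n i hi
    have ex := HomologySequence.exact₃ _ (hT n) i (i + 1) rfl
    apply ex.isZero_X₂
    · exact (hY n i (by omega)).eq_of_src _ _
    · exact (hX n (i + 1) (by omega)).eq_of_tgt _ _
  apply H2_proZero_of_homology C (a - 1) b
  · intro n
    rw [isGE_iff]
    intro i hi
    exact hC n i (Or.inl hi)
  · intro n
    rw [isLE_iff]
    intro i hi
    exact hC n i (Or.inr hi)
  · intro i n
    exact H2_homology_cone_proZero X Y C f g h hT i (hH i) (hH (i + 1)) n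

end Derived

end Groth.Agent.H2
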