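import Mathlib
import Groth.Agent.Lib.helper2.AltTrace
import Groth.Agent.Lib.helper2.TwoTermD

set_option autoImplicit false

namespace Groth.Agent.H2

open CategoryTheory CategoryTheory.Limits Pretriangulated DerivedCategory

universe u

attribute [local instance] HasDerivedCategory.standard

variable {R : Type u} [CommRing R]

lemma H2_hom_eq_zero_of_projective_of_isLE (P : CochainComplex (ModuleCat.{u} R) ℤ) (a b : ℤ)
    (hP : ∀ i : ℤ, i < a ∨ b < i → IsZero (P.X i))
    (hPp : ∀ i : ℤ, Module.Projective R (P.X i))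
    (Y : DerivedCategory (ModuleCat.{u} R)) [Y.IsLE (a - 1)]
    (f : DerivedCategory.Q.obj P ⟶ Y) : f = 0 := by
  haveI : P.IsStrictlyLE b := by
    rw [CochainComplex.isStrictlyLE_iff]
    exact fun i hi => hP i (Or.inr hi)
  haveI : ∀ n : ℤ, Projective (P.X n) := fun n =>
    (IsProjective.iff_projective (P.X n)).mp (hPp n)
  haveI : P.IsKProjective := CochainComplex.isKProjective_of_projective P b
  obtain ⟨K', hK', ⟨e⟩⟩ := Y.exists_iso_Q_obj_of_isLE (a - 1)
  obtain ⟨φ, hφ⟩ := H2_exists_lift P K' (f ≫ e.hom)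
  have h0 : φ = 0 := by
    ext i : 1
    by_cases hi : i < a
    · exact (hP i (Or.inl hi)).eq_of_src _ _
    · exact (K'.isZero_of_isStrictlyLE (a - 1) i (by omega)).eq_of_tgt _ _
  rw [h0, Functor.map_zero] at hφ
  rw [← cancel_mono e.hom, ← hφ, zero_comp]

end Groth.Agent.H2
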