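import Mathlib

set_option autoImplicit false

namespace Groth.Agent.H2

open CategoryTheory CategoryTheory.Limits Pretriangulated DerivedCategory

universe w v u

variable {A : Type u} [Category.{v} A] [Abelian A] [HasDerivedCategory.{w} A]

/-- lift a morphism in the derived category out of a K-projective complex to a chain map -/
lemma H2g_exists_lift (P L : CochainComplex A ℤ) [P.IsKProjective]
    (α : DerivedCategory.Q.obj P ⟶ DerivedCategory.Q.obj L) :
    ∃ φ : P ⟶ L, DerivedCategory.Q.map φ = α := by
  obtain ⟨φh, hφ⟩ := (CochainComplex.IsKProjective.Qh_map_bijective P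
    ((HomotopyCategory.quotient _ _).obj L)).surjective
    ((DerivedCategory.quotientCompQhIso _).hom.app P ≫ α ≫
      (DerivedCategory.quotientCompQhIso _).inv.app L)
  obtain ⟨φ, rfl⟩ := (HomotopyCategory.quotient _ _).map_surjective φh
  refine ⟨φ, ?_⟩
  have := (DerivedCategory.quotientCompQhIso A).hom.naturality φ
  simp only [Functor.comp_map] at this
  rw [hφ] at this
  simp only [Category.assoc, Iso.inv_hom_id_app, Category.comp_id] at this
  exact ((cancel_epi _).mp this).symm

lemma H2g_hom_eq_zero_of_projective_of_isLE (P : CochainComplex A ℤ) (a b : ℤ)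
    [P.IsStrictlyGE a] [P.IsStrictlyLE b] (hPp : ∀ i : ℤ, Projective (P.X i))
    (Y : DerivedCategory A) [Y.IsLE (a - 1)]
    (f : DerivedCategory.Q.obj P ⟶ Y) : f = 0 := by
  haveI : P.IsKProjective := CochainComplex.isKProjective_of_projective P b
  obtain ⟨K', hK', ⟨e⟩⟩ := Y.exists_iso_Q_obj_of_isLE (a - 1)
  obtain ⟨φ, hφ⟩ := H2g_exists_lift P K' (f ≫ e.hom)
  have h0 : φ = 0 := by
    ext i : 1
    by_cases hi : i < a
    · exact (P.isZero_of_isStrictlyGE a i hi).eq_of_src _ _
    · exact (K'.isZero_of_isStrictlyLE (a - 1) i (by omega)).eq_of_tgt _ _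
  rw [h0, Functor.map_zero] at hφ
  rw [← cancel_mono e.hom, ← hφ, zero_comp]

lemma H2_epi_of_sq {C : Type*} [Category C] {X Y X' Y' : C} (f : X ⟶ Y) (g : X' ⟶ Y')
    (a : X ≅ X') (b : Y ≅ Y') (h : f ≫ b.hom = a.hom ≫ g) [Epi g] : Epi f := by
  have : f = a.hom ≫ g ≫ b.inv := by
    rw [← Category.assoc, ← h, Category.assoc, Iso.hom_inv_id, Category.comp_id]
  rw [this]; infer_instance

lemma H2_mono_of_sq {C : Type*} [Category C] {X Y X' Y' : C} (f : X ⟶ Y) (g : X' ⟶ Y')
    (a : X ≅ X') (b : Y ≅ Y') (h : f ≫ b.hom = a.hom ≫ g) [Mono g] : Mono f := by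
  have : f = a.hom ≫ g ≫ b.inv := by
    rw [← Category.assoc, ← h, Category.assoc, Iso.hom_inv_id, Category.comp_id]
  rw [this]; infer_instance

lemma H2g_cone_isLE {E L : CochainComplex A ℤ} (α : E ⟶ L) (n : ℤ)
    (hiso : ∀ i : ℤ, n < i → IsIso (HomologicalComplex.homologyMap α i))
    (hepi : Epi (HomologicalComplex.homologyMap α n)) :
    (DerivedCategory.Q.obj (CochainComplex.mappingCone α)).IsLE (n - 1) := by
  rw [DerivedCategory.isLE_iff]
  intro i hi
  have hT := DerivedCategory.mappingCone_triangle_distinguished α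
  have e0 : Epi (HomologicalComplex.homologyMap α i) := by
    by_cases h : i = n
    · subst h
      exact hepi
    · have := hiso i (by omega)
      infer_instance
  have e1 : Epi ((homologyFunctor A i).map (DerivedCategory.Q.map α)) :=
    H2_epi_of_sq _ (HomologicalComplex.homologyMap α i) ((homologyFunctorFactors A i).app E)
      ((homologyFunctorFactors A i).app L) (homologyFunctorFactors_hom_naturality α i)
  have m0 : Mono (HomologicalComplex.homologyMap α (i + 1)) := by
    have := hiso (i + 1) (by omega)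
    infer_instance
  have m1 : Mono ((homologyFunctor A (i + 1)).map (DerivedCategory.Q.map α)) :=
    H2_mono_of_sq _ (HomologicalComplex.homologyMap α (i + 1))
      ((homologyFunctorFactors A (i + 1)).app E)
      ((homologyFunctorFactors A (i + 1)).app L) (homologyFunctorFactors_hom_naturality α (i + 1))
  refine (HomologySequence.exact₃ _ hT i (i + 1) rfl).isZero_X₂ ?_ ?_
  · exact (HomologySequence.epi_homologyMap_mor₁_iff _ hT i).mp e1
  · exact (HomologySequence.mono_homologyMap_mor₁_iff _ hT i (i + 1) rfl).mp m1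

lemma H2g_lift_up_to_homotopy (P E L : CochainComplex A ℤ) (β : P ⟶ L) (α : E ⟶ L) (n b : ℤ)
    [P.IsStrictlyGE n] [P.IsStrictlyLE b] (hP : ∀ i : ℤ, Projective (P.X i))
    (hiso : ∀ i : ℤ, n < i → IsIso (HomologicalComplex.homologyMap α i))
    (hepi : Epi (HomologicalComplex.homologyMap α n)) :
    ∃ γ : P ⟶ E, Nonempty (Homotopy (γ ≫ α) β) := by
  haveI : P.IsKProjective := CochainComplex.isKProjective_of_projective P b
  have hle := H2g_cone_isLE α n hiso hepi
  have h0 : DerivedCategory.Q.map (β ≫ CochainComplex.mappingCone.inr α) = 0 :=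
    H2g_hom_eq_zero_of_projective_of_isLE P n b hP _ _
  have h1 : (HomotopyCategory.quotient A (ComplexShape.up ℤ)).map
      (β ≫ CochainComplex.mappingCone.inr α) = 0 := by
    apply (CochainComplex.IsKProjective.Qh_map_bijective P _).injective
    rw [Functor.map_zero]
    have := (DerivedCategory.quotientCompQhIso A).hom.naturality
      (β ≫ CochainComplex.mappingCone.inr α)
    simp only [Functor.comp_map] at this
    rw [h0, comp_zero] at this
    exact (cancel_mono _).mp (this.trans zero_comp.symm)
  have hTh := HomotopyCategory.mappingCone_triangleh_distinguished α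
  obtain ⟨γ', hγ'⟩ := Triangle.coyoneda_exact₂ _ hTh
    ((HomotopyCategory.quotient A (ComplexShape.up ℤ)).map β) (by
      change (HomotopyCategory.quotient A (ComplexShape.up ℤ)).map β ≫
        (HomotopyCategory.quotient A (ComplexShape.up ℤ)).map
          (CochainComplex.mappingCone.inr α) = 0
      rw [← Functor.map_comp]
      exact h1)
  obtain ⟨γ, rfl⟩ := (HomotopyCategory.quotient A (ComplexShape.up ℤ)).map_surjective γ'
  refine ⟨γ, ⟨HomotopyCategory.homotopyOfEq _ _ ?_⟩⟩
  rw [Functor.map_comp]
  exact hγ'.symm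

end Groth.Agent.H2
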