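import Mathlib

set_option autoImplicit false
universe u
open AlgebraicGeometry CategoryTheory CategoryTheory.Limits

namespace Groth.Agent.H2

theorem H2_quasiCompact_of_comp_of_surjective {X Y Z : Scheme.{u}} (f : X ⟶ Y) (g : Y ⟶ Z)
    [QuasiCompact (f ≫ g)] [Surjective f] : QuasiCompact g := by
  constructor
  intro U hU hUc
  have h1 : IsCompact ((f ≫ g) ⁻¹' U) := QuasiCompact.isCompact_preimage U hU hUc
  have h2 : g ⁻¹' U = f '' ((f ≫ g) ⁻¹' U) := by
    ext y
    constructor
    · intro hy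
      obtain ⟨x, rfl⟩ := f.surjective y
      exact ⟨x, by simpa using hy, rfl⟩
    · rintro ⟨x, hx, rfl⟩
      simpa using hx
  rw [h2]
  exact h1.image f.continuous

theorem H2_quasiSeparated_of_comp_of_surjective_quasiCompact {X Y Z : Scheme.{u}} (f : X ⟶ Y)
    (g : Y ⟶ Z) [QuasiSeparated (f ≫ g)] [Surjective f] [QuasiCompact f] : QuasiSeparated g := by
  rw [HasAffineProperty.eq_targetAffineLocally (P := @QuasiSeparated)]
  intro U
  change QuasiSeparatedSpace ↥(g ⁻¹ᵁ U.1)
  refine (isQuasiSeparated_iff_quasiSeparatedSpace _ (g ⁻¹ᵁ U.1).2).mp ?_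
  change IsQuasiSeparated (g ⁻¹' (U.1 : Set Z))
  have h1 : IsQuasiSeparated ((f ≫ g) ⁻¹ᵁ U.1 : Set X) :=
    Scheme.Hom.isQuasiSeparated_preimage (f ≫ g) U.2.isQuasiSeparated
  intro A B hA hAo hAc hB hBo hBc
  have hfA : IsCompact (f ⁻¹' A) := QuasiCompact.isCompact_preimage A hAo hAc
  have hfB : IsCompact (f ⁻¹' B) := QuasiCompact.isCompact_preimage B hBo hBc
  have := h1 (f ⁻¹' A) (f ⁻¹' B) (fun x hx => by simpa using hA hx) (hAo.preimage f.continuous) hfA
    (fun x hx => by simpa using hB hx) (hBo.preimage f.continuous) hfB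
  have h2 := this.image f.continuous
  rwa [← Set.preimage_inter, Set.image_preimage_eq _ f.surjective] at h2

end Groth.Agent.H2
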