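import Mathlib

set_option autoImplicit false
universe u

namespace Groth.Agent.H2

variable {X Y : Type*} [TopologicalSpace X] [TopologicalSpace Y]

/-- quasi-homeomorphism data in set form -/
structure H2QH (f : X → Y) : Prop where
  cont : Continuous f
  inj : ∀ U₁ U₂ : Set Y, IsOpen U₁ → IsOpen U₂ → f ⁻¹' U₁ = f ⁻¹' U₂ → U₁ = U₂
  surj : ∀ V : Set X, IsOpen V → ∃ U : Set Y, IsOpen U ∧ f ⁻¹' U = V

lemma H2QH.of_bijective (f : X → Y) (hf : Continuous f)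
    (hq : Function.Bijective (fun U : TopologicalSpace.Opens Y =>
      (⟨f ⁻¹' (U : Set Y), U.isOpen.preimage hf⟩ : TopologicalSpace.Opens X))) : H2QH f where
  cont := hf
  inj U₁ U₂ h₁ h₂ e := by
    have := hq.1 (a₁ := ⟨U₁, h₁⟩) (a₂ := ⟨U₂, h₂⟩) (TopologicalSpace.Opens.ext e)
    exact congrArg (fun U : TopologicalSpace.Opens Y => (U : Set Y)) this
  surj V hV := by
    obtain ⟨U, hU⟩ := hq.2 ⟨V, hV⟩
    exact ⟨U, U.isOpen, congrArg (fun U : TopologicalSpace.Opens X => (U : Set X)) hU⟩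

/-- locally quasi-constructible -/
def H2LQC (Y' : Set Y) : Prop :=
  ∀ y : Y, ∃ U : Set Y, IsOpen U ∧ y ∈ U ∧
    ∃ T : Set (Set Y), T.Finite ∧ (∀ t ∈ T, IsLocallyClosed t) ∧ U ∩ Y' = ⋃₀ T

variable {f : X → Y}

lemma H2QH.mono (h : H2QH f) {U₁ U₂ : Set Y} (h₁ : IsOpen U₁) (h₂ : IsOpen U₂)
    (hsub : f ⁻¹' U₁ ⊆ f ⁻¹' U₂) : U₁ ⊆ U₂ := by
  have : U₁ ∪ U₂ = U₂ := h.inj _ _ (h₁.union h₂) h₂ (by
    rw [Set.preimage_union]; exact Set.union_eq_self_of_subset_left hsub)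
  rw [← this]; exact Set.subset_union_left

lemma H2QH.subset_of_isLocallyClosed (h : H2QH f) {t U₁ U₂ : Set Y} (ht : IsLocallyClosed t)
    (h₁ : IsOpen U₁) (h₂ : IsOpen U₂) (hsub : f ⁻¹' (t ∩ U₁) ⊆ f ⁻¹' U₂) : t ∩ U₁ ⊆ U₂ := by
  obtain ⟨W, C, hW, hC, rfl⟩ := ht
  have : W ∩ U₁ ⊆ U₂ ∪ Cᶜ := by
    apply h.mono (hW.inter h₁) (h₂.union hC.isOpen_compl)
    intro x hx
    by_cases hxC : f x ∈ C
    · left; exact hsub ⟨⟨hx.1, hxC⟩, hx.2⟩
    · right; exact hxC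
  rintro y ⟨⟨hyW, hyC⟩, hy1⟩
  rcases this ⟨hyW, hy1⟩ with h | h
  · exact h
  · exact absurd hyC h

lemma H2QH.subset_of_lqc (h : H2QH f) {Y' U₁ U₂ : Set Y} (hY' : H2LQC Y')
    (h₁ : IsOpen U₁) (h₂ : IsOpen U₂) (hsub : f ⁻¹' (Y' ∩ U₁) ⊆ f ⁻¹' U₂) : Y' ∩ U₁ ⊆ U₂ := by
  rintro y ⟨hyY', hy1⟩
  obtain ⟨Uy, hUy, hyUy, T, -, hT, hUT⟩ := hY' y
  have : y ∈ ⋃₀ T := hUT ▸ ⟨hyUy, hyY'⟩
  obtain ⟨t, htT, hyt⟩ := this
  have htY' : t ⊆ Y' := fun w hw => (hUT ▸ Set.mem_sUnion.mpr ⟨t, htT, hw⟩ : w ∈ Uy ∩ Y').2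
  refine h.subset_of_isLocallyClosed (hT t htT) h₁ h₂ ?_ ⟨hyt, hy1⟩
  exact fun x hx => hsub ⟨htY' hx.1, hx.2⟩

lemma H2QH.isCompact_iff (h : H2QH f) {Y' U₁ : Set Y} (hY' : H2LQC Y') (h₁ : IsOpen U₁) :
    IsCompact (Y' ∩ U₁) ↔ IsCompact (f ⁻¹' (Y' ∩ U₁)) := by
  constructor
  · intro hc
    rw [isCompact_iff_finite_subcover]
    intro ι V hV hcov
    choose U hUo hUV using fun i => h.surj (V i) (hV i)
    have hsub : Y' ∩ U₁ ⊆ ⋃ i, U i := by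
      apply h.subset_of_lqc hY' h₁ (isOpen_iUnion hUo)
      rw [Set.preimage_iUnion]
      simpa [hUV] using hcov
    obtain ⟨s, hs⟩ := hc.elim_finite_subcover U hUo hsub
    refine ⟨s, ?_⟩
    intro x hx
    have := hs hx
    simp only [Set.mem_iUnion] at this ⊢
    obtain ⟨i, his, hi⟩ := this
    exact ⟨i, his, by rw [← hUV i]; exact hi⟩
  · intro hc
    rw [isCompact_iff_finite_subcover]
    intro ι U hU hcov
    obtain ⟨s, hs⟩ := hc.elim_finite_subcover (fun i => f ⁻¹' U i)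
      (fun i => (hU i).preimage h.cont) (by
        intro x hx
        have := hcov hx
        simp only [Set.mem_iUnion] at this ⊢
        exact this)
    refine ⟨s, ?_⟩
    apply h.subset_of_lqc hY' h₁ (isOpen_biUnion fun i _ => hU i)
    intro x hx
    have := hs hx
    simp only [Set.mem_iUnion, Set.mem_preimage] at this ⊢
    exact this

lemma H2LQC.of_isOpen {U : Set Y} (hU : IsOpen U) : H2LQC U := by
  intro y
  refine ⟨Set.univ, isOpen_univ, trivial, {U}, Set.finite_singleton _, ?_, by simp⟩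
  intro t ht
  rw [Set.mem_singleton_iff.mp ht]
  exact hU.isLocallyClosed

lemma H2QH.isCompact_open_iff (h : H2QH f) {U : Set Y} (hU : IsOpen U) :
    IsCompact U ↔ IsCompact (f ⁻¹' U) := by
  have := h.isCompact_iff (H2LQC.of_isOpen hU) isOpen_univ
  simpa using this

end Groth.Agent.H2
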