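import Mathlib

/-! The right derived functor on `D⁺` sends the triangle of a short exact sequence of complexes
to (the first two maps of) a distinguished triangle. -/

namespace Groth.Agent.H2

open CategoryTheory Category Limits Pretriangulated

universe w v u w' v' u'

set_option linter.unusedSectionVars false

section

variable {C : Type u} [Category.{v} C] [Abelian C] [HasDerivedCategory.{w} C]

/-- The functor `K⁺(Inj C) ⥤ D⁺(C)`. -/
noncomputable abbrev H2_J : HomotopyCategory.Plus (InjectiveObject C) ⥤ DerivedCategory.Plus C :=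
  (InjectiveObject.ι C).mapHomotopyCategoryPlus ⋙ DerivedCategory.Plus.Qh

set_option backward.isDefEq.respectTransparency false in
instance H2_J_full : (H2_J (C := C)).Full where
  map_surjective {K L} a := by
    obtain ⟨L₀, rfl⟩ := HomotopyCategory.Plus.quotient_obj_surjective L
    have hL : CochainComplex.IsKInjective
        (((InjectiveObject.ι C).mapHomotopyCategoryPlus.obj
          ((HomotopyCategory.Plus.quotient (InjectiveObject C)).obj L₀)).1.as) :=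
      inferInstanceAs (CochainComplex.IsKInjective
        (((InjectiveObject.ι C).mapHomologicalComplex (.up ℤ)).obj L₀.obj))
    obtain ⟨b, rfl⟩ := (DerivedCategory.Plus.Qh_map_bijective_of_isKInjective
      ((InjectiveObject.ι C).mapHomotopyCategoryPlus.obj K) _ hL).2 a
    obtain ⟨c, rfl⟩ := (InjectiveObject.ι C).mapHomotopyCategoryPlus.map_surjective b
    exact ⟨c, rfl⟩

end

section Transport

variable {A : Type u} [Category.{v} A] [Abelian A]

lemma H2_exact_transport {X₁ X₂ X₃ Y₁ Y₂ Y₃ : A} (f : X₁ ⟶ X₂) (g : X₂ ⟶ X₃) (f' : Y₁ ⟶ Y₂)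
    (g' : Y₂ ⟶ Y₃) (e₁ : X₁ ≅ Y₁) (e₂ : X₂ ≅ Y₂) (e₃ : X₃ ≅ Y₃)
    (c₁ : f ≫ e₂.hom = e₁.hom ≫ f') (c₂ : g ≫ e₃.hom = e₂.hom ≫ g') (w' : f' ≫ g' = 0)
    (h : (ShortComplex.mk f' g' w').Exact) :
    ∃ w : f ≫ g = 0, (ShortComplex.mk f g w).Exact := by
  have w : f ≫ g = 0 := by
    rw [← cancel_mono e₃.hom, assoc, c₂, ← assoc, c₁, assoc, w', comp_zero, zero_comp]
  refine ⟨w, ?_⟩
  exact ShortComplex.exact_of_iso
    (ShortComplex.isoMk e₁ e₂ e₃ c₁.symm c₂.symm :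
      ShortComplex.mk f g w ≅ ShortComplex.mk f' g' w').symm h

lemma H2_kernel_eq_image_transport {X₁ X₂ X₃ Y₁ Y₂ Y₃ : A} (f : X₁ ⟶ X₂) (g : X₂ ⟶ X₃)
    (f' : Y₁ ⟶ Y₂) (g' : Y₂ ⟶ Y₃) (e₁ : X₁ ≅ Y₁) (e₂ : X₂ ≅ Y₂) (e₃ : X₃ ≅ Y₃)
    (c₁ : f ≫ e₂.hom = e₁.hom ≫ f') (c₂ : g ≫ e₃.hom = e₂.hom ≫ g') (w' : f' ≫ g' = 0)
    (h : (ShortComplex.mk f' g' w').Exact) :
    kernelSubobject g = imageSubobject f := by
  obtain ⟨w, hw⟩ := H2_exact_transport f g f' g' e₁ e₂ e₃ c₁ c₂ w' h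
  exact ((ShortComplex.mk f g w).exact_iff_image_eq_kernel.1 hw).symm

end Transport

section Core

variable {C : Type u} [Category.{v} C] [Abelian C] [HasDerivedCategory.{w} C]
  [EnoughInjectives C] {D : Type u'} [Category.{v'} D] [Abelian D] [HasDerivedCategory.{w'} D]
  (F : C ⥤ D) [F.Additive]

/-- The iso `ι (Q⁺ X) ≅ Q X`. -/
noncomputable def H2_bIso (X : CochainComplex.Plus C) :
    DerivedCategory.Plus.ι.obj (DerivedCategory.Plus.Q.obj X) ≅ DerivedCategory.Q.obj X.obj :=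
  (DerivedCategory.quotientCompQhIso C).app X.obj

lemma H2_bIso_naturality {X Y : CochainComplex.Plus C} (f : X ⟶ Y) :
    DerivedCategory.Plus.ι.map (DerivedCategory.Plus.Q.map f) ≫ (H2_bIso Y).hom =
      (H2_bIso X).hom ≫ DerivedCategory.Q.map f.hom :=
  (DerivedCategory.quotientCompQhIso C).hom.naturality f.hom

set_option backward.isDefEq.respectTransparency false in
set_option maxHeartbeats 1600000 in
theorem H2_lift_SES (X₁ X₂ X₃ : CochainComplex.Plus C) (f : X₁ ⟶ X₂) (g : X₂ ⟶ X₃)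
    (w : f.hom ≫ g.hom = 0) (hS : (ShortComplex.mk f.hom g.hom w).ShortExact) :
    ∃ (T' : Triangle (HomotopyCategory.Plus (InjectiveObject C)))
      (_ : T' ∈ distTriang (HomotopyCategory.Plus (InjectiveObject C)))
      (a₁ : H2_J.obj T'.obj₁ ≅ DerivedCategory.Plus.Q.obj X₁)
      (a₂ : H2_J.obj T'.obj₂ ≅ DerivedCategory.Plus.Q.obj X₂)
      (a₃ : H2_J.obj T'.obj₃ ≅ DerivedCategory.Plus.Q.obj X₃),
      H2_J.map T'.mor₁ ≫ a₂.hom = a₁.hom ≫ DerivedCategory.Plus.Q.map f ∧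
      H2_J.map T'.mor₂ ≫ a₃.hom = a₂.hom ≫ DerivedCategory.Plus.Q.map g := by
  let a₁ := (H2_J (C := C)).objObjPreimageIso (DerivedCategory.Plus.Q.obj X₁)
  let a₂ := (H2_J (C := C)).objObjPreimageIso (DerivedCategory.Plus.Q.obj X₂)
  let φ := (H2_J (C := C)).preimage (a₁.hom ≫ DerivedCategory.Plus.Q.map f ≫ a₂.inv)
  have hφ : (H2_J (C := C)).map φ = a₁.hom ≫ DerivedCategory.Plus.Q.map f ≫ a₂.inv :=
    (H2_J (C := C)).map_preimage _
  obtain ⟨K₃, ψ, χ, hT'⟩ := distinguished_cocone_triangle φ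
  let ιP := DerivedCategory.Plus.ι (C := C)
  let TJ := ((H2_J (C := C)) ⋙ ιP).mapTriangle.obj (Triangle.mk φ ψ χ)
  have hTJ : TJ ∈ distTriang (DerivedCategory C) :=
    ((H2_J (C := C)) ⋙ ιP).map_distinguished _ hT'
  let TS := DerivedCategory.triangleOfSES hS
  have hTS : TS ∈ distTriang (DerivedCategory C) := DerivedCategory.triangleOfSES_distinguished hS
  let e₁ : TJ.obj₁ ≅ TS.obj₁ := ιP.mapIso a₁ ≪≫ H2_bIso X₁
  let e₂ : TJ.obj₂ ≅ TS.obj₂ := ιP.mapIso a₂ ≪≫ H2_bIso X₂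
  have comm : TJ.mor₁ ≫ e₂.hom = e₁.hom ≫ TS.mor₁ := by
    show ιP.map ((H2_J (C := C)).map φ) ≫ ιP.map a₂.hom ≫ (H2_bIso X₂).hom =
      (ιP.map a₁.hom ≫ (H2_bIso X₁).hom) ≫ DerivedCategory.Q.map f.hom
    rw [hφ, assoc, ← H2_bIso_naturality, ← ιP.map_comp_assoc, assoc, assoc, a₂.inv_hom_id,
      comp_id, ιP.map_comp, assoc]
  let E := isoTriangleOfIso₁₂ TJ TS hTJ hTS e₁ e₂ comm
  let a₃ : (H2_J (C := C)).obj K₃ ≅ DerivedCategory.Plus.Q.obj X₃ :=
    ιP.preimageIso (Triangle.π₃.mapIso E ≪≫ (H2_bIso X₃).symm)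
  refine ⟨Triangle.mk φ ψ χ, hT', a₁, a₂, a₃, ?_, ?_⟩
  · show (H2_J (C := C)).map φ ≫ a₂.hom = a₁.hom ≫ DerivedCategory.Plus.Q.map f
    rw [hφ, assoc, assoc, a₂.inv_hom_id, comp_id]
  · show (H2_J (C := C)).map ψ ≫ a₃.hom = a₂.hom ≫ DerivedCategory.Plus.Q.map g
    apply ιP.map_injective
    have hc := E.hom.comm₂
    have hE₂ : E.hom.hom₂ = e₂.hom := by simp [E]
    have h1 : ιP.map a₃.hom = E.hom.hom₃ ≫ (H2_bIso X₃).inv := by
      dsimp only [a₃]
      rw [Functor.preimageIso_hom, Functor.map_preimage]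
      rfl
    have h2 : ιP.map ((H2_J (C := C)).map ψ) ≫ E.hom.hom₃ =
        e₂.hom ≫ DerivedCategory.Q.map g.hom := by
      rw [← hE₂]
      exact hc
    have h3 : e₂.hom = ιP.map a₂.hom ≫ (H2_bIso X₂).hom := rfl
    have h4 : (H2_bIso X₂).hom ≫ DerivedCategory.Q.map g.hom ≫ (H2_bIso X₃).inv =
        ιP.map (DerivedCategory.Plus.Q.map g) := by
      rw [← assoc, ← H2_bIso_naturality, assoc, Iso.hom_inv_id, comp_id]
    calc ιP.map ((H2_J (C := C)).map ψ ≫ a₃.hom)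
        = (ιP.map ((H2_J (C := C)).map ψ) ≫ E.hom.hom₃) ≫ (H2_bIso X₃).inv := by
          rw [ιP.map_comp, h1, assoc]
      _ = (e₂.hom ≫ DerivedCategory.Q.map g.hom) ≫ (H2_bIso X₃).inv := by rw [h2]
      _ = ιP.map a₂.hom ≫ ((H2_bIso X₂).hom ≫ DerivedCategory.Q.map g.hom ≫
            (H2_bIso X₃).inv) := by
          rw [h3]
          simp only [assoc]
      _ = ιP.map (a₂.hom ≫ DerivedCategory.Plus.Q.map g) := by rw [h4, ιP.map_comp]

set_option backward.isDefEq.respectTransparency false in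
set_option maxHeartbeats 1600000 in
/-- Core lemma: `RF` sends the first two maps of the triangle of a short exact sequence of
bounded below complexes to the first two maps of a distinguished triangle. -/
theorem H2_RF_SES_triangle (X₁ X₂ X₃ : CochainComplex.Plus C) (f : X₁ ⟶ X₂) (g : X₂ ⟶ X₃)
    (w : f.hom ≫ g.hom = 0) (hS : (ShortComplex.mk f.hom g.hom w).ShortExact) :
    ∃ (T : Triangle (DerivedCategory D)) (_ : T ∈ distTriang (DerivedCategory D))
      (e₁ : DerivedCategory.Plus.ι.obj (F.rightDerivedFunctorPlus.obj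
        (DerivedCategory.Plus.Q.obj X₁)) ≅ T.obj₁)
      (e₂ : DerivedCategory.Plus.ι.obj (F.rightDerivedFunctorPlus.obj
        (DerivedCategory.Plus.Q.obj X₂)) ≅ T.obj₂)
      (e₃ : DerivedCategory.Plus.ι.obj (F.rightDerivedFunctorPlus.obj
        (DerivedCategory.Plus.Q.obj X₃)) ≅ T.obj₃),
      DerivedCategory.Plus.ι.map (F.rightDerivedFunctorPlus.map
        (DerivedCategory.Plus.Q.map f)) ≫ e₂.hom = e₁.hom ≫ T.mor₁ ∧
      DerivedCategory.Plus.ι.map (F.rightDerivedFunctorPlus.map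
        (DerivedCategory.Plus.Q.map g)) ≫ e₃.hom = e₂.hom ≫ T.mor₂ := by
  obtain ⟨T', hT', a₁, a₂, a₃, c₁, c₂⟩ := H2_lift_SES X₁ X₂ X₃ f g w hS
  obtain ⟨K₁, K₂, K₃, φ, ψ, χ⟩ := T'
  dsimp only at a₁ a₂ a₃ c₁ c₂
  let ιI := (InjectiveObject.ι C).mapHomotopyCategoryPlus
  let RF := F.rightDerivedFunctorPlus
  let ιD := DerivedCategory.Plus.ι (C := D)
  let G : HomotopyCategory.Plus (InjectiveObject C) ⥤ DerivedCategory D :=
    ιI ⋙ F.mapHomotopyCategoryPlus ⋙ DerivedCategory.Plus.Qh ⋙ ιD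
  let u : ∀ K : HomotopyCategory.Plus (InjectiveObject C),
      DerivedCategory.Plus.Qh.obj (F.mapHomotopyCategoryPlus.obj (ιI.obj K)) ≅
        RF.obj ((H2_J (C := C)).obj K) :=
    fun K => asIso (F.rightDerivedFunctorPlusUnit.app (ιI.obj K))
  have unat : ∀ {K L : HomotopyCategory.Plus (InjectiveObject C)} (φ : K ⟶ L),
      DerivedCategory.Plus.Qh.map (F.mapHomotopyCategoryPlus.map (ιI.map φ)) ≫ (u L).hom =
        (u K).hom ≫ RF.map ((H2_J (C := C)).map φ) :=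
    fun φ => F.rightDerivedFunctorPlusUnit.naturality (ιI.map φ)
  have key : ∀ {K L : HomotopyCategory.Plus (InjectiveObject C)} (φ : K ⟶ L)
      {X Y : CochainComplex.Plus C} (h : X ⟶ Y)
      (a : (H2_J (C := C)).obj K ≅ DerivedCategory.Plus.Q.obj X)
      (b : (H2_J (C := C)).obj L ≅ DerivedCategory.Plus.Q.obj Y)
      (_ : (H2_J (C := C)).map φ ≫ b.hom = a.hom ≫ DerivedCategory.Plus.Q.map h),
      ιD.map (RF.map (DerivedCategory.Plus.Q.map h)) ≫
        (ιD.mapIso (RF.mapIso b.symm ≪≫ (u L).symm)).hom =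
      (ιD.mapIso (RF.mapIso a.symm ≪≫ (u K).symm)).hom ≫ G.map φ := by
    intro K L φ X Y h a b c
    show ιD.map (RF.map (DerivedCategory.Plus.Q.map h)) ≫
        ιD.map (RF.map b.inv ≫ (u L).inv) =
      ιD.map (RF.map a.inv ≫ (u K).inv) ≫
        ιD.map (DerivedCategory.Plus.Qh.map (F.mapHomotopyCategoryPlus.map (ιI.map φ)))
    rw [← ιD.map_comp, ← ιD.map_comp]
    congr 1
    have h1 : DerivedCategory.Plus.Q.map h ≫ b.inv = a.inv ≫ (H2_J (C := C)).map φ := by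
      rw [← cancel_mono b.hom, assoc, assoc, b.inv_hom_id, comp_id, c, a.inv_hom_id_assoc]
    have h2 : (u K).inv ≫ DerivedCategory.Plus.Qh.map
        (F.mapHomotopyCategoryPlus.map (ιI.map φ)) = RF.map ((H2_J (C := C)).map φ) ≫ (u L).inv := by
      rw [← cancel_mono (u L).hom, assoc, assoc, (u L).inv_hom_id, comp_id, unat,
        (u K).inv_hom_id_assoc]
    rw [← assoc, ← RF.map_comp, h1, RF.map_comp, assoc, assoc, h2]
  exact ⟨G.mapTriangle.obj (Triangle.mk φ ψ χ), G.map_distinguished _ hT',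
    ιD.mapIso (RF.mapIso a₁.symm ≪≫ (u K₁).symm), ιD.mapIso (RF.mapIso a₂.symm ≪≫ (u K₂).symm),
    ιD.mapIso (RF.mapIso a₃.symm ≪≫ (u K₃).symm), key φ f a₁ a₂ c₁, key ψ g a₂ a₃ c₂⟩

end Core

end Groth.Agent.H2
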