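import Mathlib

universe u v w

open CategoryTheory CategoryTheory.Limits CategoryTheory.Category DerivedCategory

namespace Groth.Agent.H2

variable {A : Type u} [Category.{v} A] [Abelian A] [HasDerivedCategory.{w} A]

/-- `Qh.map (quotient.map f)` in terms of `Q.map f`. -/
lemma H2_Qh_map_quotient_map {K L : CochainComplex A ℤ} (f : K ⟶ L) :
    Qh.map ((HomotopyCategory.quotient _ _).map f) =
      (quotientCompQhIso A).hom.app K ≫ Q.map f ≫ (quotientCompQhIso A).inv.app L := by
  have h := quotientCompQhIso_hom_naturality f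
  rw [← reassoc_of% h, Iso.hom_inv_id_app]
  exact (comp_id _).symm

omit [HasDerivedCategory.{w} A] in
/-- truncating the source of a quasi-isomorphism to a strictly bounded above complex. -/
lemma H2_quasiIso_ιTruncLE_comp {Z K : CochainComplex A ℤ} (s : Z ⟶ K) [QuasiIso s] (a : ℤ)
    [K.IsStrictlyLE a] : QuasiIso (Z.ιTruncLE a ≫ s) := by
  have h1 : QuasiIso (CochainComplex.truncLEMap s a) := by
    rw [CochainComplex.quasiIso_truncLEMap_iff]
    intro i _
    infer_instance
  rw [← CochainComplex.ιTruncLE_naturality]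
  infer_instance

theorem H2_minus_roofs (K L : HomotopyCategory A (ComplexShape.up ℤ)) (a : ℤ)
    [CochainComplex.IsStrictlyLE K.as a] :
    (∀ φ : Qh.obj K ⟶ Qh.obj L,
      ∃ (K' : HomotopyCategory A (ComplexShape.up ℤ)) (n : ℤ)
        (_ : CochainComplex.IsStrictlyLE K'.as n) (s : K' ⟶ K) (f : K' ⟶ L),
        HomotopyCategory.quasiIso A (ComplexShape.up ℤ) s ∧ Qh.map s ≫ φ = Qh.map f) ∧
    (∀ f₁ f₂ : K ⟶ L, Qh.map f₁ = Qh.map f₂ →
      ∃ (K' : HomotopyCategory A (ComplexShape.up ℤ)) (n : ℤ)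
        (_ : CochainComplex.IsStrictlyLE K'.as n) (s : K' ⟶ K),
        HomotopyCategory.quasiIso A (ComplexShape.up ℤ) s ∧ s ≫ f₁ = s ≫ f₂) := by
  obtain ⟨K₀ : CochainComplex A ℤ, rfl⟩ := K.quotient_obj_surjective
  obtain ⟨L₀ : CochainComplex A ℤ, rfl⟩ := L.quotient_obj_surjective
  have hK₀ : CochainComplex.IsStrictlyLE K₀ a := ‹_›
  let e := quotientCompQhIso A
  constructor
  · intro φ
    obtain ⟨X', hX', s, hs, g, hg⟩ :=
      right_fac_of_isStrictlyLE (e.inv.app K₀ ≫ φ ≫ e.hom.app L₀) a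
    refine ⟨(HomotopyCategory.quotient _ _).obj X', a, hX',
      (HomotopyCategory.quotient _ _).map s, (HomotopyCategory.quotient _ _).map g, ?_, ?_⟩
    · rw [HomotopyCategory.quotient_map_mem_quasiIso_iff]
      rwa [isIso_Q_map_iff_quasiIso] at hs
    · rw [H2_Qh_map_quotient_map, H2_Qh_map_quotient_map]
      have h1 : Q.map s ≫ (e.inv.app K₀ ≫ φ ≫ e.hom.app L₀) = Q.map g := by
        rw [hg, IsIso.hom_inv_id_assoc]
      have h2 : φ = e.hom.app K₀ ≫ (e.inv.app K₀ ≫ φ ≫ e.hom.app L₀) ≫ e.inv.app L₀ := by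
        simp
      rw [h2]
      simp only [assoc, Iso.inv_hom_id_app_assoc]
      rw [← h1]
      simp [e]
  · intro f₁ f₂ h
    rw [MorphismProperty.map_eq_iff_precomp Qh
      (HomotopyCategory.quasiIso A (ComplexShape.up ℤ))] at h
    obtain ⟨Z, s, hs, hsf⟩ := h
    obtain ⟨Z₀ : CochainComplex A ℤ, rfl⟩ := Z.quotient_obj_surjective
    obtain ⟨s₀, rfl⟩ := (HomotopyCategory.quotient _ _).map_surjective s
    rw [HomotopyCategory.quotient_map_mem_quasiIso_iff] at hs
    have hs' : QuasiIso s₀ := hs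
    have := H2_quasiIso_ιTruncLE_comp s₀ a
    refine ⟨(HomotopyCategory.quotient _ _).obj (Z₀.truncLE a), a,
      inferInstanceAs ((Z₀.truncLE a).IsStrictlyLE a),
      (HomotopyCategory.quotient _ _).map (Z₀.ιTruncLE a ≫ s₀), ?_, ?_⟩
    · rw [HomotopyCategory.quotient_map_mem_quasiIso_iff]
      exact this
    · rw [Functor.map_comp, assoc, assoc, hsf]

end Groth.Agent.H2
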