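import Mathlib
import Groth.Agent.Lib.helper2.Roofs
import Groth.Agent.Lib.helper2.KMinus

universe u v w

open CategoryTheory CategoryTheory.Limits CategoryTheory.Category DerivedCategory
  CategoryTheory.Pretriangulated

namespace Groth.Agent.H2

variable {A : Type u} [Category.{v} A] [Abelian A]

/-- composing a quasi-isomorphism out of a strictly bounded below complex with the truncation. -/
lemma H2_quasiIso_comp_πTruncGE {L Z : CochainComplex A ℤ} (t : L ⟶ Z) [QuasiIso t] (m : ℤ)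
    [L.IsStrictlyGE m] : QuasiIso (t ≫ Z.πTruncGE m) := by
  have h1 : QuasiIso (CochainComplex.truncGEMap t m) := by
    rw [CochainComplex.quasiIso_truncGEMap_iff]
    intro i _
    infer_instance
  rw [← CochainComplex.πTruncGE_naturality]
  infer_instance

variable [HasDerivedCategory.{w} A]

set_option backward.isDefEq.respectTransparency false in
/-- faithfulness part for bounded complexes. -/
theorem H2_bdd_roofs_faithful (K L : HomotopyCategory A (ComplexShape.up ℤ)) (b a' b' : ℤ)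
    [CochainComplex.IsStrictlyLE K.as b]
    [CochainComplex.IsStrictlyGE L.as a'] [CochainComplex.IsStrictlyLE L.as b']
    (f₁ f₂ : K ⟶ L) (h : Qh.map f₁ = Qh.map f₂) :
    ∃ (L' : HomotopyCategory A (ComplexShape.up ℤ)) (m n : ℤ)
      (_ : CochainComplex.IsStrictlyGE L'.as m) (_ : CochainComplex.IsStrictlyLE L'.as n)
      (t : L ⟶ L'), HomotopyCategory.quasiIso A (ComplexShape.up ℤ) t ∧ f₁ ≫ t = f₂ ≫ t := by
  obtain ⟨K', n', hK', s, hs, hsf⟩ := (H2_minus_roofs K L b).2 f₁ f₂ h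
  rw [HomotopyCategory.quasiIso_eq_trW_subcategoryAcyclic] at hs ⊢
  have hKm : H2_minus (V := A) K := ⟨b, ‹_›⟩
  have hLm : H2_minus (V := A) L := ⟨b', ‹_›⟩
  have hK'm : H2_minus (V := A) K' := ⟨n', hK'⟩
  -- first triangle
  obtain ⟨C, c, d, hT₁⟩ := distinguished_cocone_triangle s
  have hCac : HomotopyCategory.subcategoryAcyclic A C :=
    ((HomotopyCategory.subcategoryAcyclic A).trW_iff_of_distinguished _ hT₁).1 hs
  obtain ⟨C₁, hC₁, ⟨eC⟩⟩ := (H2_minus (V := A)).ext_of_isTriangulatedClosed₃' _ hT₁ hK'm hKm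
  have hC₁ac : HomotopyCategory.subcategoryAcyclic A C₁ :=
    (HomotopyCategory.subcategoryAcyclic A).prop_of_iso eC hCac
  obtain ⟨u, hu⟩ : ∃ u : C ⟶ L, f₁ - f₂ = c ≫ u :=
    Triangle.yoneda_exact₂ _ hT₁ (f₁ - f₂) (by
      change s ≫ (f₁ - f₂) = 0
      rw [Preadditive.comp_sub, hsf, sub_self])
  -- second triangle
  obtain ⟨L₁, t, e, hT₂⟩ := distinguished_cocone_triangle (eC.inv ≫ u)
  have ht : (HomotopyCategory.subcategoryAcyclic A).trW t :=
    ObjectProperty.trW.mk' (HomotopyCategory.subcategoryAcyclic A)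
      (T := Triangle.mk (eC.inv ≫ u) t e) hT₂ hC₁ac
  obtain ⟨L₂, hL₂, ⟨eL⟩⟩ := (H2_minus (V := A)).ext_of_isTriangulatedClosed₃' _ hT₂ hC₁ hLm
  have hut : u ≫ t = 0 := by
    have : (eC.inv ≫ u) ≫ t = 0 := comp_distTriang_mor_zero₁₂ _ hT₂
    rw [assoc] at this
    rw [← cancel_epi eC.inv, this, comp_zero]
  have hft : f₁ ≫ t = f₂ ≫ t := by
    rw [← sub_eq_zero, ← Preadditive.sub_comp, hu, assoc, hut, comp_zero]
  obtain ⟨n₂, hn₂⟩ := hL₂
  obtain ⟨L₀ : CochainComplex A ℤ, rfl⟩ := L.quotient_obj_surjective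
  obtain ⟨Z₀ : CochainComplex A ℤ, rfl⟩ := L₂.quotient_obj_surjective
  have hL₀ : CochainComplex.IsStrictlyGE L₀ a' := ‹_›
  have hZ₀ : CochainComplex.IsStrictlyLE Z₀ n₂ := hn₂
  obtain ⟨t₀, ht₀⟩ := (HomotopyCategory.quotient _ _).map_surjective (t ≫ eL.hom)
  have hq : QuasiIso t₀ := by
    apply (HomotopyCategory.quotient_map_mem_quasiIso_iff t₀).1
    rw [ht₀, HomotopyCategory.quasiIso_eq_trW_subcategoryAcyclic]
    exact ((HomotopyCategory.subcategoryAcyclic A).trW.cancel_right_of_respectsIso _ _).2 ht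
  have := H2_quasiIso_comp_πTruncGE t₀ a'
  refine ⟨(HomotopyCategory.quotient _ _).obj (Z₀.truncGE a'), a', n₂,
    inferInstanceAs ((Z₀.truncGE a').IsStrictlyGE a'),
    inferInstanceAs ((Z₀.truncGE a').IsStrictlyLE n₂),
    (HomotopyCategory.quotient _ _).map (t₀ ≫ Z₀.πTruncGE a'), ?_, ?_⟩
  · rw [← HomotopyCategory.quasiIso_eq_trW_subcategoryAcyclic,
      HomotopyCategory.quotient_map_mem_quasiIso_iff]
    exact this
  · rw [Functor.map_comp, ht₀, ← assoc, ← assoc, ← assoc, ← assoc, hft]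

set_option backward.isDefEq.respectTransparency false in
/-- fullness part for bounded complexes. -/
theorem H2_bdd_roofs_full (K L : HomotopyCategory A (ComplexShape.up ℤ)) (b a' b' : ℤ)
    [CochainComplex.IsStrictlyLE K.as b]
    [CochainComplex.IsStrictlyGE L.as a'] [CochainComplex.IsStrictlyLE L.as b']
    (φ : Qh.obj K ⟶ Qh.obj L) :
    ∃ (L' : HomotopyCategory A (ComplexShape.up ℤ)) (m n : ℤ)
      (_ : CochainComplex.IsStrictlyGE L'.as m) (_ : CochainComplex.IsStrictlyLE L'.as n)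
      (f : K ⟶ L') (t : L ⟶ L'),
      HomotopyCategory.quasiIso A (ComplexShape.up ℤ) t ∧ φ ≫ Qh.map t = Qh.map f := by
  obtain ⟨K₀ : CochainComplex A ℤ, rfl⟩ := K.quotient_obj_surjective
  obtain ⟨L₀ : CochainComplex A ℤ, rfl⟩ := L.quotient_obj_surjective
  have hK₀ : CochainComplex.IsStrictlyLE K₀ b := ‹_›
  have hL₀ : CochainComplex.IsStrictlyGE L₀ a' := ‹_›
  have hL₀' : CochainComplex.IsStrictlyLE L₀ b' := ‹_›
  have hK₁ : CochainComplex.IsStrictlyLE K₀ (max b b') :=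
    K₀.isStrictlyLE_of_le b _ (le_max_left _ _)
  have hL₁ : CochainComplex.IsStrictlyLE L₀ (max b b') :=
    L₀.isStrictlyLE_of_le b' _ (le_max_right _ _)
  let e := quotientCompQhIso A
  obtain ⟨Y', hGE, hLE, g, s, hs, hg⟩ :=
    left_fac_of_isStrictlyLE_of_isStrictlyGE a' (max b b')
      (e.inv.app K₀ ≫ φ ≫ e.hom.app L₀)
  refine ⟨(HomotopyCategory.quotient _ _).obj Y', a', max b b', hGE, hLE,
    (HomotopyCategory.quotient _ _).map g, (HomotopyCategory.quotient _ _).map s, ?_, ?_⟩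
  · rw [HomotopyCategory.quotient_map_mem_quasiIso_iff]
    rwa [isIso_Q_map_iff_quasiIso] at hs
  · rw [H2_Qh_map_quotient_map, H2_Qh_map_quotient_map]
    have h1 : (e.inv.app K₀ ≫ φ ≫ e.hom.app L₀) ≫ Q.map s = Q.map g := by
      rw [hg, assoc, IsIso.inv_hom_id, comp_id]
    have h2 : φ = e.hom.app K₀ ≫ (e.inv.app K₀ ≫ φ ≫ e.hom.app L₀) ≫ e.inv.app L₀ := by
      simp
    rw [h2]
    simp only [assoc]
    rw [← h1]
    simp [e]

end Groth.Agent.H2
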