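import Mathlib

set_option autoImplicit false
universe u
open AlgebraicGeometry CategoryTheory CategoryTheory.Limits

namespace Groth.Agent.H2

theorem H2_schdom_b_c {X : Scheme.{u}} {ι : Type u} (Z : ι → Scheme.{u}) (f : ∀ i, Z i ⟶ X)
    (hb : ∀ (V : X.Opens) (t : Γ(X, V)), (∀ i, (f i).app V t = 0) → t = 0)
    (U : X.Opens) (Y : Scheme.{u}) (j : Y ⟶ (U : Scheme.{u})) [IsClosedImmersion j]
    (hg : ∀ i, ∃ g : ((f i) ⁻¹ᵁ U : Scheme.{u}) ⟶ Y, g ≫ j = (f i) ∣_ U) : IsIso j := by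
  rw [IsClosedImmersion.isIso_iff_ker_eq_bot, eq_bot_iff, Scheme.IdealSheafData.le_def]
  intro W
  refine (j.ideal_ker_le W).trans ?_
  intro s hs
  rw [RingHom.mem_ker] at hs
  have : s = 0 := by
    apply hb (U.ι ''ᵁ W.1) s
    intro i
    obtain ⟨g, hg⟩ := hg i
    have h1 : ((f i) ∣_ U).app W.1 s = 0 := by
      rw [← hg, Scheme.Hom.comp_app]
      change (g.app _) ((j.app W.1) s) = 0
      rw [show (j.app W.1) s = 0 from hs, map_zero]
    rw [morphismRestrict_app] at h1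
    have hinj : Function.Injective ((Z i).presheaf.map
        (eqToHom (image_morphismRestrict_preimage (f i) U W.1)).op) :=
      (ConcreteCategory.bijective_of_isIso _).1
    apply hinj
    rw [map_zero]
    exact h1
  rw [this]
  exact Ideal.zero_mem _

theorem H2_schdom_c_d {X S : Scheme.{u}} (p : X ⟶ S) {ι : Type u} (Z : ι → Scheme.{u})
    (f : ∀ i, Z i ⟶ X)
    (hc : ∀ (U : X.Opens) (Y : Scheme.{u}) (j : Y ⟶ (U : Scheme.{u})), IsClosedImmersion j →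
        (∀ i, ∃ g : ((f i) ⁻¹ᵁ U : Scheme.{u}) ⟶ Y, g ≫ j = (f i) ∣_ U) → IsIso j)
    (X' : Scheme.{u}) (q : X' ⟶ S) [IsSeparated q] (U : X.Opens) (u v : (U : Scheme.{u}) ⟶ X')
    (hu : u ≫ q = U.ι ≫ p) (hv : v ≫ q = U.ι ≫ p)
    (huv : ∀ i, ((f i) ∣_ U) ≫ u = ((f i) ∣_ U) ≫ v) : u = v := by
  let XU : Over S := Over.mk (u ≫ q)
  let Y' : Over S := Over.mk q
  let u' : XU ⟶ Y' := Over.homMk u
  let v' : XU ⟶ Y' := Over.homMk v (by simp [XU, Y', hu, hv])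
  have : IsSeparated Y'.hom := ‹_›
  have hcl : IsClosedImmersion (equalizer.ι u' v').left := inferInstance
  have hiso : IsIso (equalizer.ι u' v').left := by
    refine hc U _ (equalizer.ι u' v').left hcl ?_
    intro i
    let Zi : Over S := Over.mk (((f i) ∣_ U) ≫ u ≫ q)
    let ι' : Zi ⟶ XU := Over.homMk ((f i) ∣_ U)
    refine ⟨(equalizer.lift ι' ?_).left, ?_⟩
    · ext1; exact huv i
    · rw [← Over.comp_left, equalizer.lift_ι]; rfl
  rw [← cancel_epi (equalizer.ι u' v').left]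
  exact congr($(equalizer.condition u' v').left)

open AffineSpace in
theorem H2_schdom_d_b' {X S : Scheme.{u}} (p : X ⟶ S) {ι : Type u} (Z : ι → Scheme.{u})
    (f : ∀ i, Z i ⟶ X)
    (hd : ∀ (X' : Scheme.{u}) (q : X' ⟶ S), IsSeparated q → ∀ (U : X.Opens)
        (u v : (U : Scheme.{u}) ⟶ X'),
        u ≫ q = U.ι ≫ p → v ≫ q = U.ι ≫ p →
        (∀ i, ((f i) ∣_ U) ≫ u = ((f i) ∣_ U) ≫ v) → u = v)
    (V : X.Opens) (t : Γ(V, ⊤)) (ht : ∀ i, (f i).app (V.ι ''ᵁ ⊤) t = 0) : t = 0 := by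
  let u : (V : Scheme.{u}) ⟶ 𝔸(PUnit.{u+1}; S) :=
    AffineSpace.homOfVector (V.ι ≫ p) (fun _ => t)
  let v : (V : Scheme.{u}) ⟶ 𝔸(PUnit.{u+1}; S) :=
    AffineSpace.homOfVector (V.ι ≫ p) (fun _ => 0)
  have huv : u = v := by
    refine hd _ (𝔸(PUnit.{u+1}; S) ↘ S) inferInstance V u v
      (AffineSpace.homOfVector_over _ _) (AffineSpace.homOfVector_over _ _) ?_
    intro i
    apply AffineSpace.hom_ext
    · simp only [Category.assoc, u, v, AffineSpace.homOfVector_over]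
    · intro k
      rw [Scheme.Hom.comp_appTop, Scheme.Hom.comp_appTop]
      change ((f i ∣_ V).appTop) (u.appTop (coord S k)) = ((f i ∣_ V).appTop) (v.appTop (coord S k))
      rw [AffineSpace.homOfVector_appTop_coord, AffineSpace.homOfVector_appTop_coord, map_zero]
      rw [morphismRestrict_appTop]
      change ((Z i).presheaf.map _) (((f i).app (V.ι ''ᵁ ⊤)) t) = 0
      rw [ht i, map_zero]
  have h1 := congr(($huv).appTop (coord S PUnit.unit))
  rw [AffineSpace.homOfVector_appTop_coord, AffineSpace.homOfVector_appTop_coord] at h1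
  exact h1

theorem H2_schdom_d_b {X S : Scheme.{u}} (p : X ⟶ S) {ι : Type u} (Z : ι → Scheme.{u})
    (f : ∀ i, Z i ⟶ X)
    (hd : ∀ (X' : Scheme.{u}) (q : X' ⟶ S), IsSeparated q → ∀ (U : X.Opens)
        (u v : (U : Scheme.{u}) ⟶ X'),
        u ≫ q = U.ι ≫ p → v ≫ q = U.ι ≫ p →
        (∀ i, ((f i) ∣_ U) ≫ u = ((f i) ∣_ U) ≫ v) → u = v)
    (V : X.Opens) (t : Γ(X, V)) (ht : ∀ i, (f i).app V t = 0) : t = 0 := by
  obtain ⟨V', rfl⟩ : ∃ V' : X.Opens, V'.ι ''ᵁ ⊤ = V := ⟨V, V.ι_image_top⟩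
  exact H2_schdom_d_b' p Z f hd V' t ht

end Groth.Agent.H2
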