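import Mathlib
import Groth.Prelude.Def_DerLim
import Groth.Agent.Lib.helper2.SeqColim

set_option autoImplicit false
universe v v' u u'
open CategoryTheory CategoryTheory.Limits DerLim

namespace Groth.Agent.H2

open CategoryTheory.Pretriangulated

section
variable {D : Type u} [Category.{v} D] [Preadditive D]
  {A : Type u'} [Category.{v'} A] [Abelian A] [HasColimitsOfShape ℕ A] [HasExactColimitsOfShape ℕ A]

lemma H2_hasCoproduct_map (G : D ⥤ A) (K : ℕ → D) [HasCoproduct K]
    [PreservesColimit (Discrete.functor K) G] : HasCoproduct (fun n => G.obj (K n)) :=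
  ⟨⟨⟨_, isColimitOfHasCoproductOfPreservesColimit G K⟩⟩⟩

/-- An additive functor preserving countable coproducts, with values in an abelian category with
exact `ℕ`-colimits, sends `1 - shift` to a monomorphism. -/
lemma H2_mono_map_one_sub_shiftMap (G : D ⥤ A) [G.Additive] (K : ℕ → D)
    (f : ∀ n, K n ⟶ K (n + 1)) [HasCoproduct K] [PreservesColimit (Discrete.functor K) G] :
    Mono (G.map (𝟙 (∐ K) - shiftMap K f)) := by
  haveI := H2_hasCoproduct_map G K
  have h := H2_sigmaComparison_shift G K f
  haveI := H2_mono_one_sub_shiftMap (fun n => G.obj (K n)) (fun n => G.map (f n))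
  have h2 : G.map (𝟙 (∐ K) - shiftMap K f) = inv (sigmaComparison G K) ≫
      (𝟙 _ - shiftMap (fun n => G.obj (K n)) (fun n => G.map (f n))) ≫ sigmaComparison G K := by
    rw [← h, IsIso.inv_hom_id_assoc]
  rw [h2]
  infer_instance

end

section
variable {D : Type u} [Category.{v} D] [Preadditive D] [HasZeroObject D] [HasShift D ℤ]
  [∀ n : ℤ, (shiftFunctor D n).Additive] [Pretriangulated D]
  {A : Type u'} [Category.{v'} A] [Abelian A] [HasColimitsOfShape ℕ A] [HasExactColimitsOfShape ℕ A]

theorem H2_hocolim_homological (H : D ⥤ A) [H.IsHomological] (K : ℕ → D)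
    (f : ∀ n, K n ⟶ K (n + 1)) [HasCoproduct K] [PreservesColimit (Discrete.functor K) H]
    [PreservesColimit (Discrete.functor K) (shiftFunctor D (1 : ℤ) ⋙ H)]
    (L : D) (i : ∀ n, K n ⟶ L) (hL : DerLim.IsHocolim K f L i) :
    ∃ e : colimit (Functor.ofSequence (fun n => H.map (f n))) ≅ H.obj L,
      ∀ n : ℕ, colimit.ι (Functor.ofSequence (fun n => H.map (f n))) n ≫ e.hom = H.map (i n) := by
  obtain ⟨c, hT⟩ := hL
  haveI := H2_hasCoproduct_map H K
  -- exactness
  have ex1 := H.map_distinguished_exact _ hT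
  have ex2 := H.map_distinguished_exact _ (rot_of_distTriang _ hT)
  have ex3 := H.map_distinguished_exact _ (rot_of_distTriang _ (rot_of_distTriang _ hT))
  -- mono of the shifted map
  haveI : (shiftFunctor D (1 : ℤ) ⋙ H).Additive := inferInstance
  have hm := H2_mono_map_one_sub_shiftMap (shiftFunctor D (1 : ℤ) ⋙ H) K f
  have hc : H.map c = 0 := by
    have z : H.map c ≫ H.map (-((shiftFunctor D (1 : ℤ)).map (𝟙 (∐ K) - shiftMap K f))) = 0 :=
      (ShortComplex.map (shortComplexOfDistTriangle _
        (rot_of_distTriang _ (rot_of_distTriang _ hT))) H).zero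
    rw [Functor.map_neg, Preadditive.comp_neg, neg_eq_zero] at z
    haveI : Mono (H.map ((shiftFunctor D (1 : ℤ)).map (𝟙 (∐ K) - shiftMap K f))) := hm
    rw [← cancel_mono (H.map ((shiftFunctor D (1 : ℤ)).map (𝟙 (∐ K) - shiftMap K f))), z,
      zero_comp]
  have hepi : Epi (H.map (Sigma.desc i)) := ex2.epi_f hc
  -- the comparison
  have hcomp := H2_sigmaComparison_shift H K f
  let σ : (∐ fun n => H.obj (K n)) ≅ H.obj (∐ K) := asIso (sigmaComparison H K)
  have w' : (𝟙 _ - shiftMap (fun n => H.obj (K n)) (fun n => H.map (f n))) ≫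
      (sigmaComparison H K ≫ H.map (Sigma.desc i)) = 0 := by
    rw [← Category.assoc, ← hcomp, Category.assoc, ← H.map_comp]
    have z : (𝟙 (∐ K) - shiftMap K f) ≫ Sigma.desc i = 0 := comp_distTriang_mor_zero₁₂ _ hT
    rw [z, H.map_zero, comp_zero]
  have exS : (ShortComplex.mk _ _ w').Exact := by
    have e : ShortComplex.mk _ _ w' ≅ (shortComplexOfDistTriangle _ hT).map H :=
      ShortComplex.isoMk σ σ (Iso.refl _) hcomp (Category.comp_id _).symm
    exact (ShortComplex.exact_iff_of_iso e).2 ex1
  have : Epi (ShortComplex.mk _ _ w').g := by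
    dsimp
    infer_instance
  have hc2 := exS.gIsCokernel
  have hc1 := H2_ofSeq_isColimit (fun n => H.obj (K n)) (fun n => H.map (f n))
  refine ⟨IsColimit.coconePointUniqueUpToIso hc1 hc2, fun n => ?_⟩
  have h1 := IsColimit.comp_coconePointUniqueUpToIso_hom hc1 hc2 WalkingParallelPair.one
  have h2 : (Sigma.desc (fun n => colimit.ι (Functor.ofSequence (fun n => H.map (f n))) n) :
      (∐ fun n => H.obj (K n)) ⟶ _) ≫
      (IsColimit.coconePointUniqueUpToIso hc1 hc2).hom =
      sigmaComparison H K ≫ H.map (Sigma.desc i) := h1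
  have h3 := congrArg (fun t => Sigma.ι (fun n => H.obj (K n)) n ≫ t) h2
  dsimp only at h3
  rw [Sigma.ι_desc_assoc, ι_comp_sigmaComparison_assoc, ← H.map_comp, Sigma.ι_desc] at h3
  exact h3

end

end Groth.Agent.H2
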