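import Mathlib

set_option autoImplicit false

namespace Groth.Agent.H2

open CategoryTheory

universe w v u

variable {k : Type w} [Field k] {T : Type u} [Category.{v} T] [Preadditive T] [Linear k T]
  [∀ X Y : T, Module.Finite k (X ⟶ Y)]

section Build

variable (So : T → T) (eS : ∀ X Y : T, (Y ⟶ So X) ≃ₗ[k] Module.Dual k (X ⟶ Y))
  (natS : ∀ (X Y Y' : T) (g : Y' ⟶ Y) (f : Y ⟶ So X),
    eS X Y' (g ≫ f) = (eS X Y f) ∘ₗ Linear.rightComp k X g)

include natS in
lemma H2se_eS_apply (X Y : T) (f : Y ⟶ So X) (u : X ⟶ Y) :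
    eS X Y f u = eS X (So X) (𝟙 _) (u ≫ f) := by
  have h1 := natS X (So X) Y f (𝟙 _)
  rw [Category.comp_id] at h1
  rw [h1]
  rfl

/-- the action on morphisms, as a linear equivalence -/
noncomputable def H2seMapE (X' X : T) : (X' ⟶ X) ≃ₗ[k] (So X' ⟶ So X) :=
  (Module.evalEquiv k (X' ⟶ X)).trans ((eS X' X).dualMap.trans (eS X (So X')).symm)

include natS in
lemma H2seMapE_spec (X' X : T) (a : X' ⟶ X) (u : X ⟶ So X') :
    eS X (So X) (𝟙 _) (u ≫ H2seMapE So eS X' X a) = eS X' (So X') (𝟙 _) (a ≫ u) := by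
  rw [← H2se_eS_apply So eS natS X (So X') (H2seMapE So eS X' X a) u]
  change eS X (So X') ((eS X (So X')).symm ((eS X' X).dualMap (Module.evalEquiv k _ a))) u = _
  rw [LinearEquiv.apply_symm_apply]
  change eS X' X u a = _
  rw [H2se_eS_apply So eS natS X' X u a]

include natS in
lemma H2se_left_nondeg (X Y : T) (f₁ f₂ : Y ⟶ So X)
    (h : ∀ u : X ⟶ Y, eS X (So X) (𝟙 _) (u ≫ f₁) = eS X (So X) (𝟙 _) (u ≫ f₂)) : f₁ = f₂ := by
  apply (eS X Y).injective
  ext u
  rw [H2se_eS_apply So eS natS X Y f₁ u, H2se_eS_apply So eS natS X Y f₂ u]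
  exact h u

/-- the Serre functor built from representing objects -/
noncomputable def H2seFun : T ⥤ T where
  obj := So
  map {X' X} a := H2seMapE So eS X' X a
  map_id X := by
    apply H2se_left_nondeg So eS natS
    intro u
    rw [H2seMapE_spec So eS natS, Category.id_comp, Category.comp_id]
  map_comp {X'' X' X} a b := by
    apply H2se_left_nondeg So eS natS
    intro u
    rw [H2seMapE_spec So eS natS, ← Category.assoc u, H2seMapE_spec So eS natS X' X b,
      ← Category.assoc b, H2seMapE_spec So eS natS X'' X' a, Category.assoc]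

instance : (H2seFun So eS natS).Additive where
  map_add {X' X} a a' := (H2seMapE So eS X' X).map_add a a'

instance : (H2seFun So eS natS).Linear k where
  map_smul {X' X} a r := (H2seMapE So eS X' X).map_smul r a

instance : (H2seFun So eS natS).Faithful where
  map_injective {X' X} := (H2seMapE So eS X' X).injective

instance : (H2seFun So eS natS).Full where
  map_surjective {X' X} := (H2seMapE So eS X' X).surjective

section Ess

variable (Ro : T → T) (eR : ∀ X Y : T, (Ro X ⟶ Y) ≃ₗ[k] Module.Dual k (Y ⟶ X))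
  (natR : ∀ (X Y Y' : T) (g : Y ⟶ Y') (f : Ro X ⟶ Y),
    eR X Y' (f ≫ g) = (eR X Y f) ∘ₗ Linear.leftComp k X g)

omit [∀ X Y : T, Module.Finite k (X ⟶ Y)] in
lemma H2se_eR_right_nondeg (X Y : T) (h₁ h₂ : Y ⟶ X)
    (h : ∀ w : Ro X ⟶ Y, eR X Y w h₁ = eR X Y w h₂) : h₁ = h₂ := by
  rw [← sub_eq_zero, ← Module.forall_dual_apply_eq_zero_iff k]
  intro ξ
  obtain ⟨w, rfl⟩ := (eR X Y).surjective ξ
  rw [map_sub, sub_eq_zero]
  exact h w

/-- comparison `Hom(Y, S R X) ≃ Hom(Y, X)` -/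
noncomputable def H2seθ (X Y : T) : (Y ⟶ So (Ro X)) ≃ₗ[k] (Y ⟶ X) :=
  (eS (Ro X) Y).trans ((eR X Y).dualMap.symm.trans (Module.evalEquiv k (Y ⟶ X)).symm)

lemma H2seθ_spec (X Y : T) (f : Y ⟶ So (Ro X)) (w : Ro X ⟶ Y) :
    eR X Y w (H2seθ So eS Ro eR X Y f) = eS (Ro X) Y f w := by
  change eR X Y w ((Module.evalEquiv k (Y ⟶ X)).symm
    ((eR X Y).dualMap.symm (eS (Ro X) Y f))) = _
  rw [Module.apply_evalEquiv_symm_apply]
  change eS (Ro X) Y f ((eR X Y).symm (eR X Y w)) = _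
  rw [LinearEquiv.symm_apply_apply]

include natS natR in
lemma H2seθ_natural (X Y Y' : T) (g : Y' ⟶ Y) (f : Y ⟶ So (Ro X)) :
    H2seθ So eS Ro eR X Y' (g ≫ f) = g ≫ H2seθ So eS Ro eR X Y f := by
  apply H2se_eR_right_nondeg Ro eR
  intro w
  rw [H2seθ_spec, natS (Ro X) Y Y' g f]
  change eS (Ro X) Y f (w ≫ g) = _
  rw [← H2seθ_spec So eS Ro eR X Y f (w ≫ g), natR X Y' Y g w]
  rfl

include natS natR in
lemma H2se_essSurj : (H2seFun So eS natS).EssSurj where
  mem_essImage X := by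
    let p : So (Ro X) ⟶ X := H2seθ So eS Ro eR X (So (Ro X)) (𝟙 _)
    have hp : ∀ (Y : T) (f : Y ⟶ So (Ro X)), H2seθ So eS Ro eR X Y f = f ≫ p := by
      intro Y f
      have := H2seθ_natural So eS natS Ro eR natR X (So (Ro X)) Y f (𝟙 _)
      rw [Category.comp_id] at this
      exact this
    haveI : IsIso p := by
      rw [isIso_iff_yoneda_map_bijective]
      intro Y
      have hb := (H2seθ So eS Ro eR X Y).bijective
      have hfun : (fun f : Y ⟶ So (Ro X) => f ≫ p) = fun f => H2seθ So eS Ro eR X Y f :=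
        funext (fun f => (hp Y f).symm)
      rw [hfun]
      exact hb
    have e : So (Ro X) ≅ X := asIso p
    exact ⟨Ro X, ⟨e⟩⟩

end Ess

end Build

theorem H2_serre_exists_iff :
    (∃ (S : T ≌ T) (_ : S.functor.Additive) (_ : S.functor.Linear k)
        (c : ∀ X Y : T, (X ⟶ Y) ≃ₗ[k] Module.Dual k (Y ⟶ S.functor.obj X)),
        (∀ (X Y Y' : T) (f : X ⟶ Y) (g : Y ⟶ Y'),
          c X Y' (f ≫ g) = (c X Y f) ∘ₗ Linear.leftComp k (S.functor.obj X) g) ∧
        (∀ (X' X Y : T) (a : X' ⟶ X) (f : X ⟶ Y),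
          c X' Y (a ≫ f) = (c X Y f) ∘ₗ Linear.rightComp k Y (S.functor.map a))) ↔
    ((∀ X : T, ∃ (SX : T) (e : ∀ Y : T, (Y ⟶ SX) ≃ₗ[k] Module.Dual k (X ⟶ Y)),
        ∀ (Y Y' : T) (g : Y' ⟶ Y) (f : Y ⟶ SX),
          e Y' (g ≫ f) = (e Y f) ∘ₗ Linear.rightComp k X g) ∧
      (∀ X : T, ∃ (RX : T) (e : ∀ Y : T, (RX ⟶ Y) ≃ₗ[k] Module.Dual k (Y ⟶ X)),
        ∀ (Y Y' : T) (g : Y ⟶ Y') (f : RX ⟶ Y),
          e Y' (f ≫ g) = (e Y f) ∘ₗ Linear.leftComp k X g)) := by
  constructor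
  · rintro ⟨S, _, _, c, hc₁, hc₂⟩
    constructor
    · intro X
      refine ⟨S.functor.obj X, fun Y => (Module.evalEquiv k (Y ⟶ S.functor.obj X)).trans
        (c X Y).dualMap, ?_⟩
      intro Y Y' g f
      ext u
      change c X Y' u (g ≫ f) = c X Y (u ≫ g) f
      rw [hc₁ X Y' Y u g]
      rfl
    · intro X
      let ε := S.counitIso.app X
      refine ⟨S.inverse.obj X, fun Y => (c (S.inverse.obj X) Y).trans
        (Linear.homCongr k (Iso.refl Y) ε.symm).dualMap, ?_⟩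
      intro Y Y' g f
      ext h
      change c (S.inverse.obj X) Y' (f ≫ g) ((𝟙 Y' ≫ h) ≫ ε.inv) =
        c (S.inverse.obj X) Y f ((𝟙 Y ≫ (g ≫ h)) ≫ ε.inv)
      rw [hc₁ (S.inverse.obj X) Y Y' f g]
      change c (S.inverse.obj X) Y f (g ≫ ((𝟙 Y' ≫ h) ≫ ε.inv)) = _
      rw [Category.id_comp, Category.id_comp, Category.assoc]
  · rintro ⟨hS, hR⟩
    choose So eS natS using hS
    choose Ro eR natR using hR
    let F := H2seFun So eS natS
    haveI : F.EssSurj := H2se_essSurj So eS natS Ro eR natR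
    haveI : F.IsEquivalence := {}
    refine ⟨F.asEquivalence, (inferInstance : F.Additive), (inferInstance : F.Linear k),
      fun X Y => (Module.evalEquiv k (X ⟶ Y)).trans (eS X Y).dualMap, ?_, ?_⟩
    · intro X Y Y' f g
      ext h
      change eS X Y' h (f ≫ g) = eS X Y (g ≫ h) f
      rw [natS X Y' Y g h]
      rfl
    · intro X' X Y a f
      ext h
      have key : ∀ h' : Y ⟶ So X',
          eS X' Y h' (a ≫ f) = eS X Y (h' ≫ H2seMapE So eS X' X a) f := by
        intro h'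
        rw [H2se_eS_apply So eS natS X' Y h' (a ≫ f),
          H2se_eS_apply So eS natS X Y (h' ≫ H2seMapE So eS X' X a) f,
          ← Category.assoc, H2seMapE_spec So eS natS X' X a (f ≫ h'), Category.assoc]
      exact key h

end Groth.Agent.H2
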