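import Mathlib

set_option autoImplicit false

namespace Groth.Agent.H2

open CategoryTheory

universe w v u

variable {k : Type w} [Field k] {T : Type u} [Category.{v} T] [Preadditive T] [Linear k T]
  [∀ X Y : T, Module.Finite k (X ⟶ Y)]

section One

variable (S : T ⥤ T) (c : ∀ X Y : T, (X ⟶ Y) ≃ₗ[k] Module.Dual k (Y ⟶ S.obj X))
  (hc₁ : ∀ (X Y Y' : T) (f : X ⟶ Y) (g : Y ⟶ Y'),
    c X Y' (f ≫ g) = (c X Y f) ∘ₗ Linear.leftComp k (S.obj X) g)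
  (hc₂ : ∀ (X' X Y : T) (a : X' ⟶ X) (f : X ⟶ Y),
    c X' Y (a ≫ f) = (c X Y f) ∘ₗ Linear.rightComp k Y (S.map a))

include hc₁ in
lemma H2serre_c_apply (X Y : T) (f : X ⟶ Y) (h : Y ⟶ S.obj X) :
    c X Y f h = c X X (𝟙 X) (f ≫ h) := by
  have h1 := hc₁ X X Y (𝟙 X) f
  rw [Category.id_comp] at h1
  rw [h1]
  rfl

include hc₁ hc₂ in
lemma H2serre_tr_symm (X' X : T) (a : X' ⟶ X) (h : X ⟶ S.obj X') :
    c X' X' (𝟙 X') (a ≫ h) = c X X (𝟙 X) (h ≫ S.map a) := by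
  have h2 := hc₂ X' X X a (𝟙 X)
  rw [Category.comp_id] at h2
  have h3 : c X' X a h = c X X (𝟙 X) (h ≫ S.map a) := by
    rw [h2]
    rfl
  rw [← h3]
  exact (H2serre_c_apply S c hc₁ X' X a h).symm

include hc₁ in
lemma H2serre_right_nondeg (X Z : T) (w₁ w₂ : Z ⟶ S.obj X)
    (hw : ∀ v : X ⟶ Z, c X X (𝟙 X) (v ≫ w₁) = c X X (𝟙 X) (v ≫ w₂)) : w₁ = w₂ := by
  rw [← sub_eq_zero, ← Module.forall_dual_apply_eq_zero_iff k]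
  intro ξ
  obtain ⟨v, rfl⟩ := (c X Z).surjective ξ
  rw [map_sub, sub_eq_zero, H2serre_c_apply S c hc₁ X Z v w₁, H2serre_c_apply S c hc₁ X Z v w₂]
  exact hw v

include hc₁ in
lemma H2serre_exists_repr (X Z : T) (ξ : Module.Dual k (X ⟶ Z)) :
    ∃ w : Z ⟶ S.obj X, ∀ u : X ⟶ Z, ξ u = c X X (𝟙 X) (u ≫ w) := by
  let Ξ : Module.Dual k (Module.Dual k (Z ⟶ S.obj X)) := ξ ∘ₗ (c X Z).symm.toLinearMap
  obtain ⟨w, hw⟩ := (Module.evalEquiv k (Z ⟶ S.obj X)).surjective Ξ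
  refine ⟨w, fun u => ?_⟩
  have h1 : (Module.evalEquiv k (Z ⟶ S.obj X)) w (c X Z u) = Ξ (c X Z u) := by rw [hw]
  have h2 : Ξ (c X Z u) = ξ u := by
    change ξ ((c X Z).symm (c X Z u)) = ξ u
    rw [LinearEquiv.symm_apply_apply]
  have h3 : (Module.evalEquiv k (Z ⟶ S.obj X)) w (c X Z u) = c X Z u w := rfl
  rw [← H2serre_c_apply S c hc₁ X Z u w, ← h3, h1, h2]

end One

section Two

variable (S : T ⥤ T) (c : ∀ X Y : T, (X ⟶ Y) ≃ₗ[k] Module.Dual k (Y ⟶ S.obj X))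
  (hc₁ : ∀ (X Y Y' : T) (f : X ⟶ Y) (g : Y ⟶ Y'),
    c X Y' (f ≫ g) = (c X Y f) ∘ₗ Linear.leftComp k (S.obj X) g)
  (hc₂ : ∀ (X' X Y : T) (a : X' ⟶ X) (f : X ⟶ Y),
    c X' Y (a ≫ f) = (c X Y f) ∘ₗ Linear.rightComp k Y (S.map a))
  (S' : T ⥤ T) (c' : ∀ X Y : T, (X ⟶ Y) ≃ₗ[k] Module.Dual k (Y ⟶ S'.obj X))
  (hc'₁ : ∀ (X Y Y' : T) (f : X ⟶ Y) (g : Y ⟶ Y'),
    c' X Y' (f ≫ g) = (c' X Y f) ∘ₗ Linear.leftComp k (S'.obj X) g)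
  (hc'₂ : ∀ (X' X Y : T) (a : X' ⟶ X) (f : X ⟶ Y),
    c' X' Y (a ≫ f) = (c' X Y f) ∘ₗ Linear.rightComp k Y (S'.map a))

/-- the comparison map `S X ⟶ S' X` -/
noncomputable def H2serreφ (X : T) : S.obj X ⟶ S'.obj X :=
  (H2serre_exists_repr S' c' hc'₁ X (S.obj X) (c X X (𝟙 X))).choose

lemma H2serreφ_spec (X : T) (u : X ⟶ S.obj X) :
    c X X (𝟙 X) u = c' X X (𝟙 X) (u ≫ H2serreφ S c S' c' hc'₁ X) :=
  (H2serre_exists_repr S' c' hc'₁ X (S.obj X) (c X X (𝟙 X))).choose_spec u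

include hc₁ hc₂ hc'₂ in
lemma H2serreφ_naturality (X' X : T) (a : X' ⟶ X) :
    S.map a ≫ H2serreφ S c S' c' hc'₁ X = H2serreφ S c S' c' hc'₁ X' ≫ S'.map a := by
  apply H2serre_right_nondeg S' c' hc'₁ X (S.obj X')
  intro v
  rw [← Category.assoc, ← H2serreφ_spec S c S' c' hc'₁ X (v ≫ S.map a),
    ← H2serre_tr_symm S c hc₁ hc₂ X' X a v,
    H2serreφ_spec S c S' c' hc'₁ X' (a ≫ v), Category.assoc,
    H2serre_tr_symm S' c' hc'₁ hc'₂ X' X a (v ≫ H2serreφ S c S' c' hc'₁ X'), Category.assoc]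

include hc₁ in
lemma H2serreφ_comp (X : T) :
    H2serreφ S c S' c' hc'₁ X ≫ H2serreφ S' c' S c hc₁ X = 𝟙 _ := by
  apply H2serre_right_nondeg S c hc₁ X (S.obj X)
  intro v
  rw [← Category.assoc, ← H2serreφ_spec S' c' S c hc₁ X (v ≫ H2serreφ S c S' c' hc'₁ X),
    ← H2serreφ_spec S c S' c' hc'₁ X v, Category.comp_id]

end Two

theorem H2_serre_unique
    (S : T ⥤ T) (c : ∀ X Y : T, (X ⟶ Y) ≃ₗ[k] Module.Dual k (Y ⟶ S.obj X))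
    (hc₁ : ∀ (X Y Y' : T) (f : X ⟶ Y) (g : Y ⟶ Y'),
      c X Y' (f ≫ g) = (c X Y f) ∘ₗ Linear.leftComp k (S.obj X) g)
    (hc₂ : ∀ (X' X Y : T) (a : X' ⟶ X) (f : X ⟶ Y),
      c X' Y (a ≫ f) = (c X Y f) ∘ₗ Linear.rightComp k Y (S.map a))
    (S' : T ⥤ T) (c' : ∀ X Y : T, (X ⟶ Y) ≃ₗ[k] Module.Dual k (Y ⟶ S'.obj X))
    (hc'₁ : ∀ (X Y Y' : T) (f : X ⟶ Y) (g : Y ⟶ Y'),
      c' X Y' (f ≫ g) = (c' X Y f) ∘ₗ Linear.leftComp k (S'.obj X) g)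
    (hc'₂ : ∀ (X' X Y : T) (a : X' ⟶ X) (f : X ⟶ Y),
      c' X' Y (a ≫ f) = (c' X Y f) ∘ₗ Linear.rightComp k Y (S'.map a)) :
    ∃! φ : S ≅ S', ∀ (X Y : T) (f : X ⟶ Y),
      c X Y f = (c' X Y f) ∘ₗ Linear.rightComp k Y (φ.hom.app X) := by
  let φ : S ≅ S' := NatIso.ofComponents
    (fun X => ⟨H2serreφ S c S' c' hc'₁ X, H2serreφ S' c' S c hc₁ X,
      H2serreφ_comp S c hc₁ S' c' hc'₁ X, H2serreφ_comp S' c' hc'₁ S c hc₁ X⟩)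
    (fun {X' X} a => H2serreφ_naturality S c hc₁ hc₂ S' c' hc'₁ hc'₂ X' X a)
  refine ⟨φ, ?_, ?_⟩
  · intro X Y f
    ext h
    change c X Y f h = c' X Y f (h ≫ H2serreφ S c S' c' hc'₁ X)
    rw [H2serre_c_apply S c hc₁ X Y f h,
      H2serre_c_apply S' c' hc'₁ X Y f (h ≫ H2serreφ S c S' c' hc'₁ X),
      H2serreφ_spec S c S' c' hc'₁ X (f ≫ h), Category.assoc]
  · intro φ' hφ'
    ext X
    change φ'.hom.app X = H2serreφ S c S' c' hc'₁ X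
    apply H2serre_right_nondeg S' c' hc'₁ X (S.obj X)
    intro v
    rw [← H2serreφ_spec S c S' c' hc'₁ X v]
    have h1 := congrArg (fun ξ => ξ (𝟙 (S.obj X))) (hφ' X (S.obj X) v)
    change c X (S.obj X) v (𝟙 _) = c' X (S.obj X) v (𝟙 _ ≫ φ'.hom.app X) at h1
    rw [H2serre_c_apply S c hc₁ X (S.obj X) v (𝟙 _),
      H2serre_c_apply S' c' hc'₁ X (S.obj X) v (𝟙 _ ≫ φ'.hom.app X), Category.comp_id,
      Category.id_comp] at h1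
    exact h1.symm

end Groth.Agent.H2
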