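import Mathlib

set_option autoImplicit false
universe w v₁ u₁
open CategoryTheory CategoryTheory.Limits Opposite

namespace Groth.Agent.H2

variable {C : Type u₁} [Category.{v₁} C]

theorem H2_isLocallySurjective_of_isPullback (J : GrothendieckTopology C)
    {X Y X' Y' : Sheaf J (Type w)} {f : X ⟶ Y} {f' : X' ⟶ Y'} {i₁ : X' ⟶ X} {i₂ : Y' ⟶ Y}
    (hpb : IsPullback f' i₁ i₂ f) [hf : Sheaf.IsLocallySurjective f] :
    Sheaf.IsLocallySurjective f' := by
  constructor
  intro U t
  refine J.superset_covering ?_ (Presheaf.imageSieve_mem J f.hom (i₂.hom.app (op U) t))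
  rintro V g ⟨s, hs⟩
  have hV : IsPullback (f'.hom.app (op V)) (i₁.hom.app (op V)) (i₂.hom.app (op V))
      (f.hom.app (op V)) :=
    hpb.map (sheafToPresheaf J (Type w) ⋙ (evaluation _ _).obj (op V))
  have hcomp : i₂.hom.app (op V) (Y'.obj.map g.op t) = f.hom.app (op V) s := by
    rw [hs]
    exact (NatTrans.naturality_apply i₂.hom g.op t)
  obtain ⟨x, hx1, hx2⟩ := Types.exists_of_isPullback hV (Y'.obj.map g.op t) s hcomp
  exact ⟨x, hx1⟩

theorem H2_sheaf_epi_universally_effectiveEpi (J : GrothendieckTopology C)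
    [HasSheafify J (Type w)] {X Y : Sheaf J (Type w)} (f : X ⟶ Y) [Epi f] :
    (MorphismProperty.universally
      (fun (A B : Sheaf J (Type w)) (p : A ⟶ B) => EffectiveEpi p)) f := by
  intro X' Y' i₁ i₂ f' hpb
  have hf : Sheaf.IsLocallySurjective f := (Sheaf.isLocallySurjective_iff_epi f).mpr ‹_›
  have hf' : Sheaf.IsLocallySurjective f' := H2_isLocallySurjective_of_isPullback J hpb
  have : Epi f' := inferInstance
  have := IsRegularEpiCategory.regularEpiOfEpi f'
  exact (isRegularEpi_iff_effectiveEpi f').mp this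

end Groth.Agent.H2
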