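import Mathlib

set_option autoImplicit false
universe v u
open CategoryTheory MonoidalCategory CartesianMonoidalCategory MonObj GrpObj

namespace Groth.Agent.H2

variable {C : Type u} [Category.{v} C] [CartesianMonoidalCategory C]

/-- the shear automorphism `(t, g) ↦ (t, ψ(t) g)` of `T ⊗ G` -/
theorem H2_shear {T G : C} [GrpObj G] (ψ : T ⟶ G) :
    ∃ σ : T ⊗ G ⟶ T ⊗ G, IsIso σ ∧ ψ ▷ G ≫ μ[G] = σ ≫ snd T G := by
  let σ : T ⊗ G ⟶ T ⊗ G := lift (fst T G) (ψ ▷ G ≫ μ[G])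
  let τ : T ⊗ G ⟶ T ⊗ G := lift (fst T G) (lift (fst T G ≫ ψ ≫ ι[G]) (snd T G) ≫ μ[G])
  have hψμ : ψ ▷ G ≫ μ[G] = (fst T G ≫ ψ) * snd T G := by
    rw [Hom.mul_def]
    congr 1
    apply CartesianMonoidalCategory.hom_ext
    · simp only [whiskerRight_fst, lift_fst]
    · simp only [whiskerRight_snd, lift_snd]
  have hτ2 : lift (fst T G ≫ ψ ≫ ι[G]) (snd T G) ≫ μ[G] = (fst T G ≫ ψ)⁻¹ * snd T G := by
    rw [Hom.mul_def, Hom.inv_def, Category.assoc]
  have h1 : σ ≫ τ = 𝟙 _ := by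
    apply CartesianMonoidalCategory.hom_ext
    · simp only [σ, τ, Category.assoc, lift_fst, Category.id_comp]
    · simp only [σ, τ, Category.assoc, lift_snd, Category.id_comp]
      rw [hτ2, MonObj.comp_mul, GrpObj.comp_inv, ← Category.assoc, lift_fst, lift_snd, hψμ,
        inv_mul_cancel_left]
  have h2 : τ ≫ σ = 𝟙 _ := by
    apply CartesianMonoidalCategory.hom_ext
    · simp only [σ, τ, Category.assoc, lift_fst, Category.id_comp]
    · simp only [σ, τ, Category.assoc, lift_snd, Category.id_comp]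
      rw [hψμ, MonObj.comp_mul, ← Category.assoc, lift_fst, lift_snd, hτ2,
        mul_inv_cancel_left]
  exact ⟨σ, ⟨⟨τ, h1, h2⟩⟩, by simp only [σ, lift_snd]⟩

end Groth.Agent.H2
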