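import Mathlib

universe u v w

open CategoryTheory CategoryTheory.Limits CategoryTheory.Category

namespace Groth.Agent.H2

section General

variable {V : Type u} [Category.{v} V] [Preadditive V] [HasBinaryBiproducts V]

/-- a split mono with an explicit complement is the inclusion of a summand. -/
lemma H2_iso_biprod_of_complement {A B C : V} (j : A ⟶ B) (r : B ⟶ A) (q : B ⟶ C) (t : C ⟶ B)
    (h₁ : j ≫ r = 𝟙 A) (h₂ : t ≫ q = 𝟙 C) (h₃ : j ≫ q = 0) (h₄ : t ≫ r = 0)
    (h₅ : r ≫ j + q ≫ t = 𝟙 B) :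
    ∃ e : B ≅ A ⊞ C, j ≫ e.hom = biprod.inl ∧ e.inv ≫ q = biprod.snd :=
  ⟨{ hom := biprod.lift r q
     inv := biprod.desc j t
     hom_inv_id := by simp [h₅]
     inv_hom_id := by
      apply biprod.hom_ext' <;> apply biprod.hom_ext <;> simp [h₁, h₂, h₃, h₄] },
    by apply biprod.hom_ext <;> simp [h₁, h₃],
    by apply biprod.hom_ext' <;> simp [h₂, h₃]⟩

end General

section Inj

open CochainComplex HomComplex

variable {V : Type u} [Category.{v} V] [Preadditive V] [HasBinaryBiproducts V] [HasZeroObject V]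

set_option backward.isDefEq.respectTransparency false in
theorem H2_termwise_split_inj_factorization (K L : CochainComplex V ℤ) (α : K ⟶ L) :
    ∃ (L' : CochainComplex V ℤ) (α' : K ⟶ L') (π : L' ⟶ L) (s : L ⟶ L'),
      α' ≫ π = α ∧ s ≫ π = 𝟙 L ∧ Nonempty (Homotopy (π ≫ s) (𝟙 L')) ∧
      (∀ n : ℤ, ∃ (C : V) (e : L'.X n ≅ K.X n ⊞ C), α'.f n ≫ e.hom = biprod.inl) ∧
      (∀ a : ℤ, K.IsStrictlyGE a → L.IsStrictlyGE a → ∃ a' : ℤ, L'.IsStrictlyGE a') ∧
      (∀ a : ℤ, K.IsStrictlyLE a → L.IsStrictlyLE a → ∃ a' : ℤ, L'.IsStrictlyLE a') := by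
  let M := mappingCone (𝟙 K)
  let α' : K ⟶ M ⊞ L := biprod.lift (mappingCone.inr (𝟙 K)) α
  refine ⟨M ⊞ L, α', biprod.snd, biprod.inr, by simp [α'], by simp, ?_, ?_, ?_, ?_⟩
  · let h₀ : Homotopy (𝟙 M) 0 :=
      mappingCone.liftHomotopy _ _ _ (mappingCone.snd _) 0 (by simp) (by simp)
    let h₁ := (h₀.compRight (biprod.inl : _ ⟶ M ⊞ L)).compLeft (biprod.fst : M ⊞ L ⟶ _)
    let h₂ := Homotopy.add h₁ (Homotopy.refl (biprod.snd ≫ biprod.inr))
    exact ⟨(Homotopy.ofEq (by simp)).trans (h₂.symm.trans (Homotopy.ofEq (by simp)))⟩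
  · intro n
    -- level-n biproduct structure
    let p₁ : (M ⊞ L).X n ⟶ M.X n := (biprod.fst : M ⊞ L ⟶ M).f n
    let p₂ : (M ⊞ L).X n ⟶ L.X n := (biprod.snd : M ⊞ L ⟶ L).f n
    let i₁ : M.X n ⟶ (M ⊞ L).X n := (biprod.inl : M ⟶ M ⊞ L).f n
    let i₂ : L.X n ⟶ (M ⊞ L).X n := (biprod.inr : L ⟶ M ⊞ L).f n
    have e11 : i₁ ≫ p₁ = 𝟙 _ := by
      simp only [i₁, p₁, ← HomologicalComplex.comp_f, biprod.inl_fst, HomologicalComplex.id_f]
    have e12 : i₁ ≫ p₂ = 0 := by
      simp only [i₁, p₂, ← HomologicalComplex.comp_f, biprod.inl_snd,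
        HomologicalComplex.zero_f]
    have e21 : i₂ ≫ p₁ = 0 := by
      simp only [i₂, p₁, ← HomologicalComplex.comp_f, biprod.inr_fst,
        HomologicalComplex.zero_f]
    have e22 : i₂ ≫ p₂ = 𝟙 _ := by
      simp only [i₂, p₂, ← HomologicalComplex.comp_f, biprod.inr_snd, HomologicalComplex.id_f]
    have etot : p₁ ≫ i₁ + p₂ ≫ i₂ = 𝟙 _ := by
      simp only [i₁, i₂, p₁, p₂, ← HomologicalComplex.comp_f, ← HomologicalComplex.add_f_apply,
        biprod.total, HomologicalComplex.id_f]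
    -- cone structure at level n
    let cf : M.X n ⟶ K.X (n + 1) := (mappingCone.fst (𝟙 K)).1.v n (n + 1) rfl
    let cs : M.X n ⟶ K.X n := (mappingCone.snd (𝟙 K)).v n n (add_zero n)
    let cl : K.X (n + 1) ⟶ M.X n := (mappingCone.inl (𝟙 K)).v (n + 1) n (by omega)
    let cr : K.X n ⟶ M.X n := (mappingCone.inr (𝟙 K)).f n
    have c1 : cl ≫ cf = 𝟙 _ := by simp [cl, cf]
    have c2 : cl ≫ cs = 0 := by simp [cl, cs]
    have c3 : cr ≫ cf = 0 := by simp [cr, cf]
    have c4 : cr ≫ cs = 𝟙 _ := by simp [cr, cs]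
    have ctot : cf ≫ cl + cs ≫ cr = 𝟙 _ := by
      exact mappingCone.id_X (𝟙 K) n (n + 1) rfl
    have j1 : α'.f n ≫ p₁ = cr := by
      simp only [α', p₁, cr, ← HomologicalComplex.comp_f, biprod.lift_fst]
    have j2 : α'.f n ≫ p₂ = α.f n := by
      simp only [α', p₂, ← HomologicalComplex.comp_f, biprod.lift_snd]
    let r : (M ⊞ L).X n ⟶ K.X n := p₁ ≫ cs
    let q : (M ⊞ L).X n ⟶ K.X (n + 1) ⊞ L.X n := biprod.lift (p₁ ≫ cf) (p₂ - r ≫ α.f n)
    let t : K.X (n + 1) ⊞ L.X n ⟶ (M ⊞ L).X n := biprod.desc (cl ≫ i₁) i₂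
    obtain ⟨e, he, _⟩ := H2_iso_biprod_of_complement (α'.f n) r q t
      (by simp only [r, reassoc_of% j1, c4])
      (by
        apply biprod.hom_ext' <;> apply biprod.hom_ext
        · simp [t, q, reassoc_of% e11, c1]
        · simp [t, q, r, e12, reassoc_of% e11, reassoc_of% c2]
        · simp [t, q, reassoc_of% e21]
        · simp [t, q, r, e22, reassoc_of% e21])
      (by
        apply biprod.hom_ext
        · simp [q, reassoc_of% j1, c3]
        · simp [q, r, j2, reassoc_of% j1, reassoc_of% c4])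
      (by
        apply biprod.hom_ext'
        · simp [t, r, reassoc_of% e11, c2]
        · simp [t, r, reassoc_of% e21])
      (by
        have hp : ∀ (x y : (M ⊞ L).X n ⟶ (M ⊞ L).X n), x ≫ p₁ = y ≫ p₁ → x ≫ p₂ = y ≫ p₂ →
            x = y := by
          intro x y h1 h2
          rw [← comp_id x, ← comp_id y, ← etot, Preadditive.comp_add, Preadditive.comp_add,
            reassoc_of% h1, reassoc_of% h2]
        apply hp
        · simp only [Preadditive.add_comp, assoc, id_comp, j1, q, t, r]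
          rw [biprod.lift_desc_assoc]
          simp only [Preadditive.add_comp, assoc, e11, comp_id, e21, comp_zero, add_zero]
          rw [← Preadditive.comp_add, add_comm, ctot, comp_id]
        · simp only [Preadditive.add_comp, assoc, id_comp, j2, q, t, r]
          rw [biprod.lift_desc_assoc]
          simp [e12, e22])
    exact ⟨_, e, he⟩
  · intro a hK hL
    refine ⟨a - 1, ?_⟩
    rw [CochainComplex.isStrictlyGE_iff]
    intro i hi
    refine IsZero.of_iso ?_ ((HomologicalComplex.eval V (ComplexShape.up ℤ) i).mapBiprod _ _)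
    simp only [HomologicalComplex.eval_obj, biprod_isZero_iff, mappingCone.isZero_X_iff, M]
    exact ⟨⟨K.isZero_of_isStrictlyGE a _ (by omega), K.isZero_of_isStrictlyGE a _ (by omega)⟩,
      L.isZero_of_isStrictlyGE a i (by omega)⟩
  · intro a hK hL
    refine ⟨a, ?_⟩
    rw [CochainComplex.isStrictlyLE_iff]
    intro i hi
    refine IsZero.of_iso ?_ ((HomologicalComplex.eval V (ComplexShape.up ℤ) i).mapBiprod _ _)
    simp only [HomologicalComplex.eval_obj, biprod_isZero_iff, mappingCone.isZero_X_iff, M]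
    exact ⟨⟨K.isZero_of_isStrictlyLE a _ (by omega), K.isZero_of_isStrictlyLE a _ (by omega)⟩,
      L.isZero_of_isStrictlyLE a i (by omega)⟩

end Inj

end Groth.Agent.H2
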