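import Mathlib

set_option autoImplicit false

namespace Groth.Agent.H2

open CategoryTheory CategoryTheory.Limits Category HomologicalComplex

universe v u

section General

variable {V : Type u} [Category.{v} V] [Preadditive V] [HasBinaryBiproducts V]

lemma H2_exists_biprod_iso_of_split_inj {X Z C : V} (j : Z ⟶ X) (r : X ⟶ Z) (q : X ⟶ C) (σ : C ⟶ X)
    (hjr : j ≫ r = 𝟙 Z) (hσq : σ ≫ q = 𝟙 C) (hjq : j ≫ q = 0) (hσr : σ ≫ r = 0)
    (htot : r ≫ j + q ≫ σ = 𝟙 X) :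
    ∃ (e : X ≅ Z ⊞ C), j ≫ e.hom = biprod.inl := by
  refine ⟨⟨biprod.lift r q, biprod.desc j σ, ?_, ?_⟩, ?_⟩
  · rw [biprod.lift_desc]; exact htot
  · ext <;> simp [hjr, hσq, hjq, hσr]
  · ext <;> simp [hjr, hjq]

end General

section Cx

variable {V : Type u} [Category.{v} V] [Preadditive V] [HasBinaryBiproducts V] [HasZeroObject V]
  (K L : CochainComplex V ℤ) (α : K ⟶ L)

open CochainComplex

noncomputable abbrev H2cn : CochainComplex V ℤ := mappingCone (𝟙 K)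

omit [HasZeroObject V] in
lemma H2cn_isZero_X (n : ℤ) (h1 : IsZero (K.X n)) (h2 : IsZero (K.X (n + 1))) :
    IsZero ((H2cn K).X n) := by
  rw [IsZero.iff_id_eq_zero]
  have := mappingCone.id_X (𝟙 K) n (n + 1) rfl
  rw [← this, h2.eq_of_tgt ((mappingCone.fst (𝟙 K)).1.v n (n + 1) rfl) 0,
    h1.eq_of_tgt ((mappingCone.snd (𝟙 K)).v n n (add_zero n)) 0]
  simp

/-- the cylinder-type object `L ⊞ cone(𝟙 K)` -/
noncomputable abbrev H2cyl : CochainComplex V ℤ := L ⊞ H2cn K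

noncomputable abbrev H2cylι : K ⟶ H2cyl K L := biprod.lift α (mappingCone.inr (𝟙 K))

noncomputable def H2cyl_homotopy :
    Homotopy ((biprod.fst : H2cyl K L ⟶ L) ≫ biprod.inl) (𝟙 (H2cyl K L)) := by
  have H1 : Homotopy ((biprod.snd : H2cyl K L ⟶ H2cn K) ≫ 𝟙 _ ≫
        (biprod.inr : H2cn K ⟶ H2cyl K L))
      ((biprod.snd : H2cyl K L ⟶ H2cn K) ≫ 0 ≫ (biprod.inr : H2cn K ⟶ H2cyl K L)) :=
    ((mappingCone.homotopyToZeroOfId K).compRight (biprod.inr : H2cn K ⟶ H2cyl K L)).compLeft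
      (biprod.snd : H2cyl K L ⟶ H2cn K)
  have H2 := (Homotopy.refl ((biprod.fst : H2cyl K L ⟶ L) ≫ biprod.inl)).add H1
  refine (Homotopy.ofEq ?_).trans (H2.symm.trans (Homotopy.ofEq ?_))
  · simp
  · simp [biprod.total]

noncomputable def H2cylEquiv : HomotopyEquiv (H2cyl K L) L where
  hom := biprod.fst
  inv := biprod.inl
  homotopyHomInvId := H2cyl_homotopy K L
  homotopyInvHomId := Homotopy.ofEq (by simp)

lemma H2cyl_isZero_X (n : ℤ) (h0 : IsZero (L.X n)) (h1 : IsZero (K.X n))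
    (h2 : IsZero (K.X (n + 1))) : IsZero ((H2cyl K L).X n) := by
  rw [IsZero.iff_id_eq_zero]
  have htot : (biprod.fst : H2cyl K L ⟶ L) ≫ biprod.inl + biprod.snd ≫ biprod.inr = 𝟙 _ :=
    biprod.total
  have := congrArg (fun φ => φ.f n) htot
  simp only [HomologicalComplex.add_f_apply, HomologicalComplex.comp_f,
    HomologicalComplex.id_f] at this
  rw [← this, h0.eq_of_tgt ((biprod.fst : H2cyl K L ⟶ L).f n) 0,
    (H2cn_isZero_X K n h1 h2).eq_of_tgt ((biprod.snd : H2cyl K L ⟶ H2cn K).f n) 0]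
  simp

lemma H2cyl_split (n : ℤ) :
    ∃ (C : V) (e : (H2cyl K L).X n ≅ K.X n ⊞ C), (H2cylι K L α).f n ≫ e.hom = biprod.inl := by
  have h11 := congrArg (fun φ => φ.f n) (biprod.inl_fst : (biprod.inl : L ⟶ H2cyl K L) ≫ _ = _)
  have h12 := congrArg (fun φ => φ.f n) (biprod.inl_snd : (biprod.inl : L ⟶ H2cyl K L) ≫ _ = _)
  have h21 := congrArg (fun φ => φ.f n) (biprod.inr_fst : (biprod.inr : H2cn K ⟶ H2cyl K L) ≫ _ = _)
  have h22 := congrArg (fun φ => φ.f n) (biprod.inr_snd : (biprod.inr : H2cn K ⟶ H2cyl K L) ≫ _ = _)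
  have htot := congrArg (fun φ => φ.f n)
    (biprod.total : (biprod.fst : H2cyl K L ⟶ L) ≫ biprod.inl + biprod.snd ≫ biprod.inr = 𝟙 _)
  have hι1 := congrArg (fun φ => φ.f n)
    (biprod.lift_fst α (mappingCone.inr (𝟙 K)) : H2cylι K L α ≫ biprod.fst = _)
  have hι2 := congrArg (fun φ => φ.f n)
    (biprod.lift_snd α (mappingCone.inr (𝟙 K)) : H2cylι K L α ≫ biprod.snd = _)
  simp only [HomologicalComplex.add_f_apply, HomologicalComplex.comp_f,
    HomologicalComplex.id_f, HomologicalComplex.zero_f] at h11 h12 h21 h22 htot hι1 hι2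
  have hid := mappingCone.id_X (𝟙 K) n (n + 1) rfl
  have hι : (H2cylι K L α).f n =
      α.f n ≫ (biprod.inl : L ⟶ H2cyl K L).f n +
        (mappingCone.inr (𝟙 K)).f n ≫ (biprod.inr : H2cn K ⟶ H2cyl K L).f n := by
    rw [← cancel_mono (𝟙 _), ← htot]
    simp only [Preadditive.comp_add, Preadditive.add_comp, assoc]
    rw [reassoc_of% hι1, reassoc_of% hι2, reassoc_of% h11, reassoc_of% h12, reassoc_of% h21,
      reassoc_of% h22]
    simp
  refine ⟨L.X n ⊞ K.X (n + 1), ?_⟩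
  refine H2_exists_biprod_iso_of_split_inj ((H2cylι K L α).f n)
    ((biprod.snd : H2cyl K L ⟶ H2cn K).f n ≫ (mappingCone.snd (𝟙 K)).v n n (add_zero n))
    (biprod.lift ((biprod.fst : H2cyl K L ⟶ L).f n -
        (biprod.snd : H2cyl K L ⟶ H2cn K).f n ≫ (mappingCone.snd (𝟙 K)).v n n (add_zero n) ≫ α.f n)
      ((biprod.snd : H2cyl K L ⟶ H2cn K).f n ≫ (mappingCone.fst (𝟙 K)).1.v n (n + 1) rfl))
    (biprod.desc ((biprod.inl : L ⟶ H2cyl K L).f n)
      ((mappingCone.inl (𝟙 K)).v (n + 1) n (by lia) ≫ (biprod.inr : H2cn K ⟶ H2cyl K L).f n))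
    ?_ ?_ ?_ ?_ ?_
  · rw [reassoc_of% hι2]; simp
  · ext <;> simp [h11, h12, h21, h22, reassoc_of% h12, reassoc_of% h22, reassoc_of% h21]
  · ext
    · simp [hι1, reassoc_of% hι2]
    · simp [reassoc_of% hι2]
  · ext <;> simp [reassoc_of% h12, reassoc_of% h22]
  · rw [hι]
    have key : (biprod.snd : H2cyl K L ⟶ H2cn K).f n ≫ (biprod.inr : H2cn K ⟶ H2cyl K L).f n =
        (biprod.snd : H2cyl K L ⟶ H2cn K).f n ≫
          ((mappingCone.fst (𝟙 K)).1.v n (n + 1) rfl ≫ (mappingCone.inl (𝟙 K)).v (n + 1) n (by lia) +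
            (mappingCone.snd (𝟙 K)).v n n (add_zero n) ≫ (mappingCone.inr (𝟙 K)).f n) ≫
            (biprod.inr : H2cn K ⟶ H2cyl K L).f n := by
      rw [hid]; simp
    simp only [biprod.lift_desc, Preadditive.sub_comp, Preadditive.comp_add, assoc]
    rw [← htot, key]
    simp only [Preadditive.comp_add, Preadditive.add_comp, assoc]
    abel

end Cx

section Seq

variable {V : Type u} [Category.{v} V] [Preadditive V] [HasBinaryBiproducts V] [HasZeroObject V]

structure H2SeqData (Y : CochainComplex V ℤ) where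
  B : CochainComplex V ℤ
  e : HomotopyEquiv B Y

variable (X : ℕ → CochainComplex V ℤ) (a : ∀ i, X i ⟶ X (i + 1))

noncomputable def H2seq : ∀ i, H2SeqData (X i)
  | 0 => ⟨X 0, HomotopyEquiv.refl _⟩
  | i + 1 => ⟨H2cyl (H2seq i).B (X (i + 1)), H2cylEquiv (H2seq i).B (X (i + 1))⟩

noncomputable def H2seqb (i : ℕ) : (H2seq X i).B ⟶ (H2seq X (i + 1)).B :=
  H2cylι (H2seq X i).B (X (i + 1)) ((H2seq X i).e.hom ≫ a i)

lemma H2seqb_comm (i : ℕ) :
    H2seqb X a i ≫ (H2seq X (i + 1)).e.hom = (H2seq X i).e.hom ≫ a i :=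
  biprod.lift_fst _ _

lemma H2seq_split (i : ℕ) (n : ℤ) :
    ∃ (C : V) (ε : (H2seq X (i + 1)).B.X n ≅ (H2seq X i).B.X n ⊞ C),
      (H2seqb X a i).f n ≫ ε.hom = biprod.inl :=
  H2cyl_split (H2seq X i).B (X (i + 1)) ((H2seq X i).e.hom ≫ a i) n

lemma H2seq_GE (h : ∀ i, ∃ m : ℤ, (X i).IsStrictlyGE m) :
    ∀ i, ∃ m : ℤ, (H2seq X i).B.IsStrictlyGE m := by
  intro i
  induction i with
  | zero => exact h 0
  | succ i ih =>
    obtain ⟨m, hm⟩ := ih
    obtain ⟨m', hm'⟩ := h (i + 1)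
    refine ⟨min m m' - 1, ?_⟩
    rw [CochainComplex.isStrictlyGE_iff]
    intro n hn
    have h1 : n < m - 1 := lt_of_lt_of_le hn (by have := min_le_left m m'; omega)
    have h2 : n < m' - 1 := lt_of_lt_of_le hn (by have := min_le_right m m'; omega)
    exact H2cyl_isZero_X (H2seq X i).B (X (i + 1)) n
      ((X (i + 1)).isZero_of_isStrictlyGE m' n (by omega))
      ((H2seq X i).B.isZero_of_isStrictlyGE m n (by omega))
      ((H2seq X i).B.isZero_of_isStrictlyGE m (n + 1) (by omega))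

lemma H2seq_LE (h : ∀ i, ∃ m : ℤ, (X i).IsStrictlyLE m) :
    ∀ i, ∃ m : ℤ, (H2seq X i).B.IsStrictlyLE m := by
  intro i
  induction i with
  | zero => exact h 0
  | succ i ih =>
    obtain ⟨m, hm⟩ := ih
    obtain ⟨m', hm'⟩ := h (i + 1)
    refine ⟨max m m', ?_⟩
    rw [CochainComplex.isStrictlyLE_iff]
    intro n hn
    have h1 : m < n := lt_of_le_of_lt (le_max_left m m') hn
    have h2 : m' < n := lt_of_le_of_lt (le_max_right m m') hn
    exact H2cyl_isZero_X (H2seq X i).B (X (i + 1)) n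
      ((X (i + 1)).isZero_of_isStrictlyLE m' n (by omega))
      ((H2seq X i).B.isZero_of_isStrictlyLE m n (by omega))
      ((H2seq X i).B.isZero_of_isStrictlyLE m (n + 1) (by omega))

end Seq

end Groth.Agent.H2
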