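import Mathlib

set_option autoImplicit false

namespace Groth.Agent.H2

open CategoryTheory CategoryTheory.Limits Category HomologicalComplex

universe v u

section General

variable {V : Type u} [Category.{v} V] [Preadditive V] [HasBinaryBiproducts V]

/-- Splitting data gives a biproduct decomposition with the projection as `biprod.snd`. -/
lemma H2_exists_biprod_iso_of_split {X Z C : V} (p : X ⟶ Z) (j : C ⟶ X) (q : X ⟶ C) (σ : Z ⟶ X)
    (hjq : j ≫ q = 𝟙 C) (hσp : σ ≫ p = 𝟙 Z) (hjp : j ≫ p = 0) (hσq : σ ≫ q = 0)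
    (htot : q ≫ j + p ≫ σ = 𝟙 X) :
    ∃ (e : X ≅ C ⊞ Z), e.inv ≫ p = biprod.snd := by
  refine ⟨⟨biprod.lift q p, biprod.desc j σ, ?_, ?_⟩, ?_⟩
  · rw [biprod.lift_desc]; exact htot
  · ext <;> simp [hjq, hσp, hjp, hσq]
  · ext <;> simp [hjp, hσp]

end General

section Cx

variable {V : Type u} [Category.{v} V] [Preadditive V] [HasBinaryBiproducts V] [HasZeroObject V]
  (K L : CochainComplex V ℤ) (α : K ⟶ L)

open CochainComplex

/-- the contractible complex `cocone(𝟙 L)`. -/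
noncomputable abbrev H2cc : CochainComplex V ℤ := mappingCocone (𝟙 L)

noncomputable def H2cc_homotopy : Homotopy (𝟙 (H2cc L)) 0 := by
  have h := (mappingCone.homotopyToZeroOfId L).shift (-1)
  refine (Homotopy.ofEq ?_).trans (h.trans (Homotopy.ofEq ?_))
  · simp [H2cc, mappingCocone]
  · exact (CategoryTheory.shiftFunctor (CochainComplex V ℤ) (-1 : ℤ)).map_zero _ _

lemma H2cc_isZero_X (n : ℤ) (h1 : IsZero (L.X n)) (h2 : IsZero (L.X (n - 1))) :
    IsZero ((H2cc L).X n) := by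
  rw [IsZero.iff_id_eq_zero]
  have := mappingCocone.id_X (𝟙 L) n (n - 1) (by lia)
  rw [← this, h1.eq_of_tgt ((mappingCocone.fst (𝟙 L)).f n) 0,
    h2.eq_of_tgt ((mappingCocone.snd (𝟙 L)).v n (n - 1) (by lia)) 0]
  simp

/-- the factorization object -/
noncomputable abbrev H2fac : CochainComplex V ℤ := K ⊞ H2cc L

noncomputable abbrev H2facπ : H2fac K L ⟶ L := biprod.desc α (mappingCocone.fst (𝟙 L))

noncomputable def H2fac_homotopy :
    Homotopy ((biprod.fst : H2fac K L ⟶ K) ≫ biprod.inl) (𝟙 (H2fac K L)) := by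
  have H1 : Homotopy ((biprod.snd : H2fac K L ⟶ H2cc L) ≫ 𝟙 _ ≫
        (biprod.inr : H2cc L ⟶ H2fac K L))
      ((biprod.snd : H2fac K L ⟶ H2cc L) ≫ 0 ≫ (biprod.inr : H2cc L ⟶ H2fac K L)) :=
    ((H2cc_homotopy L).compRight (biprod.inr : H2cc L ⟶ H2fac K L)).compLeft
      (biprod.snd : H2fac K L ⟶ H2cc L)
  have H2 := (Homotopy.refl ((biprod.fst : H2fac K L ⟶ K) ≫ biprod.inl)).add H1
  refine (Homotopy.ofEq ?_).trans (H2.symm.trans (Homotopy.ofEq ?_))
  · simp
  · simp [biprod.total]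

lemma H2fac_isZero_X (n : ℤ) (h0 : IsZero (K.X n)) (h1 : IsZero (L.X n))
    (h2 : IsZero (L.X (n - 1))) : IsZero ((H2fac K L).X n) := by
  rw [IsZero.iff_id_eq_zero]
  have htot : (biprod.fst : H2fac K L ⟶ K) ≫ biprod.inl + biprod.snd ≫ biprod.inr = 𝟙 _ :=
    biprod.total
  have := congrArg (fun φ => φ.f n) htot
  simp only [HomologicalComplex.add_f_apply, HomologicalComplex.comp_f,
    HomologicalComplex.id_f] at this
  rw [← this, h0.eq_of_tgt ((biprod.fst : H2fac K L ⟶ K).f n) 0,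
    (H2cc_isZero_X L n h1 h2).eq_of_tgt ((biprod.snd : H2fac K L ⟶ H2cc L).f n) 0]
  simp

lemma H2fac_split (n : ℤ) :
    ∃ (C : V) (e : (H2fac K L).X n ≅ C ⊞ L.X n), e.inv ≫ (H2facπ K L α).f n = biprod.snd := by
  have h11 := congrArg (fun φ => φ.f n) (biprod.inl_fst : (biprod.inl : K ⟶ H2fac K L) ≫ _ = _)
  have h12 := congrArg (fun φ => φ.f n) (biprod.inl_snd : (biprod.inl : K ⟶ H2fac K L) ≫ _ = _)
  have h21 := congrArg (fun φ => φ.f n) (biprod.inr_fst : (biprod.inr : H2cc L ⟶ H2fac K L) ≫ _ = _)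
  have h22 := congrArg (fun φ => φ.f n) (biprod.inr_snd : (biprod.inr : H2cc L ⟶ H2fac K L) ≫ _ = _)
  have htot := congrArg (fun φ => φ.f n)
    (biprod.total : (biprod.fst : H2fac K L ⟶ K) ≫ biprod.inl + biprod.snd ≫ biprod.inr = 𝟙 _)
  have hπ1 := congrArg (fun φ => φ.f n)
    (biprod.inl_desc α (mappingCocone.fst (𝟙 L)) : biprod.inl ≫ H2facπ K L α = _)
  have hπ2 := congrArg (fun φ => φ.f n)
    (biprod.inr_desc α (mappingCocone.fst (𝟙 L)) : biprod.inr ≫ H2facπ K L α = _)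
  simp only [HomologicalComplex.add_f_apply, HomologicalComplex.comp_f,
    HomologicalComplex.id_f, HomologicalComplex.zero_f] at h11 h12 h21 h22 htot hπ1 hπ2
  have hid := mappingCocone.id_X (𝟙 L) n (n - 1) (by lia)
  have hπ : (H2facπ K L α).f n =
      (biprod.fst : H2fac K L ⟶ K).f n ≫ α.f n +
        (biprod.snd : H2fac K L ⟶ H2cc L).f n ≫ (mappingCocone.fst (𝟙 L)).f n := by
    rw [← cancel_epi (𝟙 _), ← htot]
    simp only [Preadditive.add_comp, assoc, hπ1, hπ2, Preadditive.comp_add]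
    rw [reassoc_of% h11, reassoc_of% h12, reassoc_of% h21, reassoc_of% h22]
    simp
  refine ⟨K.X n ⊞ L.X (n - 1), ?_⟩
  refine H2_exists_biprod_iso_of_split ((H2facπ K L α).f n)
    (biprod.desc ((biprod.inl : K ⟶ H2fac K L).f n -
        α.f n ≫ (mappingCocone.inl (𝟙 L)).v n n (add_zero n) ≫
          (biprod.inr : H2cc L ⟶ H2fac K L).f n)
      ((mappingCocone.inr (𝟙 L)).1.v (n - 1) n (by lia) ≫
        (biprod.inr : H2cc L ⟶ H2fac K L).f n))
    (biprod.lift ((biprod.fst : H2fac K L ⟶ K).f n)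
      ((biprod.snd : H2fac K L ⟶ H2cc L).f n ≫ (mappingCocone.snd (𝟙 L)).v n (n - 1) (by lia)))
    ((mappingCocone.inl (𝟙 L)).v n n (add_zero n) ≫ (biprod.inr : H2cc L ⟶ H2fac K L).f n)
    ?_ ?_ ?_ ?_ ?_
  · ext <;> simp [h11, h12, h21, h22, reassoc_of% h12, reassoc_of% h22, reassoc_of% h21]
  · simp [hπ2]
  · ext <;> simp [hπ1, hπ2]
  · ext <;> simp [h21, reassoc_of% h22]
  · rw [hπ]
    simp only [biprod.lift_desc, Preadditive.comp_sub, Preadditive.add_comp, assoc]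
    have key : (biprod.snd : H2fac K L ⟶ H2cc L).f n ≫ (biprod.inr : H2cc L ⟶ H2fac K L).f n =
        (biprod.snd : H2fac K L ⟶ H2cc L).f n ≫
          ((mappingCocone.fst (𝟙 L)).f n ≫ (mappingCocone.inl (𝟙 L)).v n n (add_zero n) +
            (mappingCocone.snd (𝟙 L)).v n (n - 1) (by lia) ≫
              (mappingCocone.inr (𝟙 L)).1.v (n - 1) n (by lia)) ≫
            (biprod.inr : H2cc L ⟶ H2fac K L).f n := by
      rw [hid]; simp
    rw [← htot, key]
    simp only [Preadditive.comp_add, Preadditive.add_comp, assoc]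
    abel

end Cx

end Groth.Agent.H2
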