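import Mathlib

set_option autoImplicit false
universe u

namespace Groth.Agent.H2

open AlgebraicGeometry CategoryTheory

/-- Two ring maps `A ⟶ Γ(X, U)` that agree after composing from a finite-type `R ⟶ A`
and agree on germs at `x`, agree after restricting to a smaller neighbourhood of `x`. -/
lemma H2_exists_res_eq_of_germ_eq {X : Scheme.{u}} {R A : CommRingCat.{u}} {U : X.Opens} {x : X}
    (hxU : x ∈ U) (φRA : R ⟶ A) (hφRA : RingHom.FiniteType φRA.hom)
    (α β : A ⟶ Γ(X, U)) (hαβ : φRA ≫ α = φRA ≫ β)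
    (hgerm : α ≫ X.presheaf.germ U x hxU = β ≫ X.presheaf.germ U x hxU) :
    ∃ (V : X.Opens) (_ : x ∈ V) (i : V ≤ U),
      α ≫ X.presheaf.map (homOfLE i).op = β ≫ X.presheaf.map (homOfLE i).op := by
  classical
  let := φRA.hom.toAlgebra
  obtain ⟨s, hs⟩ := hφRA
  have key : ∀ t : A, ∃ (W : X.Opens) (_ : x ∈ W) (i : W ≤ U),
      X.presheaf.map (homOfLE i).op (α t) = X.presheaf.map (homOfLE i).op (β t) := by
    intro t
    have h1 : X.presheaf.germ U x hxU (α t) = X.presheaf.germ U x hxU (β t) := by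
      have := congr($hgerm t)
      simpa using this
    obtain ⟨W, hxW, iU, iV, e⟩ := X.presheaf.germ_eq x hxU hxU _ _ h1
    exact ⟨W, hxW, iU.le, e⟩
  choose W hxW hWU hW using key
  have H : x ∈ s.inf W ⊓ U := by
    rw [← SetLike.mem_coe, TopologicalSpace.Opens.coe_inf, TopologicalSpace.Opens.coe_finset_inf]
    exact ⟨by simpa using fun x _ ↦ hxW x, hxU⟩
  refine ⟨s.inf W ⊓ U, H, inf_le_right, ?_⟩
  let := (φRA ≫ α ≫ X.presheaf.map (homOfLE (inf_le_right (a := s.inf W) (b := U))).op).hom.toAlgebra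
  let α' : A →ₐ[R] Γ(X, s.inf W ⊓ U) :=
    { (α ≫ X.presheaf.map (homOfLE (inf_le_right (a := s.inf W) (b := U))).op).hom with
      commutes' := fun r ↦ rfl }
  let β' : A →ₐ[R] Γ(X, s.inf W ⊓ U) :=
    { (β ≫ X.presheaf.map (homOfLE (inf_le_right (a := s.inf W) (b := U))).op).hom with
      commutes' := fun r ↦ by
        have := congr($hαβ r)
        change X.presheaf.map _ (β (φRA r)) = X.presheaf.map _ (α (φRA r))
        simp only [CommRingCat.comp_apply] at this
        rw [this] }
  suffices α' = β' by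
    ext t
    exact congr($this t)
  apply AlgHom.ext_of_adjoin_eq_top hs
  intro t ht
  change X.presheaf.map _ (α t) = X.presheaf.map _ (β t)
  have hle : s.inf W ⊓ U ≤ W t := inf_le_left.trans (Finset.inf_le ht)
  have hmap : X.presheaf.map (homOfLE (inf_le_right (a := s.inf W) (b := U))).op =
      X.presheaf.map (homOfLE (hWU t)).op ≫ X.presheaf.map (homOfLE hle).op := by
    rw [← Functor.map_comp]; rfl
  rw [hmap, CommRingCat.comp_apply, CommRingCat.comp_apply, hW t]

end Groth.Agent.H2
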