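import Mathlib
import Groth.Agent.Lib.helper2.IdealDescent

set_option autoImplicit false
universe u
open AlgebraicGeometry CategoryTheory CategoryTheory.Limits

namespace Groth.Agent.H2

theorem H2_ker_of_isPullback_closedImmersion {P Z X Y : Scheme.{u}} {φ : P ⟶ Z} {j : P ⟶ X}
    {i : Z ⟶ Y} {f : X ⟶ Y} [IsClosedImmersion i] (h : IsPullback φ j i f) :
    j.ker = i.ker.comap f := by
  have e := h.flip.isoPullback_hom_fst
  rw [← Scheme.IdealSheafData.ker_fst_of_isClosedImmersion, ← e, Scheme.Hom.ker_comp_of_isIso]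

theorem H2_subobject_closed_pullback {X Y : Scheme.{u}} (f : X ⟶ Y) (y : Subobject Y)
    (hy : IsClosedImmersion y.arrow) : IsClosedImmersion ((Subobject.pullback f).obj y).arrow :=
  MorphismProperty.of_isPullback (P := @IsClosedImmersion) (Subobject.isPullback f y) hy

theorem H2_subobject_ker_pullback {X Y : Scheme.{u}} (f : X ⟶ Y) (y : Subobject Y)
    (hy : IsClosedImmersion y.arrow) :
    ((Subobject.pullback f).obj y).arrow.ker = y.arrow.ker.comap f :=
  H2_ker_of_isPullback_closedImmersion (Subobject.isPullback f y)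

theorem H2_subobject_eq_of_ker_eq {X : Scheme.{u}} (y₁ y₂ : Subobject X)
    (h₁ : IsClosedImmersion y₁.arrow) (h₂ : IsClosedImmersion y₂.arrow)
    (h : y₁.arrow.ker = y₂.arrow.ker) : y₁ = y₂ := by
  have : IsIso (IsClosedImmersion.lift y₂.arrow y₁.arrow h.symm.le) :=
    IsClosedImmersion.isIso_lift _ _ h.symm
  exact Subobject.eq_of_comm (asIso (IsClosedImmersion.lift y₂.arrow y₁.arrow h.symm.le))
    (IsClosedImmersion.lift_fac _ _ _)

theorem H2_closed_subobject_bijOn {X X' : Scheme.{u}} (π : X ⟶ X')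
    [Flat π] [Surjective π] [QuasiCompact π] :
    Set.BijOn (Subobject.pullback π).obj
      {Y' : Subobject X' | IsClosedImmersion Y'.arrow}
      {Y : Subobject X | IsClosedImmersion Y.arrow ∧
        (Subobject.pullback (pullback.fst π π)).obj Y =
          (Subobject.pullback (pullback.snd π π)).obj Y} := by
  refine ⟨?_, ?_, ?_⟩
  · intro Y' hY'
    refine ⟨H2_subobject_closed_pullback π Y' hY', ?_⟩
    rw [← Subobject.pullback_comp, ← Subobject.pullback_comp, pullback.condition]
  · intro Y₁ h₁ Y₂ h₂ h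
    apply H2_subobject_eq_of_ker_eq Y₁ Y₂ h₁ h₂
    apply H2_comap_injective_of_flat_surjective π
    change Y₁.arrow.ker.comap π = Y₂.arrow.ker.comap π
    rw [← H2_subobject_ker_pullback π Y₁ h₁, ← H2_subobject_ker_pullback π Y₂ h₂, h]
  · rintro Y ⟨hY, hYeq⟩
    have hk : Y.arrow.ker.comap (pullback.fst π π) = Y.arrow.ker.comap (pullback.snd π π) := by
      rw [← H2_subobject_ker_pullback _ Y hY, ← H2_subobject_ker_pullback _ Y hY, hYeq]
    obtain ⟨J, hJ⟩ := H2_exists_idealSheaf_descent π Y.arrow.ker hk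
    have harrow : IsClosedImmersion (Subobject.mk J.subschemeι).arrow := by
      have h2 : (Subobject.mk J.subschemeι).arrow =
          (Subobject.underlyingIso J.subschemeι).hom ≫ J.subschemeι :=
        (Subobject.underlyingIso_hom_comp_eq_mk J.subschemeι).symm
      rw [h2]
      infer_instance
    refine ⟨Subobject.mk J.subschemeι, harrow, ?_⟩
    apply H2_subobject_eq_of_ker_eq _ _ (H2_subobject_closed_pullback π _ harrow) hY
    rw [H2_subobject_ker_pullback π _ harrow, ← hJ]
    congr 1
    have h2 : (Subobject.mk J.subschemeι).arrow =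
        (Subobject.underlyingIso J.subschemeι).hom ≫ J.subschemeι :=
      (Subobject.underlyingIso_hom_comp_eq_mk J.subschemeι).symm
    rw [h2, Scheme.Hom.ker_comp_of_isIso, Scheme.IdealSheafData.ker_subschemeι]

end Groth.Agent.H2
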