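import Mathlib

set_option autoImplicit false
universe u
open AlgebraicGeometry CategoryTheory CategoryTheory.Limits

namespace Groth.Agent.H2

theorem H2_range_of_isIso {A B : Scheme.{u}} (e : A ⟶ B) [IsIso e] :
    Set.range e = Set.univ := Set.range_eq_univ.mpr e.surjective

theorem H2_range_of_isPullback {P Z X Y : Scheme.{u}} {φ : P ⟶ Z} {j : P ⟶ X}
    {i : Z ⟶ Y} {f : X ⟶ Y} (h : IsPullback φ j i f) :
    Set.range j = f ⁻¹' Set.range i := by
  have e := h.isoPullback_hom_snd
  rw [← Scheme.Pullback.range_snd, ← e, Scheme.Hom.comp_base, TopCat.coe_comp, Set.range_comp,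
    H2_range_of_isIso, Set.image_univ]

theorem H2_subobject_open_pullback {X Y : Scheme.{u}} (f : X ⟶ Y) (y : Subobject Y)
    (hy : IsOpenImmersion y.arrow) : IsOpenImmersion ((Subobject.pullback f).obj y).arrow :=
  MorphismProperty.of_isPullback (P := @IsOpenImmersion) (Subobject.isPullback f y) hy

theorem H2_subobject_range_pullback {X Y : Scheme.{u}} (f : X ⟶ Y) (y : Subobject Y) :
    Set.range ((Subobject.pullback f).obj y).arrow = f ⁻¹' Set.range y.arrow :=
  H2_range_of_isPullback (Subobject.isPullback f y)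

theorem H2_subobject_eq_of_range_eq {X : Scheme.{u}} (y₁ y₂ : Subobject X)
    (h₁ : IsOpenImmersion y₁.arrow) (h₂ : IsOpenImmersion y₂.arrow)
    (h : Set.range y₁.arrow = Set.range y₂.arrow) : y₁ = y₂ :=
  Subobject.eq_of_comm (IsOpenImmersion.isoOfRangeEq y₁.arrow y₂.arrow h)
    (IsOpenImmersion.isoOfRangeEq_hom_fac _ _ _)

theorem H2_open_subobject_bijOn {X X' : Scheme.{u}} (π : X ⟶ X')
    [Flat π] [Surjective π] [QuasiCompact π] :
    Set.BijOn (Subobject.pullback π).obj
      {Y' : Subobject X' | IsOpenImmersion Y'.arrow}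
      {Y : Subobject X | IsOpenImmersion Y.arrow ∧
        (Subobject.pullback (pullback.fst π π)).obj Y =
          (Subobject.pullback (pullback.snd π π)).obj Y} := by
  refine ⟨?_, ?_, ?_⟩
  · intro Y' hY'
    refine ⟨H2_subobject_open_pullback π Y' hY', ?_⟩
    rw [← Subobject.pullback_comp, ← Subobject.pullback_comp, pullback.condition]
  · intro Y₁ h₁ Y₂ h₂ h
    apply H2_subobject_eq_of_range_eq Y₁ Y₂ h₁ h₂
    apply π.surjective.preimage_injective
    rw [← H2_subobject_range_pullback π Y₁, ← H2_subobject_range_pullback π Y₂, h]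
  · rintro Y ⟨hY, hYeq⟩
    set U : Set X := Set.range Y.arrow with hU
    have hUo : IsOpen U := Y.arrow.isOpenEmbedding.isOpen_range
    have hk : (pullback.fst π π) ⁻¹' U = (pullback.snd π π) ⁻¹' U := by
      rw [hU, ← H2_subobject_range_pullback _ Y, ← H2_subobject_range_pullback _ Y, hYeq]
    have hsat : π ⁻¹' (π '' U) = U := by
      apply subset_antisymm
      · rintro x ⟨u, hu, hux⟩
        obtain ⟨z, hz1, hz2⟩ :=
          Scheme.Pullback.exists_preimage_pullback (f := π) (g := π) u x hux
        have : z ∈ (pullback.fst π π) ⁻¹' U := by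
          rw [Set.mem_preimage, hz1]; exact hu
        rw [hk, Set.mem_preimage, hz2] at this
        exact this
      · exact Set.subset_preimage_image _ _
    have hq := Flat.isQuotientMap_of_surjective π
    have hVo : IsOpen (π '' U) := by
      rw [← hq.isOpen_preimage, hsat]; exact hUo
    let V : X'.Opens := ⟨π '' U, hVo⟩
    have h2 : (Subobject.mk V.ι).arrow = (Subobject.underlyingIso V.ι).hom ≫ V.ι :=
      (Subobject.underlyingIso_hom_comp_eq_mk V.ι).symm
    have harrow : IsOpenImmersion (Subobject.mk V.ι).arrow := by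
      rw [h2]
      infer_instance
    have hrange : Set.range (Subobject.mk V.ι).arrow = π '' U := by
      rw [h2, Scheme.Hom.comp_base, TopCat.coe_comp, Set.range_comp,
        H2_range_of_isIso, Set.image_univ, Scheme.Opens.range_ι]
      rfl
    refine ⟨Subobject.mk V.ι, harrow, ?_⟩
    apply H2_subobject_eq_of_range_eq _ _ (H2_subobject_open_pullback π _ harrow) hY
    rw [H2_subobject_range_pullback π, hrange, hsat]

end Groth.Agent.H2
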