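import Mathlib

set_option autoImplicit false
universe u
open AlgebraicGeometry CategoryTheory CategoryTheory.Limits

namespace Groth.Agent.H2

/-- two morphisms from the spectrum of a domain `R` to a T1 scheme that agree on the generic
point `Spec K` are equal. -/
theorem H2_hom_ext_of_t1 {X : Scheme.{u}} [T1Space X] {R K : Type u} [CommRing R] [IsDomain R]
    [Field K] [Algebra R K] [IsFractionRing R K]
    (l₁ l₂ : Spec (CommRingCat.of R) ⟶ X)
    (h : Spec.map (CommRingCat.ofHom (algebraMap R K)) ≫ l₁ =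
      Spec.map (CommRingCat.ofHom (algebraMap R K)) ≫ l₂) : l₁ = l₂ := by
  -- generic point
  let η : Spec (CommRingCat.of R) := ⟨⊥, Ideal.isPrime_bot⟩
  have hη : ∀ p : Spec (CommRingCat.of R), η ⤳ p := fun p =>
    (PrimeSpectrum.le_iff_specializes (R := R) η p).mp bot_le
  have hconst : ∀ (l : Spec (CommRingCat.of R) ⟶ X) (p : Spec (CommRingCat.of R)), l p = l η := by
    intro l p
    exact ((hη p).map l.continuous).eq.symm
  let ξ : Spec (CommRingCat.of K) := ⟨⊥, Ideal.isPrime_bot⟩
  have hξ : Spec.map (CommRingCat.ofHom (algebraMap R K)) ξ = η := by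
    apply PrimeSpectrum.ext
    change Ideal.comap (algebraMap R K) ⊥ = ⊥
    rw [← RingHom.ker_eq_comap_bot]
    exact (RingHom.injective_iff_ker_eq_bot _).mp (IsFractionRing.injective R K)
  have h12 : l₁ η = l₂ η := by
    rw [← hξ, ← Scheme.Hom.comp_apply, ← Scheme.Hom.comp_apply, h]
  obtain ⟨_, ⟨U₀, hU, rfl⟩, hxU, -⟩ :=
    X.isBasis_affineOpens.exists_subset_of_mem_open (Set.mem_univ (l₁ η)) isOpen_univ
  obtain ⟨U, rfl⟩ : ∃ U : X.Opens, U = U₀ := ⟨U₀, rfl⟩
  have hU' : IsAffineOpen U := hU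
  have hr₁ : Set.range l₁ ⊆ Set.range U.ι := by
    rintro _ ⟨p, rfl⟩
    rw [Scheme.Opens.range_ι, hconst l₁ p]
    exact hxU
  have hr₂ : Set.range l₂ ⊆ Set.range U.ι := by
    rintro _ ⟨p, rfl⟩
    rw [Scheme.Opens.range_ι, hconst l₂ p, ← h12]
    exact hxU
  have e₁ : IsOpenImmersion.lift U.ι l₁ hr₁ ≫ U.ι = l₁ := IsOpenImmersion.lift_fac _ _ _
  have e₂ : IsOpenImmersion.lift U.ι l₂ hr₂ ≫ U.ι = l₂ := IsOpenImmersion.lift_fac _ _ _
  have : IsAffine U.toScheme := hU'
  have key : IsOpenImmersion.lift U.ι l₁ hr₁ = IsOpenImmersion.lift U.ι l₂ hr₂ := by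
    apply ext_of_isAffine
    have h' : Spec.map (CommRingCat.ofHom (algebraMap R K)) ≫ IsOpenImmersion.lift U.ι l₁ hr₁ =
        Spec.map (CommRingCat.ofHom (algebraMap R K)) ≫ IsOpenImmersion.lift U.ι l₂ hr₂ := by
      rw [← cancel_mono U.ι, Category.assoc, Category.assoc, e₁, e₂, h]
    have h'' := congrArg Scheme.Hom.appTop h'
    rw [Scheme.Hom.comp_appTop, Scheme.Hom.comp_appTop] at h''
    have : Mono (Spec.map (CommRingCat.ofHom (algebraMap R K))).appTop := by
      have hnat := Scheme.ΓSpecIso_naturality (CommRingCat.ofHom (algebraMap R K))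
      have hmono : Mono (CommRingCat.ofHom (algebraMap R K)) :=
        ConcreteCategory.mono_of_injective _ (IsFractionRing.injective R K)
      have : (Spec.map (CommRingCat.ofHom (algebraMap R K))).appTop =
          (Scheme.ΓSpecIso (CommRingCat.of R)).hom ≫ CommRingCat.ofHom (algebraMap R K) ≫
            (Scheme.ΓSpecIso (CommRingCat.of K)).inv := by
        rw [← Category.assoc, ← hnat, Category.assoc, Iso.hom_inv_id, Category.comp_id]
      rw [this]
      infer_instance
    exact (cancel_mono _).mp h''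
  rw [← e₁, ← e₂, key]

theorem H2_isSeparated_of_t2 (X : Scheme.{u}) [T2Space X] : X.IsSeparated := by
  have hqs : QuasiSeparatedSpace X := by
    constructor
    intro U V hUo hUc hVo hVc
    exact hUc.inter_right hVc.isClosed
  constructor
  apply IsSeparated.of_valuativeCriterion
  intro S
  constructor
  intro l₁ l₂
  ext1
  exact H2_hom_ext_of_t1 l₁.l l₂.l (l₁.fac_left.trans l₂.fac_left.symm)

end Groth.Agent.H2
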