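import Mathlib

set_option autoImplicit false
universe u

namespace Groth.Agent.H2

open CategoryTheory Limits Topology

/-- The induced topology along a ring hom to a topological ring is a ring topology. -/
lemma H2_isTopologicalRing_induced {A B : Type u} [CommRing A] [CommRing B] [τB : TopologicalSpace B]
    [IsTopologicalRing B] (φ : A →+* B) :
    @IsTopologicalRing A (TopologicalSpace.induced φ τB) _ := by
  letI : TopologicalSpace A := TopologicalSpace.induced φ τB
  have hind : IsInducing φ := ⟨rfl⟩
  haveI : ContinuousAdd A := hind.continuousAdd φ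
  haveI : ContinuousMul A := hind.continuousMul φ
  haveI : ContinuousNeg A := hind.continuousNeg (map_neg φ)
  exact {}

/-- An infimum of ring topologies is a ring topology. -/
lemma H2_isTopologicalRing_sInf {A : Type u} [CommRing A] (S : Set (TopologicalSpace A))
    (h : ∀ t ∈ S, @IsTopologicalRing A t _) : @IsTopologicalRing A (sInf S) _ := by
  letI : TopologicalSpace A := sInf S
  haveI : ContinuousAdd A := continuousAdd_sInf (fun t ht =>
    letI := t; haveI := h t ht; inferInstance)
  haveI : ContinuousMul A := continuousMul_sInf (fun t ht =>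
    letI := t; haveI := h t ht; inferInstance)
  haveI : ContinuousNeg A := continuousNeg_sInf (fun t ht =>
    letI := t; haveI := h t ht; inferInstance)
  exact {}

section

variable {J : Type u} [Category.{u} J] (F : J ⥤ TopCommRingCat.{u})

/-- The underlying ring of the colimit. -/
noncomputable abbrev H2TCR_A : CommRingCat.{u} :=
  colimit (F ⋙ forget₂ TopCommRingCat CommRingCat)

/-- The ring homs into the colimit ring. -/
noncomputable def H2TCR_ι (j : J) : (F.obj j) →+* (H2TCR_A F) :=
  (colimit.ι (F ⋙ forget₂ TopCommRingCat CommRingCat) j).hom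

lemma H2TCR_ι_naturality {i j : J} (f : i ⟶ j) (x : F.obj i) :
    H2TCR_ι F j ((F.map f).val x) = H2TCR_ι F i x := by
  have := colimit.w (F ⋙ forget₂ TopCommRingCat CommRingCat) f
  exact ConcreteCategory.congr_hom this x

/-- The set of ring topologies making all coprojections continuous. -/
def H2TCR_S : Set (TopologicalSpace (H2TCR_A F)) :=
  {τ | @IsTopologicalRing _ τ _ ∧ ∀ j, @Continuous _ _ (F.obj j).isTopologicalSpace τ (H2TCR_ι F j)}

/-- The colimit topology. -/
noncomputable def H2TCR_top : TopologicalSpace (H2TCR_A F) := sInf (H2TCR_S F)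

lemma H2TCR_isTopologicalRing : @IsTopologicalRing _ (H2TCR_top F) _ :=
  H2_isTopologicalRing_sInf _ (fun _ ht => ht.1)

lemma H2TCR_continuous_ι (j : J) :
    @Continuous _ _ (F.obj j).isTopologicalSpace (H2TCR_top F) (H2TCR_ι F j) :=
  continuous_sInf_rng.2 (fun _ ht => ht.2 j)

/-- The colimit object. -/
noncomputable def H2TCR_pt : TopCommRingCat.{u} :=
  @TopCommRingCat.of (H2TCR_A F) _ (H2TCR_top F) (H2TCR_isTopologicalRing F)

/-- The colimit cocone. -/
noncomputable def H2TCR_cocone : Cocone F where
  pt := H2TCR_pt F
  ι :=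
    { app := fun j => ⟨H2TCR_ι F j, H2TCR_continuous_ι F j⟩
      naturality := by
        intro i j f
        apply Subtype.ext
        apply RingHom.ext
        intro x
        exact H2TCR_ι_naturality F f x }

/-- The ring hom out of the colimit induced by a cocone. -/
noncomputable def H2TCR_descHom (s : Cocone F) : (H2TCR_A F) →+* s.pt :=
  (colimit.desc (F ⋙ forget₂ TopCommRingCat CommRingCat)
    ((forget₂ TopCommRingCat CommRingCat).mapCocone s)).hom

lemma H2TCR_descHom_ι (s : Cocone F) (j : J) (x : F.obj j) :
    H2TCR_descHom F s (H2TCR_ι F j x) = (s.ι.app j).val x := by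
  have := colimit.ι_desc ((forget₂ TopCommRingCat CommRingCat).mapCocone s) j
  exact ConcreteCategory.congr_hom this x

lemma H2TCR_descHom_continuous (s : Cocone F) :
    @Continuous _ _ (H2TCR_top F) s.pt.isTopologicalSpace (H2TCR_descHom F s) := by
  rw [continuous_iff_le_induced]
  refine sInf_le ⟨H2_isTopologicalRing_induced _, fun j => ?_⟩
  rw [continuous_induced_rng]
  have : (H2TCR_descHom F s) ∘ (H2TCR_ι F j) = (s.ι.app j).val := by
    funext x
    exact H2TCR_descHom_ι F s j x
  rw [this]
  exact (s.ι.app j).2

lemma H2TCR_hom_ext {B : Type u} [CommRing B] (f g : (H2TCR_A F) →+* B)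
    (h : ∀ j (x : F.obj j), f (H2TCR_ι F j x) = g (H2TCR_ι F j x)) : f = g := by
  have : CommRingCat.ofHom f = CommRingCat.ofHom g := by
    apply colimit.hom_ext
    intro j
    ext x
    exact h j x
  exact congrArg CommRingCat.Hom.hom this

/-- The cocone is colimiting. -/
noncomputable def H2TCR_isColimit : IsColimit (H2TCR_cocone F) where
  desc s := ⟨H2TCR_descHom F s, H2TCR_descHom_continuous F s⟩
  fac s j := by
    apply Subtype.ext
    apply RingHom.ext
    intro x
    exact H2TCR_descHom_ι F s j x
  uniq s m hm := by
    apply Subtype.ext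
    apply H2TCR_hom_ext
    intro j x
    rw [H2TCR_descHom_ι]
    have := congrArg (fun f => f.val x) (hm j)
    exact this

end

instance H2TCR_hasColimits : HasColimits TopCommRingCat.{u} :=
  ⟨fun _ _ => ⟨fun F => ⟨⟨⟨H2TCR_cocone F, H2TCR_isColimit F⟩⟩⟩⟩⟩

noncomputable instance H2TCR_preservesColimits :
    PreservesColimits (forget₂ TopCommRingCat.{u} CommRingCat.{u}) :=
  ⟨fun {J} _ => ⟨fun {F} =>
    preservesColimit_of_preserves_colimit_cocone (H2TCR_isColimit F)
      (IsColimit.ofIsoColimit (colimit.isColimit (F ⋙ forget₂ TopCommRingCat CommRingCat))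
        (Cocone.ext (Iso.refl _) (fun j => by
          apply CommRingCat.hom_ext
          rfl)))⟩⟩

end Groth.Agent.H2
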