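import Mathlib
import Groth.Agent.Lib.helper2.TopCRColim

set_option autoImplicit false
universe u

namespace Groth.Agent.H2

open CategoryTheory Limits Topology

section

variable {J : Type u} [Category.{u} J] (F : J ⥤ TopCommRingCat.{u})

/-- The underlying ring of the limit. -/
noncomputable abbrev H2TCRL_A : CommRingCat.{u} :=
  limit (F ⋙ forget₂ TopCommRingCat CommRingCat)

/-- The projections. -/
noncomputable def H2TCRL_π (j : J) : (H2TCRL_A F) →+* (F.obj j) :=
  (limit.π (F ⋙ forget₂ TopCommRingCat CommRingCat) j).hom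

lemma H2TCRL_π_naturality {i j : J} (f : i ⟶ j) (a : H2TCRL_A F) :
    (F.map f).val (H2TCRL_π F i a) = H2TCRL_π F j a := by
  have := limit.w (F ⋙ forget₂ TopCommRingCat CommRingCat) f
  exact ConcreteCategory.congr_hom this a

lemma H2TCRL_existsUnique (x : ∀ j, F.obj j)
    (hx : ∀ {i j : J} (f : i ⟶ j), (F.map f).val (x i) = x j) :
    ∃! a : H2TCRL_A F, ∀ j, H2TCRL_π F j a = x j := by
  have h := (Types.isLimit_iff ((forget CommRingCat).mapCone
    (limit.cone (F ⋙ forget₂ TopCommRingCat CommRingCat)))).mp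
    ⟨isLimitOfPreserves _ (limit.isLimit _)⟩ x (fun f => hx f)
  exact h

/-- The limit topology. -/
noncomputable def H2TCRL_top : TopologicalSpace (H2TCRL_A F) :=
  ⨅ j, TopologicalSpace.induced (H2TCRL_π F j) (F.obj j).isTopologicalSpace

lemma H2TCRL_isTopologicalRing : @IsTopologicalRing _ (H2TCRL_top F) _ := by
  unfold H2TCRL_top
  rw [← sInf_range]
  apply H2_isTopologicalRing_sInf
  rintro t ⟨j, rfl⟩
  exact H2_isTopologicalRing_induced _

lemma H2TCRL_continuous_π (j : J) :
    @Continuous _ _ (H2TCRL_top F) (F.obj j).isTopologicalSpace (H2TCRL_π F j) := by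
  rw [continuous_iff_le_induced]
  exact iInf_le _ j

lemma H2TCRL_continuous_of {X : Type u} [TopologicalSpace X] (g : X → H2TCRL_A F)
    (hg : ∀ j, @Continuous _ _ _ (F.obj j).isTopologicalSpace (fun x => H2TCRL_π F j (g x))) :
    @Continuous _ _ _ (H2TCRL_top F) g := by
  unfold H2TCRL_top
  rw [continuous_iInf_rng]
  intro j
  rw [continuous_induced_rng]
  exact hg j

/-- The limit object. -/
noncomputable def H2TCRL_pt : TopCommRingCat.{u} :=
  @TopCommRingCat.of (H2TCRL_A F) _ (H2TCRL_top F) (H2TCRL_isTopologicalRing F)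

/-- The limit cone. -/
noncomputable def H2TCRL_cone : Cone F where
  pt := H2TCRL_pt F
  π :=
    { app := fun j => ⟨H2TCRL_π F j, H2TCRL_continuous_π F j⟩
      naturality := by
        intro i j f
        apply Subtype.ext
        apply RingHom.ext
        intro x
        exact (H2TCRL_π_naturality F f x).symm }

/-- The ring hom into the limit induced by a cone. -/
noncomputable def H2TCRL_liftHom (s : Cone F) : s.pt →+* (H2TCRL_A F) :=
  (limit.lift (F ⋙ forget₂ TopCommRingCat CommRingCat)
    ((forget₂ TopCommRingCat CommRingCat).mapCone s)).hom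

lemma H2TCRL_liftHom_π (s : Cone F) (j : J) (x : s.pt) :
    H2TCRL_π F j (H2TCRL_liftHom F s x) = (s.π.app j).val x := by
  have := limit.lift_π ((forget₂ TopCommRingCat CommRingCat).mapCone s) j
  exact ConcreteCategory.congr_hom this x

lemma H2TCRL_ext (a b : H2TCRL_A F) (h : ∀ j, H2TCRL_π F j a = H2TCRL_π F j b) : a = b := by
  have hx : ∀ {i j : J} (f : i ⟶ j), (F.map f).val (H2TCRL_π F i a) = H2TCRL_π F j a :=
    fun f => H2TCRL_π_naturality F f a
  obtain ⟨c, -, hc⟩ := H2TCRL_existsUnique F (fun j => H2TCRL_π F j a) hx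
  rw [hc a (fun _ => rfl), hc b (fun j => (h j).symm)]

lemma H2TCRL_liftHom_continuous (s : Cone F) :
    @Continuous _ _ s.pt.isTopologicalSpace (H2TCRL_top F) (H2TCRL_liftHom F s) := by
  apply H2TCRL_continuous_of
  intro j
  have : (fun x => H2TCRL_π F j (H2TCRL_liftHom F s x)) = (s.π.app j).val := by
    funext x
    exact H2TCRL_liftHom_π F s j x
  rw [this]
  exact (s.π.app j).2

/-- The cone is limiting. -/
noncomputable def H2TCRL_isLimit : IsLimit (H2TCRL_cone F) where
  lift s := ⟨H2TCRL_liftHom F s, H2TCRL_liftHom_continuous F s⟩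
  fac s j := by
    apply Subtype.ext
    apply RingHom.ext
    intro x
    exact H2TCRL_liftHom_π F s j x
  uniq s m hm := by
    apply Subtype.ext
    apply RingHom.ext
    intro x
    apply H2TCRL_ext
    intro j
    refine Eq.trans ?_ (H2TCRL_liftHom_π F s j x).symm
    exact congrArg (fun f => f.val x) (hm j)

/-- The function into the limit induced by a cone of spaces. -/
noncomputable def H2TCRL_liftTop (s : Cone (F ⋙ forget₂ TopCommRingCat TopCat)) (y : s.pt) :
    H2TCRL_A F :=
  (H2TCRL_existsUnique F (fun j => (s.π.app j).hom y) (fun {i j} f => by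
    have := s.w f
    exact ConcreteCategory.congr_hom this y)).choose

lemma H2TCRL_liftTop_π (s : Cone (F ⋙ forget₂ TopCommRingCat TopCat)) (y : s.pt) (j : J) :
    H2TCRL_π F j (H2TCRL_liftTop F s y) = (s.π.app j).hom y :=
  (H2TCRL_existsUnique F (fun j => (s.π.app j).hom y) (fun {i j} f => by
    have := s.w f
    exact ConcreteCategory.congr_hom this y)).choose_spec.1 j

/-- The image cone in `TopCat` is limiting. -/
noncomputable def H2TCRL_isLimitTop :
    IsLimit ((forget₂ TopCommRingCat TopCat).mapCone (H2TCRL_cone F)) where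
  lift s := TopCat.ofHom ⟨H2TCRL_liftTop F s, by
    apply H2TCRL_continuous_of
    intro j
    have : (fun x => H2TCRL_π F j (H2TCRL_liftTop F s x)) = (s.π.app j).hom := by
      funext x
      exact H2TCRL_liftTop_π F s x j
    rw [this]
    exact (s.π.app j).hom.continuous⟩
  fac s j := by
    apply TopCat.hom_ext
    apply ContinuousMap.ext
    intro x
    exact H2TCRL_liftTop_π F s x j
  uniq s m hm := by
    apply TopCat.hom_ext
    apply ContinuousMap.ext
    intro x
    apply H2TCRL_ext
    intro j
    refine Eq.trans ?_ (H2TCRL_liftTop_π F s x j).symm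
    exact ConcreteCategory.congr_hom (hm j) x

end

instance H2TCRL_hasLimits : HasLimits TopCommRingCat.{u} :=
  ⟨fun _ _ => ⟨fun F => ⟨⟨⟨H2TCRL_cone F, H2TCRL_isLimit F⟩⟩⟩⟩⟩

noncomputable instance H2TCRL_preservesLimits :
    PreservesLimits (forget₂ TopCommRingCat.{u} CommRingCat.{u}) :=
  ⟨fun {J} _ => ⟨fun {F} =>
    preservesLimit_of_preserves_limit_cone (H2TCRL_isLimit F)
      (IsLimit.ofIsoLimit (limit.isLimit (F ⋙ forget₂ TopCommRingCat CommRingCat))
        (Cone.ext (Iso.refl _) (fun j => by
          apply CommRingCat.hom_ext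
          rfl)))⟩⟩

noncomputable instance H2TCRL_preservesLimitsTop :
    PreservesLimits (forget₂ TopCommRingCat.{u} TopCat.{u}) :=
  ⟨fun {J} _ => ⟨fun {F} =>
    preservesLimit_of_preserves_limit_cone (H2TCRL_isLimit F) (H2TCRL_isLimitTop F)⟩⟩

end Groth.Agent.H2
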