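import Mathlib

set_option autoImplicit false
universe u
open TopologicalSpace Topology

namespace Groth.Agent.H2

variable {X : Type*} [TopologicalSpace X]

theorem H2_isPreirreducible_of_image {Y : Type*} [TopologicalSpace Y] {f : Y → X}
    (hf : IsInducing f) {s : Set Y} (h : IsPreirreducible (f '' s)) : IsPreirreducible s := by
  intro u v hu hv hsu hsv
  obtain ⟨u', hu', rfl⟩ := hf.isOpen_iff.mp hu
  obtain ⟨v', hv', rfl⟩ := hf.isOpen_iff.mp hv
  obtain ⟨y₁, hy₁s, hy₁u⟩ := hsu
  obtain ⟨y₂, hy₂s, hy₂v⟩ := hsv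
  obtain ⟨_, ⟨y, hys, rfl⟩, hyu, hyv⟩ := h u' v' hu' hv' ⟨f y₁, ⟨y₁, hy₁s, rfl⟩, hy₁u⟩
    ⟨f y₂, ⟨y₂, hy₂s, rfl⟩, hy₂v⟩
  exact ⟨y, hys, hyu, hyv⟩

/-- key lemma: a chain of irreducible closed subsets of `X` each of which meets `Y` in a dense
subset gives a chain of the same length in `Y`. -/
theorem H2_length_le_dim_of_dense (Y : Set X) (p : LTSeries (IrreducibleCloseds X))
    (h : ∀ j, (p j : Set X) ⊆ closure ((p j : Set X) ∩ Y)) :
    (p.length : WithBot ℕ∞) ≤ topologicalKrullDim Y := by
  have hcl : ∀ j, closure ((p j : Set X) ∩ Y) = (p j : Set X) := fun j =>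
    le_antisymm (closure_minimal Set.inter_subset_left (p j).isClosed) (h j)
  have himg : ∀ j, (Subtype.val : Y → X) '' (Subtype.val ⁻¹' (p j : Set X)) = (p j : Set X) ∩ Y := by
    intro j
    rw [Subtype.image_preimage_coe, Set.inter_comm]
  have hirr : ∀ j, IsIrreducible ((Subtype.val : Y → X) ⁻¹' (p j : Set X)) := by
    intro j
    have h1 : IsIrreducible ((p j : Set X) ∩ Y) := by
      rw [← isIrreducible_iff_closure, hcl j]
      exact (p j).isIrreducible
    constructor
    · obtain ⟨x, hx⟩ := h1.nonempty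
      exact ⟨⟨x, hx.2⟩, hx.1⟩
    · apply H2_isPreirreducible_of_image IsInducing.subtypeVal
      rw [himg j]
      exact h1.isPreirreducible
  let q : Fin (p.length + 1) → IrreducibleCloseds Y := fun j =>
    ⟨Subtype.val ⁻¹' (p j : Set X), hirr j, (p j).isClosed.preimage continuous_subtype_val⟩
  have hq : StrictMono q := by
    intro j k hjk
    have hlt : p j < p k := p.strictMono hjk
    refine lt_of_le_of_ne ?_ ?_
    · intro y hy
      exact hlt.le hy
    · intro heq
      have h2 : (Subtype.val ⁻¹' (p j : Set X) : Set Y) = Subtype.val ⁻¹' (p k : Set X) :=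
        congrArg (fun Z : IrreducibleCloseds Y => (Z : Set Y)) heq
      have h3 : (p j : Set X) ∩ Y = (p k : Set X) ∩ Y := by
        rw [← himg j, ← himg k, h2]
      have h4 : (p j : Set X) = (p k : Set X) := by
        rw [← hcl j, ← hcl k, h3]
      exact hlt.ne (IrreducibleCloseds.ext h4)
  have := Order.LTSeries.length_le_krullDim (LTSeries.mk p.length q hq)
  exact this

theorem H2_dim_le_of_forall_chain {c : WithBot ℕ∞}
    (h : ∀ p : LTSeries (IrreducibleCloseds X), (p.length : WithBot ℕ∞) ≤ c) :
    topologicalKrullDim X ≤ c := by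
  unfold topologicalKrullDim Order.krullDim
  exact iSup_le h

/-- finite closed cover -/
theorem H2_dim_eq_iSup_of_finite_closed_cover {ι : Type*} [Finite ι] (Y : ι → Set X)
    (hY : ∀ i, IsClosed (Y i)) (hcov : ⋃ i, Y i = Set.univ) :
    topologicalKrullDim X = ⨆ i, topologicalKrullDim (Y i) := by
  classical
  apply le_antisymm
  · apply H2_dim_le_of_forall_chain
    intro p
    have := Fintype.ofFinite ι
    have hlast := (RelSeries.last p).isIrreducible
    obtain ⟨z, hz, hsub⟩ := isIrreducible_iff_sUnion_isClosed.mp hlast (Finset.univ.image Y)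
      (by intro z hz; simp only [Finset.mem_image, Finset.mem_univ, true_and] at hz
          obtain ⟨i, rfl⟩ := hz; exact hY i)
      (by intro x _
          have : x ∈ ⋃ i, Y i := hcov ▸ Set.mem_univ x
          obtain ⟨i, hi⟩ := Set.mem_iUnion.mp this
          exact Set.mem_sUnion.mpr ⟨Y i, by simp, hi⟩)
    simp only [Finset.mem_image, Finset.mem_univ, true_and] at hz
    obtain ⟨i, rfl⟩ := hz
    refine le_trans (H2_length_le_dim_of_dense (Y i) p ?_) (le_iSup (fun i => topologicalKrullDim (Y i)) i)
    intro j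
    have hj : (p j : Set X) ⊆ Y i := fun x hx => hsub ((LTSeries.monotone p (Fin.le_last j)) hx)
    rw [Set.inter_eq_left.mpr hj]
    exact subset_closure
  · exact iSup_le fun i => topologicalKrullDim_subspace_le X (Y i)

/-- open neighbourhood of a point of the smallest member -/
theorem H2_length_le_dim_of_open (U : Set X) (hU : IsOpen U) (p : LTSeries (IrreducibleCloseds X))
    (x : X) (hx0 : x ∈ (p 0 : Set X)) (hxU : x ∈ U) :
    (p.length : WithBot ℕ∞) ≤ topologicalKrullDim U := by
  apply H2_length_le_dim_of_dense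
  intro j
  have hxj : x ∈ (p j : Set X) := (LTSeries.monotone p (Fin.zero_le j)) hx0
  exact subset_closure_inter_of_isPreirreducible_of_isOpen (p j).isIrreducible.isPreirreducible hU
    ⟨x, hxj, hxU⟩

/-- open cover -/
theorem H2_dim_eq_iSup_of_open_cover {ι : Type*} (U : ι → Opens X) (hcov : ⨆ i, U i = ⊤) :
    topologicalKrullDim X = ⨆ i, topologicalKrullDim (U i) := by
  apply le_antisymm
  · apply H2_dim_le_of_forall_chain
    intro p
    obtain ⟨x, hx⟩ := (p 0).isIrreducible.nonempty
    have : x ∈ (⨆ i, U i : Opens X) := hcov ▸ (trivial : x ∈ (⊤ : Opens X))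
    obtain ⟨i, hi⟩ := Opens.mem_iSup.mp this
    exact le_trans (H2_length_le_dim_of_open (U i) (U i).isOpen p x hx hi)
      (le_iSup (fun i => topologicalKrullDim (U i)) i)
  · exact iSup_le fun i => topologicalKrullDim_subspace_le X (U i)

/-- locally finite closed cover -/
theorem H2_dim_eq_iSup_of_locallyFinite_closed_cover {ι : Type*} (Y : ι → Set X)
    (hY : ∀ i, IsClosed (Y i)) (hlf : LocallyFinite Y) (hcov : ⋃ i, Y i = Set.univ) :
    topologicalKrullDim X = ⨆ i, topologicalKrullDim (Y i) := by
  classical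
  apply le_antisymm
  · apply H2_dim_le_of_forall_chain
    intro p
    obtain ⟨x, hx⟩ := (p 0).isIrreducible.nonempty
    obtain ⟨W, hW, hfin⟩ := hlf x
    obtain ⟨W', hW'W, hW'o, hxW'⟩ := mem_nhds_iff.mp hW
    have hfin' : {i | (Y i ∩ W').Nonempty}.Finite :=
      hfin.subset fun i ⟨y, hy1, hy2⟩ => ⟨y, hy1, hW'W hy2⟩
    set Z := (RelSeries.last p : IrreducibleCloseds X) with hZ
    have hxZ : x ∈ (Z : Set X) := (LTSeries.monotone p (Fin.zero_le _)) hx
    have hdense : (Z : Set X) ⊆ closure ((Z : Set X) ∩ W') :=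
      subset_closure_inter_of_isPreirreducible_of_isOpen Z.isIrreducible.isPreirreducible hW'o
        ⟨x, hxZ, hxW'⟩
    have hsubF : (Z : Set X) ∩ W' ⊆ ⋃₀ ((hfin'.toFinset.image Y : Finset (Set X)) : Set (Set X)) := by
      rintro y ⟨hyZ, hyW⟩
      have : y ∈ ⋃ i, Y i := hcov ▸ Set.mem_univ y
      obtain ⟨i, hi⟩ := Set.mem_iUnion.mp this
      refine Set.mem_sUnion.mpr ⟨Y i, ?_, hi⟩
      simp only [Finset.coe_image, Set.mem_image, Finset.mem_coe, Set.Finite.mem_toFinset,
        Set.mem_ofPred_eq]
      exact ⟨i, ⟨y, hi, hyW⟩, rfl⟩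
    have hclosedF : IsClosed (⋃₀ ((hfin'.toFinset.image Y : Finset (Set X)) : Set (Set X))) := by
      rw [Set.sUnion_eq_biUnion]
      apply Set.Finite.isClosed_biUnion (Finset.finite_toSet _)
      intro z hz
      simp only [Finset.coe_image, Set.mem_image, Finset.mem_coe, Set.Finite.mem_toFinset,
        Set.mem_ofPred_eq] at hz
      obtain ⟨i, -, rfl⟩ := hz
      exact hY i
    have hZF : (Z : Set X) ⊆ ⋃₀ ((hfin'.toFinset.image Y : Finset (Set X)) : Set (Set X)) :=
      hdense.trans (closure_minimal hsubF hclosedF)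
    obtain ⟨z, hz, hsub⟩ := isIrreducible_iff_sUnion_isClosed.mp Z.isIrreducible
      (hfin'.toFinset.image Y)
      (by intro z hz
          simp only [Finset.mem_image, Set.Finite.mem_toFinset, Set.mem_ofPred_eq] at hz
          obtain ⟨i, -, rfl⟩ := hz; exact hY i) hZF
    simp only [Finset.mem_image, Set.Finite.mem_toFinset, Set.mem_ofPred_eq] at hz
    obtain ⟨i, -, rfl⟩ := hz
    refine le_trans (H2_length_le_dim_of_dense (Y i) p ?_) (le_iSup (fun i => topologicalKrullDim (Y i)) i)
    intro j
    have hj : (p j : Set X) ⊆ Y i := fun x hx => hsub ((LTSeries.monotone p (Fin.le_last j)) hx)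
    rw [Set.inter_eq_left.mpr hj]
    exact subset_closure
  · exact iSup_le fun i => topologicalKrullDim_subspace_le X (Y i)

end Groth.Agent.H2

namespace Groth.Agent.H2

variable {X : Type*} [TopologicalSpace X]

/-- local dimension at a point (unfolded form of `FlatMor.localDim`). -/
noncomputable def H2localDim (X : Type*) [TopologicalSpace X] (x : X) : WithBot ℕ∞ :=
  ⨅ U : {U : TopologicalSpace.Opens X // x ∈ U}, topologicalKrullDim (U.1 : Set X)

theorem H2_localDim_le_of_mem (x : X) (U : Opens X) (hx : x ∈ U) :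
    H2localDim X x ≤ topologicalKrullDim (U : Set X) :=
  iInf_le (fun U : {U : TopologicalSpace.Opens X // x ∈ U} => topologicalKrullDim (U.1 : Set X))
    ⟨U, hx⟩

theorem H2_localDim_le (x : X) : H2localDim X x ≤ topologicalKrullDim X :=
  (H2_localDim_le_of_mem x ⊤ trivial).trans (topologicalKrullDim_subspace_le X _)

theorem H2_length_le_localDim (p : LTSeries (IrreducibleCloseds X)) (x : X)
    (hx0 : x ∈ (p 0 : Set X)) : (p.length : WithBot ℕ∞) ≤ H2localDim X x := by
  apply le_iInf
  rintro ⟨U, hxU⟩
  exact H2_length_le_dim_of_open (U : Set X) U.isOpen p x hx0 hxU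

theorem H2_dim_eq_iSup_localDim :
    topologicalKrullDim X = ⨆ x : X, H2localDim X x := by
  apply le_antisymm
  · apply H2_dim_le_of_forall_chain
    intro p
    obtain ⟨x, hx⟩ := (p 0).isIrreducible.nonempty
    exact (H2_length_le_localDim p x hx).trans (le_iSup (fun x => H2localDim X x) x)
  · exact iSup_le fun x => H2_localDim_le x

theorem H2_upperSemicontinuous_localDim :
    UpperSemicontinuous fun x : X => H2localDim X x := by
  intro x y hy
  change H2localDim X x < y at hy
  unfold H2localDim at hy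
  rw [iInf_lt_iff] at hy
  obtain ⟨⟨U, hxU⟩, hU⟩ := hy
  filter_upwards [U.isOpen.mem_nhds hxU] with x' hx'
  exact lt_of_le_of_lt (H2_localDim_le_of_mem x' U hx') hU

end Groth.Agent.H2

namespace Groth.Agent.H2

variable {X : Type*} [TopologicalSpace X]

theorem H2_dim_eq_iSup_closed_localDim [NoetherianSpace X] [T0Space X] :
    topologicalKrullDim X = ⨆ x ∈ {x : X | IsClosed ({x} : Set X)}, H2localDim X x := by
  apply le_antisymm
  · apply H2_dim_le_of_forall_chain
    intro p
    obtain ⟨x, hx, hxc⟩ := (p 0).isClosed.exists_closed_singleton (p 0).isIrreducible.nonempty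
    refine (H2_length_le_localDim p x hx).trans ?_
    exact le_iSup₂ (f := fun (x : X) (_ : x ∈ {x : X | IsClosed ({x} : Set X)}) => H2localDim X x)
      x hxc
  · exact iSup₂_le fun x _ => H2_localDim_le x

end Groth.Agent.H2

namespace Groth.Agent.H2

variable {X : Type*} [TopologicalSpace X]

theorem H2_dim_nonneg_of_nonempty [Nonempty X] : 0 ≤ topologicalKrullDim X := by
  obtain ⟨x⟩ := ‹Nonempty X›
  have : Nonempty (IrreducibleCloseds X) :=
    ⟨⟨closure {x}, isIrreducible_singleton.closure, isClosed_closure⟩⟩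
  exact Order.krullDim_nonneg

theorem H2_t1_of_dim_le_zero [NoetherianSpace X] [T0Space X] (h : topologicalKrullDim X ≤ 0) :
    T1Space X := by
  have hmax := Order.krullDim_nonpos_iff_forall_isMax.mp h
  constructor
  intro x
  obtain ⟨y, hy, hyc⟩ := (isClosed_closure (s := ({x} : Set X))).exists_closed_singleton
    ⟨x, subset_closure rfl⟩
  let Z₁ : IrreducibleCloseds X := ⟨{y}, isIrreducible_singleton, hyc⟩
  let Z₂ : IrreducibleCloseds X := ⟨closure {x}, isIrreducible_singleton.closure, isClosed_closure⟩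
  have h12 : Z₁ ≤ Z₂ := fun z hz => by
    have : z = y := hz
    rw [this]; exact hy
  have h21 : Z₂ ≤ Z₁ := hmax Z₁ h12
  have : x = y := h21 (subset_closure rfl : x ∈ closure {x})
  rw [this]; exact hyc

theorem H2_finite_of_dim_le_zero [NoetherianSpace X] [T0Space X] (h : topologicalKrullDim X ≤ 0) :
    Finite X := by
  have hmax := Order.krullDim_nonpos_iff_forall_isMax.mp h
  have := H2_t1_of_dim_le_zero h
  have hfin : (irreducibleComponents X).Finite := NoetherianSpace.finite_irreducibleComponents
  have hcomp : ∀ x : X, irreducibleComponent x = {x} := by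
    intro x
    let Z₁ : IrreducibleCloseds X := ⟨{x}, isIrreducible_singleton, isClosed_singleton⟩
    let Z₂ : IrreducibleCloseds X :=
      ⟨irreducibleComponent x, isIrreducible_irreducibleComponent, isClosed_irreducibleComponent⟩
    have h12 : Z₁ ≤ Z₂ := fun z hz => by
      have : z = x := hz
      rw [this]; exact mem_irreducibleComponent
    have h21 : Z₂ ≤ Z₁ := hmax Z₁ h12
    exact le_antisymm h21 h12
  have := hfin.to_subtype
  let φ : X → irreducibleComponents X := fun x =>
    ⟨irreducibleComponent x, irreducibleComponent_mem_irreducibleComponents x⟩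
  refine Finite.of_injective φ ?_
  intro x y hxy
  have h1 : irreducibleComponent x = irreducibleComponent y := congrArg Subtype.val hxy
  rw [hcomp x, hcomp y] at h1
  exact Set.singleton_injective h1

theorem H2_dim_eq_zero_iff [NoetherianSpace X] [T0Space X] [Nonempty X] :
    topologicalKrullDim X = 0 ↔ Finite X ∧ DiscreteTopology X := by
  constructor
  · intro h
    have := H2_t1_of_dim_le_zero h.le
    have := H2_finite_of_dim_le_zero h.le
    exact ⟨inferInstance, inferInstance⟩
  · rintro ⟨_, hd⟩
    exact le_antisymm (topologicalKrullDim_zero_of_discreteTopology X) H2_dim_nonneg_of_nonempty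

end Groth.Agent.H2

namespace Groth.Agent.H2

variable {X : Type*} [TopologicalSpace X]

theorem H2_withBot_enat_le_zero_of_lt_one {a : WithBot ℕ∞} (h : a < 1) : a ≤ 0 := by
  induction a with
  | bot => exact bot_le
  | coe n =>
    have h' : n < 1 := by exact_mod_cast h
    have : n = 0 := Order.lt_one_iff.mp h'
    rw [this]; rfl

theorem H2_isOpen_singleton_iff_localDim [NoetherianSpace X] [T0Space X] (x : X) :
    IsOpen ({x} : Set X) ↔ H2localDim X x = 0 := by
  constructor
  · intro h
    apply le_antisymm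
    · have h1 := H2_localDim_le_of_mem x ⟨{x}, h⟩ rfl
      refine h1.trans ?_
      haveI : DiscreteTopology (({x} : Set X)) := inferInstance
      exact topologicalKrullDim_zero_of_discreteTopology _
    · apply le_iInf
      rintro ⟨U, hxU⟩
      haveI : Nonempty (U : Set X) := ⟨⟨x, hxU⟩⟩
      exact H2_dim_nonneg_of_nonempty
  · intro h
    have h1 : H2localDim X x < 1 := by rw [h]; exact zero_lt_one
    unfold H2localDim at h1
    rw [iInf_lt_iff] at h1
    obtain ⟨⟨U, hxU⟩, hU⟩ := h1
    have hU0 : topologicalKrullDim (U : Set X) ≤ 0 := H2_withBot_enat_le_zero_of_lt_one hU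
    have : NoetherianSpace (U : Set X) := NoetherianSpace.set (U : Set X)
    have := H2_t1_of_dim_le_zero hU0
    have := H2_finite_of_dim_le_zero hU0
    have hd : DiscreteTopology (U : Set X) := inferInstance
    have ho : IsOpen ({⟨x, hxU⟩} : Set (U : Set X)) := isOpen_discrete _
    have := U.isOpen.isOpenMap_subtype_val _ ho
    simpa using this

end Groth.Agent.H2

namespace Groth.Agent.H2

variable {X : Type*} [TopologicalSpace X]

theorem H2_localDim_eq_iSup_of_finite_closed_cover (x : X) {ι : Type*} [Finite ι] (Y : ι → Set X)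
    (hY : ∀ i, IsClosed (Y i)) (hx : ∀ i, x ∈ Y i) (hcov : ⋃ i, Y i = Set.univ) :
    H2localDim X x = ⨆ i, H2localDim (Y i) ⟨x, hx i⟩ := by
  apply le_antisymm
  · by_contra hcon
    have hlt : ⨆ i, H2localDim (Y i) ⟨x, hx i⟩ < H2localDim X x := lt_of_not_ge hcon
    have hV : ∀ i, ∃ V : {V : Opens (Y i) // (⟨x, hx i⟩ : Y i) ∈ V},
        topologicalKrullDim (V.1 : Set (Y i)) < H2localDim X x := by
      intro i
      have h1 : H2localDim (Y i) ⟨x, hx i⟩ < H2localDim X x :=
        (le_iSup (fun i => H2localDim (Y i) ⟨x, hx i⟩) i).trans_lt hlt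
      unfold H2localDim at h1
      rw [iInf_lt_iff] at h1
      exact h1
    choose V hV using hV
    have hT : ∀ i, ∃ t : Set X, IsOpen t ∧ Subtype.val ⁻¹' t = ((V i).1 : Set (Y i)) := fun i =>
      isOpen_induced_iff.mp (V i).1.isOpen
    choose T hTo hTV using hT
    have hxT : ∀ i, x ∈ T i := by
      intro i
      have : (⟨x, hx i⟩ : Y i) ∈ ((V i).1 : Set (Y i)) := (V i).2
      rw [← hTV i] at this
      exact this
    let U : Opens X := ⟨⋂ i, T i, isOpen_iInter_of_finite hTo⟩
    have hxU : x ∈ U := Set.mem_iInter.mpr hxT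
    let Y' : ι → Set U := fun i => Subtype.val ⁻¹' Y i
    have hY' : ∀ i, IsClosed (Y' i) := fun i => (hY i).preimage continuous_subtype_val
    have hcov' : ⋃ i, Y' i = Set.univ := by
      rw [← Set.preimage_iUnion, hcov, Set.preimage_univ]
    have hdimU := H2_dim_eq_iSup_of_finite_closed_cover Y' hY' hcov'
    have hle : ∀ i, topologicalKrullDim (Y' i) ≤ topologicalKrullDim ((V i).1 : Set (Y i)) := by
      intro i
      let φ : Y' i → ((V i).1 : Set (Y i)) := fun y =>
        ⟨⟨y.1.1, y.2⟩, by
          change (⟨y.1.1, y.2⟩ : Y i) ∈ ((V i).1 : Set (Y i))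
          rw [← hTV i]
          exact Set.mem_iInter.mp y.1.2 i⟩
      have hφ : IsInducing φ := by
        have hc : Continuous φ := by
          apply Continuous.subtype_mk
          apply Continuous.subtype_mk
          exact continuous_subtype_val.comp continuous_subtype_val
        have h2 : IsInducing ((Subtype.val : Y i → X) ∘ (Subtype.val : ((V i).1 : Set (Y i)) → Y i) ∘ φ) := by
          have : ((Subtype.val : Y i → X) ∘ (Subtype.val : ((V i).1 : Set (Y i)) → Y i) ∘ φ) =
              (Subtype.val : U → X) ∘ (Subtype.val : Y' i → U) := rfl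
          rw [this]
          exact IsInducing.subtypeVal.comp IsInducing.subtypeVal
        exact IsInducing.of_comp hc (continuous_subtype_val.comp continuous_subtype_val) h2
      exact hφ.topologicalKrullDim_le
    haveI : Nonempty ι := by
      have : x ∈ ⋃ i, Y i := hcov ▸ Set.mem_univ x
      obtain ⟨i, -⟩ := Set.mem_iUnion.mp this
      exact ⟨i⟩
    obtain ⟨i₀, hi₀⟩ := exists_eq_ciSup_of_finite (f := fun i => topologicalKrullDim (Y' i))
    have h1 : topologicalKrullDim (U : Set X) = topologicalKrullDim (Y' i₀) :=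
      hdimU.trans hi₀.symm
    have h2 : H2localDim X x ≤ topologicalKrullDim (U : Set X) := H2_localDim_le_of_mem x U hxU
    have h3 := (h2.trans (h1.le.trans (hle i₀))).trans_lt (hV i₀)
    exact lt_irrefl _ h3
  · apply iSup_le
    intro i
    apply le_iInf
    rintro ⟨U, hxU⟩
    let V : Opens (Y i) := ⟨Subtype.val ⁻¹' (U : Set X), U.isOpen.preimage continuous_subtype_val⟩
    have hxV : (⟨x, hx i⟩ : Y i) ∈ V := hxU
    refine (H2_localDim_le_of_mem (⟨x, hx i⟩ : Y i) V hxV).trans ?_
    let φ : ↥(V : Set (Y i)) → ↥(U : Set X) := fun y => ⟨y.1.1, y.2⟩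
    have hφ : IsInducing φ := by
      have hc : Continuous φ := by
        apply Continuous.subtype_mk
        exact continuous_subtype_val.comp continuous_subtype_val
      have h2 : IsInducing ((Subtype.val : U → X) ∘ φ) := by
        have : ((Subtype.val : U → X) ∘ φ) =
            (Subtype.val : Y i → X) ∘ (Subtype.val : ↥(V : Set (Y i)) → Y i) := rfl
        rw [this]
        exact IsInducing.subtypeVal.comp IsInducing.subtypeVal
      exact IsInducing.of_comp hc continuous_subtype_val h2
    exact hφ.topologicalKrullDim_le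

end Groth.Agent.H2
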