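import Mathlib
import Groth.Statements.S6011

set_option autoImplicit false
universe u
open CategoryTheory AlgebraicGeometry MonoidalCategory CartesianMonoidalCategory MonObj

namespace Groth.Agent.H2

variable {S : Scheme.{u}} {G X : Over S} [GrpObj G]

/-- forward direction: an equivariant iso with the trivial torsor gives a pseudo-torsor with a section -/
theorem H2triv_forward (a : AlgGrp.Action G X)
    (e : NonAbH1.EquivIso (NonAbH1.trivialAction G) a) :
    NonAbH1.IsPseudoTorsorSch a ∧ NonAbH1.HasSectionOver X (𝟙 S) := by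
  constructor
  · have h0 := NonAbH1.isPseudoTorsorSch_trivialAction G
    unfold NonAbH1.IsPseudoTorsorSch at h0 ⊢
    have hcomm : μ[G] ≫ e.iso.hom = (G ◁ e.iso.hom) ≫ a.act := e.comm
    have key : lift (NonAbH1.trivialAction G).act (snd G G) ≫ (e.iso.hom ⊗ₘ e.iso.hom) =
        (G ◁ e.iso.hom) ≫ lift a.act (snd G X) := by
      apply CartesianMonoidalCategory.hom_ext
      · simp only [Category.assoc, tensorHom_fst, lift_fst_assoc, lift_fst]
        exact hcomm
      · simp only [Category.assoc, tensorHom_snd, lift_snd_assoc, lift_snd, whiskerLeft_snd]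
    have h1 : IsIso ((G ◁ e.iso.hom) ≫ lift a.act (snd G X)) := by
      rw [← key]; infer_instance
    exact IsIso.of_isIso_comp_left (G ◁ e.iso.hom) _
  · exact ⟨(η[G] ≫ e.iso.hom).left, Over.w (η[G] ≫ e.iso.hom)⟩

/-- backward direction -/
theorem H2triv_backward (a : AlgGrp.Action G X) (hps : NonAbH1.IsPseudoTorsorSch a)
    (hsec : NonAbH1.HasSectionOver X (𝟙 S)) :
    Nonempty (NonAbH1.EquivIso (NonAbH1.trivialAction G) a) := by
  obtain ⟨s, hs⟩ := hsec
  let x : 𝟙_ (Over S) ⟶ X := Over.homMk s hs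
  unfold NonAbH1.IsPseudoTorsorSch at hps
  set Ψ : G ⊗ X ⟶ X ⊗ X := lift a.act (snd G X) with hΨ
  let φ : G ⟶ X := lift (𝟙 G) (toUnit G ≫ x) ≫ a.act
  let θ : X ⟶ G := lift (𝟙 X) (toUnit X ≫ x) ≫ inv Ψ ≫ fst G X
  have hΨ1 : Ψ ≫ fst X X = a.act := lift_fst _ _
  have hΨ2 : Ψ ≫ snd X X = snd G X := lift_snd _ _
  have h1 : φ ≫ θ = 𝟙 G := by
    have e1 : φ ≫ lift (𝟙 X) (toUnit X ≫ x) = lift (𝟙 G) (toUnit G ≫ x) ≫ Ψ := by
      apply CartesianMonoidalCategory.hom_ext
      · simp only [Category.assoc, lift_fst, Category.comp_id, hΨ1]; rfl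
      · simp only [Category.assoc, lift_snd, hΨ2]
        rw [← Category.assoc φ]
        congr 1
        exact toUnit_unique _ _
    change φ ≫ lift (𝟙 X) (toUnit X ≫ x) ≫ inv Ψ ≫ fst G X = 𝟙 G
    rw [← Category.assoc, e1, Category.assoc, IsIso.hom_inv_id_assoc, lift_fst]
  have h2 : θ ≫ φ = 𝟙 X := by
    set w : X ⟶ G ⊗ X := lift (𝟙 X) (toUnit X ≫ x) ≫ inv Ψ with hw
    have hwΨ : w ≫ Ψ = lift (𝟙 X) (toUnit X ≫ x) := by
      rw [hw, Category.assoc, IsIso.inv_hom_id, Category.comp_id]
    have hw1 : w ≫ a.act = 𝟙 X := by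
      rw [← hΨ1, ← Category.assoc, hwΨ, lift_fst]
    have hw2 : w ≫ snd G X = toUnit X ≫ x := by
      rw [← hΨ2, ← Category.assoc, hwΨ, lift_snd]
    have hθ : θ = w ≫ fst G X := by
      change lift (𝟙 X) (toUnit X ≫ x) ≫ inv Ψ ≫ fst G X = _
      rw [hw, Category.assoc]
    have e2 : θ ≫ lift (𝟙 G) (toUnit G ≫ x) = w := by
      apply CartesianMonoidalCategory.hom_ext
      · simp only [Category.assoc, lift_fst, Category.comp_id, hθ]
      · simp only [Category.assoc, lift_snd, hw2]
        rw [← Category.assoc]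
        congr 1
        exact toUnit_unique _ _
    change θ ≫ lift (𝟙 G) (toUnit G ≫ x) ≫ a.act = 𝟙 X
    rw [← Category.assoc, e2, hw1]
  have hcomm : μ[G] ≫ φ = (G ◁ φ) ≫ a.act := by
    have hm := a.mul_act
    have e3 : μ[G] ≫ lift (𝟙 G) (toUnit G ≫ x) =
        lift (𝟙 (G ⊗ G)) (toUnit (G ⊗ G) ≫ x) ≫ (μ[G] ▷ X) := by
      apply CartesianMonoidalCategory.hom_ext
      · simp only [Category.assoc, lift_fst, Category.comp_id, whiskerRight_fst, lift_fst_assoc,
          Category.id_comp]
      · simp only [Category.assoc, lift_snd, whiskerRight_snd]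
        rw [← Category.assoc]
        congr 1
        exact toUnit_unique _ _
    have e4 : (G ◁ φ) = lift (𝟙 (G ⊗ G)) (toUnit (G ⊗ G) ≫ x) ≫ (α_ G G X).hom ≫ (G ◁ a.act) := by
      apply CartesianMonoidalCategory.hom_ext
      · simp only [Category.assoc, whiskerLeft_fst, associator_hom_fst, lift_fst_assoc,
          Category.id_comp]
      · simp only [Category.assoc, whiskerLeft_snd]
        change snd G G ≫ lift (𝟙 G) (toUnit G ≫ x) ≫ a.act = _
        rw [← Category.assoc (α_ G G X).hom, ← Category.assoc (lift _ _), ← Category.assoc (lift _ _)]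
        rw [← Category.assoc (snd G G)]
        congr 1
        apply CartesianMonoidalCategory.hom_ext
        · simp only [Category.assoc, lift_fst, Category.comp_id, associator_hom_snd_fst,
            lift_fst_assoc, Category.id_comp]
        · simp only [Category.assoc, lift_snd, associator_hom_snd_snd]
          rw [← Category.assoc]
          congr 1
          exact toUnit_unique _ _
    change μ[G] ≫ lift (𝟙 G) (toUnit G ≫ x) ≫ a.act = _
    rw [← Category.assoc, e3, Category.assoc, hm, e4]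
    simp only [Category.assoc]
  exact ⟨{ iso := ⟨φ, θ, h1, h2⟩, comm := hcomm }⟩

end Groth.Agent.H2
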