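import Mathlib
import Groth.Agent.Lib.helper2.AltTrace

set_option autoImplicit false

namespace Groth.Agent.H2

open CategoryTheory CategoryTheory.Limits Pretriangulated DerivedCategory

universe u

attribute [local instance] HasDerivedCategory.standard

variable {R : Type u} [CommRing R]

/-- `K` is represented by a complex in the class `𝒦`. -/
def H2Rep (𝒦 : CochainComplex (ModuleCat.{u} R) ℤ → Prop)
    (K : DerivedCategory (ModuleCat.{u} R)) : Prop :=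
  ∃ E, 𝒦 E ∧ Nonempty (DerivedCategory.Q.obj E ≅ K)

variable (𝒦 : CochainComplex (ModuleCat.{u} R) ℤ → Prop)
  (hKP : ∀ E, 𝒦 E → E.IsKProjective)
  (hcone : ∀ (E₁ E₂ : CochainComplex (ModuleCat.{u} R) ℤ) (φ : E₁ ⟶ E₂), 𝒦 E₁ → 𝒦 E₂ →
    𝒦 (CochainComplex.mappingCone φ))
  (hshift : ∀ (E : CochainComplex (ModuleCat.{u} R) ℤ) (n : ℤ), 𝒦 E → 𝒦 (E⟦n⟧))

include hKP hcone in
lemma H2Rep_cone (T : Triangle (DerivedCategory (ModuleCat.{u} R))) (hT : T ∈ distTriang _)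
    (h1 : H2Rep 𝒦 T.obj₁) (h2 : H2Rep 𝒦 T.obj₂) : H2Rep 𝒦 T.obj₃ := by
  obtain ⟨E₁, hE₁, ⟨e₁⟩⟩ := h1
  obtain ⟨E₂, hE₂, ⟨e₂⟩⟩ := h2
  haveI := hKP E₁ hE₁
  obtain ⟨φ, hφ⟩ := H2_exists_lift E₁ E₂ (e₁.hom ≫ T.mor₁ ≫ e₂.inv)
  have hT' := DerivedCategory.mappingCone_triangle_distinguished φ
  obtain ⟨e', -, -⟩ := exists_iso_of_arrow_iso T _ hT hT'
    (Arrow.isoMk e₁.symm e₂.symm (by
      change e₁.inv ≫ DerivedCategory.Q.map φ = T.mor₁ ≫ e₂.inv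
      rw [hφ]
      simp))
  exact ⟨_, hcone E₁ E₂ φ hE₁ hE₂, ⟨(Triangle.π₃.mapIso e').symm⟩⟩

include hshift in
lemma H2Rep_shift (K : DerivedCategory (ModuleCat.{u} R)) (n : ℤ) (h : H2Rep 𝒦 K) :
    H2Rep 𝒦 (K⟦n⟧) := by
  obtain ⟨E, hE, ⟨e⟩⟩ := h
  exact ⟨E⟦n⟧, hshift E n hE,
    ⟨(DerivedCategory.Q.commShiftIso n).app E ≪≫ (shiftFunctor _ n).mapIso e⟩⟩

lemma H2Rep_of_iso {K K' : DerivedCategory (ModuleCat.{u} R)} (e : K ≅ K') (h : H2Rep 𝒦 K) :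
    H2Rep 𝒦 K' := by
  obtain ⟨E, hE, ⟨e'⟩⟩ := h
  exact ⟨E, hE, ⟨e' ≪≫ e⟩⟩

include hKP hcone hshift in
theorem H2Rep_two_of_three (T : Triangle (DerivedCategory (ModuleCat.{u} R)))
    (hT : T ∈ distTriang _) :
    (H2Rep 𝒦 T.obj₁ → H2Rep 𝒦 T.obj₂ → H2Rep 𝒦 T.obj₃) ∧
    (H2Rep 𝒦 T.obj₁ → H2Rep 𝒦 T.obj₃ → H2Rep 𝒦 T.obj₂) ∧
    (H2Rep 𝒦 T.obj₂ → H2Rep 𝒦 T.obj₃ → H2Rep 𝒦 T.obj₁) := by
  refine ⟨H2Rep_cone 𝒦 hKP hcone T hT, ?_, ?_⟩
  · intro h1 h3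
    exact H2Rep_cone 𝒦 hKP hcone T.invRotate (inv_rot_of_distTriang T hT)
      (H2Rep_shift 𝒦 hshift _ (-1) h3) h1
  · intro h2 h3
    have := H2Rep_cone 𝒦 hKP hcone T.rotate (rot_of_distTriang T hT) h2 h3
    have h4 := H2Rep_shift 𝒦 hshift _ (-1) this
    exact H2Rep_of_iso 𝒦 ((shiftFunctorCompIsoId _ (1 : ℤ) (-1) (by omega)).app T.obj₁) h4

end Groth.Agent.H2

namespace Groth.Agent.H2

open CategoryTheory CategoryTheory.Limits Pretriangulated DerivedCategory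

universe u

attribute [local instance] HasDerivedCategory.standard

variable {R : Type u} [CommRing R]

noncomputable def H2coneXEquiv {E₁ E₂ : CochainComplex (ModuleCat.{u} R) ℤ} (φ : E₁ ⟶ E₂) (i : ℤ) :
    (CochainComplex.mappingCone φ).X i ≃ₗ[R] (E₁.X (i + 1) × E₂.X i) :=
  (HomologicalComplex.homotopyCofiber.XIsoBiprod φ i (i + 1) rfl).toLinearEquiv ≪≫ₗ
    (ModuleCat.biprodIsoProd (E₁.X (i + 1)) (E₂.X i)).toLinearEquiv

lemma H2_cone_isZero {E₁ E₂ : CochainComplex (ModuleCat.{u} R) ℤ} (φ : E₁ ⟶ E₂) (i : ℤ)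
    (h1 : IsZero (E₁.X (i + 1))) (h2 : IsZero (E₂.X i)) :
    IsZero ((CochainComplex.mappingCone φ).X i) := by
  haveI := ModuleCat.subsingleton_of_isZero h1
  haveI := ModuleCat.subsingleton_of_isZero h2
  haveI : Subsingleton ((CochainComplex.mappingCone φ).X i) :=
    (H2coneXEquiv φ i).toEquiv.subsingleton
  exact ModuleCat.isZero_of_subsingleton _

lemma H2_isKProjective_of_bounded_projective (P : CochainComplex (ModuleCat.{u} R) ℤ) (b : ℤ)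
    (hP : ∀ i : ℤ, b < i → Limits.IsZero (P.X i))
    (hPf : ∀ i : ℤ, Module.Projective R (P.X i)) :
    P.IsKProjective := by
  haveI : P.IsStrictlyLE b := by
    rw [CochainComplex.isStrictlyLE_iff]
    exact hP
  haveI : ∀ n : ℤ, Projective (P.X n) := fun n =>
    (IsProjective.iff_projective (P.X n)).mp (hPf n)
  exact CochainComplex.isKProjective_of_projective P b

/-- class of bounded above complexes of finite free modules -/
def H2KPC (E : CochainComplex (ModuleCat.{u} R) ℤ) : Prop :=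
  ∃ b : ℤ, (∀ i : ℤ, b < i → IsZero (E.X i)) ∧
    ∀ i : ℤ, Module.Finite R (E.X i) ∧ Module.Free R (E.X i)

/-- class of bounded complexes of finite projective modules -/
def H2KPerf (E : CochainComplex (ModuleCat.{u} R) ℤ) : Prop :=
  ∃ a b : ℤ, (∀ i : ℤ, i < a ∨ b < i → IsZero (E.X i)) ∧
    ∀ i : ℤ, Module.Finite R (E.X i) ∧ Module.Projective R (E.X i)

lemma H2KPC_kproj (E : CochainComplex (ModuleCat.{u} R) ℤ) (h : H2KPC E) : E.IsKProjective := by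
  obtain ⟨b, hb, hf⟩ := h
  exact H2_isKProjective_of_bounded_projective E b hb (fun i => by
    haveI := (hf i).2
    infer_instance)

lemma H2KPerf_kproj (E : CochainComplex (ModuleCat.{u} R) ℤ) (h : H2KPerf E) :
    E.IsKProjective := by
  obtain ⟨a, b, hb, hf⟩ := h
  exact H2_isKProjective_of_bounded_projective E b (fun i hi => hb i (Or.inr hi))
    (fun i => (hf i).2)

lemma H2KPC_cone (E₁ E₂ : CochainComplex (ModuleCat.{u} R) ℤ) (φ : E₁ ⟶ E₂)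
    (h1 : H2KPC E₁) (h2 : H2KPC E₂) : H2KPC (CochainComplex.mappingCone φ) := by
  obtain ⟨b₁, hb₁, hf₁⟩ := h1
  obtain ⟨b₂, hb₂, hf₂⟩ := h2
  refine ⟨max b₁ b₂, ?_, ?_⟩
  · intro i hi
    exact H2_cone_isZero φ i (hb₁ _ (by have := le_max_left b₁ b₂; omega))
      (hb₂ _ (by have := le_max_right b₁ b₂; omega))
  · intro i
    haveI := (hf₁ (i + 1)).1
    haveI := (hf₁ (i + 1)).2
    haveI := (hf₂ i).1
    haveI := (hf₂ i).2
    exact ⟨Module.Finite.equiv (H2coneXEquiv φ i).symm,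
      Module.Free.of_equiv (H2coneXEquiv φ i).symm⟩

lemma H2KPerf_cone (E₁ E₂ : CochainComplex (ModuleCat.{u} R) ℤ) (φ : E₁ ⟶ E₂)
    (h1 : H2KPerf E₁) (h2 : H2KPerf E₂) : H2KPerf (CochainComplex.mappingCone φ) := by
  obtain ⟨a₁, b₁, hb₁, hf₁⟩ := h1
  obtain ⟨a₂, b₂, hb₂, hf₂⟩ := h2
  refine ⟨min (a₁ - 1) a₂, max b₁ b₂, ?_, ?_⟩
  · intro i hi
    have h3 := le_max_left b₁ b₂
    have h4 := le_max_right b₁ b₂
    have h5 := min_le_left (a₁ - 1) a₂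
    have h6 := min_le_right (a₁ - 1) a₂
    exact H2_cone_isZero φ i (hb₁ _ (by omega)) (hb₂ _ (by omega))
  · intro i
    haveI := (hf₁ (i + 1)).1
    haveI := (hf₁ (i + 1)).2
    haveI := (hf₂ i).1
    haveI := (hf₂ i).2
    exact ⟨Module.Finite.equiv (H2coneXEquiv φ i).symm,
      Module.Projective.of_equiv (H2coneXEquiv φ i).symm⟩

lemma H2KPC_shift (E : CochainComplex (ModuleCat.{u} R) ℤ) (n : ℤ) (h : H2KPC E) :
    H2KPC (E⟦n⟧) := by
  obtain ⟨b, hb, hf⟩ := h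
  refine ⟨b - n, ?_, ?_⟩
  · intro i hi
    exact hb (i + n) (by omega)
  · intro i
    exact hf (i + n)

lemma H2KPerf_shift (E : CochainComplex (ModuleCat.{u} R) ℤ) (n : ℤ) (h : H2KPerf E) :
    H2KPerf (E⟦n⟧) := by
  obtain ⟨a, b, hb, hf⟩ := h
  refine ⟨a - n, b - n, ?_, ?_⟩
  · intro i hi
    exact hb (i + n) (by omega)
  · intro i
    exact hf (i + n)

end Groth.Agent.H2
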