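import Mathlib

set_option autoImplicit false
universe u

namespace Groth.Agent.H2

open Polynomial

section

variable {k : Type u} [Field k] {A : Type u} [CommRing A] [Algebra k A]

/-- The subalgebra `k + k c` when `c² = μ c`. -/
def H2span2 (c : A) (μ : k) (hc : c * c = μ • c) : Subalgebra k A where
  carrier := {z | ∃ x y : k, z = algebraMap k A x + y • c}
  mul_mem' := by
    rintro _ _ ⟨x, y, rfl⟩ ⟨x', y', rfl⟩
    refine ⟨x * x', x * y' + y * x' + y * y' * μ, ?_⟩
    have hc' : c * c = algebraMap k A μ * c := by rw [hc, Algebra.smul_def]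
    simp only [Algebra.smul_def, map_mul, map_add]
    linear_combination (algebraMap k A y * algebraMap k A y') * hc'
  add_mem' := by
    rintro _ _ ⟨x, y, rfl⟩ ⟨x', y', rfl⟩
    refine ⟨x + x', y + y', ?_⟩
    rw [map_add, add_smul]
    abel
  algebraMap_mem' r := ⟨r, 0, by rw [zero_smul, add_zero]⟩

lemma H2_mem_span2 (c : A) (μ : k) (hc : c * c = μ • c) : c ∈ H2span2 c μ hc :=
  ⟨0, 1, by rw [map_zero, zero_add, one_smul]⟩

theorem H2_two_subalgebras [IsAlgClosed k] (h : Nat.card (Subalgebra k A) = 2) :
    Nonempty (A ≃ₐ[k] (k × k)) ∨ Nonempty (A ≃ₐ[k] DualNumber k) := by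
  -- Step 1
  obtain ⟨T, hT, hTu⟩ := (Nat.card_eq_two_iff' (⊥ : Subalgebra k A)).1 h
  have htop : (⊤ : Subalgebra k A) ≠ ⊥ := by
    intro htb
    apply hT
    rw [eq_bot_iff, ← htb]
    exact le_top
  have hall : ∀ S : Subalgebra k A, S ≠ ⊥ → S = ⊤ := by
    intro S hS
    rw [hTu S hS, hTu ⊤ htop]
  obtain ⟨a, -, ha⟩ := SetLike.exists_of_lt (bot_lt_iff_ne_bot.2 htop)
  have hnontriv : Nontrivial A := by
    refine ⟨⟨a, 0, fun h0 => ha ?_⟩⟩
    rw [h0]
    exact zero_mem _
  have hinj : Function.Injective (algebraMap k A) := (algebraMap k A).injective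
  have hbot : ∀ z : A, z ∈ (⊥ : Subalgebra k A) ↔ ∃ x : k, algebraMap k A x = z := by
    intro z
    rw [Algebra.mem_bot]
    rfl
  -- Step 3: a is integral
  have hint : IsIntegral k a := by
    by_cases ha2 : a ^ 2 ∈ (⊥ : Subalgebra k A)
    · obtain ⟨x, hx⟩ := (hbot _).1 ha2
      refine ⟨X ^ 2 - C x, monic_X_pow_sub_C x (by norm_num), ?_⟩
      rw [eval₂_sub, eval₂_pow, eval₂_X, eval₂_C, hx, sub_self]
    · have hadj : Algebra.adjoin k {a ^ 2} = ⊤ := by
        apply hall
        intro hb
        apply ha2
        rw [← hb]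
        exact Algebra.subset_adjoin (Set.mem_singleton _)
      have hmem : a ∈ Algebra.adjoin k {a ^ 2} := by
        rw [hadj]
        exact Algebra.mem_top
      rw [Algebra.adjoin_singleton_eq_range_aeval] at hmem
      obtain ⟨p, hp⟩ := hmem
      have hp' : aeval (a ^ 2) p = a := hp
      apply IsAlgebraic.isIntegral
      refine ⟨p.comp (X ^ 2) - X, ?_, ?_⟩
      · intro h0
        have h1 : p.comp (X ^ 2) = X := sub_eq_zero.1 h0
        have h2 := congrArg natDegree h1
        rw [natDegree_comp, natDegree_X_pow, natDegree_X] at h2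
        omega
      · rw [map_sub, aeval_comp, aeval_X, map_pow, aeval_X, hp', sub_self]
  -- Step 4
  have hdeg : (minpoly k a).degree ≠ 0 := (minpoly.degree_pos hint).ne'
  obtain ⟨α, hα⟩ := IsAlgClosed.exists_root (minpoly k a) hdeg
  obtain ⟨g, hg⟩ := dvd_iff_isRoot.2 hα
  have hf0 : minpoly k a ≠ 0 := minpoly.ne_zero hint
  have hg0 : g ≠ 0 := by
    rintro rfl
    rw [mul_zero] at hg
    exact hf0 hg
  have hgdeg : g.degree < (minpoly k a).degree := by
    rw [hg, degree_mul, degree_X_sub_C]
    rw [degree_eq_natDegree hg0]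
    norm_cast
    omega
  let c : A := aeval a g
  have hc0 : c ≠ 0 := by
    intro h0
    have := minpoly.degree_le_of_ne_zero k a hg0 h0
    exact absurd hgdeg (not_lt.2 this)
  have hac : (a - algebraMap k A α) * c = 0 := by
    have := minpoly.aeval k a
    rw [hg, map_mul, map_sub, aeval_X, aeval_C] at this
    exact this
  have heval : ∀ q : k[X], aeval a q * c = (q.eval α) • c := by
    intro q
    obtain ⟨q', hq'⟩ : (X - C α) ∣ q - C (q.eval α) := X_sub_C_dvd_sub_C_eval
    have h2 := congrArg (aeval a) hq'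
    rw [map_sub, aeval_C, map_mul, map_sub, aeval_X, aeval_C] at h2
    rw [Algebra.smul_def]
    linear_combination c * h2 + aeval a q' * hac
  have hcc : c * c = (g.eval α) • c := heval g
  have hcbot : c ∉ (⊥ : Subalgebra k A) := by
    intro hcb
    obtain ⟨x, hx⟩ := (hbot c).1 hcb
    have hx0 : x ≠ 0 := by
      rintro rfl
      rw [map_zero] at hx
      exact hc0 hx.symm
    apply ha
    rw [hbot]
    refine ⟨α, ?_⟩
    have h1 : (a - algebraMap k A α) * algebraMap k A x = 0 := by
      rw [hx]
      exact hac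
    have h2 : (a - algebraMap k A α) * (algebraMap k A x * algebraMap k A x⁻¹) = 0 := by
      rw [← mul_assoc, h1, zero_mul]
    rw [← map_mul, mul_inv_cancel₀ hx0, map_one, mul_one, sub_eq_zero] at h2
    exact h2.symm
  have hspan : H2span2 c (g.eval α) hcc = ⊤ := by
    apply hall
    intro hb
    apply hcbot
    rw [← hb]
    exact H2_mem_span2 c (g.eval α) hcc
  have hrep : ∀ z : A, ∃ x y : k, z = algebraMap k A x + y • c := by
    intro z
    have : z ∈ H2span2 c (g.eval α) hcc := by
      rw [hspan]
      exact Algebra.mem_top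
    exact this
  have hindep : ∀ x y : k, algebraMap k A x + y • c = 0 → x = 0 ∧ y = 0 := by
    intro x y hxy
    have hy : y = 0 := by
      by_contra hy
      apply hcbot
      rw [hbot]
      refine ⟨-(y⁻¹ * x), ?_⟩
      have h3 : y • c = -algebraMap k A x := eq_neg_of_add_eq_zero_right hxy
      have h4 : c = y⁻¹ • (y • c) := by rw [smul_smul, inv_mul_cancel₀ hy, one_smul]
      rw [h4, h3, smul_neg, Algebra.smul_def, ← map_mul, map_neg]
    subst hy
    rw [zero_smul, add_zero] at hxy
    exact ⟨hinj (hxy.trans (map_zero _).symm), rfl⟩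
  by_cases hμ : g.eval α = 0
  · right
    have hc2 : c * c = 0 := by rw [hcc, hμ, zero_smul]
    let ψ : DualNumber k →ₐ[k] A :=
      DualNumber.lift ⟨(Algebra.ofId k A, c), hc2, fun _ => Commute.all _ _⟩
    have hψ : ∀ z : DualNumber k, ψ z = algebraMap k A z.fst + z.snd • c := by
      intro z
      rw [DualNumber.lift_apply_apply, Algebra.smul_def]
      rfl
    have hbij : Function.Bijective ψ := by
      constructor
      · rw [injective_iff_map_eq_zero]
        intro z hz
        rw [hψ] at hz
        obtain ⟨h1, h2⟩ := hindep _ _ hz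
        exact TrivSqZeroExt.ext h1 h2
      · intro z
        obtain ⟨x, y, rfl⟩ := hrep z
        refine ⟨TrivSqZeroExt.inl x + TrivSqZeroExt.inr y, ?_⟩
        rw [hψ]
        simp
    exact ⟨(AlgEquiv.ofBijective ψ hbij).symm⟩
  · left
    let e : A := (g.eval α)⁻¹ • c
    have he : e * e = e := by
      simp only [e, Algebra.smul_def] at hcc ⊢
      have h5 : algebraMap k A (g.eval α)⁻¹ * algebraMap k A (g.eval α) = 1 := by
        rw [← map_mul, inv_mul_cancel₀ hμ, map_one]
      linear_combination (algebraMap k A (g.eval α)⁻¹) ^ 2 * hcc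
        + (algebraMap k A (g.eval α)⁻¹ * c) * h5
    let ψl : (k × k) →ₗ[k] A :=
      { toFun := fun z => z.1 • e + z.2 • (1 - e)
        map_add' := fun z z' => by
          simp only [Prod.fst_add, Prod.snd_add, add_smul]
          abel
        map_smul' := fun t z => by
          simp only [Prod.smul_fst, Prod.smul_snd, smul_eq_mul, mul_smul, RingHom.id_apply,
            smul_add] }
    have hψl : ∀ z : k × k, ψl z = z.1 • e + z.2 • (1 - e) := fun z => rfl
    let ψ : (k × k) →ₐ[k] A := AlgHom.ofLinearMap ψl
      (by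
        rw [hψl]
        simp only [Prod.fst_one, Prod.snd_one, one_smul]
        abel)
      (by
        intro z z'
        rw [hψl, hψl, hψl]
        simp only [Prod.fst_mul, Prod.snd_mul, Algebra.smul_def, map_mul]
        linear_combination -(algebraMap k A z.1 * algebraMap k A z'.1
          - algebraMap k A z.1 * algebraMap k A z'.2 - algebraMap k A z.2 * algebraMap k A z'.1
          + algebraMap k A z.2 * algebraMap k A z'.2) * he)
    have hψ : ∀ z : k × k,
        ψ z = algebraMap k A z.2 + ((z.1 - z.2) * (g.eval α)⁻¹) • c := by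
      intro z
      change ψl z = _
      rw [hψl]
      simp only [e, Algebra.smul_def, map_mul, map_sub]
      ring
    have hbij : Function.Bijective ψ := by
      constructor
      · rw [injective_iff_map_eq_zero]
        intro z hz
        rw [hψ] at hz
        obtain ⟨h1, h2⟩ := hindep _ _ hz
        have h3 : z.1 - z.2 = 0 := by
          rcases mul_eq_zero.1 h2 with h | h
          · exact h
          · exact absurd h (inv_ne_zero hμ)
        rw [h1, sub_zero] at h3
        exact Prod.ext h3 h1
      · intro z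
        obtain ⟨x, y, rfl⟩ := hrep z
        refine ⟨(x + y * g.eval α, x), ?_⟩
        rw [hψ]
        simp only [add_sub_cancel_left, mul_assoc, mul_inv_cancel₀ hμ, mul_one]
    exact ⟨(AlgEquiv.ofBijective ψ hbij).symm⟩

end

end Groth.Agent.H2
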