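import Mathlib
import Groth.Agent.Lib.helper2.ProjAmpHom

set_option autoImplicit false

namespace Groth.Agent.H2

open CategoryTheory CategoryTheory.Limits Pretriangulated DerivedCategory

universe u

attribute [local instance] HasDerivedCategory.standard

variable {R : Type u} [CommRing R]

/-- maps from a projective module (in degree 0) to an object `≤ -1` vanish -/
lemma H2_hom_single_eq_zero_of_projective (A : ModuleCat.{u} R) [Module.Projective R A]
    (Y : DerivedCategory (ModuleCat.{u} R)) [Y.IsLE (-1)]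
    (f : (singleFunctor (ModuleCat.{u} R) 0).obj A ⟶ Y) : f = 0 := by
  let e := (singleFunctorIsoCompQ (ModuleCat.{u} R) 0).app A
  let P := (CochainComplex.singleFunctor (ModuleCat.{u} R) 0).obj A
  have hP : ∀ i : ℤ, i < 0 ∨ 0 < i → IsZero (P.X i) := by
    intro i hi
    exact HomologicalComplex.isZero_single_obj_X _ _ _ _ (by omega)
  have hPp : ∀ i : ℤ, Module.Projective R (P.X i) := by
    intro i
    by_cases hi : i = 0
    · subst hi
      exact Module.Projective.of_equiv
        (HomologicalComplex.singleObjXSelf (ComplexShape.up ℤ) 0 A).toLinearEquiv.symm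
    · haveI := ModuleCat.subsingleton_of_isZero (hP i (by omega))
      infer_instance
  haveI : Y.IsLE (0 - 1) := by simpa
  have := H2_hom_eq_zero_of_projective_of_isLE P 0 0 hP hPp Y (e.inv ≫ f)
  rw [← cancel_epi e.inv, this, comp_zero]

/-- Ext¹-vanishing criterion for projectivity, phrased in `D(R)`. -/
lemma H2_projective_of_hom_single_shift_eq_zero (A : ModuleCat.{u} R)
    (h : ∀ (M : ModuleCat.{u} R) (g : (singleFunctor (ModuleCat.{u} R) 0).obj A ⟶
      ((singleFunctor (ModuleCat.{u} R) 0).obj M)⟦(1 : ℤ)⟧), g = 0) :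
    Module.Projective R A := by
  let N : ModuleCat.{u} R := ModuleCat.of R (A →₀ R)
  let πl : (A →₀ R) →ₗ[R] A := Finsupp.linearCombination R id
  have hπ : Function.Surjective πl := Finsupp.linearCombination_surjective _ Function.surjective_id
  let M' : ModuleCat.{u} R := ModuleCat.of R (LinearMap.ker πl)
  let S : ShortComplex (ModuleCat.{u} R) :=
    ShortComplex.mk (ModuleCat.ofHom (LinearMap.ker πl).subtype : M' ⟶ N)
      (ModuleCat.ofHom πl : N ⟶ A) (by ext x; exact x.2)
  have hS : S.ShortExact := by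
    refine ShortComplex.ShortExact.mk' ?_ ?_ ?_
    · rw [ShortComplex.moduleCat_exact_iff]
      intro x hx
      exact ⟨⟨x, hx⟩, rfl⟩
    · rw [ModuleCat.mono_iff_injective]
      exact Submodule.injective_subtype _
    · rw [ModuleCat.epi_iff_surjective]
      exact hπ
  have hδ : hS.singleδ = 0 := h M' _
  obtain ⟨s, hs⟩ := Triangle.coyoneda_exact₃ _ hS.singleTriangle_distinguished
    (𝟙 ((singleFunctor (ModuleCat.{u} R) 0).obj A)) (by
      change 𝟙 _ ≫ hS.singleδ = 0
      rw [hδ, comp_zero])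
  obtain ⟨s', rfl⟩ := (singleFunctor (ModuleCat.{u} R) 0).map_surjective s
  have hs' : s' ≫ S.g = 𝟙 A := by
    apply (singleFunctor (ModuleCat.{u} R) 0).map_injective
    rw [CategoryTheory.Functor.map_comp, CategoryTheory.Functor.map_id]
    exact hs.symm
  exact Module.Projective.of_split s'.hom πl (by
    ext x
    exact ConcreteCategory.congr_hom hs' x)

end Groth.Agent.H2

namespace Groth.Agent.H2

open CategoryTheory CategoryTheory.Limits Pretriangulated DerivedCategory

universe u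

attribute [local instance] HasDerivedCategory.standard

variable {R : Type u} [CommRing R]

lemma H2_twoTerm_fwd (K : DerivedCategory (ModuleCat.{u} R))
    (hK : ∀ i : ℤ, i ≠ -1 → i ≠ 0 →
      Subsingleton ((homologyFunctor (ModuleCat.{u} R) i).obj K))
    (h1 : Subsingleton ((homologyFunctor (ModuleCat.{u} R) (-1)).obj K))
    (h0 : Module.Projective R ((homologyFunctor (ModuleCat.{u} R) 0).obj K))
    (M : ModuleCat.{u} R) :
    Subsingleton (K ⟶ ((singleFunctor (ModuleCat.{u} R) 0).obj M)⟦(1 : ℤ)⟧) := by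
  haveI : K.IsGE 0 := H2_isGE_of_subsingleton K 0 (fun i hi => by
    by_cases h : i = -1
    · subst h; exact h1
    · exact hK i h (by omega))
  haveI : K.IsLE 0 := H2_isLE_of_subsingleton K 0 (fun i hi => hK i (by omega) (by omega))
  obtain ⟨A, ⟨e⟩⟩ := exists_iso_singleFunctor_obj_of_isGE_of_isLE K 0
  let eA : (homologyFunctor (ModuleCat.{u} R) 0).obj K ≅ A :=
    (homologyFunctor (ModuleCat.{u} R) 0).mapIso e ≪≫
      (singleFunctorCompHomologyFunctorIso (ModuleCat.{u} R) 0).app A
  haveI : Module.Projective R A := Module.Projective.of_equiv eA.toLinearEquiv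
  haveI : (((singleFunctor (ModuleCat.{u} R) 0).obj M)⟦(1 : ℤ)⟧).IsLE (-1) :=
    TStructure.t.isLE_shift ((singleFunctor (ModuleCat.{u} R) 0).obj M) 0 1 (-1) (by omega)
  have key : ∀ f : K ⟶ ((singleFunctor (ModuleCat.{u} R) 0).obj M)⟦(1 : ℤ)⟧, f = 0 := by
    intro f
    have := H2_hom_single_eq_zero_of_projective A _ (e.inv ≫ f)
    rw [← cancel_epi e.inv, this, comp_zero]
  exact ⟨fun f g => by rw [key f, key g]⟩

lemma H2_twoTerm_bwd (K : DerivedCategory (ModuleCat.{u} R))
    (hK : ∀ i : ℤ, i ≠ -1 → i ≠ 0 →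
      Subsingleton ((homologyFunctor (ModuleCat.{u} R) i).obj K))
    (h : ∀ (M : ModuleCat.{u} R) (f : K ⟶ ((singleFunctor (ModuleCat.{u} R) 0).obj M)⟦(1 : ℤ)⟧),
      f = 0) :
    Subsingleton ((homologyFunctor (ModuleCat.{u} R) (-1)).obj K) ∧
      Module.Projective R ((homologyFunctor (ModuleCat.{u} R) 0).obj K) := by
  let t := TStructure.t (C := ModuleCat.{u} R)
  haveI : K.IsGE (-1) := H2_isGE_of_subsingleton K (-1) (fun i hi => hK i (by omega) (by omega))
  haveI : K.IsLE 0 := H2_isLE_of_subsingleton K 0 (fun i hi => hK i (by omega) (by omega))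
  have hT := t.triangleLEGE_distinguished (-1) 0 (by omega) K
  set X := (t.truncLE (-1)).obj K with hX
  set W := (t.truncGE 0).obj K with hW
  haveI : W.IsLE 0 := (inferInstance : t.IsLE ((t.truncGE 0).obj K) 0)
  haveI : W.IsGE 0 := (inferInstance : t.IsGE ((t.truncGE 0).obj K) 0)
  haveI : X.IsLE (-1) := (inferInstance : t.IsLE ((t.truncLE (-1)).obj K) (-1))
  haveI : X.IsGE (-1) := (inferInstance : t.IsGE ((t.truncLE (-1)).obj K) (-1))
  obtain ⟨A, ⟨eW⟩⟩ := exists_iso_singleFunctor_obj_of_isGE_of_isLE W 0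
  -- step 1: A is projective
  have hA : Module.Projective R A := by
    apply H2_projective_of_hom_single_shift_eq_zero
    intro M g
    haveI : (((singleFunctor (ModuleCat.{u} R) 0).obj M)⟦(1 : ℤ)⟧).IsGE (-1) :=
      t.isGE_shift ((singleFunctor (ModuleCat.{u} R) 0).obj M) 0 1 (-1) (by omega)
    have h1 : (t.truncGEπ 0).app K ≫ (eW.hom ≫ g) = 0 := h M _
    obtain ⟨g', hg'⟩ := Triangle.yoneda_exact₃ _ hT (eW.hom ≫ g) h1
    have hle : t.IsLE ((shiftFunctor (DerivedCategory (ModuleCat.{u} R)) (1 : ℤ)).obj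
        ((t.triangleLEGE (-1) 0 (by omega)).obj K).obj₁) (-2) :=
      t.isLE_shift X (-1) 1 (-2) (by omega)
    have hge : t.IsGE (((singleFunctor (ModuleCat.{u} R) 0).obj M)⟦(1 : ℤ)⟧) (-1) :=
      t.isGE_shift ((singleFunctor (ModuleCat.{u} R) 0).obj M) 0 1 (-1) (by omega)
    have h2 : g' = 0 := t.zero_of_isLE_of_isGE g' (-2) (-1) (by omega) hle hge
    rw [h2, comp_zero] at hg'
    rw [← cancel_epi eW.hom]
    exact hg'.trans comp_zero.symm
  -- step 2: the connecting morphism vanishes, so `X` is a retract of `K`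
  haveI : X.IsLE 0 := t.isLE_of_le X (-1) 0 (by omega)
  haveI : ((t.truncLE (-1) ⋙ shiftFunctor (DerivedCategory (ModuleCat.{u} R)) (1 : ℤ)).obj K).IsLE
      (-1) := t.isLE_shift X 0 1 (-1) (by omega)
  have hδ : (t.truncGEδLE (-1) 0 (by omega)).app K = 0 := by
    have := H2_hom_single_eq_zero_of_projective A _
      (eW.inv ≫ (t.truncGEδLE (-1) 0 (by omega)).app K)
    rw [← cancel_epi eW.inv, this, comp_zero]
  obtain ⟨e, he1, -⟩ := exists_iso_binaryBiproduct_of_distTriang _ hT hδ
  -- step 3: `X` is zero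
  haveI : (X⟦(-1 : ℤ)⟧).IsGE 0 := t.isGE_shift X (-1) (-1) 0 (by omega)
  haveI : (X⟦(-1 : ℤ)⟧).IsLE 0 := t.isLE_shift X (-1) (-1) 0 (by omega)
  obtain ⟨B, ⟨eB⟩⟩ := exists_iso_singleFunctor_obj_of_isGE_of_isLE (X⟦(-1 : ℤ)⟧) 0
  let φ : X ≅ ((singleFunctor (ModuleCat.{u} R) 0).obj B)⟦(1 : ℤ)⟧ :=
    ((shiftFunctorCompIsoId _ (-1 : ℤ) 1 (by omega)).app X).symm ≪≫
      (shiftFunctor _ (1 : ℤ)).mapIso eB
  have hXz : IsZero X := by
    rw [IsZero.iff_id_eq_zero]
    have h3 : (e.hom ≫ biprod.fst) ≫ φ.hom = 0 := h B _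
    have h4 : (t.truncLEι (-1)).app K ≫ (e.hom ≫ biprod.fst) = 𝟙 X := by
      change ((t.triangleLEGE (-1) 0 (by omega)).obj K).mor₁ ≫ (e.hom ≫ biprod.fst) = 𝟙 _
      rw [← Category.assoc, he1, biprod.inl_fst]
    have h5 : φ.hom = 0 := by
      calc φ.hom = 𝟙 X ≫ φ.hom := (Category.id_comp _).symm
        _ = ((t.truncLEι (-1)).app K ≫ (e.hom ≫ biprod.fst)) ≫ φ.hom :=
            congrArg (fun z => z ≫ φ.hom) h4.symm
        _ = (t.truncLEι (-1)).app K ≫ ((e.hom ≫ biprod.fst) ≫ φ.hom) := Category.assoc _ _ _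
        _ = (t.truncLEι (-1)).app K ≫ 0 := congrArg (fun z => (t.truncLEι (-1)).app K ≫ z) h3
        _ = 0 := comp_zero
    rw [← cancel_mono φ.hom, h5, comp_zero, zero_comp]
  -- conclusions
  constructor
  · have hz : IsZero ((homologyFunctor (ModuleCat.{u} R) (-1)).obj K) := by
      refine (HomologySequence.exact₂ _ hT (-1)).isZero_X₂ ?_ ?_
      · exact (((homologyFunctor (ModuleCat.{u} R) (-1)).map_isZero hXz)).eq_of_src _ _
      · exact (isZero_of_isGE W 0 (-1) (by omega)).eq_of_tgt _ _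
    exact ModuleCat.subsingleton_of_isZero hz
  · haveI : Mono ((homologyFunctor (ModuleCat.{u} R) 0).map ((t.truncGEπ 0).app K)) := by
      refine (HomologySequence.mono_homologyMap_mor₂_iff _ hT 0).mpr ?_
      exact (isZero_of_isLE X (-1) 0 (by omega)).eq_of_src _ _
    haveI : Epi ((homologyFunctor (ModuleCat.{u} R) 0).map ((t.truncGEπ 0).app K)) := by
      refine (HomologySequence.epi_homologyMap_mor₂_iff _ hT 0 1 rfl).mpr ?_
      exact (isZero_of_isLE X (-1) 1 (by omega)).eq_of_tgt _ _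
    haveI : IsIso ((homologyFunctor (ModuleCat.{u} R) 0).map ((t.truncGEπ 0).app K)) :=
      isIso_of_mono_of_epi _
    let eA : (homologyFunctor (ModuleCat.{u} R) 0).obj K ≅ A :=
      asIso ((homologyFunctor (ModuleCat.{u} R) 0).map ((t.truncGEπ 0).app K)) ≪≫
        (homologyFunctor (ModuleCat.{u} R) 0).mapIso eW ≪≫
        (singleFunctorCompHomologyFunctorIso (ModuleCat.{u} R) 0).app A
    exact Module.Projective.of_equiv eA.toLinearEquiv.symm

end Groth.Agent.H2
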