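import Mathlib
import Groth.Agent.Lib.helper2.TwoTermExt
import Groth.Agent.Lib.helper2.BddInjTriangle

set_option autoImplicit false

namespace Groth.Agent.H2

open CategoryTheory CategoryTheory.Limits Pretriangulated DerivedCategory

universe u

attribute [local instance] HasDerivedCategory.standard

variable {R : Type u} [CommRing R]

/-- the middle term of an exact sequence with finite left end and noetherian right end is finite -/
lemma H2_finite_of_exact_moduleCat (S : ShortComplex (ModuleCat.{u} R)) (hS : S.Exact)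
    [Module.Finite R S.X₁] [IsNoetherian R S.X₃] : Module.Finite R S.X₂ := by
  refine ⟨(⊤ : Submodule R S.X₂).fg_of_fg_map_of_fg_inf_ker S.g.hom ?_ ?_⟩
  · exact IsNoetherian.noetherian _
  · rw [top_inf_eq, ← (ShortComplex.moduleCat_exact_iff_range_eq_ker S).mp hS,
      LinearMap.range_eq_map]
    exact Submodule.FG.map _ Module.Finite.fg_top

lemma H2_epi_homology_single_map (n : ℤ) {A B : ModuleCat.{u} R} (g : A ⟶ B) [Epi g] :
    Epi ((homologyFunctor (ModuleCat.{u} R) n).map ((singleFunctor (ModuleCat.{u} R) n).map g)) := by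
  have h := (singleFunctorCompHomologyFunctorIso (ModuleCat.{u} R) n).hom.naturality g
  have h2 : (homologyFunctor (ModuleCat.{u} R) n).map ((singleFunctor (ModuleCat.{u} R) n).map g) =
      (singleFunctorCompHomologyFunctorIso (ModuleCat.{u} R) n).hom.app A ≫ g ≫
        (singleFunctorCompHomologyFunctorIso (ModuleCat.{u} R) n).inv.app B := by
    rw [← Category.assoc]
    erw [← h]
    rw [Category.assoc, Iso.hom_inv_id_app, Category.comp_id]
    rfl
  rw [h2]
  infer_instance

lemma H2_epi_of_epi_comp_iso {C : Type*} [Category C] {X Y Z : C} (a : X ⟶ Y) (b : Y ⟶ Z)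
    [IsIso b] [Epi (a ≫ b)] : Epi a := by
  have : a = (a ≫ b) ≫ inv b := by simp
  rw [this]; infer_instance

/-- a morphism `F[0] ⟶ K` inducing a prescribed map on `H⁰`, for `F` projective and `K ≤ 0` -/
lemma H2_exists_map_from_projective (K : DerivedCategory (ModuleCat.{u} R)) [K.IsLE 0]
    (F : ModuleCat.{u} R) [Module.Projective R F]
    (p : F ⟶ (homologyFunctor (ModuleCat.{u} R) 0).obj K) (hp : Epi p) :
    ∃ f : (singleFunctor (ModuleCat.{u} R) 0).obj F ⟶ K,
      Epi ((homologyFunctor (ModuleCat.{u} R) 0).map f) := by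
  let t := TStructure.t (C := ModuleCat.{u} R)
  have hT := t.triangleLEGE_distinguished (-1) 0 (by omega) K
  set X := (t.truncLE (-1)).obj K with hX
  set W := (t.truncGE 0).obj K with hW
  haveI : W.IsLE 0 := (inferInstance : t.IsLE ((t.truncGE 0).obj K) 0)
  haveI : W.IsGE 0 := (inferInstance : t.IsGE ((t.truncGE 0).obj K) 0)
  haveI : X.IsLE (-1) := (inferInstance : t.IsLE ((t.truncLE (-1)).obj K) (-1))
  obtain ⟨A, ⟨eW⟩⟩ := exists_iso_singleFunctor_obj_of_isGE_of_isLE W 0
  haveI : Mono ((homologyFunctor (ModuleCat.{u} R) 0).map ((t.truncGEπ 0).app K)) := by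
    refine (HomologySequence.mono_homologyMap_mor₂_iff _ hT 0).mpr ?_
    exact (isZero_of_isLE X (-1) 0 (by omega)).eq_of_src _ _
  haveI : Epi ((homologyFunctor (ModuleCat.{u} R) 0).map ((t.truncGEπ 0).app K)) := by
    refine (HomologySequence.epi_homologyMap_mor₂_iff _ hT 0 1 rfl).mpr ?_
    exact (isZero_of_isLE X (-1) 1 (by omega)).eq_of_tgt _ _
  haveI : IsIso ((homologyFunctor (ModuleCat.{u} R) 0).map ((t.truncGEπ 0).app K)) :=
    isIso_of_mono_of_epi _
  let eA : (homologyFunctor (ModuleCat.{u} R) 0).obj K ≅ A :=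
    asIso ((homologyFunctor (ModuleCat.{u} R) 0).map ((t.truncGEπ 0).app K)) ≪≫
      (homologyFunctor (ModuleCat.{u} R) 0).mapIso eW ≪≫
      (singleFunctorCompHomologyFunctorIso (ModuleCat.{u} R) 0).app A
  let q : (singleFunctor (ModuleCat.{u} R) 0).obj F ⟶ W :=
    (singleFunctor (ModuleCat.{u} R) 0).map (p ≫ eA.hom) ≫ eW.inv
  haveI : X.IsLE 0 := t.isLE_of_le X (-1) 0 (by omega)
  haveI : ((t.truncLE (-1) ⋙ shiftFunctor (DerivedCategory (ModuleCat.{u} R)) (1 : ℤ)).obj K).IsLE
      (-1) := t.isLE_shift X 0 1 (-1) (by omega)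
  have hq : q ≫ (t.truncGEδLE (-1) 0 (by omega)).app K = 0 :=
    H2_hom_single_eq_zero_of_projective F _ _
  obtain ⟨f', hf'⟩ := Triangle.coyoneda_exact₃ _ hT q hq
  let f : (singleFunctor (ModuleCat.{u} R) 0).obj F ⟶ K := f'
  have hf : q = f ≫ (t.truncGEπ 0).app K := hf'
  refine ⟨f, ?_⟩
  have h1 : (homologyFunctor (ModuleCat.{u} R) 0).map f ≫
      (homologyFunctor (ModuleCat.{u} R) 0).map ((t.truncGEπ 0).app K) =
      (homologyFunctor (ModuleCat.{u} R) 0).map q := by
    rw [← CategoryTheory.Functor.map_comp]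
    exact congrArg _ hf.symm
  haveI : Epi (p ≫ eA.hom) := epi_comp _ _
  haveI := H2_epi_homology_single_map 0 (p ≫ eA.hom)
  haveI : Epi ((homologyFunctor (ModuleCat.{u} R) 0).map q) := by
    change Epi ((homologyFunctor (ModuleCat.{u} R) 0).map
      ((singleFunctor (ModuleCat.{u} R) 0).map (p ≫ eA.hom) ≫ eW.inv))
    rw [CategoryTheory.Functor.map_comp]
    infer_instance
  haveI : Epi ((homologyFunctor (ModuleCat.{u} R) 0).map f ≫
      (homologyFunctor (ModuleCat.{u} R) 0).map ((t.truncGEπ 0).app K)) := by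
    rw [h1]; infer_instance
  exact H2_epi_of_epi_comp_iso _ ((homologyFunctor (ModuleCat.{u} R) 0).map ((t.truncGEπ 0).app K))

lemma H2_twoTerm_rep (K : DerivedCategory (ModuleCat.{u} R))
    (hK : ∀ i : ℤ, i ≠ -1 → i ≠ 0 →
      Subsingleton ((homologyFunctor (ModuleCat.{u} R) i).obj K))
    (F : ModuleCat.{u} R) [Module.Projective R F]
    (p : F ⟶ (homologyFunctor (ModuleCat.{u} R) 0).obj K) (hp : Epi p) :
    ∃ (N : ModuleCat.{u} R) (d : N ⟶ F),
      Nonempty (DerivedCategory.Q.obj (CochainComplex.mappingCone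
        ((CochainComplex.singleFunctor (ModuleCat.{u} R) 0).map d)) ≅ K) ∧
      (IsNoetherianRing R → Module.Finite R F →
        Module.Finite R ((homologyFunctor (ModuleCat.{u} R) (-1)).obj K) →
          Module.Finite R N) := by
  haveI : K.IsLE 0 := H2_isLE_of_subsingleton K 0 (fun i hi => hK i (by omega) (by omega))
  obtain ⟨f, hf⟩ := H2_exists_map_from_projective K F p hp
  obtain ⟨C, g, h, hC⟩ := distinguished_cocone_triangle f
  let SF := (singleFunctor (ModuleCat.{u} R) 0).obj F
  have hSF : ∀ i : ℤ, i ≠ 0 → IsZero ((homologyFunctor (ModuleCat.{u} R) i).obj SF) := by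
    intro i hi
    rcases lt_or_gt_of_ne hi with h | h
    · exact isZero_of_isGE SF 0 i h
    · exact isZero_of_isLE SF 0 i h
  have hKz : ∀ i : ℤ, i ≠ -1 → i ≠ 0 →
      IsZero ((homologyFunctor (ModuleCat.{u} R) i).obj K) := by
    intro i h1 h2
    haveI := hK i h1 h2
    exact ModuleCat.isZero_of_subsingleton _
  have hCz : ∀ i : ℤ, i ≠ -1 → IsZero ((homologyFunctor (ModuleCat.{u} R) i).obj C) := by
    intro i hi
    by_cases h0 : i = 0
    · subst h0
      have e2 := (HomologySequence.epi_homologyMap_mor₁_iff _ hC 0).mp hf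
      refine (HomologySequence.exact₃ _ hC 0 1 rfl).isZero_X₂ e2 ?_
      exact (hSF 1 (by omega)).eq_of_tgt _ _
    · refine (HomologySequence.exact₃ _ hC i (i + 1) rfl).isZero_X₂ ?_ ?_
      · exact (hKz i hi h0).eq_of_src _ _
      · exact (hSF (i + 1) (by omega)).eq_of_tgt _ _
  haveI : C.IsGE (-1) := H2_isGE_of_subsingleton C (-1)
    (fun i hi => ModuleCat.subsingleton_of_isZero (hCz i (by omega)))
  haveI : C.IsLE (-1) := H2_isLE_of_subsingleton C (-1)
    (fun i hi => ModuleCat.subsingleton_of_isZero (hCz i (by omega)))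
  obtain ⟨N, ⟨e1⟩⟩ := exists_iso_singleFunctor_obj_of_isGE_of_isLE C (-1)
  let eB : C⟦(-1 : ℤ)⟧ ≅ (singleFunctor (ModuleCat.{u} R) 0).obj N :=
    (shiftFunctor _ (-1 : ℤ)).mapIso e1 ≪≫
      ((singleFunctors (ModuleCat.{u} R)).shiftIso (-1) 0 (-1) (by omega)).app N
  have hC' := inv_rot_of_distTriang _ hC
  let d' : (singleFunctor (ModuleCat.{u} R) 0).obj N ⟶ SF :=
    eB.inv ≫ (Triangle.mk f g h).invRotate.mor₁
  obtain ⟨d, hd⟩ := (singleFunctor (ModuleCat.{u} R) 0).map_surjective d'
  refine ⟨N, d, ?_, ?_⟩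
  · let φ := (CochainComplex.singleFunctor (ModuleCat.{u} R) 0).map d
    have hM := DerivedCategory.mappingCone_triangle_distinguished φ
    let σ := singleFunctorIsoCompQ (ModuleCat.{u} R) 0
    have hnat := σ.hom.naturality d
    have iso := isoTriangleOfIso₁₂ _ _ hM hC' ((σ.app N).symm ≪≫ eB.symm) ((σ.app F).symm) (by
      change DerivedCategory.Q.map φ ≫ σ.inv.app F =
        (σ.inv.app N ≫ eB.inv) ≫ (Triangle.mk f g h).invRotate.mor₁
      rw [Category.assoc]
      change _ = σ.inv.app N ≫ d'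
      rw [← hd, ← cancel_epi (σ.hom.app N), Iso.hom_inv_id_app_assoc]
      have : σ.hom.app N ≫ DerivedCategory.Q.map φ = 
          (singleFunctor (ModuleCat.{u} R) 0).map d ≫ σ.hom.app F := hnat.symm
      rw [← Category.assoc, this, Category.assoc, Iso.hom_inv_id_app, Category.comp_id])
    exact ⟨Triangle.π₃.mapIso iso⟩
  · intro hN hF hH
    have ex := HomologySequence.exact₃ _ hC (-1) 0 (by omega)
    let eF : (homologyFunctor (ModuleCat.{u} R) 0).obj SF ≅ F :=
      (singleFunctorCompHomologyFunctorIso (ModuleCat.{u} R) 0).app F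
    haveI : Module.Finite R ((homologyFunctor (ModuleCat.{u} R) 0).obj SF) :=
      Module.Finite.equiv eF.toLinearEquiv.symm
    haveI : IsNoetherian R ((homologyFunctor (ModuleCat.{u} R) 0).obj SF) :=
      isNoetherian_of_isNoetherianRing_of_finite R _
    have hfin : Module.Finite R ((homologyFunctor (ModuleCat.{u} R) (-1)).obj C) :=
      @H2_finite_of_exact_moduleCat _ _ _ ex hH ‹_›
    let eN : (homologyFunctor (ModuleCat.{u} R) (-1)).obj C ≅ N :=
      (homologyFunctor (ModuleCat.{u} R) (-1)).mapIso e1 ≪≫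
        (singleFunctorCompHomologyFunctorIso (ModuleCat.{u} R) (-1)).app N
    exact Module.Finite.equiv eN.toLinearEquiv

end Groth.Agent.H2
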