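import Mathlib
import Groth.Agent.Lib.helper2.TwoTermRep

set_option autoImplicit false

namespace Groth.Agent.H2

open CategoryTheory CategoryTheory.Limits Pretriangulated DerivedCategory CochainComplex HomComplex

universe u

section

variable {A : Type*} [Category A] [Abelian A]

lemma H2_isZero_biprod' {X Y : A} (hX : IsZero X) (hY : IsZero Y) : IsZero (X ⊞ Y) := by
  rw [IsZero.iff_id_eq_zero]
  apply biprod.hom_ext
  · exact hX.eq_of_tgt _ _
  · exact hY.eq_of_tgt _ _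

/-- comparison map from a complex concentrated in degrees `-1, 0` to the cone of its differential -/
noncomputable def H2coneCmp (E : CochainComplex A ℤ) (hE : IsZero (E.X (-2))) :
    E ⟶ mappingCone ((CochainComplex.singleFunctor A 0).map (E.d (-1) 0)) :=
  mappingCone.lift _
    (Cocycle.toSingleMk (𝟙 (E.X (-1))) (show (-1 : ℤ) + 1 = 0 by omega) (-2) (by omega)
      (hE.eq_of_src _ _))
    (Cochain.toSingleMk (𝟙 (E.X 0)) (show (0 : ℤ) + 0 = 0 by omega))
    (by
      rw [Cochain.δ_toSingleMk _ _ 1 (-1) (by omega), Cocycle.toSingleMk_coe,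
        ← Cochain.toSingleMk_postcomp]
      simp)

lemma H2coneCmp_isIso (E : CochainComplex A ℤ)
    (hE : ∀ i : ℤ, i < -1 ∨ 0 < i → IsZero (E.X i)) :
    IsIso (H2coneCmp E (hE (-2) (by omega))) := by
  set φ := (CochainComplex.singleFunctor A 0).map (E.d (-1) 0) with hφ
  haveI : ∀ n : ℤ, IsIso ((H2coneCmp E (hE (-2) (by omega))).f n) := by
    intro n
    by_cases h1 : n = -1
    · subst h1
      refine ⟨⟨(mappingCone.fst φ).1.v (-1) 0 (by omega) ≫
        (HomologicalComplex.singleObjXSelf (.up ℤ) 0 (E.X (-1))).hom, ?_, ?_⟩⟩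
      · rw [← Category.assoc]
        erw [mappingCone.lift_f_fst_v]
        simp
      · apply mappingCone.ext_to φ (-1) 0 (by omega)
        · rw [Category.assoc, Category.assoc]
          erw [mappingCone.lift_f_fst_v]
          simp
        · exact (HomologicalComplex.isZero_single_obj_X _ _ _ _ (by omega)).eq_of_tgt _ _
    · by_cases h0 : n = 0
      · subst h0
        refine ⟨⟨(mappingCone.snd φ).v 0 0 (add_zero 0) ≫
          (HomologicalComplex.singleObjXSelf (.up ℤ) 0 (E.X 0)).hom, ?_, ?_⟩⟩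
        · rw [← Category.assoc]
          erw [mappingCone.lift_f_snd_v]
          simp
        · apply mappingCone.ext_to φ 0 1 (by omega)
          · exact (HomologicalComplex.isZero_single_obj_X _ _ _ _ (by omega)).eq_of_tgt _ _
          · rw [Category.assoc, Category.assoc]
            erw [mappingCone.lift_f_snd_v]
            simp
      · have hz1 : IsZero (E.X n) := hE n (by omega)
        have hz2 : IsZero ((mappingCone φ).X n) := by
          refine IsZero.of_iso (H2_isZero_biprod' ?_ ?_)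
            (HomologicalComplex.homotopyCofiber.XIsoBiprod φ n (n + 1) rfl)
          · exact HomologicalComplex.isZero_single_obj_X _ _ _ _ (by omega)
          · exact HomologicalComplex.isZero_single_obj_X _ _ _ _ (by omega)
        exact ⟨⟨0, hz1.eq_of_src _ _, hz2.eq_of_src _ _⟩⟩
  exact HomologicalComplex.Hom.isIso_of_components _

end

end Groth.Agent.H2

namespace Groth.Agent.H2

open CategoryTheory CategoryTheory.Limits Pretriangulated DerivedCategory

universe u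

section

attribute [local instance] HasDerivedCategory.standard

variable {R : Type u} [CommRing R] {N F : ModuleCat.{u} R}

/-- the third map of a triangle `N[0] → F[0] → C →` followed by (the image of) a module map -/
noncomputable def H2triClass (T : Triangle (DerivedCategory (ModuleCat.{u} R)))
    (eN : (singleFunctor (ModuleCat.{u} R) 0).obj N ≅ T.obj₁)
    {M : ModuleCat.{u} R} (ψ : N ⟶ M) :
    T.obj₃ ⟶ ((singleFunctor (ModuleCat.{u} R) 0).obj M)⟦(1 : ℤ)⟧ :=
  T.mor₃ ≫ (eN.inv ≫ (singleFunctor (ModuleCat.{u} R) 0).map ψ)⟦(1 : ℤ)⟧'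

lemma H2triClass_smul (T : Triangle (DerivedCategory (ModuleCat.{u} R)))
    (eN : (singleFunctor (ModuleCat.{u} R) 0).obj N ≅ T.obj₁)
    {M : ModuleCat.{u} R} (ψ : N ⟶ M) (a : R) :
    a • H2triClass T eN ψ = H2triClass T eN (a • ψ) := by
  unfold H2triClass
  rw [Functor.map_smul, Linear.comp_smul, Functor.map_smul, Linear.comp_smul]

lemma H2triClass_surjective (T : Triangle (DerivedCategory (ModuleCat.{u} R)))
    (hT : T ∈ distTriang _)
    (eN : (singleFunctor (ModuleCat.{u} R) 0).obj N ≅ T.obj₁)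
    (eF : (singleFunctor (ModuleCat.{u} R) 0).obj F ≅ T.obj₂)
    [Module.Projective R F] {M : ModuleCat.{u} R}
    (ξ : T.obj₃ ⟶ ((singleFunctor (ModuleCat.{u} R) 0).obj M)⟦(1 : ℤ)⟧) :
    ∃ ψ : N ⟶ M, ξ = H2triClass T eN ψ := by
  haveI : (((singleFunctor (ModuleCat.{u} R) 0).obj M)⟦(1 : ℤ)⟧).IsLE (-1) :=
    TStructure.t.isLE_shift _ 0 1 (-1) (by omega)
  have h1 : T.mor₂ ≫ ξ = 0 := by
    have := H2_hom_single_eq_zero_of_projective F _ (eF.hom ≫ T.mor₂ ≫ ξ)
    rw [← cancel_epi eF.hom, this, comp_zero]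
  obtain ⟨θ, hθ⟩ := Triangle.yoneda_exact₃ _ hT ξ h1
  obtain ⟨θ', rfl⟩ := (shiftFunctor (DerivedCategory (ModuleCat.{u} R)) (1 : ℤ)).map_surjective θ
  obtain ⟨ψ, hψ⟩ := (singleFunctor (ModuleCat.{u} R) 0).map_surjective (eN.hom ≫ θ')
  refine ⟨ψ, ?_⟩
  rw [hθ]
  unfold H2triClass
  rw [hψ, Iso.inv_hom_id_assoc]

lemma H2triClass_eq_zero_iff (T : Triangle (DerivedCategory (ModuleCat.{u} R)))
    (hT : T ∈ distTriang _)
    (eN : (singleFunctor (ModuleCat.{u} R) 0).obj N ≅ T.obj₁)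
    (eF : (singleFunctor (ModuleCat.{u} R) 0).obj F ≅ T.obj₂) (d : N ⟶ F)
    (comm : (singleFunctor (ModuleCat.{u} R) 0).map d ≫ eF.hom = eN.hom ≫ T.mor₁)
    {M : ModuleCat.{u} R} (ψ : N ⟶ M) :
    H2triClass T eN ψ = 0 ↔ ∃ h : F ⟶ M, ψ = d ≫ h := by
  have hnat : eN.inv ≫ (singleFunctor (ModuleCat.{u} R) 0).map d = T.mor₁ ≫ eF.inv := by
    rw [← cancel_mono eF.hom, Category.assoc, comm, Iso.inv_hom_id_assoc, Category.assoc,
      Iso.inv_hom_id, Category.comp_id]
  constructor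
  · intro h0
    have hT' := rot_of_distTriang _ hT
    obtain ⟨g, hg⟩ := Triangle.yoneda_exact₃ _ hT'
      ((eN.inv ≫ (singleFunctor (ModuleCat.{u} R) 0).map ψ)⟦(1 : ℤ)⟧') h0
    obtain ⟨g', rfl⟩ :=
      (shiftFunctor (DerivedCategory (ModuleCat.{u} R)) (1 : ℤ)).map_surjective g
    obtain ⟨h', hh'⟩ := (singleFunctor (ModuleCat.{u} R) 0).map_surjective (eF.hom ≫ g')
    refine ⟨-h', ?_⟩
    apply (singleFunctor (ModuleCat.{u} R) 0).map_injective
    have hg2 : (eN.inv ≫ (singleFunctor (ModuleCat.{u} R) 0).map ψ)⟦(1 : ℤ)⟧' =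
        (-(T.mor₁ ≫ g'))⟦(1 : ℤ)⟧' := by
      rw [hg]
      change (-(T.mor₁⟦(1 : ℤ)⟧')) ≫ g'⟦(1 : ℤ)⟧' = _
      rw [Functor.map_neg, Functor.map_comp, Preadditive.neg_comp]
    have hg3 := (shiftFunctor (DerivedCategory (ModuleCat.{u} R)) (1 : ℤ)).map_injective hg2
    have hg' : g' = eF.inv ≫ (singleFunctor (ModuleCat.{u} R) 0).map h' := by
      rw [hh', Iso.inv_hom_id_assoc]
    rw [← cancel_epi eN.inv, hg3, hg', ← Category.assoc, ← hnat, Category.assoc,
      ← Functor.map_comp, Preadditive.comp_neg, Functor.map_neg, Preadditive.comp_neg]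
  · rintro ⟨h, rfl⟩
    unfold H2triClass
    have e1 : eN.inv ≫ (singleFunctor (ModuleCat.{u} R) 0).map (d ≫ h) =
        T.mor₁ ≫ (eF.inv ≫ (singleFunctor (ModuleCat.{u} R) 0).map h) := by
      rw [Functor.map_comp, ← Category.assoc, hnat, Category.assoc]
    rw [e1, Functor.map_comp, ← Category.assoc, comp_distTriang_mor_zero₃₁ _ hT, zero_comp]

lemma H2_twoTerm_smul_eq_zero (E : CochainComplex (ModuleCat.{u} R) ℤ)
    (hE : ∀ i : ℤ, i < -1 ∨ 0 < i → IsZero (E.X i)) [Module.Projective R (E.X 0)]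
    (M : ModuleCat.{u} R)
    (ξ : DerivedCategory.Q.obj E ⟶ ((singleFunctor (ModuleCat.{u} R) 0).obj M)⟦(1 : ℤ)⟧)
    (a : R) (h : E.X 0 ⟶ E.X (-1)) (hh : E.d (-1) 0 ≫ h = a • 𝟙 (E.X (-1))) :
    a • ξ = 0 := by
  let φ := (CochainComplex.singleFunctor (ModuleCat.{u} R) 0).map (E.d (-1) 0)
  let T := DerivedCategory.Q.mapTriangle.obj (CochainComplex.mappingCone.triangle φ)
  have hT : T ∈ distTriang _ := DerivedCategory.mappingCone_triangle_distinguished φ
  let σ := singleFunctorIsoCompQ (ModuleCat.{u} R) 0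
  let eN : (singleFunctor (ModuleCat.{u} R) 0).obj (E.X (-1)) ≅ T.obj₁ := σ.app (E.X (-1))
  let eF : (singleFunctor (ModuleCat.{u} R) 0).obj (E.X 0) ≅ T.obj₂ := σ.app (E.X 0)
  have comm : (singleFunctor (ModuleCat.{u} R) 0).map (E.d (-1) 0) ≫ eF.hom =
      eN.hom ≫ T.mor₁ := σ.hom.naturality (E.d (-1) 0)
  haveI hiso : IsIso (H2coneCmp E (hE (-2) (by omega))) := H2coneCmp_isIso E hE
  let eC : DerivedCategory.Q.obj E ≅ T.obj₃ :=
    DerivedCategory.Q.mapIso (@asIso _ _ _ _ (H2coneCmp E (hE (-2) (by omega))) hiso)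
  obtain ⟨ψ, hψ⟩ := H2triClass_surjective T hT eN eF (eC.inv ≫ ξ)
  have h1 : a • (eC.inv ≫ ξ) = 0 := by
    rw [hψ, H2triClass_smul, H2triClass_eq_zero_iff T hT eN eF (E.d (-1) 0) comm]
    refine ⟨h ≫ ψ, ?_⟩
    rw [← Category.assoc, hh, Linear.smul_comp, Category.id_comp]
  have h2 : ξ = eC.hom ≫ (eC.inv ≫ ξ) := by rw [Iso.hom_inv_id_assoc]
  rw [h2, ← Linear.comp_smul, h1, comp_zero]

lemma H2_twoTerm_exists_class (E : CochainComplex (ModuleCat.{u} R) ℤ)
    (hE : ∀ i : ℤ, i < -1 ∨ 0 < i → IsZero (E.X i)) :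
    ∃ ξ₀ : DerivedCategory.Q.obj E ⟶
        ((singleFunctor (ModuleCat.{u} R) 0).obj (E.X (-1)))⟦(1 : ℤ)⟧,
      ∀ a : R, a • ξ₀ = 0 → ∃ h : E.X 0 ⟶ E.X (-1), E.d (-1) 0 ≫ h = a • 𝟙 (E.X (-1)) := by
  let φ := (CochainComplex.singleFunctor (ModuleCat.{u} R) 0).map (E.d (-1) 0)
  let T := DerivedCategory.Q.mapTriangle.obj (CochainComplex.mappingCone.triangle φ)
  have hT : T ∈ distTriang _ := DerivedCategory.mappingCone_triangle_distinguished φ
  let σ := singleFunctorIsoCompQ (ModuleCat.{u} R) 0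
  let eN : (singleFunctor (ModuleCat.{u} R) 0).obj (E.X (-1)) ≅ T.obj₁ := σ.app (E.X (-1))
  let eF : (singleFunctor (ModuleCat.{u} R) 0).obj (E.X 0) ≅ T.obj₂ := σ.app (E.X 0)
  have comm : (singleFunctor (ModuleCat.{u} R) 0).map (E.d (-1) 0) ≫ eF.hom =
      eN.hom ≫ T.mor₁ := σ.hom.naturality (E.d (-1) 0)
  haveI hiso : IsIso (H2coneCmp E (hE (-2) (by omega))) := H2coneCmp_isIso E hE
  let eC : DerivedCategory.Q.obj E ≅ T.obj₃ :=
    DerivedCategory.Q.mapIso (@asIso _ _ _ _ (H2coneCmp E (hE (-2) (by omega))) hiso)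
  refine ⟨eC.hom ≫ H2triClass T eN (𝟙 (E.X (-1))), ?_⟩
  intro a ha
  rw [← Linear.comp_smul, H2triClass_smul] at ha
  have h1 : H2triClass T eN (a • 𝟙 (E.X (-1))) = 0 := by
    rw [← cancel_epi eC.hom, ha, comp_zero]
  obtain ⟨h, hh⟩ := (H2triClass_eq_zero_iff T hT eN eF (E.d (-1) 0) comm _).mp h1
  exact ⟨h, hh.symm⟩

end

end Groth.Agent.H2
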