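import Mathlib
import Groth.Agent.Lib.helper2.EssConst3

/-! The lemma on way-out functors. -/

namespace Groth.Agent.H2

open CategoryTheory Category Limits Pretriangulated

universe w v u w' v' u'

set_option linter.unusedSectionVars false

section General

variable {C : Type u} {D : Type u'} [Category.{v} C] [Category.{v'} D] [HasShift C ℤ]
  [HasShift D ℤ] [Preadditive C] [Preadditive D] [HasZeroObject C] [HasZeroObject D]
  [∀ n : ℤ, (shiftFunctor C n).Additive] [∀ n : ℤ, (shiftFunctor D n).Additive]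
  [Pretriangulated C] [Pretriangulated D]
  (F G : C ⥤ D) [F.CommShift ℤ] [G.CommShift ℤ]
  (η : F ⟶ G) [NatTrans.CommShift η ℤ]

set_option backward.isDefEq.respectTransparency false in
set_option backward.defeqAttrib.useBackward true in
/-- The morphism of triangles induced by a natural transformation commuting with shifts. -/
@[simps]
def H2_mapTriangleNatTrans (T : Triangle C) : F.mapTriangle.obj T ⟶ G.mapTriangle.obj T where
  hom₁ := η.app _
  hom₂ := η.app _
  hom₃ := η.app _
  comm₁ := by simp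
  comm₂ := by simp
  comm₃ := by
    dsimp
    simp only [assoc, NatTrans.shift_app_comm η (1 : ℤ) T.obj₁, NatTrans.naturality_assoc]

lemma H2_isIso_app_shift (X : C) (n : ℤ) (h : IsIso (η.app X)) : IsIso (η.app (X⟦n⟧)) := by
  rw [NatTrans.app_shift η n X]
  infer_instance

omit [HasShift C ℤ] [HasShift D ℤ] [Preadditive C] [Preadditive D] [HasZeroObject C]
  [HasZeroObject D] [∀ n : ℤ, (shiftFunctor C n).Additive]
  [∀ n : ℤ, (shiftFunctor D n).Additive] [Pretriangulated C] [Pretriangulated D]
  [F.CommShift ℤ] [G.CommShift ℤ] [NatTrans.CommShift η ℤ] in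
lemma H2_isIso_app_of_iso {X Y : C} (e : X ≅ Y) (h : IsIso (η.app X)) : IsIso (η.app Y) := by
  have : η.app Y = F.map e.inv ≫ η.app X ≫ G.map e.hom := by
    rw [← η.naturality, ← assoc, ← F.map_comp, e.inv_hom_id, F.map_id, id_comp]
  rw [this]
  infer_instance

variable [F.IsTriangulated] [G.IsTriangulated]

lemma H2_isIso_app₂ (T : Triangle C) (hT : T ∈ distTriang C) (h₁ : IsIso (η.app T.obj₁))
    (h₃ : IsIso (η.app T.obj₃)) : IsIso (η.app T.obj₂) :=
  isIso₂_of_isIso₁₃ (H2_mapTriangleNatTrans F G η T) (F.map_distinguished T hT)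
    (G.map_distinguished T hT) h₁ h₃

end General

section Derived

open DerivedCategory

variable {A : Type u} [Category.{v} A] [Abelian A] [HasDerivedCategory.{w} A]
  {B : Type u'} [Category.{v'} B] [Abelian B] [HasDerivedCategory.{w'} B]

/-- `X ⟶ τ_{≥b} X` is an isomorphism on `H^i` for `i ≥ b`. -/
theorem H2_isIso_homology_truncGEπ' (X : DerivedCategory A) (b i : ℤ) (hi : b ≤ i) :
    IsIso ((homologyFunctor A i).map ((TStructure.t.truncGEπ b).app X)) := by
  have hT := TStructure.t.triangleLTGE_distinguished b X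
  have hm : Mono ((homologyFunctor A i).map ((TStructure.t.truncGEπ b).app X)) := by
    have := (HomologySequence.mono_homologyMap_mor₂_iff _ hT i).2
      ((isZero_of_isLE ((TStructure.t.truncLT b).obj X) (b - 1) i (by omega)).eq_of_src _ _)
    exact this
  have he : Epi ((homologyFunctor A i).map ((TStructure.t.truncGEπ b).app X)) := by
    have := (HomologySequence.epi_homologyMap_mor₂_iff _ hT i (i + 1) rfl).2
      ((isZero_of_isLE ((TStructure.t.truncLT b).obj X) (b - 1) (i + 1) (by omega)).eq_of_tgt _ _)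
    exact this
  exact isIso_of_mono_of_epi _

variable (P : ObjectProperty A) [P.IsClosedUnderIsomorphisms]
  (F G : DerivedCategory A ⥤ DerivedCategory B) [F.CommShift ℤ] [G.CommShift ℤ]
  [F.IsTriangulated] [G.IsTriangulated] (η : F ⟶ G) [NatTrans.CommShift η ℤ]

include P in
omit [P.IsClosedUnderIsomorphisms] [F.IsTriangulated] [G.IsTriangulated] in
lemma H2_wayOut_single
    (hη : ∀ X : A, P X → IsIso (η.app ((singleFunctor A 0).obj X)))
    (n : ℤ) (M : A) (hM : P M) : IsIso (η.app ((singleFunctor A n).obj M)) := by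
  have e : ((singleFunctor A 0).obj M)⟦-n⟧ ≅ (singleFunctor A n).obj M :=
    ((singleFunctors A).shiftIso (-n) n 0 (by omega)).app M
  exact H2_isIso_app_of_iso F G η e (H2_isIso_app_shift F G η _ (-n) (hη M hM))

omit [F.IsTriangulated] [G.IsTriangulated] in
lemma H2_wayOut_heart
    (hη : ∀ X : A, P X → IsIso (η.app ((singleFunctor A 0).obj X)))
    (n : ℤ) (Y : DerivedCategory A) [Y.IsGE n] [Y.IsLE n]
    (hY : P ((homologyFunctor A n).obj Y)) : IsIso (η.app Y) := by
  obtain ⟨M, ⟨e⟩⟩ := exists_iso_singleFunctor_obj_of_isGE_of_isLE Y n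
  have hM : P M := P.prop_of_iso ((homologyFunctor A n).mapIso e ≪≫
    (singleFunctorCompHomologyFunctorIso A n).app M) hY
  exact H2_isIso_app_of_iso F G η e.symm (H2_wayOut_single P F G η hη n M hM)

set_option backward.isDefEq.respectTransparency false in
/-- Way-out lemma, bounded case. -/
theorem H2_wayOut_bounded (hP0 : ∀ Z : A, IsZero Z → P Z)
    (hη : ∀ X : A, P X → IsIso (η.app ((singleFunctor A 0).obj X))) (k : ℕ) :
    ∀ (X : DerivedCategory A) (a : ℤ) (_ : X.IsGE a) (_ : X.IsLE (a + k - 1))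
      (_ : ∀ i : ℤ, P ((homologyFunctor A i).obj X)), IsIso (η.app X) := by
  induction k with
  | zero =>
    intro X a hGE hLE hX
    have hz : IsZero X := by
      rw [IsZero.iff_id_eq_zero]
      exact TStructure.t.zero (𝟙 _) (a + ((0 : ℕ) : ℤ) - 1) a (by simp)
    exact isIso_of_source_target_iso_zero _ (F.map_isZero hz).isoZero (G.map_isZero hz).isoZero
  | succ k ih =>
    intro X a hGE hLE hX
    let t : Triangulated.TStructure (DerivedCategory A) := TStructure.t
    have hb : a + ((k + 1 : ℕ) : ℤ) - 1 = a + k := by push_cast; ring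
    rw [hb] at hLE
    generalize hbdef : a + (k : ℤ) = b at hLE
    have hT := t.triangleLTGE_distinguished b X
    have h₁ : IsIso (η.app ((t.truncLT b).obj X)) := by
      apply ih ((t.truncLT b).obj X) a
      · exact inferInstanceAs (t.IsGE ((t.truncLT b).obj X) a)
      · have e : a + (k : ℤ) - 1 = b - 1 := by rw [hbdef]
        rw [e]
        exact inferInstanceAs (t.IsLE ((t.truncLT b).obj X) (b - 1))
      · intro i
        by_cases hi : i < b
        · have := H2_isIso_homology_truncLTι X b i hi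
          exact P.prop_of_iso (asIso ((homologyFunctor A i).map ((t.truncLTι b).app X))).symm
            (hX i)
        · exact hP0 _ (isZero_of_isLE ((t.truncLT b).obj X) (b - 1) i (by omega))
    have h₃ : IsIso (η.app ((t.truncGE b).obj X)) := by
      have : t.IsGE ((t.truncGE b).obj X) b := inferInstance
      have : t.IsLE ((t.truncGE b).obj X) b := inferInstance
      apply H2_wayOut_heart P F G η hη b
      have := H2_isIso_homology_truncGEπ X b
      exact P.prop_of_iso (asIso ((homologyFunctor A b).map ((t.truncGEπ b).app X))) (hX b)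
    exact H2_isIso_app₂ F G η _ hT h₁ h₃

omit [HasDerivedCategory.{w} A] in
/-- In a distinguished triangle of `D(B)` with `obj₃ ∈ D^{≥ j+2}`, `mor₁` is iso on `H^j`. -/
lemma H2_isIso_homology_mor₁ (T : Triangle (DerivedCategory B))
    (hT : T ∈ distTriang (DerivedCategory B)) (j : ℤ) (_ : T.obj₃.IsGE (j + 2)) :
    IsIso ((homologyFunctor B j).map T.mor₁) := by
  have hm : Mono ((homologyFunctor B j).map T.mor₁) :=
    (HomologySequence.mono_homologyMap_mor₁_iff _ hT (j - 1) j (by ring)).2
      ((isZero_of_isGE T.obj₃ (j + 2) (j - 1) (by omega)).eq_of_src _ _)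
  have he : Epi ((homologyFunctor B j).map T.mor₁) :=
    (HomologySequence.epi_homologyMap_mor₁_iff _ hT j).2
      ((isZero_of_isGE T.obj₃ (j + 2) j (by omega)).eq_of_tgt _ _)
  exact isIso_of_mono_of_epi _

omit [HasDerivedCategory.{w} A] in
/-- In a distinguished triangle of `D(B)` with `obj₁ ∈ D^{≤ j-2}`, `mor₂` is iso on `H^j`. -/
lemma H2_isIso_homology_mor₂ (T : Triangle (DerivedCategory B))
    (hT : T ∈ distTriang (DerivedCategory B)) (j : ℤ) (_ : T.obj₁.IsLE (j - 2)) :
    IsIso ((homologyFunctor B j).map T.mor₂) := by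
  have hm : Mono ((homologyFunctor B j).map T.mor₂) :=
    (HomologySequence.mono_homologyMap_mor₂_iff _ hT j).2
      ((isZero_of_isLE T.obj₁ (j - 2) j (by omega)).eq_of_src _ _)
  have he : Epi ((homologyFunctor B j).map T.mor₂) :=
    (HomologySequence.epi_homologyMap_mor₂_iff _ hT j (j + 1) rfl).2
      ((isZero_of_isLE T.obj₁ (j - 2) (j + 1) (by omega)).eq_of_tgt _ _)
  exact isIso_of_mono_of_epi _

omit [HasDerivedCategory.{w'} B] in
lemma H2_P_homology_truncLT (hP0 : ∀ Z : A, IsZero Z → P Z) (X : DerivedCategory A) (N : ℤ)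
    (hX : ∀ i : ℤ, P ((homologyFunctor A i).obj X)) (i : ℤ) :
    P ((homologyFunctor A i).obj ((TStructure.t.truncLT N).obj X)) := by
  by_cases hi : i < N
  · have := H2_isIso_homology_truncLTι X N i hi
    exact P.prop_of_iso (asIso ((homologyFunctor A i).map
      ((TStructure.t.truncLTι N).app X))).symm (hX i)
  · exact hP0 _ (isZero_of_isLE ((TStructure.t.truncLT N).obj X) (N - 1) i (by omega))

omit [HasDerivedCategory.{w'} B] in
lemma H2_P_homology_truncGE (hP0 : ∀ Z : A, IsZero Z → P Z) (X : DerivedCategory A) (N : ℤ)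
    (hX : ∀ i : ℤ, P ((homologyFunctor A i).obj X)) (i : ℤ) :
    P ((homologyFunctor A i).obj ((TStructure.t.truncGE N).obj X)) := by
  by_cases hi : N ≤ i
  · have := H2_isIso_homology_truncGEπ' X N i hi
    exact P.prop_of_iso (asIso ((homologyFunctor A i).map
      ((TStructure.t.truncGEπ N).app X))) (hX i)
  · exact hP0 _ (isZero_of_isGE ((TStructure.t.truncGE N).obj X) N i (by omega))

set_option backward.isDefEq.respectTransparency false in
/-- Way-out lemma, bounded below case for way-out right functors. -/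
theorem H2_wayOut_right (hP0 : ∀ Z : A, IsZero Z → P Z)
    (hF : ∀ n₁ : ℤ, ∃ n₂ : ℤ, ∀ Y : DerivedCategory A, Y.IsGE n₂ → (F.obj Y).IsGE n₁)
    (hG : ∀ n₁ : ℤ, ∃ n₂ : ℤ, ∀ Y : DerivedCategory A, Y.IsGE n₂ → (G.obj Y).IsGE n₁)
    (hη : ∀ X : A, P X → IsIso (η.app ((singleFunctor A 0).obj X)))
    (X : DerivedCategory A) (a : ℤ) [X.IsGE a]
    (hX : ∀ i : ℤ, P ((homologyFunctor A i).obj X)) : IsIso (η.app X) := by
  rw [DerivedCategory.isIso_iff]
  intro j
  obtain ⟨nF, hnF⟩ := hF (j + 2)
  obtain ⟨nG, hnG⟩ := hG (j + 2)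
  let t : Triangulated.TStructure (DerivedCategory A) := TStructure.t
  generalize hN : max nF nG = N
  have hNF : nF ≤ N := hN ▸ le_max_left _ _
  have hNG : nG ≤ N := hN ▸ le_max_right _ _
  have hT := t.triangleLTGE_distinguished N X
  have h' : IsIso (η.app ((t.truncLT N).obj X)) := by
    refine H2_wayOut_bounded P F G η hP0 hη (N - a).toNat ((t.truncLT N).obj X) a
      (inferInstanceAs (t.IsGE ((t.truncLT N).obj X) a)) ?_
      (H2_P_homology_truncLT P hP0 X N hX)
    have : t.IsLE ((t.truncLT N).obj X) (N - 1) := inferInstance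
    exact t.isLE_of_le _ (N - 1) _ (by omega)
  have hFGE : (F.obj ((t.truncGE N).obj X)).IsGE (j + 2) :=
    hnF _ (t.isGE_of_ge _ nF N hNF)
  have hGGE : (G.obj ((t.truncGE N).obj X)).IsGE (j + 2) :=
    hnG _ (t.isGE_of_ge _ nG N hNG)
  have iF : IsIso ((homologyFunctor B j).map (F.map ((t.truncLTι N).app X))) :=
    H2_isIso_homology_mor₁ (F.mapTriangle.obj _) (F.map_distinguished _ hT) j hFGE
  have iG : IsIso ((homologyFunctor B j).map (G.map ((t.truncLTι N).app X))) :=
    H2_isIso_homology_mor₁ (G.mapTriangle.obj _) (G.map_distinguished _ hT) j hGGE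
  have nat : (homologyFunctor B j).map (F.map ((t.truncLTι N).app X)) ≫
      (homologyFunctor B j).map (η.app X) =
      (homologyFunctor B j).map (η.app ((t.truncLT N).obj X)) ≫
        (homologyFunctor B j).map (G.map ((t.truncLTι N).app X)) := by
    rw [← Functor.map_comp, ← Functor.map_comp]
    congr 1
    exact η.naturality ((t.truncLTι N).app X)
  have e : (homologyFunctor B j).map (η.app X) =
      inv ((homologyFunctor B j).map (F.map ((t.truncLTι N).app X))) ≫
      (homologyFunctor B j).map (η.app ((t.truncLT N).obj X)) ≫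
        (homologyFunctor B j).map (G.map ((t.truncLTι N).app X)) := by
    rw [← nat, IsIso.inv_hom_id_assoc]
  rw [e]
  infer_instance

set_option backward.isDefEq.respectTransparency false in
/-- Way-out lemma, unbounded case for functors way-out in both directions. -/
theorem H2_wayOut_both (hP0 : ∀ Z : A, IsZero Z → P Z)
    (hF : ∀ n₁ : ℤ, ∃ n₂ : ℤ, ∀ Y : DerivedCategory A, Y.IsGE n₂ → (F.obj Y).IsGE n₁)
    (hF' : ∀ n₁ : ℤ, ∃ n₂ : ℤ, ∀ Y : DerivedCategory A, Y.IsLE n₂ → (F.obj Y).IsLE n₁)
    (hG : ∀ n₁ : ℤ, ∃ n₂ : ℤ, ∀ Y : DerivedCategory A, Y.IsGE n₂ → (G.obj Y).IsGE n₁)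
    (hG' : ∀ n₁ : ℤ, ∃ n₂ : ℤ, ∀ Y : DerivedCategory A, Y.IsLE n₂ → (G.obj Y).IsLE n₁)
    (hη : ∀ X : A, P X → IsIso (η.app ((singleFunctor A 0).obj X)))
    (X : DerivedCategory A)
    (hX : ∀ i : ℤ, P ((homologyFunctor A i).obj X)) : IsIso (η.app X) := by
  rw [DerivedCategory.isIso_iff]
  intro j
  obtain ⟨nF, hnF⟩ := hF' (j - 2)
  obtain ⟨nG, hnG⟩ := hG' (j - 2)
  let t : Triangulated.TStructure (DerivedCategory A) := TStructure.t
  generalize hN : min nF nG = N
  have hNF : N ≤ nF := hN ▸ min_le_left _ _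
  have hNG : N ≤ nG := hN ▸ min_le_right _ _
  have hT := t.triangleLTGE_distinguished (N + 1) X
  have h' : IsIso (η.app ((t.truncGE (N + 1)).obj X)) := by
    have : ((t.truncGE (N + 1)).obj X).IsGE (N + 1) :=
      inferInstanceAs (t.IsGE ((t.truncGE (N + 1)).obj X) (N + 1))
    exact H2_wayOut_right P F G η hP0 hF hG hη _ (N + 1)
      (H2_P_homology_truncGE P hP0 X (N + 1) hX)
  have hLE : t.IsLE ((t.truncLT (N + 1)).obj X) N := inferInstance
  have hFLE : (F.obj ((t.truncLT (N + 1)).obj X)).IsLE (j - 2) :=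
    hnF _ (t.isLE_of_le _ N nF hNF)
  have hGLE : (G.obj ((t.truncLT (N + 1)).obj X)).IsLE (j - 2) :=
    hnG _ (t.isLE_of_le _ N nG hNG)
  have iF : IsIso ((homologyFunctor B j).map (F.map ((t.truncGEπ (N + 1)).app X))) :=
    H2_isIso_homology_mor₂ (F.mapTriangle.obj _) (F.map_distinguished _ hT) j hFLE
  have iG : IsIso ((homologyFunctor B j).map (G.map ((t.truncGEπ (N + 1)).app X))) :=
    H2_isIso_homology_mor₂ (G.mapTriangle.obj _) (G.map_distinguished _ hT) j hGLE
  have nat : (homologyFunctor B j).map (η.app X) ≫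
      (homologyFunctor B j).map (G.map ((t.truncGEπ (N + 1)).app X)) =
      (homologyFunctor B j).map (F.map ((t.truncGEπ (N + 1)).app X)) ≫
        (homologyFunctor B j).map (η.app ((t.truncGE (N + 1)).obj X)) := by
    rw [← Functor.map_comp, ← Functor.map_comp]
    congr 1
    exact (η.naturality ((t.truncGEπ (N + 1)).app X)).symm
  have e : (homologyFunctor B j).map (η.app X) =
      ((homologyFunctor B j).map (F.map ((t.truncGEπ (N + 1)).app X)) ≫
        (homologyFunctor B j).map (η.app ((t.truncGE (N + 1)).obj X))) ≫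
      inv ((homologyFunctor B j).map (G.map ((t.truncGEπ (N + 1)).app X))) := by
    rw [← nat, assoc, IsIso.hom_inv_id, comp_id]
  rw [e]
  infer_instance

end Derived

end Groth.Agent.H2
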