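import Mathlib
import Groth.Agent.Lib.helper2.WayOut

/-! The way-out lemma for a cogenerating class. -/

namespace Groth.Agent.H2

open CategoryTheory Category Limits Pretriangulated

universe w v u w' v' u'

set_option linter.unusedSectionVars false

section Four

variable {C : Type u} [Category.{v} C] [Abelian C]

/-- Four lemma (mono version), with exactness stated up to refinements. -/
theorem H2_four_mono {A1 A2 A3 A4 B1 B2 B3 B4 : C} (f1 : A1 ⟶ A2) (f2 : A2 ⟶ A3) (f3 : A3 ⟶ A4)
    (g1 : B1 ⟶ B2) (g2 : B2 ⟶ B3) (g3 : B3 ⟶ B4)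
    (α1 : A1 ⟶ B1) (α2 : A2 ⟶ B2) (α3 : A3 ⟶ B3) (α4 : A4 ⟶ B4)
    (c1 : f1 ≫ α2 = α1 ≫ g1) (c2 : f2 ≫ α3 = α2 ≫ g2) (c3 : f3 ≫ α4 = α3 ≫ g3)
    (w : f1 ≫ f2 = 0)
    (exA3 : ∀ ⦃T : C⦄ (x : T ⟶ A3), x ≫ f3 = 0 →
      ∃ (T' : C) (π : T' ⟶ T) (_ : Epi π) (y : T' ⟶ A2), π ≫ x = y ≫ f2)
    (exB2 : ∀ ⦃T : C⦄ (x : T ⟶ B2), x ≫ g2 = 0 →
      ∃ (T' : C) (π : T' ⟶ T) (_ : Epi π) (y : T' ⟶ B1), π ≫ x = y ≫ g1)
    [Epi α1] [Mono α2] [Mono α4] : Mono α3 := by
  rw [Preadditive.mono_iff_cancel_zero]
  intro T x hx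
  have h1 : x ≫ f3 = 0 := by
    rw [← cancel_mono α4, assoc, c3, ← assoc, hx, zero_comp, zero_comp]
  obtain ⟨T1, π1, _, y, hy⟩ := exA3 x h1
  have h2 : (y ≫ α2) ≫ g2 = 0 := by
    rw [assoc, ← c2, ← assoc, ← hy, assoc, hx, comp_zero]
  obtain ⟨T2, π2, _, z, hz⟩ := exB2 (y ≫ α2) h2
  obtain ⟨T3, π3, _, u, hu⟩ := surjective_up_to_refinements_of_epi α1 z
  have h3 : π3 ≫ π2 ≫ y = u ≫ f1 := by
    rw [← cancel_mono α2, assoc, assoc, hz, ← assoc, hu, assoc, assoc, c1]
  rw [← cancel_epi π1, ← cancel_epi π2, ← cancel_epi π3, comp_zero, comp_zero, comp_zero, hy,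
    ← assoc, ← assoc, assoc π3, h3, assoc, w, comp_zero]

/-- Four lemma (epi version), with exactness stated up to refinements. -/
theorem H2_four_epi {A2 A3 A4 A5 B2 B3 B4 B5 : C} (f2 : A2 ⟶ A3) (f3 : A3 ⟶ A4) (f4 : A4 ⟶ A5)
    (g2 : B2 ⟶ B3) (g3 : B3 ⟶ B4) (g4 : B4 ⟶ B5)
    (α2 : A2 ⟶ B2) (α3 : A3 ⟶ B3) (α4 : A4 ⟶ B4) (α5 : A5 ⟶ B5)
    (c2 : f2 ≫ α3 = α2 ≫ g2) (c3 : f3 ≫ α4 = α3 ≫ g3) (c4 : f4 ≫ α5 = α4 ≫ g4)
    (w : g3 ≫ g4 = 0)
    (exA4 : ∀ ⦃T : C⦄ (x : T ⟶ A4), x ≫ f4 = 0 →
      ∃ (T' : C) (π : T' ⟶ T) (_ : Epi π) (y : T' ⟶ A3), π ≫ x = y ≫ f3)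
    (exB3 : ∀ ⦃T : C⦄ (x : T ⟶ B3), x ≫ g3 = 0 →
      ∃ (T' : C) (π : T' ⟶ T) (_ : Epi π) (y : T' ⟶ B2), π ≫ x = y ≫ g2)
    [Epi α2] [Epi α4] [Mono α5] : Epi α3 := by
  rw [epi_iff_surjective_up_to_refinements]
  intro T y
  obtain ⟨T1, π1, _, x4, hx4⟩ := surjective_up_to_refinements_of_epi α4 (y ≫ g3)
  have h1 : x4 ≫ f4 = 0 := by
    rw [← cancel_mono α5, assoc, c4, ← assoc, ← hx4, assoc, assoc, w, comp_zero, comp_zero,
      zero_comp]
  obtain ⟨T2, π2, _, x3, hx3⟩ := exA4 x4 h1
  have h2 : (π2 ≫ π1 ≫ y - x3 ≫ α3) ≫ g3 = 0 := by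
    rw [Preadditive.sub_comp, assoc, assoc, hx4, ← assoc, hx3, assoc, assoc, c3, sub_self]
  obtain ⟨T3, π3, _, y2, hy2⟩ := exB3 _ h2
  obtain ⟨T4, π4, _, x2, hx2⟩ := surjective_up_to_refinements_of_epi α2 y2
  refine ⟨T4, π4 ≫ π3 ≫ π2 ≫ π1, inferInstance, π4 ≫ π3 ≫ x3 + x2 ≫ f2, ?_⟩
  have h3 : π3 ≫ π2 ≫ π1 ≫ y = π3 ≫ x3 ≫ α3 + y2 ≫ g2 := by
    rw [← hy2, Preadditive.comp_sub]
    abel
  rw [Preadditive.add_comp, assoc, assoc, assoc, assoc, assoc, h3, Preadditive.comp_add, assoc,
    c2, ← assoc x2, ← hx2, assoc]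

end Four

section Derived

open DerivedCategory

variable {A : Type u} [Category.{v} A] [Abelian A] [HasDerivedCategory.{w} A]
  {B : Type u'} [Category.{v'} B] [Abelian B] [HasDerivedCategory.{w'} B]
  (P : ObjectProperty A)
  (F G : DerivedCategory A ⥤ DerivedCategory B) [F.CommShift ℤ] [G.CommShift ℤ]
  [F.IsTriangulated] [G.IsTriangulated] (η : F ⟶ G) [NatTrans.CommShift η ℤ]

lemma H2_wayOut_single_bound (H : DerivedCategory A ⥤ DerivedCategory B) [H.CommShift ℤ] (n : ℤ)
    (hn : ∀ Y : DerivedCategory A, Y.IsGE n → (H.obj Y).IsGE 0) (X : A) :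
    (H.obj ((singleFunctor A 0).obj X)).IsGE (-n) := by
  have e : ((singleFunctor A n).obj X)⟦n⟧ ≅ (singleFunctor A 0).obj X :=
    ((singleFunctors A).shiftIso n 0 n (by omega)).app X
  have h1 : (H.obj ((singleFunctor A n).obj X)).IsGE 0 := hn _ inferInstance
  have h2 : ((H.obj ((singleFunctor A n).obj X))⟦n⟧).IsGE (-n) :=
    TStructure.t.isGE_shift _ 0 n (-n) (by omega)
  have h2' : TStructure.t.IsGE ((H ⋙ shiftFunctor (DerivedCategory B) n).obj
      ((singleFunctor A n).obj X)) (-n) := h2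
  exact TStructure.t.isGE_of_iso ((H.commShiftIso n).symm.app _ ≪≫ H.mapIso e) (-n)

set_option backward.isDefEq.respectTransparency false in
set_option maxHeartbeats 1600000 in
/-- Way-out lemma for a cogenerating class. -/
theorem H2_wayOut_cogen (hP : ∀ X : A, ∃ (Y : A) (i : X ⟶ Y), P Y ∧ Mono i)
    (hF : ∀ n₁ : ℤ, ∃ n₂ : ℤ, ∀ Y : DerivedCategory A, Y.IsGE n₂ → (F.obj Y).IsGE n₁)
    (hG : ∀ n₁ : ℤ, ∃ n₂ : ℤ, ∀ Y : DerivedCategory A, Y.IsGE n₂ → (G.obj Y).IsGE n₁)
    (hη : ∀ X : A, P X → IsIso (η.app ((singleFunctor A 0).obj X)))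
    (X : A) : IsIso (η.app ((singleFunctor A 0).obj X)) := by
  obtain ⟨N, hN⟩ : ∃ N : ℤ, ∀ X : A, (F.obj ((singleFunctor A 0).obj X)).IsGE N ∧
      (G.obj ((singleFunctor A 0).obj X)).IsGE N := by
    obtain ⟨nF, hnF⟩ := hF 0
    obtain ⟨nG, hnG⟩ := hG 0
    refine ⟨min (-nF) (-nG), fun X => ⟨?_, ?_⟩⟩
    · have := H2_wayOut_single_bound F nF hnF X
      exact TStructure.t.isGE_of_ge _ _ (-nF) (min_le_left _ _)
    · have := H2_wayOut_single_bound G nG hnG X
      exact TStructure.t.isGE_of_ge _ _ (-nG) (min_le_right _ _)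
  have main : ∀ j : ℤ, N ≤ j → ∀ (i : ℤ), i < j → ∀ X : A,
      IsIso ((homologyFunctor B i).map (η.app ((singleFunctor A 0).obj X))) := by
    intro j hj
    induction j, hj using Int.leInduction with
    | base =>
      intro i hi X
      obtain ⟨h1, h2⟩ := hN X
      exact isIso_of_source_target_iso_zero _ (isZero_of_isGE _ N i hi).isoZero
        (isZero_of_isGE _ N i hi).isoZero
    | succ j hj ih =>
      intro i hi X
      by_cases hij : i < j
      · exact ih i hij X
      obtain rfl : i = j := by omega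
      -- data attached to an object
      have data : ∀ X : A, ∃ (I X' : A) (_ : P I) (T : Triangle (DerivedCategory A))
          (_ : T ∈ distTriang (DerivedCategory A)),
          T.obj₁ = (singleFunctor A 0).obj X ∧ T.obj₂ = (singleFunctor A 0).obj I ∧
          T.obj₃ = (singleFunctor A 0).obj X' := by
        intro X
        obtain ⟨I, ι, hI, hι⟩ := hP X
        have hS : (ShortComplex.mk ι (cokernel.π ι) (cokernel.condition ι)).ShortExact :=
          { exact := ShortComplex.exact_cokernel ι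
            mono_f := hι
            epi_g := inferInstanceAs (Epi (cokernel.π ι)) }
        exact ⟨I, cokernel ι, hI, hS.singleTriangle, hS.singleTriangle_distinguished, rfl, rfl,
          rfl⟩
      have hmono : ∀ X : A,
          Mono ((homologyFunctor B i).map (η.app ((singleFunctor A 0).obj X))) := by
        intro X
        obtain ⟨I, X', hI, T, hT, e₁, e₂, e₃⟩ := data X
        obtain ⟨X₁, X₂, X₃, f, g, h⟩ := T
        dsimp only at e₁ e₂ e₃
        subst e₁ e₂ e₃
        have hTF := F.map_distinguished _ hT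
        have hTG := G.map_distinguished _ hT
        have : IsIso (η.app ((singleFunctor A 0).obj I)) := hη I hI
        have := ih (i - 1) (by omega) X'
        exact H2_four_mono
          ((homologyFunctor B (i - 1)).map (F.map g))
          (HomologySequence.δ (F.mapTriangle.obj (Triangle.mk f g h)) (i - 1) i (by ring))
          ((homologyFunctor B i).map (F.map f))
          ((homologyFunctor B (i - 1)).map (G.map g))
          (HomologySequence.δ (G.mapTriangle.obj (Triangle.mk f g h)) (i - 1) i (by ring))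
          ((homologyFunctor B i).map (G.map f))
          ((homologyFunctor B (i - 1)).map (η.app ((singleFunctor A 0).obj I)))
          ((homologyFunctor B (i - 1)).map (η.app ((singleFunctor A 0).obj X')))
          ((homologyFunctor B i).map (η.app ((singleFunctor A 0).obj X)))
          ((homologyFunctor B i).map (η.app ((singleFunctor A 0).obj I)))
          (by
            rw [← Functor.map_comp, ← Functor.map_comp]
            exact congrArg _ (η.naturality _))
          ((homologyFunctor B 0).homologySequenceδ_naturality _ _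
            (H2_mapTriangleNatTrans F G η (Triangle.mk f g h)) (i - 1) i (by ring)).symm
          (by
            rw [← Functor.map_comp, ← Functor.map_comp]
            exact congrArg _ (η.naturality _))
          (HomologySequence.comp_δ _ hTF (i - 1) i (by ring))
          (fun _ x hx => (HomologySequence.exact₁ _ hTF (i - 1) i
            (by ring)).exact_up_to_refinements x hx)
          (fun _ x hx => (HomologySequence.exact₃ _ hTG (i - 1) i
            (by ring)).exact_up_to_refinements x hx)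
      have hepi : Epi ((homologyFunctor B i).map (η.app ((singleFunctor A 0).obj X))) := by
        obtain ⟨I, X', hI, T, hT, e₁, e₂, e₃⟩ := data X
        obtain ⟨X₁, X₂, X₃, f, g, h⟩ := T
        dsimp only at e₁ e₂ e₃
        subst e₁ e₂ e₃
        have hTF := F.map_distinguished _ hT
        have hTG := G.map_distinguished _ hT
        have : IsIso (η.app ((singleFunctor A 0).obj I)) := hη I hI
        have := ih (i - 1) (by omega) X'
        have := hmono X'
        exact H2_four_epi
          (HomologySequence.δ (F.mapTriangle.obj (Triangle.mk f g h)) (i - 1) i (by ring))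
          ((homologyFunctor B i).map (F.map f))
          ((homologyFunctor B i).map (F.map g))
          (HomologySequence.δ (G.mapTriangle.obj (Triangle.mk f g h)) (i - 1) i (by ring))
          ((homologyFunctor B i).map (G.map f))
          ((homologyFunctor B i).map (G.map g))
          ((homologyFunctor B (i - 1)).map (η.app ((singleFunctor A 0).obj X')))
          ((homologyFunctor B i).map (η.app ((singleFunctor A 0).obj X)))
          ((homologyFunctor B i).map (η.app ((singleFunctor A 0).obj I)))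
          ((homologyFunctor B i).map (η.app ((singleFunctor A 0).obj X')))
          ((homologyFunctor B 0).homologySequenceδ_naturality _ _
            (H2_mapTriangleNatTrans F G η (Triangle.mk f g h)) (i - 1) i (by ring)).symm
          (by
            rw [← Functor.map_comp, ← Functor.map_comp]
            exact congrArg _ (η.naturality _))
          (by
            rw [← Functor.map_comp, ← Functor.map_comp]
            exact congrArg _ (η.naturality _))
          (by
            rw [← Functor.map_comp, ← Functor.map_comp]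
            have := comp_distTriang_mor_zero₁₂ _ hT
            dsimp at this
            rw [this, Functor.map_zero, Functor.map_zero])
          (fun _ x hx => (HomologySequence.exact₂ _ hTF i).exact_up_to_refinements x hx)
          (fun _ x hx => (HomologySequence.exact₁ _ hTG (i - 1) i
            (by ring)).exact_up_to_refinements x hx)
      have := hmono X
      exact isIso_of_mono_of_epi _
  rw [DerivedCategory.isIso_iff]
  intro i
  exact main (max N (i + 1)) (le_max_left _ _) i (by
    have := le_max_right N (i + 1)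
    omega) X

end Derived

end Groth.Agent.H2
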