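import Mathlib
import Groth.Agent.Lib.helper2.T2Sep

set_option autoImplicit false
universe u
open AlgebraicGeometry CategoryTheory CategoryTheory.Limits TopologicalSpace

namespace Groth.Agent.H2

/-- In a T0 space of Krull dimension ≤ 0 there are no nontrivial specializations. -/
theorem H2_eq_of_specializes_of_dim_le_zero {X : Type*} [TopologicalSpace X] [T0Space X]
    (h : topologicalKrullDim X ≤ 0) {x y : X} (hxy : x ⤳ y) : x = y := by
  have hmax := Order.krullDim_nonpos_iff_forall_isMax.mp h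
  let Zx : IrreducibleCloseds X := ⟨closure {x}, isIrreducible_singleton.closure, isClosed_closure⟩
  let Zy : IrreducibleCloseds X := ⟨closure {y}, isIrreducible_singleton.closure, isClosed_closure⟩
  have h1 : Zy ≤ Zx := closure_minimal (Set.singleton_subset_iff.mpr hxy.mem_closure) isClosed_closure
  have h2 : Zx ≤ Zy := hmax Zy h1
  have h3 : closure ({x} : Set X) = closure {y} := le_antisymm h2 h1
  exact ((inseparable_iff_closure_eq).mpr h3).eq

/-- The prime spectrum of a ring in which there are no inclusions between distinct primes is T2. -/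
theorem H2_t2_primeSpectrum_of_no_specializations (R : Type*) [CommRing R]
    (h : ∀ P Q : PrimeSpectrum R, P ⤳ Q → P = Q) : T2Space (PrimeSpectrum R) := by
  constructor
  intro p q hpq
  -- find f ∈ p \ q
  have hnle : ¬ p.asIdeal ≤ q.asIdeal := fun hle =>
    hpq (h p q ((PrimeSpectrum.le_iff_specializes p q).mp hle))
  obtain ⟨f, hfp, hfq⟩ := Set.not_subset.mp hnle
  -- 0 ∈ primeCompl p ⊔ powers f
  let M : Submonoid R := p.asIdeal.primeCompl ⊔ Submonoid.powers f
  have h0 : (0 : R) ∈ M := by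
    by_contra h0
    have hdisj : Disjoint ((⊥ : Ideal R) : Set R) M := by
      rw [Set.disjoint_left]
      intro z hz hzM
      rw [SetLike.mem_coe, Ideal.mem_bot] at hz
      exact h0 (hz ▸ hzM)
    obtain ⟨P, hP, -, hPM⟩ := Ideal.exists_le_prime_disjoint ⊥ M hdisj
    have hPp : P ≤ p.asIdeal := by
      intro z hz
      by_contra hzp
      exact Set.disjoint_left.mp hPM hz (Submonoid.mem_sup_left (show z ∈ p.asIdeal.primeCompl from hzp))
    have hPeq : (⟨P, hP⟩ : PrimeSpectrum R) = p :=
      h _ _ ((PrimeSpectrum.le_iff_specializes (⟨P, hP⟩ : PrimeSpectrum R) p).mp hPp)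
    have hfP : f ∈ P := by
      have : f ∈ (⟨P, hP⟩ : PrimeSpectrum R).asIdeal := by rw [hPeq]; exact hfp
      exact this
    exact Set.disjoint_left.mp hPM hfP (Submonoid.mem_sup_right (Submonoid.mem_powers f))
  obtain ⟨s, hs, t, ht, hst⟩ := Submonoid.mem_sup.mp h0
  obtain ⟨n, rfl⟩ := (Submonoid.mem_powers_iff _ _).mp ht
  refine ⟨PrimeSpectrum.basicOpen s, PrimeSpectrum.basicOpen f, (PrimeSpectrum.basicOpen s).isOpen,
    (PrimeSpectrum.basicOpen f).isOpen, hs, hfq, ?_⟩
  rw [Set.disjoint_left]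
  intro P hPs hPf
  have : s * f ^ n ∈ P.asIdeal := by rw [hst]; exact P.asIdeal.zero_mem
  rcases P.isPrime.mem_or_mem this with h1 | h1
  · exact hPs h1
  · exact hPf (P.isPrime.mem_of_pow_mem n h1)

/-- A quasi-separated scheme of dimension ≤ 0 is Hausdorff. -/
theorem H2_t2_of_quasiSeparated_of_dim_le_zero (X : Scheme.{u}) [QuasiSeparatedSpace X]
    (h : topologicalKrullDim X ≤ 0) : T2Space X := by
  have hspec : ∀ {x y : X}, x ⤳ y → x = y := fun hxy => H2_eq_of_specializes_of_dim_le_zero h hxy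
  -- affine opens are T2 in the sense: two distinct points of an affine open have disjoint nhds
  have haff : ∀ (U : X.Opens) (hU : IsAffineOpen U) (x y : X), x ∈ U → y ∈ U → x ≠ y →
      ∃ u v : Set X, IsOpen u ∧ IsOpen v ∧ x ∈ u ∧ y ∈ v ∧ Disjoint u v := by
    intro U hU x y hx hy hxy
    have hr : Set.range hU.fromSpec = (U : Set X) := hU.range_fromSpec
    obtain ⟨a, rfl⟩ : x ∈ Set.range hU.fromSpec := hr ▸ hx
    obtain ⟨b, rfl⟩ : y ∈ Set.range hU.fromSpec := hr ▸ hy
    have hemb := hU.fromSpec.isOpenEmbedding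
    haveI : T2Space (PrimeSpectrum Γ(X, U)) := by
      apply H2_t2_primeSpectrum_of_no_specializations
      intro P Q hPQ
      have : hU.fromSpec P ⤳ hU.fromSpec Q := hPQ.map hU.fromSpec.continuous
      exact hemb.injective (hspec this)
    have hab : a ≠ b := fun e => hxy (by rw [e])
    obtain ⟨u, v, hu, hv, hau, hbv, huv⟩ := t2_separation (X := PrimeSpectrum Γ(X, U)) hab
    refine ⟨hU.fromSpec '' u, hU.fromSpec '' v, hemb.isOpenMap _ hu, hemb.isOpenMap _ hv,
      ⟨a, hau, rfl⟩, ⟨b, hbv, rfl⟩, ?_⟩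
    exact (Set.disjoint_image_iff hemb.injective).mpr huv
  constructor
  intro x y hxy
  obtain ⟨_, ⟨U₀, hU, rfl⟩, hxU, -⟩ :=
    X.isBasis_affineOpens.exists_subset_of_mem_open (Set.mem_univ x) isOpen_univ
  obtain ⟨U, rfl⟩ : ∃ U : X.Opens, U = U₀ := ⟨U₀, rfl⟩
  obtain ⟨_, ⟨V₀, hV, rfl⟩, hyV, -⟩ :=
    X.isBasis_affineOpens.exists_subset_of_mem_open (Set.mem_univ y) isOpen_univ
  obtain ⟨V, rfl⟩ : ∃ V : X.Opens, V = V₀ := ⟨V₀, rfl⟩
  have hU' : IsAffineOpen U := hU
  have hV' : IsAffineOpen V := hV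
  by_cases hyU : y ∈ U
  · exact haff U hU' x y hxU hyU hxy
  · -- U ∩ V compact; show V \ U open
    have hc : IsCompact ((U : Set X) ∩ V) :=
      QuasiSeparatedSpace.inter_isCompact _ _ U.isOpen hU'.isCompact V.isOpen hV'.isCompact
    -- every point z of V \ U has an open nhd inside V missing U ∩ V
    have hopen : IsOpen ((V : Set X) \ U) := by
      rw [isOpen_iff_forall_mem_open]
      rintro z ⟨hzV, hzU⟩
      -- for each w ∈ U ∩ V choose disjoint nhds in V
      have hsep : ∀ w ∈ (U : Set X) ∩ V, ∃ u v : Set X, IsOpen u ∧ IsOpen v ∧ w ∈ u ∧ z ∈ v ∧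
          Disjoint u v := fun w hw =>
        haff V hV' w z hw.2 hzV (fun e => hzU (e ▸ hw.1))
      choose! u v hu hv hwu hzv huv using hsep
      obtain ⟨t, htsub, htfin, ht⟩ := hc.elim_finite_subcover_image (b := (U : Set X) ∩ V)
        (c := u) (fun w hw => hu w hw)
        (fun w hw => Set.mem_biUnion hw (hwu w hw))
      refine ⟨(V : Set X) ∩ ⋂ w ∈ t, v w, ?_, ?_, ?_⟩
      · rintro a ⟨haV, hav⟩
        refine ⟨haV, fun haU => ?_⟩
        obtain ⟨w, hwt, haw⟩ := Set.mem_iUnion₂.mp (ht ⟨haU, haV⟩)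
        exact Set.disjoint_left.mp (huv w (htsub hwt)) haw (Set.mem_iInter₂.mp hav w hwt)
      · exact V.isOpen.inter (htfin.isOpen_biInter fun w hw => hv w (htsub hw))
      · exact ⟨hzV, Set.mem_iInter₂.mpr fun w hw => hzv w (htsub hw)⟩
    exact ⟨U, (V : Set X) \ U, U.isOpen, hopen, hxU, ⟨hyV, hyU⟩, Set.disjoint_sdiff_right⟩

end Groth.Agent.H2

namespace Groth.Agent.H2

theorem H2_totallyDisconnected_of_t2_scheme (X : Scheme.{u}) [T2Space X] :
    TotallyDisconnectedSpace X := by
  haveI : TotallySeparatedSpace X := by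
    apply totallySeparatedSpace_of_t0_of_basis_clopen
    refine TopologicalSpace.IsTopologicalBasis.of_isOpen_of_subset (fun u hu => hu.2)
      X.isBasis_affineOpens ?_
    rintro _ ⟨U, hU, rfl⟩
    have hU' : IsAffineOpen U := hU
    exact ⟨hU'.isCompact.isClosed, U.isOpen⟩
  infer_instance

theorem H2_t2_and_totallyDisconnected_of_isSeparated_of_dim_le_zero (X : Scheme.{u})
    [X.IsSeparated] (h : topologicalKrullDim X ≤ 0) : T2Space X ∧ TotallyDisconnectedSpace X := by
  haveI : QuasiSeparatedSpace X := by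
    have : QuasiSeparated (terminal.from X) := inferInstance
    exact (quasiSeparatedSpace_iff_quasiSeparated X).mpr this
  haveI := H2_t2_of_quasiSeparated_of_dim_le_zero X h
  exact ⟨inferInstance, H2_totallyDisconnected_of_t2_scheme X⟩

end Groth.Agent.H2

namespace Groth.Agent.H2

/-- an open subset of an affine open which is closed in it is affine -/
theorem H2_isAffineOpen_of_le_of_isClosed {X : Scheme.{u}} {U' U : X.Opens} (hU : IsAffineOpen U)
    (hle : U' ≤ U) (hcl : IsClosed (U' : Set X)) : IsAffineOpen U' := by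
  let f : (U' : Scheme.{u}) ⟶ (U : Scheme.{u}) := X.homOfLE hle
  have hrange : Set.range f = Subtype.val ⁻¹' (U' : Set X) := by
    ext y
    constructor
    · rintro ⟨z, rfl⟩
      have : (f ≫ U.ι) z = U'.ι z := by rw [Scheme.homOfLE_ι]
      change (U.ι (f z)) ∈ (U' : Set X)
      rw [← Scheme.Hom.comp_apply, this]
      exact z.2
    · intro hy
      refine ⟨⟨y.1, hy⟩, ?_⟩
      apply U.ι.isOpenEmbedding.injective
      rw [← Scheme.Hom.comp_apply, Scheme.homOfLE_ι]
      rfl
  haveI : IsClosedImmersion f := by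
    apply IsClosedImmersion.of_isPreimmersion
    rw [hrange]
    exact hcl.preimage continuous_subtype_val
  haveI : IsAffine (U : Scheme.{u}) := hU
  exact isAffine_of_isAffineHom f

theorem H2_isAffineOpen_of_isCompact_of_t2 (X : Scheme.{u}) [T2Space X] (U : X.Opens)
    (hU : IsCompact (U : Set X)) : IsAffineOpen U := by
  obtain ⟨Us, hsub, hfin, rfl⟩ := X.isBasis_affineOpens.exists_finite_of_isCompact hU
  clear hU
  induction Us, hfin using Set.Finite.induction_on with
  | empty =>
    rw [sSup_empty]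
    exact isAffineOpen_bot X
  | @insert V Us hV hfin ih =>
    have hVaff : IsAffineOpen V := hsub (Set.mem_insert _ _)
    have hW : IsAffineOpen (sSup Us) := ih (fun W hW => hsub (Set.mem_insert_of_mem _ hW))
    rw [sSup_insert]
    -- V ⊔ W = W ⊔ (V \ W)
    have hWcl : IsClosed ((sSup Us : X.Opens) : Set X) := hW.isCompact.isClosed
    have hVcl : IsClosed (V : Set X) := hVaff.isCompact.isClosed
    let V' : X.Opens := ⟨(V : Set X) \ (sSup Us : X.Opens), V.isOpen.sdiff hWcl⟩
    have hV'aff : IsAffineOpen V' := by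
      refine H2_isAffineOpen_of_le_of_isClosed hVaff (fun x hx => hx.1) ?_
      exact hVcl.inter (sSup Us : X.Opens).isOpen.isClosed_compl
    have hdisj : Disjoint (sSup Us) V' := by
      rw [← TopologicalSpace.Opens.coe_disjoint]
      exact Set.disjoint_sdiff_right
    have heq : V ⊔ sSup Us = sSup Us ⊔ V' := by
      apply TopologicalSpace.Opens.ext
      change (V : Set X) ∪ ((sSup Us : X.Opens) : Set X) =
        ((sSup Us : X.Opens) : Set X) ∪ ((V : Set X) \ ((sSup Us : X.Opens) : Set X))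
      rw [Set.union_diff_self, Set.union_comm]
    rw [heq]
    exact hW.sup_of_disjoint hV'aff hdisj

end Groth.Agent.H2
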